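import Groth.Agent.Lib.Helper72.ChamberSemistable

/-!
# Special facets (helper72)
-/

set_option autoImplicit false
set_option linter.unusedSectionVars false

namespace Groth.Agent.Lib.Helper72.Chamber

open RootCh Module RootPairing
open Groth.Agent.Lib.Helper27.Weyl
open Groth.Agent.Lib.Helper72.RootChLib

universe u v w x

variable {ι : Type u} {R : Type v} {M : Type w} {N : Type x}
variable [Field R] [LinearOrder R] [IsStrictOrderedRing R]
variable [AddCommGroup M] [Module R M] [AddCommGroup N] [Module R N]
variable {P : RootPairing ι R M N}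
variable [P.IsRootSystem] [Finite ι] [P.IsCrystallographic] [P.IsReduced]

section InvForm

/-- a Weyl-invariant scalar product on the coweight space -/
structure IsInvForm (P : RootPairing ι R M N) (B : LinearMap.BilinForm R N) : Prop where
  symm : ∀ y z : N, B y z = B z y
  pos : ∀ y : N, y ≠ 0 → 0 < B y y
  inv : ∀ (i : ι) (y z : N), B (P.coreflection i y) (P.coreflection i z) = B y z

variable {B : LinearMap.BilinForm R N}

lemma IsInvForm.two_mul_apply_coroot (hB : IsInvForm P B) (y : N) (i : ι) :
    2 * B y (P.coroot i) = P.root' i y * B (P.coroot i) (P.coroot i) := by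
  have h := hB.inv i y (P.coroot i)
  rw [P.coreflection_apply_self, P.coreflection_apply, map_neg, map_sub, map_smul,
    LinearMap.sub_apply, LinearMap.smul_apply, smul_eq_mul] at h
  linarith

lemma IsInvForm.coroot_self_pos (hB : IsInvForm P B) (i : ι) :
    0 < B (P.coroot i) (P.coroot i) := hB.pos _ (P.flip.ne_zero i)

lemma IsInvForm.nonneg (hB : IsInvForm P B) (y : N) : 0 ≤ B y y := by
  by_cases h : y = 0
  · rw [h, map_zero]
  · exact (hB.pos y h).le

/-- the weight representing the functional `B y` -/
noncomputable def weightOf (P : RootPairing ι R M N) [P.IsRootSystem]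
    (B : LinearMap.BilinForm R N) (y : N) : M :=
  P.toPerfPair.symm (B y)

omit [LinearOrder R] [IsStrictOrderedRing R] [Finite ι] [P.IsCrystallographic] [P.IsReduced] in
lemma toLinearMap_weightOf (y z : N) : P.toLinearMap (weightOf P B y) z = B y z := by
  have h : P.toLinearMap (P.toPerfPair.symm (B y)) = B y :=
    P.toLinearMap.apply_symm_toPerfPair_self _
  rw [weightOf, h]

lemma sign_eq_of_two_mul_eq {a s t : R} (ha : 0 < a) (h : 2 * t = s * a) :
    SignType.sign t = SignType.sign s := by
  rcases lt_trichotomy s 0 with hs | hs | hs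
  · have : s * a < 0 := mul_neg_of_neg_of_pos hs ha
    rw [sign_neg hs, sign_neg (by linarith)]
  · subst hs
    rw [zero_mul] at h
    have : t = 0 := by linarith
    rw [this]
  · have : 0 < s * a := mul_pos hs ha
    rw [sign_pos hs, sign_pos (by linarith)]

lemma IsInvForm.sgnVec_weightOf (hB : IsInvForm P B) (y : N) :
    sgnVec P (weightOf P B y) = cosgnVec P y := by
  funext i
  change SignType.sign (P.toLinearMap (weightOf P B y) (P.coroot i)) = SignType.sign (P.root' i y)
  rw [toLinearMap_weightOf]
  exact sign_eq_of_two_mul_eq (hB.coroot_self_pos i) (hB.two_mul_apply_coroot y i)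

lemma IsInvForm.weightOf_mem_carrier (hB : IsInvForm P B) {F : Facet P} {y : N}
    (hy : y ∈ F.dualCarrier) : weightOf P B y ∈ F.carrier :=
  (hB.sgnVec_weightOf y).trans hy

lemma corootForm_isInvForm [Fintype ι] : IsInvForm P P.CorootForm where
  symm y z := by
    have := P.flip.rootForm_symmetric.eq y z
    rw [RingHom.id_apply] at this
    exact this
  pos y hy := by
    obtain ⟨b⟩ := P.nonempty_base
    change 0 < P.flip.RootForm y y
    rw [P.flip.rootForm_apply_apply]
    by_contra hcon
    rw [not_lt] at hcon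
    have hall : ∀ i ∈ Finset.univ, P.flip.coroot' i y * P.flip.coroot' i y = 0 := by
      have hnn : ∀ i ∈ Finset.univ, 0 ≤ P.flip.coroot' i y * P.flip.coroot' i y :=
        fun i _ => mul_self_nonneg _
      exact (Finset.sum_eq_zero_iff_of_nonneg hnn).mp
        (le_antisymm hcon (Finset.sum_nonneg hnn))
    apply hy
    rw [eq_sum_fundWeight (P := P.flip) b.flip y]
    apply Finset.sum_eq_zero
    intro i _
    have := hall i (Finset.mem_univ _)
    rw [mul_self_eq_zero] at this
    rw [this, zero_smul]
  inv i y z := P.flip.rootForm_reflection_reflection_apply i y z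

end InvForm

section YLocus

variable {B : LinearMap.BilinForm R N} {d : P.Base → N}

lemma Facet.mem_span_dualCarrier_iff {F : Facet P} {b : P.Base} (hb : b ∈ F.cham) (z : N) :
    z ∈ Submodule.span R F.dualCarrier ↔
      ∀ j ∈ b.support, F.sgn j ≠ 1 → P.root' j z = 0 := by
  have h1 : Submodule.span R F.dualCarrier = Submodule.span R (dualFacet F).corners := by
    rw [← dualFacet_carrier, Facet.span_carrier_eq]
  rw [h1, Facet.mem_span_corners_iff (Facet.flip_mem_dual_cham hb)]
  rfl

lemma IsInvForm.eq_zero_of_mem_span_dual (hB : IsInvForm P B) {F : Facet P} {z : N}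
    (hz : z ∈ Submodule.span R F.dualCarrier) (h0 : ∀ m ∈ F.corners, P.toLinearMap m z = 0) :
    z = 0 := by
  obtain ⟨b, hb⟩ := Facet.exists_mem_cham F
  have hμ : weightOf P B z ∈ Submodule.span R F.corners := by
    rw [Facet.mem_span_corners_iff hb]
    intro j hj hj1
    change P.toLinearMap (weightOf P B z) (P.coroot j) = 0
    rw [toLinearMap_weightOf]
    have h1 := hB.two_mul_apply_coroot z j
    rw [(Facet.mem_span_dualCarrier_iff hb z).mp hz j hj hj1, zero_mul] at h1
    linarith
  have hall : ∀ μ ∈ Submodule.span R F.corners, P.toLinearMap μ z = 0 := by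
    intro μ hμ
    induction hμ using Submodule.span_induction with
    | mem w hw => exact h0 w hw
    | zero => simp
    | add x y _ _ hx hy => rw [map_add, LinearMap.add_apply, hx, hy, add_zero]
    | smul a x _ hx => rw [map_smul, LinearMap.smul_apply, hx, smul_zero]
  have h2 : P.toLinearMap (weightOf P B z) z = 0 := hall _ hμ
  rw [toLinearMap_weightOf] at h2
  by_contra hne
  exact (hB.pos z hne).ne' h2

lemma mem_yLocus_iff (hd : IsCCS d) (F : Facet P) (y : N) :
    y ∈ yLocus d F ↔ (∀ m ∈ F.corners, P.toLinearMap m y = cval d m) ∧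
      y ∈ Submodule.span R F.dualCarrier := by
  simp only [yLocus, Set.mem_inter_iff, Set.mem_iInter, SetLike.mem_coe]
  refine and_congr_left fun _ => forall₂_congr fun m hm => ?_
  obtain ⟨b, hb, i, rfl⟩ := Facet.exists_of_mem_corners' (Facet.corners_subset_corners' F hm)
  rw [mem_hyper_iff hd (fundWeight_mem_baseCorners b i),
    cval_eq hd (fundWeight_mem_baseCorners b i)]

lemma yLocus_subsingleton (hd : IsCCS d) (F : Facet P) : (yLocus d F).Subsingleton := by
  classical
  have : Fintype ι := Fintype.ofFinite ι
  intro x hx x' hx'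
  rw [mem_yLocus_iff hd] at hx hx'
  have := (corootForm_isInvForm (P := P)).eq_zero_of_mem_span_dual (F := F) (z := x - x')
    (Submodule.sub_mem _ hx.2 hx'.2) (fun m hm => by rw [map_sub, hx.1 m hm, hx'.1 m hm, sub_self])
  exact sub_eq_zero.mp this

lemma mem_yLocus_of_mem (hd : IsCCS d) {F : Facet P} {y : N} (h1 : y ∈ F.dualCarrier)
    (h2 : y ∈ dualSolid d F) : y ∈ yLocus d F := by
  rw [mem_yLocus_iff hd]
  rw [dualSolid_eq_poly hd, mem_poly_iff hd] at h2
  exact ⟨h2.1, Submodule.subset_span h1⟩

/-- for a special facet, the locus `y(F)` is a point and it is the unique point of the dual facet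
lying in the dual solid -/
theorem special_yLocus (hd : IsCCS d) {F : Facet P} (hF : IsSpecial d F) :
    ∃ y₀ : N, yLocus d F = {y₀} ∧ F.dualCarrier ∩ dualSolid d F = {y₀} := by
  obtain ⟨y₀, hy1, hy2⟩ := hF
  have hy₀ := mem_yLocus_of_mem hd hy1 hy2
  refine ⟨y₀, ?_, ?_⟩
  · exact Set.Subsingleton.eq_singleton_of_mem (yLocus_subsingleton hd F) hy₀
  · refine Set.Subsingleton.eq_singleton_of_mem ?_
      (show y₀ ∈ F.dualCarrier ∩ dualSolid d F from ⟨hy1, hy2⟩)
    intro x hx x' hx'
    exact yLocus_subsingleton hd F (mem_yLocus_of_mem hd hx.1 hx.2)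
      (mem_yLocus_of_mem hd hx'.1 hx'.2)

end YLocus

end Groth.Agent.Lib.Helper72.Chamber
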