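/-
Helper72: labelled multigraphs (`LabGraph`): coboundaries, parity chains, circuits in closed walks,
potentials on circuit-free edge sets.
-/
import Mathlib
import Groth.Prelude.Def_W4c1nerontoraddGraph

set_option autoImplicit false
set_option linter.unusedSectionVars false
universe u
open Finset

namespace Groth.Agent.Lib.Helper72.GraphCyc

open LabGraph

variable {V E : Type u} [Fintype V] [Fintype E] [DecidableEq V] [DecidableEq E]

/-- coboundary of a vertex function: value at the second endpoint minus value at the first. -/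
def cob (ends : E → V × V) (f : V → ℤ) (e : E) : ℤ := f (ends e).2 - f (ends e).1

lemma cob_add (ends : E → V × V) (f g : V → ℤ) (e : E) :
    cob ends (f + g) e = cob ends f e + cob ends g e := by
  simp only [cob, Pi.add_apply]; ring

lemma cob_smul (ends : E → V × V) (k : ℤ) (g : V → ℤ) (e : E) :
    cob ends (k • g) e = k * cob ends g e := by
  simp only [cob, Pi.smul_apply, smul_eq_mul]; ring

lemma cob_sum {ι : Type*} (ends : E → V × V) (s : Finset ι) (g : ι → V → ℤ) (e : E) :
    cob ends (∑ i ∈ s, g i) e = ∑ i ∈ s, cob ends (g i) e := by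
  simp only [cob, Finset.sum_apply, Finset.sum_sub_distrib]

/-- the pairing of an edge chain with a coboundary is the pairing of its boundary with the
vertex function. -/
lemma sum_mul_cob (ends : E → V × V) (γ : E → ℤ) (f : V → ℤ) :
    ∑ e, γ e * cob ends f e = ∑ v, f v * boundary ends γ v := by
  simp only [boundary, Finset.mul_sum]
  rw [Finset.sum_comm]
  refine Finset.sum_congr rfl fun e _ => ?_
  simp only [mul_sub, mul_ite, mul_zero, Finset.sum_sub_distrib, Finset.sum_ite_eq,
    Finset.mem_univ, if_true, cob]
  ring

lemma boundary_add (ends : E → V × V) (γ γ' : E → ℤ) (v : V) :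
    boundary ends (γ + γ') v = boundary ends γ v + boundary ends γ' v := by
  simp only [boundary, Pi.add_apply, ← Finset.sum_add_distrib]
  refine Finset.sum_congr rfl fun e _ => ?_
  split_ifs <;> ring

lemma boundary_sub (ends : E → V × V) (γ γ' : E → ℤ) (v : V) :
    boundary ends (γ - γ') v = boundary ends γ v - boundary ends γ' v := by
  simp only [boundary, Pi.sub_apply, ← Finset.sum_sub_distrib]
  refine Finset.sum_congr rfl fun e _ => ?_
  split_ifs <;> ring

lemma boundary_zero (ends : E → V × V) (v : V) :
    boundary ends (0 : E → ℤ) v = 0 := by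
  simp [boundary]

lemma boundary_single (ends : E → V × V) (e : E) (v : V) :
    boundary ends (Pi.single e (1 : ℤ)) v =
      (if (ends e).2 = v then 1 else 0) - (if (ends e).1 = v then 1 else 0) := by
  simp only [boundary]
  rw [Finset.sum_eq_single e]
  · simp
  · intro e' _ hne
    simp [Pi.single_apply, hne]
  · intro h; exact absurd (Finset.mem_univ e) h

/-- total number of edge ends of `C`. -/
lemma sum_endCount (ends : E → V × V) (C : Finset E) :
    ∑ v, endCount ends C v = 2 * C.card := by
  simp only [endCount]
  rw [Finset.sum_comm]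
  simp only [Finset.sum_add_distrib, Finset.sum_ite_eq, Finset.mem_univ, if_true]
  simp [two_mul]

/-- sum of the end counts over a vertex set `S`, edge by edge. -/
lemma sum_endCount_filter (ends : E → V × V) (C : Finset E) (S : Finset V) :
    ∑ v ∈ S, endCount ends C v =
      ∑ e ∈ C, ((if (ends e).1 ∈ S then 1 else 0) + (if (ends e).2 ∈ S then 1 else 0)) := by
  simp only [endCount]
  rw [Finset.sum_comm]
  refine Finset.sum_congr rfl fun e _ => ?_
  simp only [Finset.sum_add_distrib, Finset.sum_ite_eq]

/-! ### parity chains -/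

/-- the mod-2 boundary of a mod-2 edge chain. -/
def bd2 (ends : E → V × V) (c : E → ZMod 2) (v : V) : ZMod 2 :=
  ∑ e, c e * ((if (ends e).1 = v then 1 else 0) + (if (ends e).2 = v then 1 else 0))

lemma bd2_add (ends : E → V × V) (c c' : E → ZMod 2) (v : V) :
    bd2 ends (c + c') v = bd2 ends c v + bd2 ends c' v := by
  simp only [bd2, Pi.add_apply, add_mul, Finset.sum_add_distrib]

lemma bd2_zero (ends : E → V × V) (v : V) : bd2 ends (0 : E → ZMod 2) v = 0 := by
  simp [bd2]

lemma bd2_single (ends : E → V × V) (e : E) (v : V) :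
    bd2 ends (Pi.single e (1 : ZMod 2)) v =
      (if (ends e).1 = v then 1 else 0) + (if (ends e).2 = v then 1 else 0) := by
  simp only [bd2]
  rw [Finset.sum_eq_single e]
  · simp
  · intro e' _ hne
    simp [Pi.single_apply, hne]
  · intro h; exact absurd (Finset.mem_univ e) h

lemma zmod2_eq_one_of_ne_zero (a : ZMod 2) (h : a ≠ 0) : a = 1 := by
  revert h; revert a; decide

lemma endCount_cast (ends : E → V × V) (c : E → ZMod 2) (v : V) :
    ((endCount ends (univ.filter fun e => c e ≠ 0) v : ℕ) : ZMod 2) = bd2 ends c v := by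
  simp only [endCount, bd2, Nat.cast_sum, Nat.cast_add, Nat.cast_ite, Nat.cast_one, Nat.cast_zero]
  rw [Finset.sum_filter]
  refine Finset.sum_congr rfl fun e _ => ?_
  by_cases h : c e = 0
  · simp [h]
  · simp [h, zmod2_eq_one_of_ne_zero _ h]

/-- a nonempty even edge set inside `F` contains a circuit. -/
lemma exists_circuit_of_even (ends : E → V × V) (F : Finset E) :
    ∀ (n : ℕ) (D : Finset E), D.card = n → D.Nonempty → D ⊆ F →
      (∀ v, Even (endCount ends D v)) → ∃ C, C ⊆ F ∧ IsCircuit ends C := by
  intro n
  induction n using Nat.strong_induction_on with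
  | _ n ih =>
    intro D hn hne hsub hev
    by_cases hmin : ∀ C' : Finset E, C' ⊂ D → C'.Nonempty → ∃ v : V, ¬ Even (endCount ends C' v)
    · exact ⟨D, hsub, hne, hev, hmin⟩
    · push Not at hmin
      obtain ⟨C', hC', hne', hev'⟩ := hmin
      exact ih C'.card (hn ▸ Finset.card_lt_card hC') C' rfl hne' (hC'.subset.trans hsub) hev'

/-- a nonzero mod-2 cycle supported in `F` gives a circuit inside `F`. -/
lemma exists_circuit_of_bd2 (ends : E → V × V) (F : Finset E) (c : E → ZMod 2)
    (hsupp : ∀ e, e ∉ F → c e = 0) (hbd : ∀ v, bd2 ends c v = 0) (e₀ : E) (he₀ : c e₀ ≠ 0) :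
    ∃ C, C ⊆ F ∧ IsCircuit ends C := by
  refine exists_circuit_of_even ends F _ (univ.filter fun e => c e ≠ 0) rfl ⟨e₀, by simp [he₀]⟩ ?_ ?_
  · intro e he
    by_contra hF
    exact (Finset.mem_filter.1 he).2 (hsupp e hF)
  · intro v
    have := endCount_cast ends c v
    rw [hbd v] at this
    exact (ZMod.natCast_eq_zero_iff_even).1 this

/-- adjacency through an edge of `F`. -/
def AdjIn (ends : E → V × V) (F : Finset E) (v w : V) : Prop :=
  ∃ e ∈ F, ends e = (v, w) ∨ ends e = (w, v)

lemma AdjIn.symm {ends : E → V × V} {F : Finset E} {v w : V} (h : AdjIn ends F v w) :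
    AdjIn ends F w v := by
  obtain ⟨e, he, h1 | h1⟩ := h
  · exact ⟨e, he, Or.inr h1⟩
  · exact ⟨e, he, Or.inl h1⟩

lemma reach_symm {ends : E → V × V} {F : Finset E} {v w : V}
    (h : Relation.ReflTransGen (AdjIn ends F) v w) : Relation.ReflTransGen (AdjIn ends F) w v := by
  induction h with
  | refl => exact Relation.ReflTransGen.refl
  | tail _ hbc ih => exact Relation.ReflTransGen.head hbc.symm ih

/-- a walk inside `F` from `a` to `b` gives a mod-2 chain supported in `F` with boundary `a + b`. -/
lemma exists_chain2 (ends : E → V × V) (F : Finset E) (a b : V)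
    (h : Relation.ReflTransGen (AdjIn ends F) a b) :
    ∃ c : E → ZMod 2, (∀ e, e ∉ F → c e = 0) ∧
      ∀ v, bd2 ends c v = (if a = v then 1 else 0) + (if b = v then 1 else 0) := by
  induction h with
  | refl =>
    refine ⟨0, fun _ _ => rfl, fun v => ?_⟩
    rw [bd2_zero]
    split_ifs <;> decide
  | @tail b b' _ hbb' ih =>
    obtain ⟨c, hc1, hc2⟩ := ih
    obtain ⟨e, heF, he⟩ := hbb'
    refine ⟨c + Pi.single e 1, ?_, ?_⟩
    · intro e' he'
      have : e' ≠ e := fun h => he' (h ▸ heF)
      simp [hc1 e' he', Pi.single_apply, this]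
    · intro v
      rw [bd2_add, hc2, bd2_single]
      have h2 : ∀ x : ZMod 2, x + x = 0 := by decide
      rcases he with he | he
      · rw [he]
        simp only
        have := h2 (if b = v then 1 else 0)
        linear_combination this
      · rw [he]
        simp only
        have := h2 (if b = v then 1 else 0)
        linear_combination this

/-- on an edge set `F` containing no circuit every integer edge vector is a coboundary along `F`. -/
lemma exists_potential (ends : E → V × V) (F : Finset E)
    (hF : ∀ C, C ⊆ F → ¬ IsCircuit ends C) (x : E → ℤ) :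
    ∃ f : V → ℤ, ∀ e ∈ F, cob ends f e = x e := by
  classical
  induction F using Finset.induction_on with
  | empty => exact ⟨0, fun e he => absurd he (Finset.notMem_empty e)⟩
  | @insert e₀ F' he₀ ih =>
    obtain ⟨f', hf'⟩ := ih (fun C hC => hF C (hC.trans (Finset.subset_insert _ _)))
    set a := (ends e₀).1 with ha
    set b := (ends e₀).2 with hb
    have hnr : ¬ Relation.ReflTransGen (AdjIn ends F') a b := by
      intro hr
      obtain ⟨c, hc1, hc2⟩ := exists_chain2 ends F' a b hr
      have hce₀ : c e₀ = 0 := hc1 e₀ he₀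
      obtain ⟨C, hCsub, hC⟩ := exists_circuit_of_bd2 ends (insert e₀ F') (c + Pi.single e₀ 1)
        (by
          intro e he
          have h1 : e ≠ e₀ := fun h => he (h ▸ Finset.mem_insert_self _ _)
          have h2 : e ∉ F' := fun h => he (Finset.mem_insert_of_mem h)
          simp [hc1 e h2, Pi.single_apply, h1])
        (by
          intro v
          rw [bd2_add, hc2, bd2_single]
          have h2 : ∀ x y : ZMod 2, x + y + (x + y) = 0 := by decide
          exact h2 _ _)
        e₀ (by simp [hce₀])
      exact hF C hCsub hC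
    let g : V → ℤ := fun v => if Relation.ReflTransGen (AdjIn ends F') b v then 1 else 0
    have hg : ∀ e ∈ F', cob ends g e = 0 := by
      intro e he
      have hadj : AdjIn ends F' (ends e).1 (ends e).2 := ⟨e, he, Or.inl rfl⟩
      have hiff : Relation.ReflTransGen (AdjIn ends F') b (ends e).1 ↔
          Relation.ReflTransGen (AdjIn ends F') b (ends e).2 :=
        ⟨fun h => h.tail hadj, fun h => h.tail hadj.symm⟩
      simp only [cob, g]
      by_cases h1 : Relation.ReflTransGen (AdjIn ends F') b (ends e).1
      · rw [if_pos h1, if_pos (hiff.1 h1)]; ring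
      · rw [if_neg h1, if_neg (fun h => h1 (hiff.2 h))]; ring
    have hg₀ : cob ends g e₀ = 1 := by
      simp only [cob, g]
      rw [if_pos Relation.ReflTransGen.refl, if_neg (fun h => hnr (reach_symm h))]
      ring
    refine ⟨f' + (x e₀ - cob ends f' e₀) • g, ?_⟩
    intro e he
    rw [cob_add, cob_smul]
    rcases Finset.mem_insert.1 he with rfl | he'
    · rw [hg₀]; ring
    · rw [hg e he', hf' e he']; ring

end Groth.Agent.Lib.Helper72.GraphCyc
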