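/-
Helper72: circuit-coprime labelled multigraphs: the "Chinese remainder theorem on a graph".
-/
import Mathlib
import Groth.Agent.Lib.Helper72.GraphCycA

set_option autoImplicit false
set_option linter.unusedSectionVars false
universe u
open Finset

namespace Groth.Agent.Lib.Helper72.GraphCyc

open LabGraph

variable {V E : Type u} [Fintype V] [Fintype E] [DecidableEq V] [DecidableEq E]

/-- Chinese remainder coefficients for a finite set of primes. -/
lemma exists_crt_coeff (P : Finset ℕ) (hP : ∀ p ∈ P, p.Prime) (M : ℕ) (p : ℕ) (hp : p ∈ P) :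
    ∃ c : ℤ, ((p : ℤ) ^ M ∣ 1 - c) ∧ ∀ q ∈ P, q ≠ p → (q : ℤ) ^ M ∣ c := by
  have hs : ∀ i ∈ P, (fun q : ℕ => q ^ M) i ≠ 0 := fun i hi => pow_ne_zero _ (hP i hi).ne_zero
  have pp : Set.Pairwise (P : Set ℕ) (Function.onFun Nat.Coprime (fun q : ℕ => q ^ M)) := by
    intro i hi j hj hij
    exact Nat.Coprime.pow _ _ ((Nat.coprime_primes (hP i hi) (hP j hj)).2 hij)
  obtain ⟨k, hk⟩ := Nat.chineseRemainderOfFinset (fun q : ℕ => if q = p then 1 else 0)
    (fun q : ℕ => q ^ M) P hs pp
  refine ⟨(k : ℤ), ?_, ?_⟩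
  · have h1 := hk p hp
    simp only [if_true] at h1
    have h2 : (k : ℤ) ≡ 1 [ZMOD ((p ^ M : ℕ) : ℤ)] := by
      have := (Int.natCast_modEq_iff).2 h1
      simpa using this
    have := h2.dvd
    simpa using this
  · intro q hq hne
    have h1 := hk q hq
    simp only [if_neg hne] at h1
    have := (Nat.modEq_zero_iff_dvd).1 h1
    exact_mod_cast this

/-- **CRT on a graph**, first half: in a circuit-coprime labelled multigraph every integer edge
vector is congruent, edge by edge modulo the label, to a coboundary. -/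
lemma exists_potential_mod (ends : E → V × V) (l : E → ℕ) (hl : ∀ e, 0 < l e)
    (hc : IsCircuitCoprime ends l) (x : E → ℤ) :
    ∃ f : V → ℤ, ∀ e, (l e : ℤ) ∣ x e - cob ends f e := by
  classical
  set M : ℕ := ∏ e, l e with hM
  have hM0 : M ≠ 0 := Finset.prod_ne_zero_iff.2 fun e _ => (hl e).ne'
  have hlM : ∀ e, l e ∣ M := fun e => Finset.dvd_prod_of_mem l (Finset.mem_univ e)
  set P : Finset ℕ := M.primeFactors with hPdef
  have hP : ∀ p ∈ P, p.Prime := fun p hp => Nat.prime_of_mem_primeFactors hp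
  -- potentials prime by prime
  have key : ∀ p : ℕ, ∃ f : V → ℤ, p.Prime → ∀ e, p ∣ l e → cob ends f e = x e := by
    intro p
    by_cases hp : p.Prime
    · obtain ⟨f, hf⟩ := exists_potential ends (univ.filter fun e => p ∣ l e) (by
        intro C hC hcirc
        have h1 : p ∣ C.gcd l := Finset.dvd_gcd fun e he => (Finset.mem_filter.1 (hC he)).2
        rw [hc C hcirc] at h1
        exact hp.one_lt.ne' (Nat.dvd_one.1 h1)) x
      exact ⟨f, fun _ e he => hf e (by simp [he])⟩
    · exact ⟨0, fun h => absurd h hp⟩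
  choose fp hfp using key
  have hcrt : ∀ p : ℕ, ∃ c : ℤ, p ∈ P → (((p : ℤ) ^ M ∣ 1 - c) ∧ ∀ q ∈ P, q ≠ p → (q : ℤ) ^ M ∣ c) := by
    intro p
    by_cases hp : p ∈ P
    · obtain ⟨c, hc⟩ := exists_crt_coeff P hP M p hp
      exact ⟨c, fun _ => hc⟩
    · exact ⟨0, fun h => absurd h hp⟩
  choose cp hcp using hcrt
  refine ⟨∑ p ∈ P, cp p • fp p, fun e => ?_⟩
  rw [Int.natCast_dvd, Nat.dvd_iff_prime_pow_dvd_dvd]
  intro q k hq hqk
  rw [← Int.natCast_dvd]
  rcases Nat.eq_zero_or_pos k with rfl | hk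
  · simp
  have hql : q ∣ l e := dvd_trans (dvd_pow_self q hk.ne') hqk
  have hqP : q ∈ P := Nat.mem_primeFactors.2 ⟨hq, dvd_trans hql (hlM e), hM0⟩
  have hkM : k ≤ M := by
    have h1 : q ^ k ≤ l e := Nat.le_of_dvd (hl e) hqk
    have h2 : l e ≤ M := Nat.le_of_dvd (Nat.pos_of_ne_zero hM0) (hlM e)
    have h3 : k < q ^ k := Nat.lt_pow_self hq.one_lt
    omega
  have hdvd : ((q ^ k : ℕ) : ℤ) ∣ (q : ℤ) ^ M := by
    push_cast
    exact pow_dvd_pow _ hkM
  refine dvd_trans hdvd ?_
  rw [cob_sum]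
  simp only [cob_smul]
  rw [← Finset.add_sum_erase P _ hqP, hfp q hq e hql]
  have e1 : x e - (cp q * x e + ∑ p ∈ P.erase q, cp p * cob ends (fp p) e) =
      (1 - cp q) * x e - ∑ p ∈ P.erase q, cp p * cob ends (fp p) e := by ring
  rw [e1]
  refine dvd_sub (Dvd.dvd.mul_right (hcp q hqP).1 _) (Finset.dvd_sum fun p hp => ?_)
  have hp' := Finset.mem_erase.1 hp
  exact Dvd.dvd.mul_right ((hcp p hp'.2).2 q hqP (fun h => hp'.1 h.symm)) _

/-- **CRT on a graph**, second half: if every integer edge vector is congruent modulo the labels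
to a coboundary, the labelled multigraph is circuit-coprime. (Only evenness of circuits is used.) -/
lemma circuitCoprime_of_potential_mod (ends : E → V × V) (l : E → ℕ) (hl : ∀ e, 0 < l e)
    (h : ∀ x : E → ℤ, ∃ f : V → ℤ, ∀ e, (l e : ℤ) ∣ x e - cob ends f e) :
    IsCircuitCoprime ends l := by
  classical
  intro C hC
  by_contra hne
  obtain ⟨p, hp, hpg⟩ := Nat.exists_prime_and_dvd hne
  have hpl : ∀ e ∈ C, (p : ℤ) ∣ (l e : ℤ) := fun e he =>
    Int.natCast_dvd_natCast.2 (dvd_trans hpg (Finset.gcd_dvd he))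
  obtain ⟨e₀, he₀⟩ := hC.1
  obtain ⟨f, hf⟩ := h (Pi.single e₀ 1)
  set a := (ends e₀).1 with ha
  set b := (ends e₀).2 with hb
  set S : Finset V := univ.filter fun v => (p : ℤ) ∣ f v - f a with hS
  have haS : a ∈ S := by simp [hS]
  have hbS : b ∉ S := by
    intro hbS
    have h1 : (p : ℤ) ∣ f b - f a := (Finset.mem_filter.1 hbS).2
    have h2 : (p : ℤ) ∣ 1 - cob ends f e₀ := by
      have := dvd_trans (hpl e₀ he₀) (hf e₀)
      simpa using this
    have h3 : (p : ℤ) ∣ 1 := by
      have := dvd_add h2 h1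
      have e1 : 1 - cob ends f e₀ + (f b - f a) = 1 := by
        simp only [cob, ha, hb]; ring
      rwa [e1] at this
    have := Int.natAbs_dvd_natAbs.2 h3
    simp at this
    exact hp.one_lt.ne' this
  have hedge : ∀ e ∈ C, e ≠ e₀ → ((ends e).1 ∈ S ↔ (ends e).2 ∈ S) := by
    intro e he hne'
    have h2 : (p : ℤ) ∣ cob ends f e := by
      have := dvd_trans (hpl e he) (hf e)
      simpa [Pi.single_apply, hne'] using this
    simp only [hS, Finset.mem_filter, Finset.mem_univ, true_and]
    constructor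
    · intro h1
      have := dvd_add h1 h2
      simpa [cob] using this
    · intro h1
      have := dvd_sub h1 h2
      simpa [cob] using this
  have hsum := sum_endCount_filter ends C S
  have hev : Even (∑ v ∈ S, endCount ends C v) := Finset.even_sum _ fun v _ => hC.2.1 v
  rw [hsum, ← Finset.add_sum_erase C _ he₀] at hev
  have hev2 : Even (∑ e ∈ C.erase e₀,
      ((if (ends e).1 ∈ S then 1 else 0) + (if (ends e).2 ∈ S then 1 else 0) : ℕ)) := by
    refine Finset.even_sum _ fun e he => ?_
    have he' := Finset.mem_erase.1 he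
    have hiff := hedge e he'.2 he'.1
    by_cases h1 : (ends e).1 ∈ S
    · rw [if_pos h1, if_pos (hiff.1 h1)]; decide
    · rw [if_neg h1, if_neg (fun h => h1 (hiff.2 h))]; decide
  rw [if_pos haS, if_neg hbS] at hev
  obtain ⟨k1, hk1⟩ := hev
  obtain ⟨k2, hk2⟩ := hev2
  omega

/-- in a connected multigraph an integer edge vector orthogonal to all integer cycles is a
coboundary. -/
lemma exists_cob_of_orth (ends : E → V × V) (hconn : Connected ends) (z : E → ℤ)
    (hz : ∀ γ : E → ℤ, (∀ v, boundary ends γ v = 0) → ∑ e, γ e * z e = 0) :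
    ∃ f : V → ℤ, ∀ e, cob ends f e = z e := by
  classical
  obtain ⟨⟨v₀⟩, hR⟩ := hconn
  have hchain : ∀ v, ∃ c : E → ℤ, ∀ w, boundary ends c w =
      (if v = w then 1 else 0) - (if v₀ = w then 1 else 0) := by
    intro v
    induction hR v₀ v with
    | refl => exact ⟨0, fun w => by rw [boundary_zero]; ring⟩
    | @tail b b' _ hbb' ih =>
      obtain ⟨c, hc⟩ := ih
      obtain ⟨e, he | he⟩ := hbb'
      · refine ⟨c + Pi.single e 1, fun w => ?_⟩
        rw [boundary_add, hc, boundary_single, he]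
        simp only
        ring
      · refine ⟨c - Pi.single e 1, fun w => ?_⟩
        rw [boundary_sub, hc, boundary_single, he]
        simp only
        ring
  choose c hc using hchain
  refine ⟨fun v => ∑ e, c v e * z e, fun e => ?_⟩
  have h0 := hz (c (ends e).1 + Pi.single e 1 - c (ends e).2) (by
    intro w
    rw [boundary_sub, boundary_add, hc, hc, boundary_single]
    ring)
  simp only [Pi.sub_apply, Pi.add_apply, sub_mul, add_mul, Finset.sum_sub_distrib,
    Finset.sum_add_distrib] at h0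
  have h1 : ∑ e', (Pi.single e (1 : ℤ) : E → ℤ) e' * z e' = z e := by
    rw [Finset.sum_eq_single e]
    · simp
    · intro e' _ hne
      simp [hne]
    · intro h; exact absurd (Finset.mem_univ e) h
  rw [h1] at h0
  simp only [cob]
  linarith

end Groth.Agent.Lib.Helper72.GraphCyc
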