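/-
Helper72: circuit-free edge sets, maximal ones (spanning trees), the parity cut lemma.
-/
import Mathlib
import Groth.Agent.Lib.Helper72.GraphCycB
import Groth.Prelude.Def_W4c2conddiscmodels

set_option autoImplicit false
set_option linter.unusedSectionVars false
universe u
open Finset

namespace Groth.Agent.Lib.Helper72.GraphCyc

open LabGraph

variable {V E : Type u} [Fintype V] [Fintype E] [DecidableEq V] [DecidableEq E]

/-- the edge set `F` contains no circuit. -/
def CircFree (ends : E → V × V) (F : Finset E) : Prop := ∀ C, C ⊆ F → ¬ IsCircuit ends C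

lemma CircFree.mono {ends : E → V × V} {F F' : Finset E} (h : CircFree ends F) (hsub : F' ⊆ F) :
    CircFree ends F' := fun C hC => h C (hC.trans hsub)

lemma reach_mono {ends : E → V × V} {F F' : Finset E} (hsub : F ⊆ F') {v w : V}
    (h : Relation.ReflTransGen (AdjIn ends F) v w) : Relation.ReflTransGen (AdjIn ends F') v w :=
  Relation.ReflTransGen.mono (fun _ _ ⟨e, he, h⟩ => ⟨e, hsub he, h⟩) _ _ h

/-- **parity cut**: an even edge set cannot cross a vertex cut in exactly one edge. -/
lemma parity_cut (ends : E → V × V) (C : Finset E) (hev : ∀ v, Even (endCount ends C v))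
    (S : Finset V) (e : E) (he : e ∈ C)
    (hS : ∀ e' ∈ C, e' ≠ e → ((ends e').1 ∈ S ↔ (ends e').2 ∈ S)) :
    ((ends e).1 ∈ S ↔ (ends e).2 ∈ S) := by
  have hsum := sum_endCount_filter ends C S
  have hev1 : Even (∑ v ∈ S, endCount ends C v) := Finset.even_sum _ fun v _ => hev v
  rw [hsum, ← Finset.add_sum_erase C _ he] at hev1
  have hev2 : Even (∑ e' ∈ C.erase e,
      ((if (ends e').1 ∈ S then 1 else 0) + (if (ends e').2 ∈ S then 1 else 0) : ℕ)) := by
    refine Finset.even_sum _ fun e' he' => ?_
    have he'' := Finset.mem_erase.1 he'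
    have hiff := hS e' he''.2 he''.1
    by_cases h1 : (ends e').1 ∈ S
    · rw [if_pos h1, if_pos (hiff.1 h1)]; decide
    · rw [if_neg h1, if_neg (fun h => h1 (hiff.2 h))]; decide
  obtain ⟨k1, hk1⟩ := hev1
  obtain ⟨k2, hk2⟩ := hev2
  by_cases h1 : (ends e).1 ∈ S <;> by_cases h2 : (ends e).2 ∈ S
  · exact ⟨fun _ => h2, fun _ => h1⟩
  · rw [if_pos h1, if_neg h2] at hk1; omega
  · rw [if_neg h1, if_pos h2] at hk1; omega
  · exact ⟨fun h => absurd h h1, fun h => absurd h h2⟩

/-- in an even edge set the endpoints of an edge are joined by a walk through the other edges. -/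
lemma reach_of_even (ends : E → V × V) (C : Finset E) (hev : ∀ v, Even (endCount ends C v))
    (e : E) (he : e ∈ C) :
    Relation.ReflTransGen (AdjIn ends (C.erase e)) (ends e).1 (ends e).2 := by
  classical
  set S : Finset V := univ.filter fun v =>
    Relation.ReflTransGen (AdjIn ends (C.erase e)) (ends e).1 v with hS
  have h1 : (ends e).1 ∈ S := by simp [hS, Relation.ReflTransGen.refl]
  have h2 := (parity_cut ends C hev S e he (by
    intro e' he' hne
    have hadj : AdjIn ends (C.erase e) (ends e').1 (ends e').2 :=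
      ⟨e', Finset.mem_erase.2 ⟨hne, he'⟩, Or.inl rfl⟩
    simp only [hS, Finset.mem_filter, Finset.mem_univ, true_and]
    exact ⟨fun h => h.tail hadj, fun h => h.tail hadj.symm⟩)).1 h1
  exact (Finset.mem_filter.1 h2).2

/-- maximal circuit-free edge sets between `F₀` and `X`. -/
lemma exists_maximal_circFree (ends : E → V × V) (F₀ X : Finset E) (h₀ : CircFree ends F₀)
    (hX : F₀ ⊆ X) :
    ∃ T, F₀ ⊆ T ∧ T ⊆ X ∧ CircFree ends T ∧
      ∀ e ∈ X, e ∉ T → ¬ CircFree ends (insert e T) := by
  classical
  set 𝒮 : Finset (Finset E) := X.powerset.filter fun T => F₀ ⊆ T ∧ CircFree ends T with h𝒮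
  have hne : 𝒮.Nonempty := ⟨F₀, by simp [h𝒮, hX, h₀]⟩
  obtain ⟨T, hT, hmax⟩ := Finset.exists_max_image 𝒮 Finset.card hne
  have hT' := Finset.mem_filter.1 hT
  refine ⟨T, hT'.2.1, Finset.mem_powerset.1 hT'.1, hT'.2.2, ?_⟩
  intro e heX heT hcf
  have hmem : insert e T ∈ 𝒮 := by
    refine Finset.mem_filter.2 ⟨Finset.mem_powerset.2 ?_, hT'.2.1.trans (Finset.subset_insert _ _), hcf⟩
    exact Finset.insert_subset heX (Finset.mem_powerset.1 hT'.1)
  have := hmax _ hmem
  rw [Finset.card_insert_of_notMem heT] at this
  omega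

/-- for a maximal circuit-free set `T` inside `X`, the endpoints of every edge of `X` are joined
inside `T`. -/
lemma reach_of_maximal (ends : E → V × V) (T X : Finset E) (hT : CircFree ends T)
    (hmax : ∀ e ∈ X, e ∉ T → ¬ CircFree ends (insert e T)) (e : E) (he : e ∈ X) :
    Relation.ReflTransGen (AdjIn ends T) (ends e).1 (ends e).2 := by
  by_cases heT : e ∈ T
  · exact Relation.ReflTransGen.single ⟨e, heT, Or.inl rfl⟩
  · have h1 := hmax e he heT
    simp only [CircFree, not_forall, not_not] at h1
    obtain ⟨C, hC, hcirc⟩ := h1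
    have heC : e ∈ C := by
      by_contra hne
      refine hT C (fun x hx => ?_) hcirc
      rcases Finset.mem_insert.1 (hC hx) with rfl | h
      · exact absurd hx hne
      · exact h
    refine reach_mono (fun x hx => ?_) (reach_of_even ends C hcirc.2.1 e heC)
    have hx' := Finset.mem_erase.1 hx
    rcases Finset.mem_insert.1 (hC hx'.2) with h | h
    · exact absurd h hx'.1
    · exact h

/-- if the endpoints of every edge are joined inside `T` and the graph is connected, then `T`
connects any two vertices. -/
lemma reach_all (ends : E → V × V) (hconn : Connected ends) (T : Finset E)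
    (h : ∀ e : E, Relation.ReflTransGen (AdjIn ends T) (ends e).1 (ends e).2) (v w : V) :
    Relation.ReflTransGen (AdjIn ends T) v w := by
  induction hconn.2 v w with
  | refl => exact Relation.ReflTransGen.refl
  | @tail b c _ hbc ih =>
    refine ih.trans ?_
    obtain ⟨e, he | he⟩ := hbc
    · have := h e
      rw [he] at this
      exact this
    · have := h e
      rw [he] at this
      exact reach_symm this

/-- integration along walks: if `δg = k • δf` on `F`, then `g` and `k • f` differ by the same
amount between two vertices joined inside `F`. -/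
lemma walk_integral (ends : E → V × V) (F : Finset E) (f g : V → ℤ) (k : ℤ)
    (h : ∀ e ∈ F, cob ends g e = k * cob ends f e) {a b : V}
    (hr : Relation.ReflTransGen (AdjIn ends F) a b) : g b - g a = k * (f b - f a) := by
  induction hr with
  | refl => simp
  | @tail b c _ hbc ih =>
    obtain ⟨e, heF, he | he⟩ := hbc
    · have := h e heF
      simp only [cob, he] at this
      linarith
    · have := h e heF
      simp only [cob, he] at this
      linarith

/-! ### the subgraph on an edge set, as a graph on the subtype -/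

lemma endCount_map (ends : E → V × V) (T : Finset E) (C' : Finset ↥T) (v : V) :
    endCount ends (C'.map (Function.Embedding.subtype _)) v =
      endCount (fun e : ↥T => ends e.1) C' v := by
  simp only [endCount, Finset.sum_map, Function.Embedding.coe_subtype]
  rfl

lemma isCircuit_map_iff (ends : E → V × V) (T : Finset E) (C' : Finset ↥T) :
    IsCircuit (fun e : ↥T => ends e.1) C' ↔
      IsCircuit ends (C'.map (Function.Embedding.subtype _)) := by
  classical
  constructor
  · rintro ⟨h1, h2, h3⟩
    refine ⟨Finset.map_nonempty.2 h1, fun v => by rw [endCount_map]; exact h2 v, ?_⟩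
    intro D hD hDne
    have hDT : ∀ x ∈ D, x ∈ T := by
      intro x hx
      obtain ⟨y, _, rfl⟩ := Finset.mem_map.1 (hD.subset hx)
      exact y.2
    have hmap : (D.subtype (· ∈ T)).map (Function.Embedding.subtype _) = D :=
      Finset.subtype_map_of_mem hDT
    have hss : D.subtype (· ∈ T) ⊂ C' := by
      rw [← Finset.map_ssubset_map (f := Function.Embedding.subtype _), hmap]; exact hD
    have hne' : (D.subtype (· ∈ T)).Nonempty := by
      rw [← Finset.map_nonempty (f := Function.Embedding.subtype _), hmap]; exact hDne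
    obtain ⟨v, hv⟩ := h3 _ hss hne'
    refine ⟨v, ?_⟩
    rw [← hmap, endCount_map]; exact hv
  · rintro ⟨h1, h2, h3⟩
    refine ⟨Finset.map_nonempty.1 h1, fun v => by rw [← endCount_map]; exact h2 v, ?_⟩
    intro D' hD' hne'
    obtain ⟨v, hv⟩ := h3 (D'.map (Function.Embedding.subtype _))
      (Finset.map_ssubset_map.2 hD') (Finset.map_nonempty.2 hne')
    exact ⟨v, by rw [← endCount_map]; exact hv⟩

/-- spanning trees in terms of circuit-freeness and reachability. -/
lemma isSpanningTree_iff (ends : E → V × V) (T : Finset E) :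
    DualGr.IsTree (V := V) (fun e : ↥T => ends e.1) ↔
      (Nonempty V ∧ ∀ v w, Relation.ReflTransGen (AdjIn ends T) v w) ∧ CircFree ends T := by
  classical
  have hadj : ∀ v w, Adj (fun e : ↥T => ends e.1) v w ↔ AdjIn ends T v w := by
    intro v w
    constructor
    · rintro ⟨e, he⟩; exact ⟨e.1, e.2, he⟩
    · rintro ⟨e, heT, he⟩; exact ⟨⟨e, heT⟩, he⟩
  constructor
  · rintro ⟨⟨hne, hr⟩, hf⟩
    refine ⟨⟨hne, fun v w => Relation.ReflTransGen.mono (fun a b h => (hadj a b).1 h) _ _ (hr v w)⟩, ?_⟩
    intro C hC hcirc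
    have hmap : (C.subtype (· ∈ T)).map (Function.Embedding.subtype _) = C :=
      Finset.subtype_map_of_mem hC
    refine hf (C.subtype (· ∈ T)) ((isCircuit_map_iff ends T _).2 ?_)
    rw [hmap]; exact hcirc
  · rintro ⟨⟨hne, hr⟩, hf⟩
    refine ⟨⟨hne, fun v w => Relation.ReflTransGen.mono (fun a b h => (hadj a b).2 h) _ _ (hr v w)⟩, ?_⟩
    intro C' hcirc
    refine hf _ ?_ ((isCircuit_map_iff ends T C').1 hcirc)
    intro x hx
    obtain ⟨y, _, rfl⟩ := Finset.mem_map.1 hx
    exact y.2

end Groth.Agent.Lib.Helper72.GraphCyc
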