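/-
Helper72: spanning trees of a finite multigraph versus rooted parent-edge functions.
-/
import Mathlib
import Groth.Agent.Lib.Helper72.GraphCycD

set_option autoImplicit false
set_option linter.unusedSectionVars false
universe u
open Finset

namespace Groth.Agent.Lib.Helper72.GraphCyc

open LabGraph

variable {V E : Type u} [Fintype V] [Fintype E] [DecidableEq V] [DecidableEq E]

/-- the other endpoint of the edge `e` seen from `v`. -/
def other (ends : E → V × V) (e : E) (v : V) : V :=
  if (ends e).1 = v then (ends e).2 else (ends e).1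

/-- `v` is an endpoint of the non-loop edge `e`. -/
def Inc (ends : E → V × V) (e : E) (v : V) : Prop :=
  ((ends e).1 = v ∨ (ends e).2 = v) ∧ (ends e).1 ≠ (ends e).2

lemma other_ne {ends : E → V × V} {e : E} {v : V} (h : Inc ends e v) : other ends e v ≠ v := by
  unfold other
  rcases h with ⟨h1 | h1, h2⟩
  · rw [if_pos h1]; intro h3; exact h2 (h1.trans h3.symm)
  · by_cases h3 : (ends e).1 = v
    · exact absurd (h3.trans h1.symm) h2
    · rw [if_neg h3]; exact h3

lemma ends_of_inc {ends : E → V × V} {e : E} {v : V} (h : Inc ends e v) :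
    ends e = (v, other ends e v) ∨ ends e = (other ends e v, v) := by
  unfold other
  rcases h with ⟨h1 | h1, h2⟩
  · left; rw [if_pos h1]; exact Prod.ext h1 rfl
  · by_cases h3 : (ends e).1 = v
    · exact absurd (h3.trans h1.symm) h2
    · right; rw [if_neg h3]; exact Prod.ext rfl h1

lemma inc_other {ends : E → V × V} {e : E} {v : V} (h : Inc ends e v) :
    Inc ends e (other ends e v) := by
  rcases ends_of_inc h with h1 | h1
  · exact ⟨Or.inr (by rw [h1]), h.2⟩
  · exact ⟨Or.inl (by rw [h1]), h.2⟩

lemma eq_or_eq_other {ends : E → V × V} {e : E} {v u : V} (hv : Inc ends e v) (hu : Inc ends e u) :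
    u = v ∨ u = other ends e v := by
  rcases ends_of_inc hv with h1 | h1
  · rcases hu.1 with h2 | h2
    · left; rw [h1] at h2; exact h2.symm
    · right; rw [h1] at h2; exact h2.symm
  · rcases hu.1 with h2 | h2
    · right; rw [h1] at h2; exact h2.symm
    · left; rw [h1] at h2; exact h2.symm

/-- the parent of `v` under the parent-edge function `r`. -/
def par (ends : E → V × V) (r : V → Option E) (v : V) : V :=
  match r v with
  | none => v
  | some e => other ends e v

lemma par_none {ends : E → V × V} {r : V → Option E} {v : V} (h : r v = none) :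
    par ends r v = v := by simp [par, h]

lemma par_some {ends : E → V × V} {r : V → Option E} {v : V} {e : E} (h : r v = some e) :
    par ends r v = other ends e v := by simp [par, h]

/-- `r` is a parent-edge function rooted at `v₀`: only `v₀` has no parent edge, every other vertex
chooses a non-loop edge at it, and following parents always leads to `v₀`. -/
def Rooted (ends : E → V × V) (v₀ : V) (r : V → Option E) : Prop :=
  r v₀ = none ∧ (∀ v, v ≠ v₀ → ∃ e, r v = some e ∧ Inc ends e v) ∧
    ∀ v, ∃ k, (par ends r)^[k] v = v₀

/-- the edges used by a parent-edge function. -/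
def edgesOf (r : V → Option E) : Finset E := univ.filter fun e => ∃ v, r v = some e

lemma mem_edgesOf {r : V → Option E} {e : E} : e ∈ edgesOf r ↔ ∃ v, r v = some e := by
  simp [edgesOf]

section depth
variable {ends : E → V × V} {v₀ : V} {r : V → Option E} (hr : Rooted ends v₀ r)
include hr

lemma Rooted.iterate_root (k : ℕ) : (par ends r)^[k] v₀ = v₀ := by
  induction k with
  | zero => rfl
  | succ k ih => rw [Function.iterate_succ_apply, par_none hr.1, ih]

/-- the depth of a vertex. -/
noncomputable def Rooted.depth (v : V) : ℕ := Nat.find (hr.2.2 v)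

lemma Rooted.depth_spec (v : V) : (par ends r)^[hr.depth v] v = v₀ := Nat.find_spec (hr.2.2 v)

lemma Rooted.depth_eq_zero_iff (v : V) : hr.depth v = 0 ↔ v = v₀ := by
  constructor
  · intro h
    have := hr.depth_spec v
    rw [h] at this
    exact this
  · intro h
    exact (Nat.find_eq_zero (hr.2.2 v)).2 h

lemma Rooted.depth_par (v : V) (hv : v ≠ v₀) : hr.depth (par ends r v) + 1 = hr.depth v := by
  have h0 : hr.depth v ≠ 0 := fun h => hv ((hr.depth_eq_zero_iff v).1 h)
  obtain ⟨k, hk⟩ := Nat.exists_eq_succ_of_ne_zero h0
  have h1 := hr.depth_spec v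
  rw [hk, Function.iterate_succ_apply] at h1
  have h2 : hr.depth (par ends r v) ≤ k := Nat.find_min' (hr.2.2 (par ends r v)) h1
  have h3 : hr.depth v ≤ hr.depth (par ends r v) + 1 := by
    apply Nat.find_min' (hr.2.2 v)
    rw [Function.iterate_succ_apply]
    exact hr.depth_spec (par ends r v)
  omega

lemma Rooted.reach (v : V) : Relation.ReflTransGen (AdjIn ends (edgesOf r)) v v₀ := by
  have key : ∀ n v, hr.depth v = n → Relation.ReflTransGen (AdjIn ends (edgesOf r)) v v₀ := by
    intro n
    induction n with
    | zero =>
      intro v hv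
      rw [(hr.depth_eq_zero_iff v).1 hv]
    | succ n ih =>
      intro v hv
      have hv0 : v ≠ v₀ := fun h => by
        rw [(hr.depth_eq_zero_iff v).2 h] at hv; omega
      obtain ⟨e, he, hinc⟩ := hr.2.1 v hv0
      have hp := hr.depth_par v hv0
      refine Relation.ReflTransGen.head ?_ (ih (par ends r v) (by omega))
      rw [par_some he]
      refine ⟨e, mem_edgesOf.2 ⟨v, he⟩, ?_⟩
      rcases ends_of_inc hinc with h | h
      · exact Or.inl h
      · exact Or.inr h
  exact key _ v rfl

lemma Rooted.injective {v v' : V} {e : E} (h : r v = some e) (h' : r v' = some e) : v = v' := by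
  by_contra hne
  have hv0 : v ≠ v₀ := fun h0 => by rw [h0, hr.1] at h; cases h
  have hv0' : v' ≠ v₀ := fun h0 => by rw [h0, hr.1] at h'; cases h'
  obtain ⟨e1, he1, hinc⟩ := hr.2.1 v hv0
  obtain ⟨e2, he2, hinc'⟩ := hr.2.1 v' hv0'
  rw [h] at he1; rw [h'] at he2
  have e1e : e1 = e := (Option.some.inj he1).symm
  have e2e : e2 = e := (Option.some.inj he2).symm
  rw [e1e] at hinc; rw [e2e] at hinc'
  have h1 : v' = other ends e v := by
    rcases eq_or_eq_other hinc hinc' with h1 | h1
    · exact absurd h1.symm hne
    · exact h1
  have h2 : v = other ends e v' := by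
    rcases eq_or_eq_other hinc' hinc with h2 | h2
    · exact absurd h2 hne
    · exact h2
  have d1 := hr.depth_par v hv0
  have d2 := hr.depth_par v' hv0'
  rw [par_some h, ← h1] at d1
  rw [par_some h', ← h2] at d2
  omega

lemma Rooted.circFree : CircFree ends (edgesOf r) := by
  classical
  intro C hC hcirc
  -- a vertex of `C` of maximal depth
  set W : Finset V := univ.filter fun v => endCount ends C v ≠ 0 with hW
  have hWne : W.Nonempty := by
    obtain ⟨e, he⟩ := hcirc.1
    refine ⟨(ends e).1, ?_⟩
    simp only [hW, Finset.mem_filter, Finset.mem_univ, true_and, endCount]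
    have hle := Finset.single_le_sum (f := fun e' : E =>
      ((if (ends e').1 = (ends e).1 then 1 else 0) + (if (ends e').2 = (ends e).1 then 1 else 0) : ℕ))
      (fun _ _ => Nat.zero_le _) he
    simp only [if_true] at hle
    omega
  obtain ⟨v, hvW, hvmax⟩ := Finset.exists_max_image W hr.depth hWne
  have hvne : endCount ends C v ≠ 0 := (Finset.mem_filter.1 hvW).2
  -- every edge of `C` at `v` is the parent edge of `v`
  have hedge : ∀ e ∈ C, ((ends e).1 = v ∨ (ends e).2 = v) → r v = some e := by
    intro e he hev
    obtain ⟨u, hu⟩ := mem_edgesOf.1 (hC he)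
    have hu0 : u ≠ v₀ := fun h0 => by rw [h0, hr.1] at hu; cases hu
    obtain ⟨e', he', hinc⟩ := hr.2.1 u hu0
    rw [hu] at he'
    have : e' = e := (Option.some.inj he').symm
    rw [this] at hinc
    have hincv : Inc ends e v := ⟨hev, hinc.2⟩
    rcases eq_or_eq_other hinc hincv with h1 | h1
    · rw [h1]; exact hu
    · -- `v` is the parent of `u`: `u` is deeper
      exfalso
      have huW : u ∈ W := by
        simp only [hW, Finset.mem_filter, Finset.mem_univ, true_and, endCount]
        have hle := Finset.single_le_sum (f := fun e'' : E =>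
          ((if (ends e'').1 = u then 1 else 0) + (if (ends e'').2 = u then 1 else 0) : ℕ))
          (fun _ _ => Nat.zero_le _) he
        rcases hinc.1 with h2 | h2
        · simp only [if_pos h2] at hle; omega
        · simp only [if_pos h2] at hle; omega
      have d := hr.depth_par u hu0
      rw [par_some hu, ← h1] at d
      have := hvmax u huW
      omega
  -- hence the end count of `C` at `v` is one
  have hcount : endCount ends C v = 1 := by
    have hex : ∃ e ∈ C, (ends e).1 = v ∨ (ends e).2 = v := by
      by_contra hne
      push Not at hne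
      apply hvne
      simp only [endCount]
      refine Finset.sum_eq_zero fun e he => ?_
      simp [(hne e he).1, (hne e he).2]
    obtain ⟨e, he, hev⟩ := hex
    have hre := hedge e he hev
    have hv0 : v ≠ v₀ := fun h0 => by rw [h0, hr.1] at hre; cases hre
    obtain ⟨e', he', hinc⟩ := hr.2.1 v hv0
    rw [hre] at he'
    have : e' = e := (Option.some.inj he').symm
    rw [this] at hinc
    simp only [endCount]
    rw [Finset.sum_eq_single_of_mem e he]
    · rcases hinc.1 with h1 | h1
      · have h2 : (ends e).2 ≠ v := fun h2 => hinc.2 (h1.trans h2.symm)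
        simp [h1, h2]
      · have h2 : (ends e).1 ≠ v := fun h2 => hinc.2 (h2.trans h1.symm)
        simp [h1, h2]
    · intro e'' he'' hne
      by_cases h3 : (ends e'').1 = v ∨ (ends e'').2 = v
      · have := hedge e'' he'' h3
        rw [hre] at this
        exact absurd (Option.some.inj this).symm hne
      · push Not at h3
        simp [h3.1, h3.2]
  have := hcirc.2.1 v
  rw [hcount] at this
  exact absurd this (by decide)

lemma Rooted.isTree : (Nonempty V ∧ ∀ v w, Relation.ReflTransGen (AdjIn ends (edgesOf r)) v w) ∧
    CircFree ends (edgesOf r) :=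
  ⟨⟨⟨v₀⟩, fun v w => (hr.reach v).trans (reach_symm (hr.reach w))⟩, hr.circFree⟩

end depth

/-- two rooted parent-edge functions with the same edge set coincide. -/
lemma Rooted.ext {ends : E → V × V} {v₀ : V} {r r' : V → Option E} (hr : Rooted ends v₀ r)
    (hr' : Rooted ends v₀ r') (h : edgesOf r = edgesOf r') : r = r' := by
  have key : ∀ n v, hr.depth v = n → r v = r' v := by
    intro n
    induction n using Nat.strong_induction_on with
    | _ n ih =>
      intro v hv
      by_cases hv0 : v = v₀
      · rw [hv0, hr.1, hr'.1]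
      · obtain ⟨e, he, hinc⟩ := hr.2.1 v hv0
        have hmem : e ∈ edgesOf r' := h ▸ mem_edgesOf.2 ⟨v, he⟩
        obtain ⟨u, hu⟩ := mem_edgesOf.1 hmem
        have hu0 : u ≠ v₀ := fun h0 => by rw [h0, hr'.1] at hu; cases hu
        obtain ⟨e', he', hincu⟩ := hr'.2.1 u hu0
        rw [hu] at he'
        have : e' = e := (Option.some.inj he').symm
        rw [this] at hincu
        rcases eq_or_eq_other hinc hincu with h1 | h1
        · rw [he, ← h1, hu]
        · exfalso
          have d := hr.depth_par v hv0
          rw [par_some he, ← h1] at d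
          have h2 := ih (hr.depth u) (by omega) u rfl
          rw [hu] at h2
          have := hr.injective h2 he
          exact other_ne hinc (h1 ▸ this)
  funext v
  exact key _ v rfl

/-- in a circuit-free set the endpoints of an edge are not joined through the other edges. -/
lemma not_reach_erase (ends : E → V × V) (T : Finset E) (hT : CircFree ends T) (e : E)
    (he : e ∈ T) :
    ¬ Relation.ReflTransGen (AdjIn ends (T.erase e)) (ends e).1 (ends e).2 := by
  intro hr
  obtain ⟨c, hc1, hc2⟩ := exists_chain2 ends (T.erase e) (ends e).1 (ends e).2 hr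
  have hce : c e = 0 := hc1 e (Finset.notMem_erase e T)
  obtain ⟨C, hCsub, hC⟩ := exists_circuit_of_bd2 ends T (c + Pi.single e 1)
    (by
      intro e' he'
      have h1 : e' ≠ e := fun h => he' (h ▸ he)
      have h2 : e' ∉ T.erase e := fun h => he' (Finset.mem_of_mem_erase h)
      simp [hc1 e' h2, h1])
    (by
      intro w
      rw [bd2_add, hc2, bd2_single]
      have h2 : ∀ x y : ZMod 2, x + y + (x + y) = 0 := by decide
      exact h2 _ _)
    e (by simp [hce])
  exact hT C hCsub hC

/-- every spanning tree is the edge set of a rooted parent-edge function. -/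
lemma exists_rooted (ends : E → V × V) (T : Finset E) (v₀ : V)
    (hreach : ∀ v w, Relation.ReflTransGen (AdjIn ends T) v w) (hT : CircFree ends T) :
    ∃ r : V → Option E, Rooted ends v₀ r ∧ edgesOf r = T := by
  classical
  -- breadth-first layers
  let D : ℕ → Finset V := fun k => Nat.rec {v₀}
    (fun _ S => S ∪ univ.filter fun v => ∃ e ∈ T, ∃ u ∈ S, ends e = (v, u) ∨ ends e = (u, v)) k
  have hD0 : D 0 = {v₀} := rfl
  have hDs : ∀ k, D (k + 1) = D k ∪
      univ.filter fun v => ∃ e ∈ T, ∃ u ∈ D k, ends e = (v, u) ∨ ends e = (u, v) := fun k => rfl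
  have hex : ∀ v, ∃ k, v ∈ D k := by
    intro v
    induction hreach v₀ v with
    | refl => exact ⟨0, by simp [hD0]⟩
    | @tail b c _ hbc ih =>
      obtain ⟨k, hk⟩ := ih
      obtain ⟨e, heT, he⟩ := hbc
      refine ⟨k + 1, ?_⟩
      rw [hDs]
      refine Finset.mem_union_right _ (Finset.mem_filter.2 ⟨Finset.mem_univ _, e, heT, b, hk, ?_⟩)
      rcases he with h | h
      · exact Or.inr h
      · exact Or.inl h
  let lvl : V → ℕ := fun v => @Nat.find (fun k => v ∈ D k) (Classical.decPred _) (hex v)
  have hlvl : ∀ v, v ∈ D (lvl v) := fun v =>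
    @Nat.find_spec (fun k => v ∈ D k) (Classical.decPred _) (hex v)
  have hlvl_min : ∀ v k, v ∈ D k → lvl v ≤ k := fun v k h =>
    @Nat.find_min' (fun k => v ∈ D k) (Classical.decPred _) (hex v) k h
  have hstep : ∀ v, v ≠ v₀ → ∃ e, e ∈ T ∧ Inc ends e v ∧ lvl (other ends e v) < lvl v := by
    intro v hv
    have h0 : lvl v ≠ 0 := by
      intro h0
      have := hlvl v
      rw [h0, hD0] at this
      exact hv (Finset.mem_singleton.1 this)
    obtain ⟨k, hk⟩ := Nat.exists_eq_succ_of_ne_zero h0
    have h1 := hlvl v
    rw [hk, Nat.succ_eq_add_one, hDs] at h1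
    have h2 : v ∉ D k := fun h => by have := hlvl_min v k h; omega
    rcases Finset.mem_union.1 h1 with h3 | h3
    · exact absurd h3 h2
    · obtain ⟨_, e, heT, u, hu, he⟩ := Finset.mem_filter.1 h3
      have hlu : lvl u ≤ k := hlvl_min u k hu
      have huv : u ≠ v := fun h => h2 (h ▸ hu)
      have hinc : Inc ends e v := by
        rcases he with h | h
        · exact ⟨Or.inl (by rw [h]), by rw [h]; exact fun h' => huv h'.symm⟩
        · exact ⟨Or.inr (by rw [h]), by rw [h]; exact huv⟩
      have hoth : other ends e v = u := by
        unfold other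
        rcases he with h | h
        · rw [h]; simp
        · rw [h]; simp [huv]
      exact ⟨e, heT, hinc, by rw [hoth]; omega⟩
  choose ch hch using hstep
  let r : V → Option E := fun v => if h : v = v₀ then none else some (ch v h)
  have hr0 : r v₀ = none := by simp [r]
  have hrv : ∀ v (hv : v ≠ v₀), r v = some (ch v hv) := fun v hv => by simp [r, hv]
  have hroot : Rooted ends v₀ r := by
    refine ⟨hr0, fun v hv => ⟨ch v hv, hrv v hv, (hch v hv).2.1⟩, ?_⟩
    have key : ∀ n v, lvl v = n → ∃ k, (par ends r)^[k] v = v₀ := by
      intro n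
      induction n using Nat.strong_induction_on with
      | _ n ih =>
        intro v hv
        by_cases hv0 : v = v₀
        · exact ⟨0, hv0⟩
        · obtain ⟨k, hk⟩ := ih (lvl (other ends (ch v hv0) v)) (by
            have := (hch v hv0).2.2; omega) _ rfl
          refine ⟨k + 1, ?_⟩
          rw [Function.iterate_succ_apply, par_some (hrv v hv0)]
          exact hk
    exact fun v => key _ v rfl
  refine ⟨r, hroot, ?_⟩
  have hsub : edgesOf r ⊆ T := by
    intro e he
    obtain ⟨v, hv⟩ := mem_edgesOf.1 he
    have hv0 : v ≠ v₀ := fun h0 => by rw [h0, hr0] at hv; cases hv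
    rw [hrv v hv0] at hv
    rw [← Option.some.inj hv]
    exact (hch v hv0).1
  refine Finset.Subset.antisymm hsub ?_
  intro e heT
  by_contra hne
  refine not_reach_erase ends T hT e heT ?_
  have hsub' : edgesOf r ⊆ T.erase e := by
    intro e' he'
    refine Finset.mem_erase.2 ⟨fun h => hne (h ▸ he'), hsub he'⟩
  exact reach_mono hsub' ((hroot.reach _).trans (reach_symm (hroot.reach _)))

end Groth.Agent.Lib.Helper72.GraphCyc
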