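/-
Helper72: cubic forms (homogeneous cubic `MvPolynomial`s) over a field of characteristic zero:
the symmetric trilinear form `T` of third derivatives, the directional derivative `D`,
Euler identities and the binary Taylor expansion of `eval (s • u + t • w) f`.
-/
import Mathlib

set_option autoImplicit false
set_option linter.unusedSectionVars false

open MvPolynomial Finset

namespace Groth.Agent.Lib.Helper72.CubicForm

variable {K : Type*} [Field K] {σ : Type*}

theorem pderiv_comm (i j : σ) (f : MvPolynomial σ K) :
    pderiv i (pderiv j f) = pderiv j (pderiv i f) := by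
  classical
  have h : ⁅(pderiv i : Derivation K (MvPolynomial σ K) (MvPolynomial σ K)),
      (pderiv j : Derivation K (MvPolynomial σ K) (MvPolynomial σ K))⁆ = 0 := by
    apply MvPolynomial.derivation_ext
    intro k
    rw [Derivation.commutator_apply]
    simp only [pderiv_X, Derivation.coe_zero, Pi.zero_apply]
    by_cases h1 : j = k <;> by_cases h2 : i = k <;> simp [h1, h2]
  have := congrArg (fun D => D f) h
  simp only [Derivation.commutator_apply, Derivation.coe_zero, Pi.zero_apply] at this
  exact sub_eq_zero.mp this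

variable [Fintype σ]

/-- the third derivatives (constants for a cubic form). -/
noncomputable def c3 (f : MvPolynomial σ K) (i j k : σ) : K :=
  coeff 0 (pderiv i (pderiv j (pderiv k f)))

lemma c3_swap12 (f : MvPolynomial σ K) (i j k : σ) : c3 f i j k = c3 f j i k := by
  unfold c3
  rw [pderiv_comm]

lemma c3_swap23 (f : MvPolynomial σ K) (i j k : σ) : c3 f i j k = c3 f i k j := by
  unfold c3
  rw [pderiv_comm j k]

/-- the trilinear form of third derivatives. -/
noncomputable def T (f : MvPolynomial σ K) (u v w : σ → K) : K :=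
  ∑ i, ∑ j, ∑ k, u i * v j * w k * c3 f i j k

/-- the directional derivative of `f` at `u` in the direction `w`. -/
noncomputable def D (f : MvPolynomial σ K) (u w : σ → K) : K :=
  ∑ k, w k * eval u (pderiv k f)

lemma T_swap12 (f : MvPolynomial σ K) (u v w : σ → K) : T f u v w = T f v u w := by
  unfold T
  rw [Finset.sum_comm]
  refine sum_congr rfl fun i _ => sum_congr rfl fun j _ => sum_congr rfl fun k _ => ?_
  rw [c3_swap12]
  ring

lemma T_swap23 (f : MvPolynomial σ K) (u v w : σ → K) : T f u v w = T f u w v := by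
  unfold T
  refine sum_congr rfl fun i _ => ?_
  rw [Finset.sum_comm]
  refine sum_congr rfl fun j _ => sum_congr rfl fun k _ => ?_
  rw [c3_swap23]
  ring

lemma T_swap13 (f : MvPolynomial σ K) (u v w : σ → K) : T f u v w = T f w v u := by
  rw [T_swap12, T_swap23, T_swap12]

lemma T_add_left (f : MvPolynomial σ K) (u u' v w : σ → K) :
    T f (u + u') v w = T f u v w + T f u' v w := by
  unfold T
  rw [← Finset.sum_add_distrib]
  refine sum_congr rfl fun i _ => ?_
  rw [← Finset.sum_add_distrib]
  refine sum_congr rfl fun j _ => ?_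
  rw [← Finset.sum_add_distrib]
  refine sum_congr rfl fun k _ => ?_
  rw [Pi.add_apply]
  ring

lemma T_smul_left (f : MvPolynomial σ K) (s : K) (u v w : σ → K) :
    T f (s • u) v w = s * T f u v w := by
  unfold T
  rw [Finset.mul_sum]
  refine sum_congr rfl fun i _ => ?_
  rw [Finset.mul_sum]
  refine sum_congr rfl fun j _ => ?_
  rw [Finset.mul_sum]
  refine sum_congr rfl fun k _ => ?_
  rw [Pi.smul_apply, smul_eq_mul]
  ring

lemma T_add_mid (f : MvPolynomial σ K) (u v v' w : σ → K) :
    T f u (v + v') w = T f u v w + T f u v' w := by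
  rw [T_swap12, T_add_left, T_swap12 f v, T_swap12 f v']

lemma T_smul_mid (f : MvPolynomial σ K) (s : K) (u v w : σ → K) :
    T f u (s • v) w = s * T f u v w := by
  rw [T_swap12, T_smul_left, T_swap12 f v]

lemma T_add_right (f : MvPolynomial σ K) (u v w w' : σ → K) :
    T f u v (w + w') = T f u v w + T f u v w' := by
  rw [T_swap13, T_add_left, T_swap13 f w, T_swap13 f w']

lemma T_smul_right (f : MvPolynomial σ K) (s : K) (u v w : σ → K) :
    T f u v (s • w) = s * T f u v w := by
  rw [T_swap13, T_smul_left, T_swap13 f w]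

lemma T_neg_left (f : MvPolynomial σ K) (u v w : σ → K) : T f (-u) v w = - T f u v w := by
  have := T_smul_left f (-1) u v w
  simpa using this

lemma T_sub_left (f : MvPolynomial σ K) (u u' v w : σ → K) :
    T f (u - u') v w = T f u v w - T f u' v w := by
  rw [sub_eq_add_neg, T_add_left, T_neg_left, sub_eq_add_neg]

lemma T_zero_left (f : MvPolynomial σ K) (v w : σ → K) : T f 0 v w = 0 := by
  have := T_smul_left f 0 0 v w
  simpa using this

lemma D_add_right (f : MvPolynomial σ K) (u w w' : σ → K) :
    D f u (w + w') = D f u w + D f u w' := by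
  unfold D
  rw [← Finset.sum_add_distrib]
  refine sum_congr rfl fun k _ => ?_
  rw [Pi.add_apply]
  ring

lemma D_smul_right (f : MvPolynomial σ K) (s : K) (u w : σ → K) :
    D f u (s • w) = s * D f u w := by
  unfold D
  rw [Finset.mul_sum]
  refine sum_congr rfl fun k _ => ?_
  rw [Pi.smul_apply, smul_eq_mul]
  ring

/-- `D f u` as a linear functional. -/
noncomputable def Dlin (f : MvPolynomial σ K) (u : σ → K) : (σ → K) →ₗ[K] K where
  toFun := D f u
  map_add' := D_add_right f u
  map_smul' := fun s w => by rw [D_smul_right]; rfl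

@[simp] lemma Dlin_apply (f : MvPolynomial σ K) (u w : σ → K) : Dlin f u w = D f u w := rfl

/-- Euler's identity, evaluated. -/
lemma euler_eval {g : MvPolynomial σ K} {n : ℕ} (hg : g.IsHomogeneous n) (u : σ → K) :
    ∑ i, u i * eval u (pderiv i g) = (n : K) * eval u g := by
  have h := congrArg (eval u) hg.sum_X_mul_pderiv
  rw [map_sum] at h
  simp only [map_mul, eval_X, nsmul_eq_mul, map_natCast] at h
  exact h

lemma D_self {f : MvPolynomial σ K} (hf : f.IsHomogeneous 3) (u : σ → K) :
    D f u u = 3 * eval u f := by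
  unfold D
  rw [euler_eval hf u]
  norm_num

lemma pderiv3_eq_C {f : MvPolynomial σ K} (hf : f.IsHomogeneous 3) (i j k : σ) :
    pderiv i (pderiv j (pderiv k f)) = C (c3 f i j k) := by
  have h : (pderiv i (pderiv j (pderiv k f))).IsHomogeneous 0 := hf.pderiv.pderiv.pderiv
  rw [← totalDegree_zero_iff_isHomogeneous, totalDegree_eq_zero_iff_eq_C] at h
  exact h

lemma eval_pderiv2 {f : MvPolynomial σ K} (hf : f.IsHomogeneous 3) (u : σ → K) (j k : σ) :
    eval u (pderiv j (pderiv k f)) = ∑ i, u i * c3 f i j k := by
  have h1 : (pderiv j (pderiv k f)).IsHomogeneous 1 := hf.pderiv.pderiv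
  have h := euler_eval h1 u
  rw [Nat.cast_one, one_mul] at h
  rw [← h]
  refine sum_congr rfl fun i _ => ?_
  rw [pderiv3_eq_C hf, eval_C]

lemma two_eval_pderiv {f : MvPolynomial σ K} (hf : f.IsHomogeneous 3) (u : σ → K) (k : σ) :
    2 * eval u (pderiv k f) = ∑ i, ∑ j, u i * u j * c3 f i j k := by
  have h2 : (pderiv k f).IsHomogeneous 2 := hf.pderiv
  have h := euler_eval h2 u
  rw [Nat.cast_ofNat] at h
  rw [← h, Finset.sum_comm]
  refine sum_congr rfl fun j _ => ?_
  rw [eval_pderiv2 hf, Finset.mul_sum]
  refine sum_congr rfl fun i _ => ?_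
  ring

/-- `2 D(u, w) = T(u, u, w)`. -/
lemma two_D {f : MvPolynomial σ K} (hf : f.IsHomogeneous 3) (u w : σ → K) :
    2 * D f u w = T f u u w := by
  unfold D T
  rw [Finset.mul_sum]
  have : ∀ k, 2 * (w k * eval u (pderiv k f)) = ∑ i, ∑ j, u i * u j * w k * c3 f i j k := by
    intro k
    rw [mul_left_comm, two_eval_pderiv hf, Finset.mul_sum]
    refine sum_congr rfl fun i _ => ?_
    rw [Finset.mul_sum]
    refine sum_congr rfl fun j _ => ?_
    ring
  rw [Finset.sum_congr rfl fun k _ => this k, Finset.sum_comm]
  refine sum_congr rfl fun i _ => ?_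
  rw [Finset.sum_comm]

/-- `6 F(u) = T(u, u, u)`. -/
lemma six_eval {f : MvPolynomial σ K} (hf : f.IsHomogeneous 3) (u : σ → K) :
    6 * eval u f = T f u u u := by
  rw [← two_D hf, D_self hf]
  ring

variable [CharZero K]

lemma D_eq {f : MvPolynomial σ K} (hf : f.IsHomogeneous 3) (u w : σ → K) :
    D f u w = T f u u w / 2 := by
  rw [← two_D hf]
  field_simp

/-- the binary Taylor expansion of a cubic form. -/
theorem expand {f : MvPolynomial σ K} (hf : f.IsHomogeneous 3) (s t : K) (u w : σ → K) :
    eval (s • u + t • w) f =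
      s ^ 3 * eval u f + s ^ 2 * t * D f u w + s * t ^ 2 * D f w u + t ^ 3 * eval w f := by
  have h6 : (6 : K) ≠ 0 := by norm_num
  apply mul_left_cancel₀ h6
  rw [six_eval hf]
  have e1 : 6 * eval u f = T f u u u := six_eval hf u
  have e2 : 6 * eval w f = T f w w w := six_eval hf w
  have e3 : 2 * D f u w = T f u u w := two_D hf u w
  have e4 : 2 * D f w u = T f w w u := two_D hf w u
  simp only [T_add_left, T_add_mid, T_add_right, T_smul_left, T_smul_mid, T_smul_right]
  have s1 : T f u w u = T f u u w := T_swap23 f u w u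
  have s2 : T f w u u = T f u u w := by rw [T_swap13]
  have s3 : T f u w w = T f w w u := by rw [T_swap13]
  have s4 : T f w u w = T f w w u := T_swap23 f w u w
  rw [s1, s2, s3, s4]
  linear_combination (-(s ^ 3)) * e1 - t ^ 3 * e2 - 3 * s ^ 2 * t * e3 - 3 * s * t ^ 2 * e4

lemma expand_add {f : MvPolynomial σ K} (hf : f.IsHomogeneous 3) (t : K) (u w : σ → K) :
    eval (u + t • w) f = eval u f + t * D f u w + t ^ 2 * D f w u + t ^ 3 * eval w f := by
  have := expand hf 1 t u w
  simpa using this

lemma eval_smul {f : MvPolynomial σ K} (hf : f.IsHomogeneous 3) (s : K) (u : σ → K) :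
    eval (s • u) f = s ^ 3 * eval u f := by
  have := expand hf s 0 u 0
  simpa using this

/-- `D(u, ·)` in terms of `T`, as needed to expand `D` in the first variable. -/
lemma D_add_left {f : MvPolynomial σ K} (hf : f.IsHomogeneous 3) (u u' w : σ → K) :
    D f (u + u') w = D f u w + D f u' w + T f u u' w := by
  rw [D_eq hf, D_eq hf, D_eq hf]
  simp only [T_add_left, T_add_mid]
  rw [T_swap12 f u' u]
  ring

lemma D_smul_left {f : MvPolynomial σ K} (hf : f.IsHomogeneous 3) (s : K) (u w : σ → K) :
    D f (s • u) w = s ^ 2 * D f u w := by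
  rw [D_eq hf, D_eq hf]
  simp only [T_smul_left, T_smul_mid]
  ring

/-- the partial derivatives are the directional derivatives along the basis vectors. -/
lemma D_single [DecidableEq σ] (f : MvPolynomial σ K) (u : σ → K) (i : σ) :
    D f u (Pi.single i 1) = eval u (pderiv i f) := by
  unfold D
  rw [Finset.sum_eq_single i]
  · simp
  · intro k _ hk
    simp [hk]
  · intro h
    exact absurd (Finset.mem_univ i) h

/-- a point where `D f u` vanishes identically is a singular point. -/
lemma pderiv_eq_zero_of_D [DecidableEq σ] (f : MvPolynomial σ K) (u : σ → K)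
    (h : ∀ w, D f u w = 0) (i : σ) : eval u (pderiv i f) = 0 := by
  rw [← D_single]
  exact h _

end Groth.Agent.Lib.Helper72.CubicForm
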