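/-
Helper72: harmonic homologies `v ↦ v - 2 φ(v) e` as matrices, substitution of a matrix into a
polynomial, and the Eckardt functional of a cubic form.
-/
import Mathlib
import Groth.Agent.Lib.Helper72.CubicFormA

set_option autoImplicit false
set_option linter.unusedSectionVars false

open MvPolynomial Finset

namespace Groth.Agent.Lib.Helper72.CubicForm

variable {K : Type*} [Field K] {σ : Type*} [Fintype σ] [DecidableEq σ]

/-- substituting the linear forms of the rows of `A` and evaluating at `v` is evaluating at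
`A *ᵥ v`. -/
lemma eval_subst (A : Matrix σ σ K) (f : MvPolynomial σ K) (v : σ → K) :
    eval v (aeval (fun i : σ => ∑ j : σ, C (A i j) * X j) f) = eval (A.mulVec v) f := by
  rw [aeval_def, eval₂_comp_left (eval v)]
  have h1 : (eval v).comp (algebraMap K (MvPolynomial σ K)) = RingHom.id K := by
    ext x; simp
  rw [h1]
  have h2 : (⇑(eval v) ∘ fun i : σ => ∑ j : σ, C (A i j) * X j) = A.mulVec v := by
    funext i
    simp [Matrix.mulVec, dotProduct]
  rw [h2]
  rfl

/-- a polynomial identity from a pointwise identity (infinite field). -/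
lemma subst_eq_of_eval [Infinite K] (A : Matrix σ σ K) (f : MvPolynomial σ K) (c : K)
    (h : ∀ v, eval (A.mulVec v) f = c * eval v f) :
    aeval (fun i : σ => ∑ j : σ, C (A i j) * X j) f = C c * f := by
  apply MvPolynomial.funext
  intro v
  rw [eval_subst, h, map_mul, eval_C]

lemma eval_of_subst_eq (A : Matrix σ σ K) (f : MvPolynomial σ K) (c : K)
    (h : aeval (fun i : σ => ∑ j : σ, C (A i j) * X j) f = C c * f) (v : σ → K) :
    eval (A.mulVec v) f = c * eval v f := by
  rw [← eval_subst, h, map_mul, eval_C]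

/-- the matrix of the homology `v ↦ v - 2 φ(v) e`. -/
noncomputable def homMat (φ : (σ → K) →ₗ[K] K) (e : σ → K) : Matrix σ σ K :=
  LinearMap.toMatrix' (LinearMap.id - (2 : K) • (LinearMap.smulRight φ e))

lemma homMat_mulVec (φ : (σ → K) →ₗ[K] K) (e v : σ → K) :
    (homMat φ e).mulVec v = v - (2 * φ v) • e := by
  unfold homMat
  rw [← Matrix.toLin'_apply, Matrix.toLin'_toMatrix']
  simp [mul_smul]

variable [CharZero K]

lemma homMat_mul_self (φ : (σ → K) →ₗ[K] K) (e : σ → K) (he : φ e = 1) :
    homMat φ e * homMat φ e = 1 := by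
  rw [Matrix.ext_iff_mulVec]
  intro v
  rw [← Matrix.mulVec_mulVec, homMat_mulVec, homMat_mulVec, Matrix.one_mulVec]
  rw [map_sub, map_smul, he]
  simp only [smul_eq_mul, mul_one]
  module

lemma homMat_mulVec_self (φ : (σ → K) →ₗ[K] K) (e : σ → K) (he : φ e = 1) :
    (homMat φ e).mulVec e = -e := by
  rw [homMat_mulVec, he]
  module

lemma ker_homMat (φ : (σ → K) →ₗ[K] K) (e : σ → K) (he : φ e = 1) :
    LinearMap.ker (Matrix.toLin' (homMat φ e) - LinearMap.id) = LinearMap.ker φ := by
  ext v
  rw [LinearMap.mem_ker, LinearMap.mem_ker, LinearMap.sub_apply, Matrix.toLin'_apply,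
    homMat_mulVec, LinearMap.id_apply]
  constructor
  · intro h
    have h1 : (2 * φ v) • e = 0 := by
      have : v - (2 * φ v) • e - v = -((2 * φ v) • e) := by module
      rw [this] at h
      exact neg_eq_zero.mp h
    have he0 : e ≠ 0 := by
      intro h0
      rw [h0, map_zero] at he
      exact zero_ne_one he
    rcases smul_eq_zero.mp h1 with h2 | h2
    · have : (2 : K) ≠ 0 := by norm_num
      exact (mul_eq_zero.mp h2).resolve_left this
    · exact absurd h2 he0
  · intro h
    rw [h]
    module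

lemma finrank_ker_homMat (φ : (σ → K) →ₗ[K] K) (e : σ → K) (he : φ e = 1) :
    Module.finrank K (LinearMap.ker (Matrix.toLin' (homMat φ e) - LinearMap.id)) + 1 =
      Fintype.card σ := by
  rw [ker_homMat φ e he]
  have hsurj : Function.Surjective φ := by
    intro c
    exact ⟨c • e, by rw [map_smul, he, smul_eq_mul, mul_one]⟩
  have h := LinearMap.finrank_range_add_finrank_ker φ
  rw [LinearMap.range_eq_top.mpr hsurj, finrank_top, Module.finrank_self, Module.finrank_fintype_fun_eq_card] at h
  omega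

/-- structure of an involution with a hyperplane of fixed points and `A e = -e`. -/
theorem hom_struct (A : Matrix σ σ K) (hA2 : A * A = 1)
    (hfix : Module.finrank K (LinearMap.ker (Matrix.toLin' A - LinearMap.id)) + 1 = Fintype.card σ)
    (e : σ → K) (he : e ≠ 0) (hAe : A.mulVec e = -e) :
    ∃ φ : (σ → K) →ₗ[K] K, φ e = 1 ∧ ∀ v, A.mulVec v = v - (2 * φ v) • e := by
  classical
  have h2 : (2 : K) ≠ 0 := by norm_num
  -- the two eigenspaces
  set M := LinearMap.ker (Matrix.toLin' A - LinearMap.id) with hM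
  set N := LinearMap.ker (Matrix.toLin' A + LinearMap.id) with hN
  have hdisj : Disjoint M N := by
    rw [Submodule.disjoint_def]
    intro v hv1 hv2
    rw [hM, LinearMap.mem_ker, LinearMap.sub_apply, LinearMap.id_apply, sub_eq_zero] at hv1
    rw [hN, LinearMap.mem_ker, LinearMap.add_apply, LinearMap.id_apply] at hv2
    rw [hv1] at hv2
    have : (2 : K) • v = 0 := by rw [two_smul]; exact hv2
    exact (smul_eq_zero.mp this).resolve_left h2
  have hNle : Module.finrank K N ≤ 1 := by
    have h1 := Submodule.finrank_add_finrank_le_of_disjoint hdisj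
    rw [Module.finrank_fintype_fun_eq_card] at h1
    omega
  have heN : e ∈ N := by
    rw [hN, LinearMap.mem_ker, LinearMap.add_apply, LinearMap.id_apply, Matrix.toLin'_apply, hAe]
    simp
  have hmem : ∀ v, v - A.mulVec v ∈ N := by
    intro v
    rw [hN, LinearMap.mem_ker, LinearMap.add_apply, LinearMap.id_apply, Matrix.toLin'_apply,
      Matrix.mulVec_sub, Matrix.mulVec_mulVec, hA2, Matrix.one_mulVec]
    abel
  -- every element of `N` is a multiple of `e`
  have hspan : ∀ n ∈ N, ∃ c : K, n = c • e := by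
    intro n hn
    obtain ⟨v₀, hv₀⟩ := finrank_le_one_iff.mp hNle
    obtain ⟨c₀, hc₀⟩ := hv₀ ⟨e, heN⟩
    obtain ⟨c₁, hc₁⟩ := hv₀ ⟨n, hn⟩
    have hc₀' : c₀ • (v₀ : σ → K) = e := congrArg Subtype.val hc₀
    have hc₁' : c₁ • (v₀ : σ → K) = n := congrArg Subtype.val hc₁
    have hc0 : c₀ ≠ 0 := by
      intro h0
      rw [h0, zero_smul] at hc₀'
      exact he hc₀'.symm
    refine ⟨c₁ * c₀⁻¹, ?_⟩
    rw [← hc₁', ← hc₀', smul_smul, mul_assoc, inv_mul_cancel₀ hc0, mul_one]
  -- a coordinate functional with `ψ e = 1`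
  obtain ⟨i₀, hi₀⟩ : ∃ i, e i ≠ 0 := by
    by_contra hcon
    push Not at hcon
    exact he (funext hcon)
  set ψ : (σ → K) →ₗ[K] K := (e i₀)⁻¹ • LinearMap.proj i₀ with hψ
  have hψe : ψ e = 1 := by
    simp [hψ, hi₀]
  set φ : (σ → K) →ₗ[K] K :=
    (2 : K)⁻¹ • (ψ.comp (LinearMap.id - Matrix.toLin' A)) with hφ
  refine ⟨φ, ?_, ?_⟩
  · simp only [hφ, LinearMap.smul_apply, LinearMap.comp_apply, LinearMap.sub_apply,
      LinearMap.id_apply, Matrix.toLin'_apply, hAe, sub_neg_eq_add, map_add, hψe, smul_eq_mul]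
    field_simp
    norm_num
  · intro v
    obtain ⟨c, hc⟩ := hspan _ (hmem v)
    have hφv : 2 * φ v = c := by
      simp only [hφ, LinearMap.smul_apply, LinearMap.comp_apply, LinearMap.sub_apply,
        LinearMap.id_apply, Matrix.toLin'_apply, smul_eq_mul]
      rw [hc, map_smul, hψe, smul_eq_mul, mul_one]
      field_simp
    rw [hφv, ← hc]
    abel

end Groth.Agent.Lib.Helper72.CubicForm
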