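/-
Helper72: lines through a point of a cubic surface and the Eckardt functional.
-/
import Mathlib
import Groth.Agent.Lib.Helper72.CubicFormB

set_option autoImplicit false
set_option linter.unusedSectionVars false

open MvPolynomial Finset

namespace Groth.Agent.Lib.Helper72.CubicForm

variable {K : Type*} [Field K] [CharZero K] {σ : Type*} [Fintype σ] [DecidableEq σ]

/-- the plane spanned by `e` and `u` lies on the cubic. -/
def OnLine (f : MvPolynomial σ K) (e u : σ → K) : Prop :=
  ∀ x t : K, eval (x • e + t • u) f = 0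

lemma onLine_iff {f : MvPolynomial σ K} (hf : f.IsHomogeneous 3) (e u : σ → K) :
    OnLine f e u ↔ eval e f = 0 ∧ D f e u = 0 ∧ D f u e = 0 ∧ eval u f = 0 := by
  constructor
  · intro h
    have h10 := h 1 0
    have h01 := h 0 1
    have h11 := h 1 1
    have h1m := h 1 (-1)
    rw [expand hf] at h10 h01 h11 h1m
    have h2 : (2 : K) ≠ 0 := by norm_num
    have he : eval e f = 0 := by simpa using h10
    have hu : eval u f = 0 := by simpa using h01
    rw [he, hu] at h11 h1m
    have a1 : D f e u + D f u e = 0 := by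
      have := h11
      simp only [one_pow, one_mul, mul_one, mul_zero, zero_add, add_zero] at this
      exact this
    have a2 : -D f e u + D f u e = 0 := by
      have := h1m
      simp only [one_pow, one_mul, mul_zero, zero_add, add_zero] at this
      linear_combination this
    refine ⟨he, ?_, ?_, hu⟩
    · have : 2 * D f e u = 0 := by linear_combination a1 - a2
      exact (mul_eq_zero.mp this).resolve_left h2
    · have : 2 * D f u e = 0 := by linear_combination a1 + a2
      exact (mul_eq_zero.mp this).resolve_left h2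
  · rintro ⟨he, h1, h2, hu⟩ x t
    rw [expand hf, he, h1, h2, hu]
    ring

/-- `φ` is the Eckardt functional of the point `e`. -/
def IsEckFun (f : MvPolynomial σ K) (e : σ → K) (φ : (σ → K) →ₗ[K] K) : Prop :=
  φ e = 1 ∧ ∀ v, T f e v v = 4 * D f e v * φ v

lemma T_e_e {f : MvPolynomial σ K} (hf : f.IsHomogeneous 3) (e w : σ → K) :
    T f e e w = 2 * D f e w := (two_D hf e w).symm

lemma IsEckFun.polar {f : MvPolynomial σ K} {e : σ → K} {φ : (σ → K) →ₗ[K] K}
    (h : IsEckFun f e φ) (v w : σ → K) :
    T f e v w = 2 * (D f e v * φ w + D f e w * φ v) := by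
  have h1 := h.2 (v + w)
  have h2 := h.2 v
  have h3 := h.2 w
  simp only [T_add_mid, T_add_right, D_add_right, map_add] at h1
  rw [T_swap23 f e w v] at h1
  have h2' : (2 : K) ≠ 0 := by norm_num
  apply mul_left_cancel₀ h2'
  linear_combination h1 - h2 - h3

/-- the homology of an Eckardt functional preserves the cubic form. -/
theorem IsEckFun.invariant {f : MvPolynomial σ K} (hf : f.IsHomogeneous 3) {e : σ → K}
    {φ : (σ → K) →ₗ[K] K} (h : IsEckFun f e φ) (he : eval e f = 0) (v : σ → K) :
    eval (v - (2 * φ v) • e) f = eval v f := by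
  have h1 : v - (2 * φ v) • e = v + (-(2 * φ v)) • e := by module
  rw [h1, expand_add hf, he]
  have h2 : 2 * D f v e = T f e v v := by
    rw [two_D hf, T_swap13]
  have h3 := h.2 v
  linear_combination (-(φ v)) * h2 - (φ v) * h3

/-- an invariant homology comes from an Eckardt functional. -/
theorem isEckFun_of_invariant {f : MvPolynomial σ K} (hf : f.IsHomogeneous 3) {e : σ → K}
    {φ : (σ → K) →ₗ[K] K} (hφ : φ e = 1) (he : eval e f = 0) (hl : ∃ v, D f e v ≠ 0) (c : K)
    (hinv : ∀ v, eval (v - (2 * φ v) • e) f = c * eval v f) : IsEckFun f e φ := by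
  have h2 : (2 : K) ≠ 0 := by norm_num
  have hDee : D f e e = 0 := by rw [D_self hf, he, mul_zero]
  have hTeee : T f e e e = 0 := by rw [← six_eval hf, he, mul_zero]
  -- the key identity for `h ∈ ker φ` and `x`
  have key : ∀ (h : σ → K), φ h = 0 → ∀ x : K,
      (c - 1) * (x ^ 2 * D f e h + x * (T f e h h / 2) + eval h f) = -x * T f e h h := by
    intro h hh x
    have hv : φ (x • e + h) = x := by
      rw [map_add, map_smul, hφ, hh]
      simp
    have h1 := hinv (x • e + h)
    rw [hv] at h1
    have e1 : x • e + h - (2 * x) • e = (-x) • e + (1 : K) • h := by module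
    have e2 : x • e + h = x • e + (1 : K) • h := by module
    rw [e1, e2, expand hf, expand hf, he] at h1
    have h3 : D f h e = T f e h h / 2 := by
      rw [D_eq hf, T_swap13]
    rw [h3] at h1
    linear_combination (-1 : K) * h1
  -- `c = 1`
  obtain ⟨v₀, hv₀⟩ := hl
  set h₀ := v₀ - (φ v₀) • e with hh₀
  have hφh₀ : φ h₀ = 0 := by
    rw [hh₀, map_sub, map_smul, hφ]
    simp
  have hDh₀ : D f e h₀ ≠ 0 := by
    rw [hh₀, sub_eq_add_neg, D_add_right, ← neg_smul, D_smul_right, hDee, mul_zero, add_zero]
    exact hv₀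
  have hc : c = 1 := by
    have k0 := key h₀ hφh₀ 0
    have k1 := key h₀ hφh₀ 1
    have km := key h₀ hφh₀ (-1)
    have : 2 * ((c - 1) * D f e h₀) = 0 := by linear_combination k1 + km - 2 * k0
    have := (mul_eq_zero.mp ((mul_eq_zero.mp this).resolve_left h2)).resolve_right hDh₀
    exact sub_eq_zero.mp this
  have hTh : ∀ h, φ h = 0 → T f e h h = 0 := by
    intro h hh
    have k1 := key h hh 1
    rw [hc] at k1
    have : (-1 : K) * T f e h h = 0 := by linear_combination -k1
    simpa using this
  refine ⟨hφ, fun v => ?_⟩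
  set h := v - (φ v) • e with hh
  have hφh : φ h = 0 := by
    rw [hh, map_sub, map_smul, hφ]
    simp
  have hv : v = (φ v) • e + h := by rw [hh]; module
  have hTe : T f e e h = 2 * D f e h := T_e_e hf e h
  have hDv : D f e v = D f e h := by
    conv_lhs => rw [hv]
    rw [D_add_right, D_smul_right, hDee, mul_zero, zero_add]
  rw [hDv]
  conv_lhs => rw [hv]
  simp only [T_add_mid, T_add_right, T_smul_mid, T_smul_right]
  rw [hTeee, hTh h hφh, T_swap23 f e h e, hTe]
  ring

/-- uniqueness of the Eckardt functional at a smooth point. -/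
theorem IsEckFun.unique {f : MvPolynomial σ K} {e : σ → K} {φ φ' : (σ → K) →ₗ[K] K}
    (h : IsEckFun f e φ) (h' : IsEckFun f e φ') (hl : ∃ v, D f e v ≠ 0) : φ = φ' := by
  have h4 : (4 : K) ≠ 0 := by norm_num
  have hprod : ∀ v, D f e v * (φ v - φ' v) = 0 := by
    intro v
    have h1 := h.2 v
    have h2 := h'.2 v
    apply mul_left_cancel₀ h4
    linear_combination h2 - h1
  obtain ⟨v₀, hv₀⟩ := hl
  have h0 : φ v₀ - φ' v₀ = 0 := (mul_eq_zero.mp (hprod v₀)).resolve_left hv₀
  apply LinearMap.ext
  intro v
  by_cases hv : D f e v = 0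
  · have h1 := hprod (v + v₀)
    rw [D_add_right, hv, zero_add, map_add, map_add] at h1
    have := (mul_eq_zero.mp h1).resolve_left hv₀
    linear_combination this - h0
  · have := (mul_eq_zero.mp (hprod v)).resolve_left hv
    exact sub_eq_zero.mp this

/-- `T f e v` as a linear functional of the last variable. -/
noncomputable def Tlin (f : MvPolynomial σ K) (u v : σ → K) : (σ → K) →ₗ[K] K where
  toFun := T f u v
  map_add' := T_add_right f u v
  map_smul' := fun s w => by rw [T_smul_right]; rfl

@[simp] lemma Tlin_apply (f : MvPolynomial σ K) (u v w : σ → K) : Tlin f u v w = T f u v w := rfl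

/-- if the polar quadric of `e` vanishes on the tangent hyperplane, `e` has an Eckardt functional. -/
theorem exists_isEckFun_of_vanish {f : MvPolynomial σ K} (hf : f.IsHomogeneous 3) {e : σ → K}
    (he : eval e f = 0) (hl : ∃ v, D f e v ≠ 0)
    (hQ : ∀ w, D f e w = 0 → T f e w w = 0) : ∃ φ, IsEckFun f e φ := by
  obtain ⟨v₁, hv₁⟩ := hl
  set vs := (D f e v₁)⁻¹ • v₁ with hvs
  have hlvs : D f e vs = 1 := by
    rw [hvs, D_smul_right, inv_mul_cancel₀ hv₁]
  set φ : (σ → K) →ₗ[K] K :=
    (4 : K)⁻¹ • ((2 : K) • Tlin f e vs - (T f e vs vs) • Dlin f e) with hφ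
  have hDee : D f e e = 0 := by rw [D_self hf, he, mul_zero]
  have key : ∀ v, T f e v v = D f e v * (2 * T f e vs v - D f e v * T f e vs vs) := by
    intro v
    set w := v - (D f e v) • vs with hw
    have hlw : D f e w = 0 := by
      rw [hw, sub_eq_add_neg, D_add_right, ← neg_smul, D_smul_right, hlvs]
      ring
    have hQw := hQ w hlw
    have hv : v = (D f e v) • vs + w := by rw [hw]; module
    have e1 : T f e vs w = T f e vs v - D f e v * T f e vs vs := by
      rw [hw, sub_eq_add_neg, T_add_right, ← neg_smul, T_smul_right]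
      ring
    conv_lhs => rw [hv]
    simp only [T_add_mid, T_add_right, T_smul_mid, T_smul_right]
    rw [hQw, T_swap23 f e w vs, e1]
    ring
  refine ⟨φ, ?_, fun v => ?_⟩
  · simp only [hφ, LinearMap.smul_apply, LinearMap.sub_apply, Tlin_apply, Dlin_apply,
      smul_eq_mul, hDee, mul_zero, sub_zero]
    rw [T_swap23, T_e_e hf, hlvs]
    norm_num
  · rw [key v]
    simp only [hφ, LinearMap.smul_apply, LinearMap.sub_apply, Tlin_apply, Dlin_apply,
      smul_eq_mul]
    field_simp

end Groth.Agent.Lib.Helper72.CubicForm
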