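/-
Helper72: cubic surfaces in `P^3` (forms in four variables): Eckardt points and their
functionals / involutions.
-/
import Mathlib
import Groth.Agent.Lib.Helper72.CubicFormC

set_option autoImplicit false
set_option linter.unusedSectionVars false

open MvPolynomial Finset

namespace Groth.Agent.Lib.Helper72.CubicForm

variable {K : Type*} [Field K] [CharZero K]

/-- the Eckardt condition as it is written in the statements. -/
def IsEck (f : MvPolynomial (Fin 4) K) (e : Fin 4 → K) : Prop :=
  ∃ U : Fin 3 → Submodule K (Fin 4 → K), Function.Injective U ∧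
    ∀ i : Fin 3, Module.finrank K ↥(U i) = 2 ∧ e ∈ U i ∧ ∀ u ∈ U i, eval u f = 0

/-- smoothness as it is written in the statements. -/
def IsSmooth (f : MvPolynomial (Fin 4) K) : Prop :=
  ∀ v : Fin 4 → K, v ≠ 0 → eval v f = 0 → ∃ i : Fin 4, eval v (pderiv i f) ≠ 0

lemma IsSmooth.exists_D_ne {f : MvPolynomial (Fin 4) K} (hsm : IsSmooth f) {v : Fin 4 → K}
    (hv : v ≠ 0) (hfv : eval v f = 0) : ∃ w, D f v w ≠ 0 := by
  obtain ⟨i, hi⟩ := hsm v hv hfv
  exact ⟨Pi.single i 1, by rwa [D_single]⟩

section general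

variable {σ : Type*} [Fintype σ] [DecidableEq σ]

lemma finrank_ker_functional (l : (σ → K) →ₗ[K] K) (hl : ∃ v, l v ≠ 0) :
    Module.finrank K (LinearMap.ker l) + 1 = Fintype.card σ := by
  obtain ⟨v, hv⟩ := hl
  have hsurj : Function.Surjective l := by
    intro c
    refine ⟨(c * (l v)⁻¹) • v, ?_⟩
    rw [map_smul, smul_eq_mul, mul_assoc, inv_mul_cancel₀ hv, mul_one]
  have h := LinearMap.finrank_range_add_finrank_ker l
  rw [LinearMap.range_eq_top.mpr hsurj, finrank_top, Module.finrank_self,
    Module.finrank_fintype_fun_eq_card] at h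
  omega

lemma mem_span_pair_range {e u v : σ → K} :
    v ∈ Submodule.span K (Set.range ![e, u]) ↔ ∃ a b : K, a • e + b • u = v := by
  rw [Matrix.range_cons, Matrix.range_cons, Matrix.range_empty, Set.union_empty,
    Set.singleton_union, Submodule.mem_span_pair]

lemma linearIndependent_pair_of_not_mem {e u : σ → K} (he : e ≠ 0)
    (hu : u ∉ Submodule.span K ({e} : Set (σ → K))) : LinearIndependent K ![e, u] := by
  rw [LinearIndependent.pair_iff]
  intro s t hst
  by_cases ht : t = 0
  · subst ht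
    rw [zero_smul, add_zero] at hst
    exact ⟨(smul_eq_zero.mp hst).resolve_right he, rfl⟩
  · exfalso
    apply hu
    rw [Submodule.mem_span_singleton]
    refine ⟨-(t⁻¹ * s), ?_⟩
    have : t • u = -(s • e) := by
      rw [eq_neg_iff_add_eq_zero, add_comm]; exact hst
    calc (-(t⁻¹ * s)) • e = t⁻¹ • (-(s • e)) := by rw [smul_neg, neg_smul, mul_smul]
      _ = t⁻¹ • (t • u) := by rw [this]
      _ = u := by rw [smul_smul, inv_mul_cancel₀ ht, one_smul]

/-- a plane through `e` is spanned by `e` and a second vector. -/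
lemma exists_dir (U : Submodule K (σ → K)) (hU : Module.finrank K U = 2) {e : σ → K}
    (he : e ≠ 0) (heU : e ∈ U) :
    ∃ u, u ∉ Submodule.span K ({e} : Set (σ → K)) ∧ U = Submodule.span K (Set.range ![e, u]) := by
  have hex : ∃ u ∈ U, u ∉ Submodule.span K ({e} : Set (σ → K)) := by
    by_contra hcon
    push Not at hcon
    have hle : U ≤ Submodule.span K ({e} : Set (σ → K)) := fun u hu => hcon u hu
    have h1 := Submodule.finrank_mono hle
    have h2 : Module.finrank K (Submodule.span K ({e} : Set (σ → K))) ≤ 1 := by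
      have := finrank_span_le_card (R := K) ({e} : Set (σ → K))
      simpa using this
    omega
  obtain ⟨u, huU, hu⟩ := hex
  refine ⟨u, hu, ?_⟩
  have hli := linearIndependent_pair_of_not_mem he hu
  have hle : Submodule.span K (Set.range ![e, u]) ≤ U := by
    rw [Submodule.span_le]
    rintro _ ⟨i, rfl⟩
    fin_cases i
    · exact heU
    · exact huU
  have hfr : Module.finrank K (Submodule.span K (Set.range ![e, u])) = 2 := by
    rw [finrank_span_eq_card hli]
    simp
  exact (Submodule.eq_of_le_of_finrank_eq hle (by rw [hfr, hU])).symm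

lemma onLine_of_span {f : MvPolynomial σ K} {e u : σ → K}
    (h : ∀ v ∈ Submodule.span K (Set.range ![e, u]), eval v f = 0) : OnLine f e u := by
  intro x t
  apply h
  rw [mem_span_pair_range]
  exact ⟨x, t, rfl⟩

end general

/-- three lines through a smooth point force the polar quadric to vanish on the tangent plane. -/
theorem three_lines_vanish {f : MvPolynomial (Fin 4) K} (hf : f.IsHomogeneous 3)
    {e : Fin 4 → K} (he0 : e ≠ 0) (hl : ∃ v, D f e v ≠ 0) (u₁ u₂ u₃ : Fin 4 → K)
    (h₁ : OnLine f e u₁) (h₂ : OnLine f e u₂) (h₃ : OnLine f e u₃)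
    (n₁ : u₁ ∉ Submodule.span K ({e} : Set (Fin 4 → K)))
    (n₂₁ : u₂ ∉ Submodule.span K (Set.range ![e, u₁]))
    (n₃₁ : u₃ ∉ Submodule.span K (Set.range ![e, u₁]))
    (n₃₂ : u₃ ∉ Submodule.span K (Set.range ![e, u₂])) :
    ∀ w, D f e w = 0 → T f e w w = 0 := by
  obtain ⟨he, a1, b1, c1⟩ := (onLine_iff hf e u₁).mp h₁
  obtain ⟨-, a2, b2, c2⟩ := (onLine_iff hf e u₂).mp h₂
  obtain ⟨-, a3, b3, c3⟩ := (onLine_iff hf e u₃).mp h₃
  have h2 : (2 : K) ≠ 0 := by norm_num
  have hDee : D f e e = 0 := by rw [D_self hf, he, mul_zero]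
  have hTeee : T f e e e = 0 := by rw [← six_eval hf, he, mul_zero]
  have hTee : ∀ w, D f e w = 0 → T f e e w = 0 := by
    intro w hw
    rw [T_e_e hf, hw, mul_zero]
  have hQ : ∀ u, D f u e = 0 → T f e u u = 0 := by
    intro u hu
    rw [T_swap13, ← two_D hf, hu, mul_zero]
  -- linear independence of `u₂, u₁, e`
  have hli2 : LinearIndependent K ![e, u₁] := linearIndependent_pair_of_not_mem he0 n₁
  have hli : LinearIndependent K ![u₂, e, u₁] := by
    have : (![u₂, e, u₁] : Fin 3 → Fin 4 → K) = Fin.cons u₂ ![e, u₁] := rfl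
    rw [this, linearIndependent_finCons]
    exact ⟨hli2, n₂₁⟩
  -- the span is the tangent hyperplane
  have hker : Module.finrank K (LinearMap.ker (Dlin f e)) + 1 = Fintype.card (Fin 4) :=
    finrank_ker_functional (Dlin f e) hl
  have hle : Submodule.span K (Set.range ![u₂, e, u₁]) ≤ LinearMap.ker (Dlin f e) := by
    rw [Submodule.span_le]
    rintro _ ⟨i, rfl⟩
    rw [SetLike.mem_coe, LinearMap.mem_ker, Dlin_apply]
    fin_cases i
    · exact a2
    · exact hDee
    · exact a1
  have hfr : Module.finrank K (Submodule.span K (Set.range ![u₂, e, u₁])) = 3 := by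
    rw [finrank_span_eq_card hli]
    simp
  have heq : Submodule.span K (Set.range ![u₂, e, u₁]) = LinearMap.ker (Dlin f e) := by
    apply Submodule.eq_of_le_of_finrank_eq hle
    rw [hfr]
    simp at hker
    omega
  have hdecomp : ∀ w, D f e w = 0 → ∃ α β γ : K, w = γ • e + α • u₁ + β • u₂ := by
    intro w hw
    have : w ∈ Submodule.span K (Set.range ![u₂, e, u₁]) := by
      rw [heq, LinearMap.mem_ker, Dlin_apply]
      exact hw
    obtain ⟨c, hc⟩ := (Submodule.mem_span_range_iff_exists_fun K).mp this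
    rw [Fin.sum_univ_three] at hc
    refine ⟨c 2, c 0, c 1, ?_⟩
    rw [← hc]
    simp
    abel
  have hform : ∀ α β γ : K, T f e (γ • e + α • u₁ + β • u₂) (γ • e + α • u₁ + β • u₂) =
      2 * α * β * T f e u₁ u₂ := by
    intro α β γ
    simp only [T_add_mid, T_add_right, T_smul_mid, T_smul_right]
    rw [hTeee, hTee u₁ a1, hTee u₂ a2, T_swap23 f e u₁ e, T_swap23 f e u₂ e, hTee u₁ a1,
      hTee u₂ a2, hQ u₁ b1, hQ u₂ b2, T_swap23 f e u₂ u₁]
    ring
  -- use the third line
  obtain ⟨α, β, γ, h3⟩ := hdecomp u₃ a3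
  have hα : α ≠ 0 := by
    intro h0
    apply n₃₂
    rw [mem_span_pair_range]
    exact ⟨γ, β, by rw [h3, h0]; module⟩
  have hβ : β ≠ 0 := by
    intro h0
    apply n₃₁
    rw [mem_span_pair_range]
    exact ⟨γ, α, by rw [h3, h0]; module⟩
  have hB : T f e u₁ u₂ = 0 := by
    have := hform α β γ
    rw [← h3, hQ u₃ b3] at this
    have h4 : 2 * α * β ≠ 0 := mul_ne_zero (mul_ne_zero h2 hα) hβ
    exact (mul_eq_zero.mp this.symm).resolve_left h4
  intro w hw
  obtain ⟨α', β', γ', hw'⟩ := hdecomp w hw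
  rw [hw', hform, hB, mul_zero]

/-- an Eckardt point of a smooth cubic surface has an Eckardt functional. -/
theorem IsEck.exists_isEckFun {f : MvPolynomial (Fin 4) K} (hf : f.IsHomogeneous 3)
    (hsm : IsSmooth f) {e : Fin 4 → K} (he0 : e ≠ 0) (hE : IsEck f e) :
    eval e f = 0 ∧ ∃ φ, IsEckFun f e φ := by
  obtain ⟨U, hinj, hU⟩ := hE
  have he : eval e f = 0 := (hU 0).2.2 e (hU 0).2.1
  have hl := hsm.exists_D_ne he0 he
  refine ⟨he, ?_⟩
  choose u hu1 hu2 using fun i => exists_dir (U i) (hU i).1 he0 (hU i).2.1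
  have hon : ∀ i, OnLine f e (u i) := fun i =>
    onLine_of_span (fun v hv => (hU i).2.2 v (by rw [hu2 i]; exact hv))
  have hne : ∀ i j, i ≠ j → u i ∉ Submodule.span K (Set.range ![e, u j]) := by
    intro i j hij hmem
    apply hij
    apply hinj
    have hle : U i ≤ U j := by
      rw [hu2 i, hu2 j, Submodule.span_le]
      rintro _ ⟨k, rfl⟩
      fin_cases k
      · exact Submodule.subset_span ⟨0, rfl⟩
      · exact hmem
    exact Submodule.eq_of_le_of_finrank_eq hle (by rw [(hU i).1, (hU j).1])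
  apply exists_isEckFun_of_vanish hf he hl
  exact three_lines_vanish hf he0 hl (u 0) (u 1) (u 2) (hon 0) (hon 1) (hon 2) (hu1 0)
    (hne 1 0 (by decide)) (hne 2 0 (by decide)) (hne 2 1 (by decide))

/-- building the Eckardt condition from three directions. -/
theorem isEck_of_dirs {f : MvPolynomial (Fin 4) K} {e : Fin 4 → K} (he0 : e ≠ 0)
    (w : Fin 3 → Fin 4 → K) (hon : ∀ i, OnLine f e (w i))
    (h1 : ∀ i, w i ∉ Submodule.span K ({e} : Set (Fin 4 → K)))
    (h2 : ∀ i j, i ≠ j → w i ∉ Submodule.span K (Set.range ![e, w j])) : IsEck f e := by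
  refine ⟨fun i => Submodule.span K (Set.range ![e, w i]), ?_, fun i => ⟨?_, ?_, ?_⟩⟩
  · intro i j hij
    by_contra hne
    apply h2 i j hne
    have : w i ∈ Submodule.span K (Set.range ![e, w i]) := Submodule.subset_span ⟨1, rfl⟩
    have hij' : Submodule.span K (Set.range ![e, w i]) = Submodule.span K (Set.range ![e, w j]) :=
      hij
    rw [hij'] at this
    exact this
  · rw [finrank_span_eq_card (linearIndependent_pair_of_not_mem he0 (h1 i))]
    simp
  · exact Submodule.subset_span ⟨0, rfl⟩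
  · intro v hv
    obtain ⟨a, b, rfl⟩ := mem_span_pair_range.mp hv
    exact hon i a b

end Groth.Agent.Lib.Helper72.CubicForm
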