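/-
Helper72: Eckardt involutions of a smooth cubic surface.
-/
import Mathlib
import Groth.Agent.Lib.Helper72.CubicFormD

set_option autoImplicit false
set_option linter.unusedSectionVars false

open MvPolynomial Finset

namespace Groth.Agent.Lib.Helper72.CubicForm

variable {K : Type*} [Field K] [CharZero K]

/-- the Eckardt involution condition as it is written in the statements. -/
def IsEckInv (f : MvPolynomial (Fin 4) K) (e : Fin 4 → K) (A : Matrix (Fin 4) (Fin 4) K) : Prop :=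
  A * A = 1 ∧ Module.finrank K ↥(LinearMap.ker (Matrix.toLin' A - LinearMap.id)) = 3 ∧
    A.mulVec e = -e ∧ ∃ c : K, aeval (fun i : Fin 4 => ∑ j : Fin 4, C (A i j) * X j) f = C c * f

theorem isEckInv_iff {f : MvPolynomial (Fin 4) K} (hf : f.IsHomogeneous 3) {e : Fin 4 → K}
    (he0 : e ≠ 0) (he : eval e f = 0) (hl : ∃ v, D f e v ≠ 0) (A : Matrix (Fin 4) (Fin 4) K) :
    IsEckInv f e A ↔ ∃ φ, IsEckFun f e φ ∧ A = homMat φ e := by
  constructor
  · rintro ⟨hA2, hfix, hAe, c, hc⟩
    obtain ⟨φ, hφe, hφ⟩ := hom_struct A hA2 (by rw [hfix]; simp) e he0 hAe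
    refine ⟨φ, ?_, ?_⟩
    · apply isEckFun_of_invariant hf hφe he hl c
      intro v
      rw [← hφ v]
      exact eval_of_subst_eq A f c hc v
    · rw [Matrix.ext_iff_mulVec]
      intro v
      rw [hφ v, homMat_mulVec]
  · rintro ⟨φ, hφ, rfl⟩
    refine ⟨homMat_mul_self φ e hφ.1, ?_, homMat_mulVec_self φ e hφ.1, 1, ?_⟩
    · have := finrank_ker_homMat φ e hφ.1
      simp at this
      omega
    · apply subst_eq_of_eval
      intro v
      rw [homMat_mulVec, hφ.invariant hf he, one_mul]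

/-- existence and uniqueness of the Eckardt involution. -/
theorem existsUnique_isEckInv {f : MvPolynomial (Fin 4) K} (hf : f.IsHomogeneous 3)
    (hsm : IsSmooth f) {e : Fin 4 → K} (he0 : e ≠ 0) (hE : IsEck f e) :
    ∃! A : Matrix (Fin 4) (Fin 4) K, IsEckInv f e A := by
  obtain ⟨he, φ, hφ⟩ := hE.exists_isEckFun hf hsm he0
  have hl := hsm.exists_D_ne he0 he
  refine ⟨homMat φ e, (isEckInv_iff hf he0 he hl _).mpr ⟨φ, hφ, rfl⟩, ?_⟩
  intro A hA
  obtain ⟨φ', hφ', rfl⟩ := (isEckInv_iff hf he0 he hl A).mp hA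
  rw [hφ'.unique hφ hl]

end Groth.Agent.Lib.Helper72.CubicForm
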