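/-
Helper72: a point with an Eckardt functional on a smooth cubic surface over an algebraically
closed field is an Eckardt point (three distinct lines through it).
-/
import Mathlib
import Groth.Agent.Lib.Helper72.CubicFormE

set_option autoImplicit false
set_option linter.unusedSectionVars false

namespace Groth.Agent.Lib.Helper72.CubicForm

open Polynomial in
theorem cubic_three_roots {K : Type*} [Field K] [IsAlgClosed K] (a b c d : K) (ha : a ≠ 0)
    (hs : ∀ t : K, a * t ^ 3 + b * t ^ 2 + c * t + d = 0 → 3 * a * t ^ 2 + 2 * b * t + c ≠ 0) :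
    ∃ t₁ t₂ t₃ : K, t₁ ≠ t₂ ∧ t₁ ≠ t₃ ∧ t₂ ≠ t₃ ∧
      a * t₁ ^ 3 + b * t₁ ^ 2 + c * t₁ + d = 0 ∧ a * t₂ ^ 3 + b * t₂ ^ 2 + c * t₂ + d = 0 ∧
      a * t₃ ^ 3 + b * t₃ ^ 2 + c * t₃ + d = 0 := by
  classical
  set P : K[X] := C a * X ^ 3 + C b * X ^ 2 + C c * X + C d with hP
  have hdeg : P.natDegree = 3 := natDegree_cubic ha
  have hP0 : P ≠ 0 := by
    intro h
    rw [h, natDegree_zero] at hdeg
    exact absurd hdeg (by norm_num)
  have hev : ∀ t, P.eval t = a * t ^ 3 + b * t ^ 2 + c * t + d := by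
    intro t; simp [hP]
  have hdev : ∀ t, (derivative P).eval t = 3 * a * t ^ 2 + 2 * b * t + c := by
    intro t
    simp [hP]
    ring
  have hcard : P.roots.card = 3 := by
    rw [IsAlgClosed.card_roots_eq_natDegree, hdeg]
  have hnodup : P.roots.Nodup := by
    rw [Multiset.nodup_iff_count_le_one]
    intro t
    rw [count_roots]
    by_contra hcon
    push Not at hcon
    obtain ⟨h1, h2⟩ := (one_lt_rootMultiplicity_iff_isRoot hP0).mp hcon
    rw [IsRoot.def, hev] at h1
    rw [IsRoot.def, hdev] at h2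
    exact hs t h1 h2
  obtain ⟨x, y, z, hxyz⟩ := Multiset.card_eq_three.mp hcard
  have hmem : ∀ t ∈ P.roots, a * t ^ 3 + b * t ^ 2 + c * t + d = 0 := by
    intro t ht
    rw [← hev]
    exact (mem_roots hP0).mp ht
  rw [hxyz] at hnodup hmem
  simp only [Multiset.insert_eq_cons, Multiset.nodup_cons, Multiset.mem_cons,
    Multiset.mem_singleton, Multiset.nodup_singleton, not_or] at hnodup
  refine ⟨x, y, z, hnodup.1.1, hnodup.1.2, hnodup.2.1, hmem x (by simp), hmem y (by simp),
    hmem z (by simp)⟩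

end Groth.Agent.Lib.Helper72.CubicForm

open MvPolynomial Finset

namespace Groth.Agent.Lib.Helper72.CubicForm

variable {K : Type*} [Field K] [CharZero K]

/-- the common kernel of two independent functionals on `K^4` is a plane: a nonzero vector of it
extends to a basis. -/
theorem exists_basis_inf_ker (φ l : (Fin 4 → K) →ₗ[K] K) (e v' : Fin 4 → K)
    (h1 : φ e = 1) (h2 : l e = 0) (h3 : φ v' = 0) (h4 : l v' = 1)
    (w₁ : Fin 4 → K) (hw0 : w₁ ≠ 0) (hwφ : φ w₁ = 0) (hwl : l w₁ = 0) :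
    ∃ w₂ : Fin 4 → K, φ w₂ = 0 ∧ l w₂ = 0 ∧ LinearIndependent K ![w₁, w₂] ∧
      ∀ z, φ z = 0 → l z = 0 → ∃ α β : K, z = α • w₁ + β • w₂ := by
  have hsurj : Function.Surjective (φ.prod l) := by
    rintro ⟨a, b⟩
    refine ⟨a • e + b • v', ?_⟩
    simp [h1, h2, h3, h4]
  have hfr0 : Module.finrank K (LinearMap.ker (φ.prod l)) = 2 := by
    have h := LinearMap.finrank_range_add_finrank_ker (φ.prod l)
    rw [LinearMap.range_eq_top.mpr hsurj, finrank_top, Module.finrank_prod, Module.finrank_self,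
      Module.finrank_fintype_fun_eq_card] at h
    simp at h
    omega
  have hmemW0 : ∀ z, z ∈ LinearMap.ker (φ.prod l) ↔ φ z = 0 ∧ l z = 0 := by
    intro z
    rw [LinearMap.mem_ker, LinearMap.prod_apply]
    simp [Prod.ext_iff]
  set W : Submodule K (Fin 4 → K) := LinearMap.ker (φ.prod l) with hW
  have hfr : Module.finrank K W = 2 := hfr0
  have hmemW : ∀ z, z ∈ W ↔ φ z = 0 ∧ l z = 0 := hmemW0
  set x : W := ⟨w₁, (hmemW w₁).mpr ⟨hwφ, hwl⟩⟩ with hx
  have hx0 : x ≠ 0 := by
    intro h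
    apply hw0
    exact congrArg Subtype.val h
  obtain ⟨y, hy⟩ := exists_linearIndependent_pair_of_one_lt_finrank (by rw [hfr]; norm_num) hx0
  have hspan := hy.span_eq_top_of_card_eq_finrank' (by rw [hfr]; simp)
  have hyW := (hmemW y.1).mp y.2
  refine ⟨y.1, hyW.1, hyW.2, ?_, ?_⟩
  · have := hy.map' W.subtype (Submodule.ker_subtype W)
    have h5 : (⇑W.subtype ∘ ![x, y]) = ![w₁, y.1] := by
      funext i
      fin_cases i <;> rfl
    rw [h5] at this
    exact this
  · intro z hz1 hz2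
    have hz : (⟨z, (hmemW z).mpr ⟨hz1, hz2⟩⟩ : W) ∈ Submodule.span K (Set.range ![x, y]) := by
      rw [hspan]; exact Submodule.mem_top
    rw [Matrix.range_cons, Matrix.range_cons, Matrix.range_empty, Set.union_empty,
      Set.singleton_union, Submodule.mem_span_pair] at hz
    obtain ⟨α, β, hαβ⟩ := hz
    refine ⟨α, β, ?_⟩
    have := congrArg Subtype.val hαβ
    simpa [hx] using this.symm

end Groth.Agent.Lib.Helper72.CubicForm
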