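/-
Helper72: a point with an Eckardt functional on a smooth cubic surface over an algebraically
closed field is an Eckardt point.
-/
import Mathlib
import Groth.Agent.Lib.Helper72.CubicFormF

set_option autoImplicit false
set_option linter.unusedSectionVars false

open MvPolynomial Finset

namespace Groth.Agent.Lib.Helper72.CubicForm

variable {K : Type*} [Field K] [CharZero K]

/-- on the common kernel `W` of `φ` and the tangent functional, a vector spans a line of the
surface with `e` iff it is a zero of the cubic. -/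
lemma onLine_of_mem_W {f : MvPolynomial (Fin 4) K} (hf : f.IsHomogeneous 3) {e : Fin 4 → K}
    {φ : (Fin 4 → K) →ₗ[K] K} (hφ : IsEckFun f e φ) (he : eval e f = 0) {w : Fin 4 → K}
    (h1 : φ w = 0) (h2 : D f e w = 0) (h3 : eval w f = 0) : OnLine f e w := by
  rw [onLine_iff hf]
  refine ⟨he, h2, ?_, h3⟩
  rw [D_eq hf, T_swap13, hφ.2 w, h1]
  ring

/-- simple zeros: a zero of the cubic in `W` at which the derivative vanishes along `W` would give
a singular point. -/
theorem simple_zero {f : MvPolynomial (Fin 4) K} [IsAlgClosed K] (hf : f.IsHomogeneous 3)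
    (hsm : IsSmooth f) {e : Fin 4 → K} {φ : (Fin 4 → K) →ₗ[K] K} (hφ : IsEckFun f e φ)
    (he : eval e f = 0) (hl : ∃ v, D f e v ≠ 0) {w₀ : Fin 4 → K} (hw0 : w₀ ≠ 0)
    (h1 : φ w₀ = 0) (h2 : D f e w₀ = 0) (h3 : eval w₀ f = 0)
    (hd : ∀ w, φ w = 0 → D f e w = 0 → D f w₀ w = 0) : False := by
  have hDee : D f e e = 0 := by rw [D_self hf, he, mul_zero]
  obtain ⟨v₁, hv₁⟩ := hl
  -- a vector `v'` with `φ v' = 0`, `l v' = 1`
  set v' := (D f e v₁)⁻¹ • (v₁ - (φ v₁) • e) with hv'
  have hφv' : φ v' = 0 := by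
    rw [hv', map_smul, map_sub, map_smul, hφ.1]
    simp
  have hlv' : D f e v' = 1 := by
    rw [hv', D_smul_right, sub_eq_add_neg, D_add_right, ← neg_smul, D_smul_right, hDee, mul_zero,
      add_zero, inv_mul_cancel₀ hv₁]
  have hDw₀e : D f w₀ e = 0 := by
    rw [D_eq hf, T_swap13, hφ.2 w₀, h1]
    ring
  -- the gradient at `w₀` is a multiple of the tangent functional
  have hgrad : ∀ z, D f w₀ z = D f e z * D f w₀ v' := by
    intro z
    set z₀ := z - (φ z) • e - (D f e z) • v' with hz₀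
    have hz₀φ : φ z₀ = 0 := by
      rw [hz₀, map_sub, map_sub, map_smul, map_smul, hφ.1, hφv']
      simp
    have hz₀l : D f e z₀ = 0 := by
      rw [hz₀, sub_eq_add_neg, sub_eq_add_neg, D_add_right, D_add_right, ← neg_smul, ← neg_smul,
        D_smul_right, D_smul_right, hDee, hlv']
      ring
    have hz : z = z₀ + (φ z) • e + (D f e z) • v' := by rw [hz₀]; module
    conv_lhs => rw [hz]
    rw [D_add_right, D_add_right, D_smul_right, D_smul_right, hd z₀ hz₀φ hz₀l, hDw₀e]
    ring
  obtain ⟨x, hx⟩ := IsAlgClosed.exists_pow_nat_eq (-(D f w₀ v')) (n := 2) (by norm_num)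
  set v := x • e + w₀ with hv
  have hv0 : v ≠ 0 := by
    intro h0
    have hφv : φ v = x := by
      rw [hv, map_add, map_smul, hφ.1, h1]
      simp
    rw [h0, map_zero] at hφv
    apply hw0
    rw [hv, ← hφv, zero_smul, zero_add] at h0
    exact h0
  have hFv : eval v f = 0 := by
    have : v = x • e + (1 : K) • w₀ := by rw [hv, one_smul]
    rw [this, expand hf, he, h2, hDw₀e, h3]
    ring
  have hDv : ∀ z, D f v z = 0 := by
    intro z
    rw [hv, D_add_left hf, D_smul_left hf, hgrad z, T_smul_left, hφ.polar, h1, h2]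
    linear_combination (D f e z) * hx
  obtain ⟨i, hi⟩ := hsm v hv0 hFv
  exact hi (pderiv_eq_zero_of_D f v hDv i)

/-- if `F` vanishes on a subspace then `D` vanishes on it. -/
lemma D_eq_zero_of_vanish {σ : Type*} [Fintype σ] [DecidableEq σ] {f : MvPolynomial σ K}
    (hf : f.IsHomogeneous 3) (u w : σ → K)
    (h : ∀ t : K, eval (u + t • w) f = 0) : D f u w = 0 := by
  have h0 := h 0
  have h1 := h 1
  have hm := h (-1)
  have h2 := h 2
  rw [expand_add hf] at h0 h1 hm h2
  have e0 : eval u f = 0 := by simpa using h0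
  rw [e0] at h1 hm h2
  have h6 : (6 : K) ≠ 0 := by norm_num
  have : 6 * D f u w = 0 := by linear_combination 6 * h1 - 2 * hm - h2
  exact (mul_eq_zero.mp this).resolve_left h6

/-- the main theorem: an Eckardt functional produces three distinct lines. -/
theorem isEck_of_isEckFun {f : MvPolynomial (Fin 4) K} [IsAlgClosed K] (hf : f.IsHomogeneous 3)
    (hsm : IsSmooth f) {e : Fin 4 → K} (he0 : e ≠ 0) (he : eval e f = 0)
    {φ : (Fin 4 → K) →ₗ[K] K} (hφ : IsEckFun f e φ) : IsEck f e := by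
  have hl := hsm.exists_D_ne he0 he
  have hDee : D f e e = 0 := by rw [D_self hf, he, mul_zero]
  obtain ⟨v₁, hv₁⟩ := hl
  set v' := (D f e v₁)⁻¹ • (v₁ - (φ v₁) • e) with hv'
  have hφv' : φ v' = 0 := by
    rw [hv', map_smul, map_sub, map_smul, hφ.1]
    simp
  have hlv' : D f e v' = 1 := by
    rw [hv', D_smul_right, sub_eq_add_neg, D_add_right, ← neg_smul, D_smul_right, hDee, mul_zero,
      add_zero, inv_mul_cancel₀ hv₁]
  have hl : ∃ v, D f e v ≠ 0 := ⟨v₁, hv₁⟩
  -- a vector of `W` where `F` does not vanish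
  obtain ⟨w₁, hw₁φ, hw₁l, hFw₁⟩ : ∃ w₁, φ w₁ = 0 ∧ D f e w₁ = 0 ∧ eval w₁ f ≠ 0 := by
    by_contra hcon
    push Not at hcon
    -- a nonzero vector of `W`: use `exists_basis_inf_ker` needs one; build from dimension
    have hsurj : Function.Surjective (φ.prod (Dlin f e)) := by
      rintro ⟨a, b⟩
      refine ⟨a • e + b • v', ?_⟩
      simp [hφ.1, hφv', D_add_right, D_smul_right, hlv', hDee]
    have hfr0 : Module.finrank K (LinearMap.ker (φ.prod (Dlin f e))) = 2 := by
      have h := LinearMap.finrank_range_add_finrank_ker (φ.prod (Dlin f e))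
      rw [LinearMap.range_eq_top.mpr hsurj, finrank_top, Module.finrank_prod,
        Module.finrank_self, Module.finrank_fintype_fun_eq_card] at h
      simp at h
      omega
    have hpos : 0 < Module.finrank K (LinearMap.ker (φ.prod (Dlin f e))) := by
      rw [hfr0]; norm_num
    obtain ⟨w₀, hw₀⟩ := Module.finrank_pos_iff_exists_ne_zero.mp hpos
    have hmem := w₀.2
    rw [LinearMap.mem_ker, LinearMap.prod_apply] at hmem
    simp [Prod.ext_iff] at hmem
    have hw₀' : (w₀ : Fin 4 → K) ≠ 0 := fun h => hw₀ (Subtype.ext h)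
    apply simple_zero hf hsm hφ he hl hw₀' hmem.1 hmem.2 (hcon _ hmem.1 hmem.2)
    intro w hw1 hw2
    apply D_eq_zero_of_vanish hf
    intro t
    apply hcon
    · rw [map_add, map_smul, hmem.1, hw1]; simp
    · rw [D_add_right, D_smul_right, hmem.2, hw2]; simp
  have hw₁0 : w₁ ≠ 0 := by
    intro h0
    apply hFw₁
    rw [h0]
    have := eval_smul hf (0 : K) (0 : Fin 4 → K)
    simpa using this
  obtain ⟨w₂, hw₂φ, hw₂l, hli, hspan⟩ := exists_basis_inf_ker φ (Dlin f e) e v' hφ.1
    (by rw [Dlin_apply]; exact hDee) hφv' (by rw [Dlin_apply]; exact hlv') w₁ hw₁0 hw₁φ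
    (by rw [Dlin_apply]; exact hw₁l)
  rw [Dlin_apply] at hw₂l
  have hli' := LinearIndependent.pair_iff.mp hli
  -- the cubic along `t ↦ t w₁ + w₂`
  set a := eval w₁ f with ha
  set b := D f w₁ w₂ with hb
  set c := D f w₂ w₁ with hc
  set d := eval w₂ f with hd
  have hcub : ∀ t : K, eval (t • w₁ + w₂) f = a * t ^ 3 + b * t ^ 2 + c * t + d := by
    intro t
    have : t • w₁ + w₂ = t • w₁ + (1 : K) • w₂ := by rw [one_smul]
    rw [this, expand hf]
    ring
  have hpt : ∀ t : K, φ (t • w₁ + w₂) = 0 ∧ D f e (t • w₁ + w₂) = 0 := by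
    intro t
    constructor
    · rw [map_add, map_smul, hw₁φ, hw₂φ]; simp
    · rw [D_add_right, D_smul_right, hw₁l, hw₂l]; simp
  have hne : ∀ t : K, t • w₁ + w₂ ≠ 0 := by
    intro t h0
    have := hli' t 1 (by rw [one_smul]; exact h0)
    exact one_ne_zero this.2
  have hsimple : ∀ t : K, a * t ^ 3 + b * t ^ 2 + c * t + d = 0 →
      3 * a * t ^ 2 + 2 * b * t + c ≠ 0 := by
    intro t ht hdt
    set w₀ := t • w₁ + w₂ with hw₀
    have hF0 : eval w₀ f = 0 := by rw [hw₀, hcub, ht]
    have hD1 : D f w₀ w₁ = 0 := by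
      rw [hw₀, D_add_left hf, D_smul_left hf, D_self hf, T_smul_left, T_swap23, T_e_e hf]
      linear_combination hdt
    have hD0 : D f w₀ w₀ = 0 := by rw [D_self hf, hF0, mul_zero]
    have hD2 : D f w₀ w₂ = 0 := by
      have : w₂ = w₀ + (-t) • w₁ := by rw [hw₀]; module
      rw [this, D_add_right, D_smul_right, hD0, hD1]
      ring
    apply simple_zero hf hsm hφ he hl (hne t) (hpt t).1 (hpt t).2 hF0
    intro w hw1 hw2
    obtain ⟨α, β, rfl⟩ := hspan w hw1 (by rw [Dlin_apply]; exact hw2)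
    rw [D_add_right, D_smul_right, D_smul_right, hD1, hD2]
    ring
  obtain ⟨t₁, t₂, t₃, h12, h13, h23, r1, r2, r3⟩ := cubic_three_roots a b c d hFw₁ hsimple
  -- the three directions
  have hdir : ∀ t : K, a * t ^ 3 + b * t ^ 2 + c * t + d = 0 → OnLine f e (t • w₁ + w₂) := by
    intro t ht
    exact onLine_of_mem_W hf hφ he (hpt t).1 (hpt t).2 (by rw [hcub, ht])
  have hnspan : ∀ t : K, t • w₁ + w₂ ∉ Submodule.span K ({e} : Set (Fin 4 → K)) := by
    intro t hmem
    obtain ⟨β, hβ⟩ := Submodule.mem_span_singleton.mp hmem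
    have h1 := congrArg φ hβ
    rw [map_smul, hφ.1, (hpt t).1] at h1
    have : β = 0 := by simpa using h1
    rw [this, zero_smul] at hβ
    exact hne t hβ.symm
  have hnpair : ∀ t s : K, t ≠ s →
      t • w₁ + w₂ ∉ Submodule.span K (Set.range ![e, s • w₁ + w₂]) := by
    intro t s hts hmem
    obtain ⟨α, β, hαβ⟩ := mem_span_pair_range.mp hmem
    have h1 := congrArg φ hαβ
    rw [map_add, map_smul, map_smul, hφ.1, (hpt t).1, (hpt s).1] at h1
    have hα : α = 0 := by simpa using h1
    rw [hα, zero_smul, zero_add] at hαβ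
    have h2 : (β * s - t) • w₁ + (β - 1) • w₂ = 0 := by
      have : (β * s - t) • w₁ + (β - 1) • w₂ = β • (s • w₁ + w₂) - (t • w₁ + w₂) := by module
      rw [this, hαβ, sub_self]
    have h3 := hli' _ _ h2
    have hβ : β = 1 := by linear_combination h3.2
    apply hts
    have := h3.1
    rw [hβ] at this
    linear_combination -this
  apply isEck_of_dirs he0 ![t₁ • w₁ + w₂, t₂ • w₁ + w₂, t₃ • w₁ + w₂]
  · intro i
    fin_cases i
    · exact hdir t₁ r1
    · exact hdir t₂ r2
    · exact hdir t₃ r3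
  · intro i
    fin_cases i
    · exact hnspan t₁
    · exact hnspan t₂
    · exact hnspan t₃
  · intro i j hij
    fin_cases i <;> fin_cases j
    · exact absurd rfl hij
    · exact hnpair t₁ t₂ h12
    · exact hnpair t₁ t₃ h13
    · exact hnpair t₂ t₁ h12.symm
    · exact absurd rfl hij
    · exact hnpair t₂ t₃ h23
    · exact hnpair t₃ t₁ h13.symm
    · exact hnpair t₃ t₂ h23.symm
    · exact absurd rfl hij

end Groth.Agent.Lib.Helper72.CubicForm
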