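/-
Helper72: two Eckardt points of a smooth cubic surface and the line joining them.
-/
import Mathlib
import Groth.Agent.Lib.Helper72.CubicFormG

set_option autoImplicit false
set_option linter.unusedSectionVars false

open MvPolynomial Finset

namespace Groth.Agent.Lib.Helper72.CubicForm

variable {K : Type*} [Field K] [CharZero K]

section general
variable {σ : Type*} [Fintype σ] [DecidableEq σ]

/-- the homology `v ↦ v - 2 φ(v) e` as a linear map. -/
noncomputable def homLin (φ : (σ → K) →ₗ[K] K) (e : σ → K) : (σ → K) →ₗ[K] (σ → K) :=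
  LinearMap.id - (2 : K) • (LinearMap.smulRight φ e)

lemma homLin_apply (φ : (σ → K) →ₗ[K] K) (e v : σ → K) :
    homLin φ e v = v - (2 * φ v) • e := by
  simp [homLin, mul_smul]

lemma homLin_involutive (φ : (σ → K) →ₗ[K] K) (e : σ → K) (he : φ e = 1) :
    Function.Involutive (homLin φ e) := by
  intro v
  rw [homLin_apply, homLin_apply, map_sub, map_smul, he]
  simp only [smul_eq_mul, mul_one]
  module

/-- the homology as a linear equivalence. -/
noncomputable def homEquiv (φ : (σ → K) →ₗ[K] K) (e : σ → K) (he : φ e = 1) :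
    (σ → K) ≃ₗ[K] (σ → K) :=
  LinearEquiv.ofInvolutive (homLin φ e) (homLin_involutive φ e he)

lemma homEquiv_apply (φ : (σ → K) →ₗ[K] K) (e : σ → K) (he : φ e = 1) (v : σ → K) :
    homEquiv φ e he v = v - (2 * φ v) • e := by
  rw [homEquiv, LinearEquiv.coe_ofInvolutive, homLin_apply]

end general

/-- the image of an Eckardt point under an Eckardt homology is an Eckardt point. -/
theorem IsEck.map_hom {f : MvPolynomial (Fin 4) K} (hf : f.IsHomogeneous 3) {e e' : Fin 4 → K}
    {φ : (Fin 4 → K) →ₗ[K] K} (hφ : IsEckFun f e φ) (he : eval e f = 0) (hE' : IsEck f e') :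
    IsEck f (e' - (2 * φ e') • e) := by
  obtain ⟨U, hinj, hU⟩ := hE'
  set A := homEquiv φ e hφ.1 with hA
  refine ⟨fun i => (U i).map (A : (Fin 4 → K) →ₗ[K] (Fin 4 → K)), ?_, fun i => ⟨?_, ?_, ?_⟩⟩
  · intro i j hij
    apply hinj
    exact Submodule.map_injective_of_injective (f := (A : (Fin 4 → K) →ₗ[K] (Fin 4 → K)))
      A.injective hij
  · rw [LinearEquiv.finrank_map_eq]
    exact (hU i).1
  · refine ⟨e', (hU i).2.1, ?_⟩
    rw [LinearEquiv.coe_coe, hA, homEquiv_apply]
  · rintro u ⟨v, hv, rfl⟩
    rw [LinearEquiv.coe_coe, hA, homEquiv_apply, hφ.invariant hf he]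
    exact (hU i).2.2 v hv

/-- two Eckardt points: the relations between the two functionals along the line joining them. -/
theorem two_eck_relations {f : MvPolynomial (Fin 4) K} (hf : f.IsHomogeneous 3)
    {e e' : Fin 4 → K} {φ φ' : (Fin 4 → K) →ₗ[K] K} (hφ : IsEckFun f e φ)
    (hφ' : IsEckFun f e' φ') :
    D f e' e = 2 * D f e e' * φ e' ∧ D f e e' = 2 * D f e' e * φ' e := by
  have h2 : (2 : K) ≠ 0 := by norm_num
  constructor
  · have h := hφ.2 e'
    rw [T_swap13, ← two_D hf] at h
    apply mul_left_cancel₀ h2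
    linear_combination h
  · have h := hφ'.2 e
    rw [T_swap13, ← two_D hf] at h
    apply mul_left_cancel₀ h2
    linear_combination h

section linalg
variable {V : Type*} [AddCommGroup V] [Module K V]

/-- a vector of the plane spanned by independent `e, e'` with both coordinates nonzero admits
a further vector of the plane proportional to none of the three. -/
lemma exists_fourth {e e' : V}
    (hli : ∀ s t : K, s • e + t • e' = 0 → s = 0 ∧ t = 0) {α β : K} (hα : α ≠ 0) (hβ : β ≠ 0) :
    ∃ γ : K, (e + γ • e') ∉ Submodule.span K ({e} : Set V) ∧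
      (e + γ • e') ∉ Submodule.span K ({e'} : Set V) ∧
      (e + γ • e') ∉ Submodule.span K ({α • e + β • e'} : Set V) := by
  have h2 : (2 : K) ≠ 0 := by norm_num
  refine ⟨2 * β / α, ?_, ?_, ?_⟩
  · intro h
    obtain ⟨c, hc⟩ := Submodule.mem_span_singleton.mp h
    have h0 : (c - 1) • e + (-(2 * β / α)) • e' = 0 := by
      have : (c - 1) • e + (-(2 * β / α)) • e' = c • e - (e + (2 * β / α) • e') := by module
      rw [this, hc, sub_self]
    have h3 := (hli _ _ h0).2
    have h4 : 2 * β / α ≠ 0 := div_ne_zero (mul_ne_zero h2 hβ) hα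
    exact h4 (neg_eq_zero.mp h3)
  · intro h
    obtain ⟨c, hc⟩ := Submodule.mem_span_singleton.mp h
    have h0 : (-1 : K) • e + (c - 2 * β / α) • e' = 0 := by
      have : (-1 : K) • e + (c - 2 * β / α) • e' = c • e' - (e + (2 * β / α) • e') := by module
      rw [this, hc, sub_self]
    have h3 := (hli _ _ h0).1
    norm_num at h3
  · intro h
    obtain ⟨c, hc⟩ := Submodule.mem_span_singleton.mp h
    have h0 : (c * α - 1) • e + (c * β - 2 * β / α) • e' = 0 := by
      have : (c * α - 1) • e + (c * β - 2 * β / α) • e' =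
          c • (α • e + β • e') - (e + (2 * β / α) • e') := by module
      rw [this, hc, sub_self]
    obtain ⟨h3, h4⟩ := hli _ _ h0
    have hc1 : c * α = 1 := by linear_combination h3
    have hc2 : c * β = 2 * β / α := by linear_combination h4
    have h5 : c * β * α = 2 * β := by rw [hc2]; field_simp
    have h6 : β = 2 * β := by
      have : c * β * α = β * (c * α) := by ring
      rw [this, hc1, mul_one] at h5
      exact h5
    apply hβ
    linear_combination -h6

lemma smul_mem_span_singleton (c : K) (v : V) : c • v ∈ Submodule.span K ({v} : Set V) :=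
  Submodule.smul_mem _ _ (Submodule.mem_span_singleton_self _)

end linalg

section line
variable {f : MvPolynomial (Fin 4) K} {e e' : Fin 4 → K}

/-- restriction of the cubic to the line through two of its zeros. -/
lemma expand_two (hf : f.IsHomogeneous 3) (hFe : eval e f = 0) (hFe' : eval e' f = 0) (x t : K) :
    eval (x • e + t • e') f = x ^ 2 * t * D f e e' + x * t ^ 2 * D f e' e := by
  rw [expand hf, hFe, hFe']
  ring

/-- if the cubic vanishes on the line, there is no third point with the three-point property. -/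
lemma no_third_of_vanish
    (hli : ∀ s t : K, s • e + t • e' = 0 → s = 0 ∧ t = 0)
    (hall : ∀ u ∈ Submodule.span K ({e, e'} : Set (Fin 4 → K)), eval u f = 0) :
    ¬ ∃ e'' : Fin 4 → K, e'' ∈ Submodule.span K ({e, e'} : Set (Fin 4 → K)) ∧
        e'' ∉ Submodule.span K ({e} : Set (Fin 4 → K)) ∧
        e'' ∉ Submodule.span K ({e'} : Set (Fin 4 → K)) ∧ IsEck f e'' ∧
        ∀ u ∈ Submodule.span K ({e, e'} : Set (Fin 4 → K)), eval u f = 0 →
          u ∈ Submodule.span K ({e} : Set (Fin 4 → K)) ∨
          u ∈ Submodule.span K ({e'} : Set (Fin 4 → K)) ∨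
          u ∈ Submodule.span K ({e''} : Set (Fin 4 → K)) := by
  rintro ⟨e'', hmem, hn1, hn2, -, hz⟩
  obtain ⟨α, β, rfl⟩ := Submodule.mem_span_pair.mp hmem
  have hα : α ≠ 0 := by
    intro h0
    apply hn2
    rw [h0, zero_smul, zero_add]
    exact smul_mem_span_singleton _ _
  have hβ : β ≠ 0 := by
    intro h0
    apply hn1
    rw [h0, zero_smul, add_zero]
    exact smul_mem_span_singleton _ _
  obtain ⟨γ, g1, g2, g3⟩ := exists_fourth hli hα hβ
  have hu : e + γ • e' ∈ Submodule.span K ({e, e'} : Set (Fin 4 → K)) :=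
    Submodule.mem_span_pair.mpr ⟨1, γ, by rw [one_smul]⟩
  rcases hz _ hu (hall _ hu) with h | h | h
  · exact g1 h
  · exact g2 h
  · exact g3 h

/-- the zeros of the cubic on the line through two Eckardt points, when `D f e e' ≠ 0`. -/
lemma zeros_on_line (hf : f.IsHomogeneous 3) (hFe : eval e f = 0) (hFe' : eval e' f = 0)
    {p : K} (r1 : D f e' e = 2 * D f e e' * p) (ha0 : D f e e' ≠ 0)
    (u : Fin 4 → K) (hu : u ∈ Submodule.span K ({e, e'} : Set (Fin 4 → K)))
    (hFu : eval u f = 0) :
    u ∈ Submodule.span K ({e} : Set (Fin 4 → K)) ∨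
      u ∈ Submodule.span K ({e'} : Set (Fin 4 → K)) ∨
      u ∈ Submodule.span K ({e' - (2 * p) • e} : Set (Fin 4 → K)) := by
  obtain ⟨x, t, rfl⟩ := Submodule.mem_span_pair.mp hu
  rw [expand_two hf hFe hFe', r1] at hFu
  have hfac : (x * t * (x + 2 * p * t)) * D f e e' = 0 := by linear_combination hFu
  have hfac' := (mul_eq_zero.mp hfac).resolve_right ha0
  rcases mul_eq_zero.mp hfac' with h | h
  · rcases mul_eq_zero.mp h with h | h
    · right; left
      rw [h, zero_smul, zero_add]
      exact smul_mem_span_singleton _ _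
    · left
      rw [h, zero_smul, add_zero]
      exact smul_mem_span_singleton _ _
  · right; right
    have hx : x = -(2 * p) * t := by linear_combination h
    rw [Submodule.mem_span_singleton]
    exact ⟨t, by rw [hx]; module⟩

/-- the third point is in the plane, and proportional to neither of the two. -/
lemma third_point_mem {p : K} :
    e' - (2 * p) • e ∈ Submodule.span K ({e, e'} : Set (Fin 4 → K)) := by
  rw [Submodule.mem_span_pair]
  exact ⟨-(2 * p), 1, by module⟩

lemma third_point_not_mem_left {p : K}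
    (he' : e' ∉ Submodule.span K ({e} : Set (Fin 4 → K))) :
    e' - (2 * p) • e ∉ Submodule.span K ({e} : Set (Fin 4 → K)) := by
  intro h
  obtain ⟨c, hc⟩ := Submodule.mem_span_singleton.mp h
  apply he'
  rw [Submodule.mem_span_singleton]
  exact ⟨c + 2 * p, by rw [add_smul, hc]; module⟩

lemma third_point_not_mem_right {p : K} (hp : p ≠ 0)
    (hli : ∀ s t : K, s • e + t • e' = 0 → s = 0 ∧ t = 0) :
    e' - (2 * p) • e ∉ Submodule.span K ({e'} : Set (Fin 4 → K)) := by
  have h2 : (2 : K) ≠ 0 := by norm_num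
  intro h
  obtain ⟨c, hc⟩ := Submodule.mem_span_singleton.mp h
  have h0 : (2 * p) • e + (c - 1) • e' = 0 := by
    have : (2 * p) • e + (c - 1) • e' = c • e' - (e' - (2 * p) • e) := by module
    rw [this, hc, sub_self]
  have h3 := (hli _ _ h0).1
  exact hp ((mul_eq_zero.mp h3).resolve_left h2)

/-- if `D f e e' ≠ 0` the cubic does not vanish on the line. -/
lemma not_vanish_of_D_ne (hf : f.IsHomogeneous 3) (hFe : eval e f = 0) (hFe' : eval e' f = 0)
    (ha0 : D f e e' ≠ 0) :
    ¬ ∀ u ∈ Submodule.span K ({e, e'} : Set (Fin 4 → K)), eval u f = 0 := by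
  have h2 : (2 : K) ≠ 0 := by norm_num
  intro hall
  have h1 := hall ((1 : K) • e + (1 : K) • e') (Submodule.mem_span_pair.mpr ⟨1, 1, rfl⟩)
  have h3 := hall ((1 : K) • e + (-1 : K) • e') (Submodule.mem_span_pair.mpr ⟨1, -1, rfl⟩)
  rw [expand_two hf hFe hFe'] at h1 h3
  apply ha0
  have : 2 * D f e e' = 0 := by linear_combination h1 - h3
  exact (mul_eq_zero.mp this).resolve_left h2

/-- if both mixed derivatives vanish, the cubic vanishes on the line. -/
lemma vanish_of_D_eq (hf : f.IsHomogeneous 3) (hFe : eval e f = 0) (hFe' : eval e' f = 0)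
    (ha : D f e e' = 0) (hb : D f e' e = 0) :
    ∀ u ∈ Submodule.span K ({e, e'} : Set (Fin 4 → K)), eval u f = 0 := by
  intro u hu
  obtain ⟨x, t, rfl⟩ := Submodule.mem_span_pair.mp hu
  rw [expand_two hf hFe hFe', ha, hb]
  ring

end line

end Groth.Agent.Lib.Helper72.CubicForm
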