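/-
Helper72: the line through two Eckardt points of a smooth cubic surface.
-/
import Mathlib
import Groth.Agent.Lib.Helper72.CubicFormH

set_option autoImplicit false
set_option linter.unusedSectionVars false

open MvPolynomial Finset

namespace Groth.Agent.Lib.Helper72.CubicForm

variable {K : Type*} [Field K] [CharZero K]

/-- the alternative for the line through two Eckardt points. -/
theorem two_eck_line {f : MvPolynomial (Fin 4) K} (hf : f.IsHomogeneous 3) (hsm : IsSmooth f)
    {e e' : Fin 4 → K} (he : e ≠ 0) (he' : e' ∉ Submodule.span K ({e} : Set (Fin 4 → K)))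
    (hE : IsEck f e) (hE' : IsEck f e') :
    Xor (∀ u ∈ Submodule.span K ({e, e'} : Set (Fin 4 → K)), eval u f = 0)
      (∃ e'' : Fin 4 → K, e'' ∈ Submodule.span K ({e, e'} : Set (Fin 4 → K)) ∧
        e'' ∉ Submodule.span K ({e} : Set (Fin 4 → K)) ∧
        e'' ∉ Submodule.span K ({e'} : Set (Fin 4 → K)) ∧ IsEck f e'' ∧
        ∀ u ∈ Submodule.span K ({e, e'} : Set (Fin 4 → K)), eval u f = 0 →
          u ∈ Submodule.span K ({e} : Set (Fin 4 → K)) ∨
          u ∈ Submodule.span K ({e'} : Set (Fin 4 → K)) ∨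
          u ∈ Submodule.span K ({e''} : Set (Fin 4 → K))) := by
  have he'0 : e' ≠ 0 := by
    intro h0
    apply he'
    rw [h0]
    exact Submodule.zero_mem _
  obtain ⟨hFe, φ, hφ⟩ := hE.exists_isEckFun hf hsm he
  obtain ⟨hFe', φ', hφ'⟩ := hE'.exists_isEckFun hf hsm he'0
  obtain ⟨r1, r2⟩ := two_eck_relations hf hφ hφ'
  have hli0 : LinearIndependent K ![e, e'] := linearIndependent_pair_of_not_mem he he'
  have hli : ∀ s t : K, s • e + t • e' = 0 → s = 0 ∧ t = 0 := LinearIndependent.pair_iff.mp hli0
  by_cases ha : D f e e' = 0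
  · have hb : D f e' e = 0 := by rw [r1, ha]; ring
    have hall := vanish_of_D_eq hf hFe hFe' ha hb
    exact Or.inl ⟨hall, no_third_of_vanish hli hall⟩
  · have hb : D f e' e ≠ 0 := by
      intro h0
      apply ha
      rw [r2, h0]; ring
    have hp : φ e' ≠ 0 := by
      intro h0
      apply hb
      rw [r1, h0]; ring
    exact Or.inr ⟨⟨e' - (2 * φ e') • e, third_point_mem, third_point_not_mem_left he',
      third_point_not_mem_right hp hli, hE'.map_hom hf hφ hFe,
      zeros_on_line hf hFe hFe' r1 ha⟩, not_vanish_of_D_ne hf hFe hFe' ha⟩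

end Groth.Agent.Lib.Helper72.CubicForm
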