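/-
Helper72: three collinear Eckardt points; their involutions generate a dihedral group of order 6.
-/
import Mathlib
import Groth.Agent.Lib.Helper72.CubicFormI

set_option autoImplicit false
set_option linter.unusedSectionVars false

open MvPolynomial Finset

namespace Groth.Agent.Lib.Helper72.CubicForm

variable {K : Type*} [Field K] [CharZero K]

section general
variable {σ : Type*} [Fintype σ] [DecidableEq σ]

/-- the conjugate of one homology by another, as a homology centred at a multiple of the image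
of the centre. -/
lemma hom_conj_key {e e' e'' : σ → K} {φ φ' : (σ → K) →ₗ[K] K} (hφe : φ e = 1)
    {τ : K} (hτ : τ ≠ 0) (he'' : e'' = τ • (e' - (2 * φ e') • e)) (v : σ → K) :
    v - (2 * (τ⁻¹ * φ' (v - (2 * φ v) • e))) • e'' =
      (homMat φ e).mulVec ((homMat φ' e').mulVec ((homMat φ e).mulVec v)) := by
  rw [homMat_mulVec, homMat_mulVec, homMat_mulVec, he'']
  generalize φ' (v - (2 * φ v) • e) = r
  rw [map_sub, map_sub, map_smul, map_smul, hφe]
  simp only [smul_eq_mul, mul_one]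
  generalize φ v = p
  generalize φ e' = q
  rw [smul_smul]
  have h1 : 2 * (τ⁻¹ * r) * τ = 2 * r := by field_simp
  rw [h1]
  module

end general

/-- conjugating the Eckardt involution of `e'` by that of `e` gives the Eckardt involution of
(any multiple of) the image point. -/
theorem homMat_conj {f : MvPolynomial (Fin 4) K} (hf : f.IsHomogeneous 3)
    {e e' e'' : Fin 4 → K} {φ φ' φ'' : (Fin 4 → K) →ₗ[K] K}
    (hφ : IsEckFun f e φ) (hφ' : IsEckFun f e' φ') (hφ'' : IsEckFun f e'' φ'')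
    (hFe : eval e f = 0) (hFe' : eval e' f = 0) (hFe'' : eval e'' f = 0)
    (hl : ∃ v, D f e'' v ≠ 0) {τ : K} (hτ : τ ≠ 0) (he'' : e'' = τ • (e' - (2 * φ e') • e)) :
    homMat φ'' e'' = homMat φ e * homMat φ' e' * homMat φ e := by
  have hψv : ∀ v, (τ⁻¹ • (φ' ∘ₗ homLin φ e)) v = τ⁻¹ * φ' (v - (2 * φ v) • e) := by
    intro v
    rw [LinearMap.smul_apply, LinearMap.comp_apply, homLin_apply, smul_eq_mul]
  have key := fun v => hom_conj_key (φ' := φ') hφ.1 hτ he'' v
  have hψ1 : IsEckFun f e'' (τ⁻¹ • (φ' ∘ₗ homLin φ e)) := by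
    apply isEckFun_of_invariant hf _ hFe'' hl 1
    · intro v
      rw [hψv, key v, homMat_mulVec φ e, hφ.invariant hf hFe, homMat_mulVec φ' e',
        hφ'.invariant hf hFe', homMat_mulVec, hφ.invariant hf hFe, one_mul]
    · rw [hψv]
      have h1 : e'' - (2 * φ e'') • e = τ • e' := by
        rw [he'', map_smul, map_sub, map_smul, hφ.1]
        simp only [smul_eq_mul, mul_one]
        module
      rw [h1, map_smul, hφ'.1, smul_eq_mul, mul_one, inv_mul_cancel₀ hτ]
  have hu : φ'' = τ⁻¹ • (φ' ∘ₗ homLin φ e) := hφ''.unique hψ1 hl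
  rw [Matrix.ext_iff_mulVec]
  intro v
  rw [← Matrix.mulVec_mulVec, ← Matrix.mulVec_mulVec, ← key, homMat_mulVec, hu, hψv]

/-- three collinear Eckardt points whose line is not on the surface: their involutions generate
a copy of the symmetric group on three letters. -/
theorem three_eck_dihedral {f : MvPolynomial (Fin 4) K} (hf : f.IsHomogeneous 3)
    (hsm : IsSmooth f) {e e' e'' : Fin 4 → K} (he : e ≠ 0)
    (he' : e' ∉ Submodule.span K ({e} : Set (Fin 4 → K)))
    (he''1 : e'' ∉ Submodule.span K ({e} : Set (Fin 4 → K)))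
    (he''2 : e'' ∉ Submodule.span K ({e'} : Set (Fin 4 → K)))
    (he''L : e'' ∈ Submodule.span K ({e, e'} : Set (Fin 4 → K)))
    (hE : IsEck f e) (hE' : IsEck f e') (hE'' : IsEck f e'')
    (hL : ¬ ∀ u ∈ Submodule.span K ({e, e'} : Set (Fin 4 → K)), eval u f = 0)
    {A A' A'' : Matrix (Fin 4) (Fin 4) K}
    (hA : IsEckInv f e A) (hA' : IsEckInv f e' A') (hA'' : IsEckInv f e'' A'') :
    (¬ ∃ c : K, A * A' = c • (1 : Matrix (Fin 4) (Fin 4) K)) ∧
      (∃ c : K, (A * A') ^ 3 = c • (1 : Matrix (Fin 4) (Fin 4) K)) ∧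
      ∃ c : K, A'' = c • (A * A' * A) := by
  have h2 : (2 : K) ≠ 0 := by norm_num
  have he'0 : e' ≠ 0 := by
    intro h0
    apply he'
    rw [h0]
    exact Submodule.zero_mem _
  have he''0 : e'' ≠ 0 := by
    intro h0
    apply he''1
    rw [h0]
    exact Submodule.zero_mem _
  obtain ⟨hFe, φ₀, hφ₀⟩ := hE.exists_isEckFun hf hsm he
  obtain ⟨hFe', φ₀', hφ₀'⟩ := hE'.exists_isEckFun hf hsm he'0
  obtain ⟨hFe'', φ₀'', hφ₀''⟩ := hE''.exists_isEckFun hf hsm he''0
  have hl := hsm.exists_D_ne he hFe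
  have hl' := hsm.exists_D_ne he'0 hFe'
  have hl'' := hsm.exists_D_ne he''0 hFe''
  obtain ⟨φ, hφ, rfl⟩ := (isEckInv_iff hf he hFe hl A).mp hA
  obtain ⟨φ', hφ', rfl⟩ := (isEckInv_iff hf he'0 hFe' hl' A').mp hA'
  obtain ⟨φ'', hφ'', rfl⟩ := (isEckInv_iff hf he''0 hFe'' hl'' A'').mp hA''
  obtain ⟨r1, r2⟩ := two_eck_relations hf hφ hφ'
  have hli0 : LinearIndependent K ![e, e'] := linearIndependent_pair_of_not_mem he he'
  have hli : ∀ s t : K, s • e + t • e' = 0 → s = 0 ∧ t = 0 := LinearIndependent.pair_iff.mp hli0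
  have ha : D f e e' ≠ 0 := by
    intro ha
    have hb : D f e' e = 0 := by rw [r1, ha]; ring
    exact hL (vanish_of_D_eq hf hFe hFe' ha hb)
  have hb : D f e' e ≠ 0 := by
    intro hb
    apply ha
    rw [r2, hb]; ring
  -- `e''` is a multiple of the image of `e'` under the involution of `e`
  have hτ : ∃ τ : K, τ ≠ 0 ∧ e'' = τ • (e' - (2 * φ e') • e) := by
    rcases zeros_on_line hf hFe hFe' r1 ha e'' he''L hFe'' with h | h | h
    · exact absurd h he''1
    · exact absurd h he''2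
    · obtain ⟨τ, hτ⟩ := Submodule.mem_span_singleton.mp h
      refine ⟨τ, ?_, hτ.symm⟩
      intro h0
      apply he''0
      rw [← hτ, h0, zero_smul]
  -- and of the image of `e` under the involution of `e'`
  have hτ' : ∃ τ : K, τ ≠ 0 ∧ e'' = τ • (e - (2 * φ' e) • e') := by
    have hL' : e'' ∈ Submodule.span K ({e', e} : Set (Fin 4 → K)) := by
      rw [Set.pair_comm]; exact he''L
    rcases zeros_on_line hf hFe' hFe r2 hb e'' hL' hFe'' with h | h | h
    · exact absurd h he''2
    · exact absurd h he''1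
    · obtain ⟨τ, hτ⟩ := Submodule.mem_span_singleton.mp h
      refine ⟨τ, ?_, hτ.symm⟩
      intro h0
      apply he''0
      rw [← hτ, h0, zero_smul]
  obtain ⟨τ, hτ0, hτe⟩ := hτ
  obtain ⟨τ', hτ'0, hτ'e⟩ := hτ'
  have c1 : homMat φ'' e'' = homMat φ e * homMat φ' e' * homMat φ e :=
    homMat_conj hf hφ hφ' hφ'' hFe hFe' hFe'' hl'' hτ0 hτe
  have c2 : homMat φ'' e'' = homMat φ' e' * homMat φ e * homMat φ' e' :=
    homMat_conj hf hφ' hφ hφ'' hFe' hFe hFe'' hl'' hτ'0 hτ'e
  have s1 := homMat_mul_self φ e hφ.1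
  have s2 := homMat_mul_self φ' e' hφ'.1
  refine ⟨?_, ⟨1, ?_⟩, ⟨1, ?_⟩⟩
  · rintro ⟨c, hc⟩
    have h1 : homMat φ' e' = c • homMat φ e := by
      have : homMat φ e * (homMat φ e * homMat φ' e') = homMat φ e * (c • 1) := by rw [hc]
      rw [← Matrix.mul_assoc, s1, Matrix.one_mul, Matrix.mul_smul, Matrix.mul_one] at this
      exact this
    have h3 : (homMat φ' e').mulVec e = (c • homMat φ e).mulVec e := by rw [h1]
    rw [Matrix.smul_mulVec, homMat_mulVec, homMat_mulVec, hφ.1] at h3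
    have h4 : (1 + c) • e + (-(2 * φ' e)) • e' = 0 := by
      have : (1 + c) • e + (-(2 * φ' e)) • e' = (e - (2 * φ' e) • e') - c • (e - (2 * 1 : K) • e) := by
        module
      rw [this, h3, sub_self]
    have h5 := (hli _ _ h4).2
    have h6 : φ' e = 0 := by
      have := neg_eq_zero.mp h5
      exact (mul_eq_zero.mp this).resolve_left h2
    apply ha
    rw [r2, h6]; ring
  · rw [one_smul]
    have h1 : (homMat φ e * homMat φ' e') ^ 3 =
        (homMat φ e * homMat φ' e' * homMat φ e) * (homMat φ' e' * homMat φ e * homMat φ' e') := by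
      rw [pow_succ, pow_two]
      simp only [Matrix.mul_assoc]
    rw [h1, ← c1, ← c2, homMat_mul_self φ'' e'' hφ''.1]
  · rw [one_smul]
    exact c1

end Groth.Agent.Lib.Helper72.CubicForm
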