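/-
Helper72: two Eckardt points whose line lies on the smooth cubic surface: the involutions commute.
-/
import Mathlib
import Groth.Agent.Lib.Helper72.CubicFormJ

set_option autoImplicit false
set_option linter.unusedSectionVars false

open MvPolynomial Finset

namespace Groth.Agent.Lib.Helper72.CubicForm

variable {K : Type*} [Field K] [CharZero K]

/-- a quadratic polynomial with nonzero leading coefficient has a root. -/
lemma exists_root_quadratic [IsAlgClosed K] (a b c : K) (ha : a ≠ 0) :
    ∃ x : K, a * x ^ 2 + b * x + c = 0 := by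
  have hdeg : (Polynomial.C a * Polynomial.X ^ 2 + Polynomial.C b * Polynomial.X +
      Polynomial.C c).degree = 2 := Polynomial.degree_quadratic ha
  obtain ⟨x, hx⟩ := IsAlgClosed.exists_root
    (Polynomial.C a * Polynomial.X ^ 2 + Polynomial.C b * Polynomial.X + Polynomial.C c)
    (by rw [hdeg]; norm_num)
  refine ⟨x, ?_⟩
  simpa using hx

/-- a smooth cubic surface contains no plane. -/
theorem no_plane [IsAlgClosed K] {f : MvPolynomial (Fin 4) K} (hf : f.IsHomogeneous 3)
    (hsm : IsSmooth f) {u1 u2 u3 : Fin 4 → K} (h1 : u1 ≠ 0)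
    (h2 : u2 ∉ Submodule.span K ({u1} : Set (Fin 4 → K)))
    (h3 : u3 ∉ Submodule.span K (Set.range ![u1, u2]))
    (hP : ∀ x y z : K, eval (x • u1 + y • u2 + z • u3) f = 0) : False := by
  have hli2 : LinearIndependent K ![u1, u2] := linearIndependent_pair_of_not_mem h1 h2
  have hli : LinearIndependent K ![u3, u1, u2] := by
    have : (![u3, u1, u2] : Fin 3 → Fin 4 → K) = Fin.cons u3 ![u1, u2] := rfl
    rw [this, linearIndependent_finCons]
    exact ⟨hli2, h3⟩
  have hfr : Module.finrank K (Submodule.span K (Set.range ![u3, u1, u2])) = 3 := by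
    rw [finrank_span_eq_card hli]
    simp
  have hmem : ∀ v ∈ Submodule.span K (Set.range ![u3, u1, u2]),
      ∃ x y z : K, v = x • u1 + y • u2 + z • u3 := by
    intro v hv
    obtain ⟨c, rfl⟩ := (Submodule.mem_span_range_iff_exists_fun K).mp hv
    refine ⟨c 1, c 2, c 0, ?_⟩
    rw [Fin.sum_univ_three]
    simp only [Matrix.cons_val_zero, Matrix.cons_val_one, Matrix.cons_val_two]
    abel
  have hvan : ∀ v ∈ Submodule.span K (Set.range ![u3, u1, u2]), eval v f = 0 := by
    intro v hv
    obtain ⟨x, y, z, rfl⟩ := hmem v hv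
    exact hP x y z
  have hD : ∀ u ∈ Submodule.span K (Set.range ![u3, u1, u2]),
      ∀ w ∈ Submodule.span K (Set.range ![u3, u1, u2]), D f u w = 0 :=
    fun u hu w hw => D_eq_zero_of_vanish hf u w
      (fun t => hvan _ (Submodule.add_mem _ hu (Submodule.smul_mem _ t hw)))
  have hker : ∀ u ∈ Submodule.span K (Set.range ![u3, u1, u2]), u ≠ 0 →
      LinearMap.ker (Dlin f u) = Submodule.span K (Set.range ![u3, u1, u2]) := by
    intro u hu hu0
    have hle : Submodule.span K (Set.range ![u3, u1, u2]) ≤ LinearMap.ker (Dlin f u) := by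
      intro w hw
      rw [LinearMap.mem_ker, Dlin_apply]
      exact hD u hu w hw
    have hfk := finrank_ker_functional (Dlin f u)
      (by simpa using hsm.exists_D_ne hu0 (hvan u hu))
    have h3' : Module.finrank K (LinearMap.ker (Dlin f u)) = 3 := by
      simp at hfk
      omega
    exact (Submodule.eq_of_le_of_finrank_eq hle (by rw [hfr, h3'])).symm
  obtain ⟨w₀, hw₀⟩ : ∃ w₀, w₀ ∉ Submodule.span K (Set.range ![u3, u1, u2]) := by
    by_contra hcon
    push Not at hcon
    have htop : Submodule.span K (Set.range ![u3, u1, u2]) = ⊤ := Submodule.eq_top_iff'.mpr hcon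
    rw [htop, finrank_top, Module.finrank_fintype_fun_eq_card] at hfr
    simp at hfr
  have hne : ∀ u ∈ Submodule.span K (Set.range ![u3, u1, u2]), u ≠ 0 → D f u w₀ ≠ 0 := by
    intro u hu hu0 h0
    apply hw₀
    rw [← hker u hu hu0, LinearMap.mem_ker, Dlin_apply]
    exact h0
  have hu1P : u1 ∈ Submodule.span K (Set.range ![u3, u1, u2]) := Submodule.subset_span ⟨1, rfl⟩
  have hu2P : u2 ∈ Submodule.span K (Set.range ![u3, u1, u2]) := Submodule.subset_span ⟨2, rfl⟩
  obtain ⟨x, hx⟩ := exists_root_quadratic (D f u1 w₀) (T f u1 u2 w₀) (D f u2 w₀)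
    (hne u1 hu1P h1)
  have hxu : x • u1 + u2 ∈ Submodule.span K (Set.range ![u3, u1, u2]) :=
    Submodule.add_mem _ (Submodule.smul_mem _ x hu1P) hu2P
  have hxu0 : x • u1 + u2 ≠ 0 := by
    intro h0
    have := (LinearIndependent.pair_iff.mp hli2 x 1 (by rw [one_smul]; exact h0)).2
    exact one_ne_zero this
  apply hne _ hxu hxu0
  rw [D_add_left hf, D_smul_left hf, T_smul_left]
  linear_combination hx

/-- if the line through two Eckardt points lies on the surface, the functional of the first
vanishes at the second. -/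
theorem eckFun_apply_eq_zero_of_line [IsAlgClosed K] {f : MvPolynomial (Fin 4) K}
    (hf : f.IsHomogeneous 3) (hsm : IsSmooth f) {e e' : Fin 4 → K} (he : e ≠ 0)
    (he' : e' ∉ Submodule.span K ({e} : Set (Fin 4 → K))) (hE : IsEck f e)
    {φ φ' : (Fin 4 → K) →ₗ[K] K} (hφ : IsEckFun f e φ) (hφ' : IsEckFun f e' φ')
    (hL : ∀ u ∈ Submodule.span K ({e, e'} : Set (Fin 4 → K)), eval u f = 0) : φ e' = 0 := by
  by_contra hne
  have hFe : eval e f = 0 := hL e (Submodule.subset_span (by simp))
  have hFe' : eval e' f = 0 := hL e' (Submodule.subset_span (by simp))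
  have hl := hsm.exists_D_ne he hFe
  have hon : OnLine f e e' := fun x t => hL _ (Submodule.mem_span_pair.mpr ⟨x, t, rfl⟩)
  obtain ⟨-, ha, hb, -⟩ := (onLine_iff hf e e').mp hon
  -- the two gradients are proportional
  have s1 : ∀ w, D f e w * φ e' = D f e' w * φ' e := by
    intro w
    have p1 := hφ.polar e' w
    have p2 := hφ'.polar e w
    rw [T_swap12, p1, ha, hb] at p2
    linear_combination p2 / 2
  have hφ'e : φ' e ≠ 0 := by
    intro h0
    obtain ⟨v, hv⟩ := hl
    have h := s1 v
    rw [h0, mul_zero] at h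
    exact hv ((mul_eq_zero.mp h).resolve_right hne)
  have s2 : ∀ w, D f e w = 0 → D f e' w = 0 := by
    intro w hw
    have h := s1 w
    rw [hw, zero_mul] at h
    exact (mul_eq_zero.mp h.symm).resolve_right hφ'e
  -- a line through `e` on the surface other than the given one
  obtain ⟨U, hinj, hU⟩ := hE
  obtain ⟨i, hi⟩ : ∃ i, U i ≠ Submodule.span K ({e, e'} : Set (Fin 4 → K)) := by
    by_contra hcon
    push Not at hcon
    have h01 : U 0 = U 1 := by rw [hcon 0, hcon 1]
    exact absurd (hinj h01) (by decide)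
  obtain ⟨u, hu1, hu2⟩ := exists_dir (U i) (hU i).1 he (hU i).2.1
  have honu : OnLine f e u := onLine_of_span (by rw [← hu2]; exact (hU i).2.2)
  have huL : u ∉ Submodule.span K (Set.range ![e, e']) := by
    intro hmem
    apply hi
    obtain ⟨α, β, hαβ⟩ := mem_span_pair_range.mp hmem
    have hβ : β ≠ 0 := by
      intro h0
      apply hu1
      rw [← hαβ, h0, zero_smul, add_zero]
      exact smul_mem_span_singleton _ _
    rw [hu2]
    apply le_antisymm
    · rw [Submodule.span_le]
      rintro _ ⟨j, rfl⟩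
      fin_cases j
      · exact Submodule.subset_span (by simp)
      · show u ∈ _
        rw [← hαβ]
        exact Submodule.mem_span_pair.mpr ⟨α, β, rfl⟩
    · rw [Submodule.span_le]
      intro x hx
      rcases hx with rfl | hx
      · exact Submodule.subset_span ⟨0, rfl⟩
      · rw [Set.mem_singleton_iff] at hx
        subst hx
        rw [SetLike.mem_coe, mem_span_pair_range]
        refine ⟨-(β⁻¹ * α), β⁻¹, ?_⟩
        rw [← hαβ, smul_add, smul_smul, smul_smul, inv_mul_cancel₀ hβ]
        module
  obtain ⟨-, hDeu, hDue, hFu⟩ := (onLine_iff hf e u).mp honu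
  have hDe'u : D f e' u = 0 := s2 u hDeu
  -- the cubic vanishes on the plane spanned by `e, e', u`
  apply no_plane hf hsm he he' huL
  intro x y z
  have hv : D f e (y • e' + z • u) = 0 := by
    rw [D_add_right, D_smul_right, D_smul_right, ha, hDeu]
    ring
  have e1 : x • e + y • e' + z • u = (y • e' + z • u) + x • e := by abel
  have hDve : D f (y • e' + z • u) e = 0 := by
    rw [D_eq hf, T_swap13, hφ.2, hv]
    ring
  have hDue' : D f u e' = 0 := by
    rw [D_eq hf, T_swap13, hφ'.2, hDe'u]
    ring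
  have hyz : eval (y • e' + z • u) f = 0 := by
    rw [expand hf, hFe', hFu, hDe'u, hDue']
    ring
  rw [e1, expand_add hf, hFe, hv, hDve, hyz]
  ring

/-- the Eckardt involutions of two Eckardt points joined by a line of the surface commute, and
each fixes the other point. -/
theorem two_eck_commute [IsAlgClosed K] {f : MvPolynomial (Fin 4) K} (hf : f.IsHomogeneous 3)
    (hsm : IsSmooth f) {e e' : Fin 4 → K} (he : e ≠ 0)
    (he' : e' ∉ Submodule.span K ({e} : Set (Fin 4 → K)))
    (hE : IsEck f e) (hE' : IsEck f e')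
    (hL : ∀ u ∈ Submodule.span K ({e, e'} : Set (Fin 4 → K)), eval u f = 0)
    {A A' : Matrix (Fin 4) (Fin 4) K} (hA : IsEckInv f e A) (hA' : IsEckInv f e' A') :
    (∃ c : K, A * A' = c • (A' * A)) ∧ (∃ d : K, A.mulVec e' = d • e') ∧
      (∃ d : K, A'.mulVec e = d • e) := by
  have he'0 : e' ≠ 0 := by
    intro h0
    apply he'
    rw [h0]
    exact Submodule.zero_mem _
  have hFe : eval e f = 0 := hL e (Submodule.subset_span (by simp))
  have hFe' : eval e' f = 0 := hL e' (Submodule.subset_span (by simp))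
  have hl := hsm.exists_D_ne he hFe
  have hl' := hsm.exists_D_ne he'0 hFe'
  obtain ⟨φ, hφ, rfl⟩ := (isEckInv_iff hf he hFe hl A).mp hA
  obtain ⟨φ', hφ', rfl⟩ := (isEckInv_iff hf he'0 hFe' hl' A').mp hA'
  have hee' : e ∉ Submodule.span K ({e'} : Set (Fin 4 → K)) := by
    intro h
    obtain ⟨c, hc⟩ := Submodule.mem_span_singleton.mp h
    have hc0 : c ≠ 0 := by
      intro h0
      apply he
      rw [← hc, h0, zero_smul]
    apply he'
    rw [Submodule.mem_span_singleton]
    exact ⟨c⁻¹, by rw [← hc, smul_smul, inv_mul_cancel₀ hc0, one_smul]⟩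
  have z1 : φ e' = 0 := eckFun_apply_eq_zero_of_line hf hsm he he' hE hφ hφ' hL
  have z2 : φ' e = 0 := eckFun_apply_eq_zero_of_line hf hsm he'0 hee' hE' hφ' hφ
    (by rw [Set.pair_comm]; exact hL)
  refine ⟨⟨1, ?_⟩, ⟨1, ?_⟩, ⟨1, ?_⟩⟩
  · rw [one_smul, Matrix.ext_iff_mulVec]
    intro v
    rw [← Matrix.mulVec_mulVec, ← Matrix.mulVec_mulVec, homMat_mulVec φ' e', homMat_mulVec φ e,
      homMat_mulVec, homMat_mulVec, map_sub, map_sub, map_smul, map_smul, z1, z2]
    simp only [smul_eq_mul, mul_zero, sub_zero]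
    abel
  · rw [homMat_mulVec, z1]
    module
  · rw [homMat_mulVec, z2]
    module

end Groth.Agent.Lib.Helper72.CubicForm
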