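import Mathlib

/-!
# The cubical monomial ring `A = k + Xⁿ k⟦X⟧` (here `n = m + 1`): basic facts
-/

universe u

open PowerSeries

namespace Groth.Agent.Lib.Helper72.CubExt

variable {k : Type u} [Field k]

/-- shift by `n`: drop the first `n` coefficients and divide by `Xⁿ`. -/
noncomputable def sh (n : ℕ) : PowerSeries k →ₗ[k] PowerSeries k where
  toFun f := PowerSeries.mk fun i => coeff (i + n) f
  map_add' f g := by ext i; simp
  map_smul' c f := by ext i; simp

@[simp] lemma coeff_sh (n i : ℕ) (f : PowerSeries k) : coeff i (sh n f) = coeff (i + n) f := by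
  simp [sh]

lemma sh_X_pow_mul (n : ℕ) (f : PowerSeries k) : sh n (X ^ n * f) = f := by
  ext i
  rw [coeff_sh, coeff_X_pow_mul]

lemma X_pow_mul_sh (n : ℕ) (f : PowerSeries k) (hf : ∀ i, i < n → coeff i f = 0) :
    X ^ n * sh n f = f := by
  ext i
  rw [coeff_X_pow_mul']
  split_ifs with h
  · rw [coeff_sh, Nat.sub_add_cancel h]
  · exact (hf i (by omega)).symm

lemma X_pow_mul_cancel (n : ℕ) {f g : PowerSeries k} (h : X ^ n * f = X ^ n * g) : f = g :=
  mul_left_cancel₀ (pow_ne_zero n X_ne_zero) h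

section Ring

variable (m : ℕ) (A : Subalgebra k (PowerSeries k))

/-- the monomial condition defining `A = k + X^(m+1) k⟦X⟧` -/
def Mono : Prop :=
  ∀ f : PowerSeries k, f ∈ A ↔ ∀ i : ℕ, coeff i f ≠ 0 → (i = 0 ∨ m + 1 ≤ i)

variable {m A}

lemma Mono.coeff_eq_zero (h : Mono m A) {f : PowerSeries k} (hf : f ∈ A) {i : ℕ} (h0 : 0 < i)
    (hi : i < m + 1) : coeff i f = 0 := by
  by_contra hne
  rcases (h f).1 hf i hne with h1 | h1 <;> omega

lemma Mono.mem_of_coeff (h : Mono m A) {f : PowerSeries k}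
    (hf : ∀ i, 0 < i → i < m + 1 → coeff i f = 0) : f ∈ A := by
  rw [h f]
  intro i hne
  by_contra hcon
  push Not at hcon
  exact hne (hf i (Nat.pos_of_ne_zero hcon.1) hcon.2)

lemma Mono.X_pow_mul_mem (h : Mono m A) (f : PowerSeries k) : X ^ (m + 1) * f ∈ A := by
  apply h.mem_of_coeff
  intro i _ hi
  rw [coeff_X_pow_mul']
  rw [if_neg (by omega)]

lemma Mono.X_pow_mul_mem' (h : Mono m A) (j : ℕ) (f : PowerSeries k) :
    X ^ (m + 1 + j) * f ∈ A := by
  rw [pow_add, mul_assoc]
  exact h.X_pow_mul_mem _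

/-- key multiplicativity of low coefficients -/
lemma Mono.coeff_mul (h : Mono m A) {a : PowerSeries k} (ha : a ∈ A) (f : PowerSeries k) {i : ℕ}
    (hi : i < m + 1) : coeff i (a * f) = coeff 0 a * coeff i f := by
  rw [PowerSeries.coeff_mul]
  rw [Finset.sum_eq_single (0, i)]
  · rintro ⟨p, q⟩ hpq hne
    rw [Finset.HasAntidiagonal.mem_antidiagonal] at hpq
    simp only at hpq
    have hp : p ≠ 0 := by
      rintro rfl
      apply hne
      simp only [zero_add] at hpq
      rw [hpq]
    rw [h.coeff_eq_zero ha (Nat.pos_of_ne_zero hp) (by omega), zero_mul]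
  · intro hni
    exact absurd (by simp) hni

/-- low coefficients of an element of `A` with vanishing constant term -/
lemma Mono.coeff_eq_zero' (h : Mono m A) {f : PowerSeries k} (hf : f ∈ A) (h0 : coeff 0 f = 0)
    {i : ℕ} (hi : i < m + 1) : coeff i f = 0 := by
  rcases Nat.eq_zero_or_pos i with rfl | hpos
  · exact h0
  · exact h.coeff_eq_zero hf hpos hi

/-- the constant coefficient as a ring hom `A → k` -/
noncomputable def cc (A : Subalgebra k (PowerSeries k)) : A →+* k :=
  (constantCoeff (R := k)).comp A.val.toRingHom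

lemma cc_apply (a : A) : cc A a = coeff 0 (a : PowerSeries k) := by
  simp [cc]

lemma cc_surjective : Function.Surjective (cc A) := by
  intro c
  refine ⟨algebraMap k A c, ?_⟩
  rw [cc_apply]
  simp

end Ring

end Groth.Agent.Lib.Helper72.CubExt
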