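import Mathlib
import Groth.Agent.Lib.Helper72.CubExtA

/-!
# The `A_{2δ}` monomial ring `A = k⟦X², X^(2δ+1)⟧` and the modules `M_i = ⟨1, X^(2δ+1-2i)⟩`
-/

universe u

open PowerSeries

namespace Groth.Agent.Lib.Helper72.A2d

open Groth.Agent.Lib.Helper72.CubExt (sh coeff_sh sh_X_pow_mul X_pow_mul_sh X_pow_mul_cancel)

variable {k : Type u} [Field k] {δ : ℕ} {A : Subalgebra k (PowerSeries k)}

lemma smulA (a : A) (b : PowerSeries k) : a • b = (a : PowerSeries k) * b := rfl

/-- the monomial condition defining `A` -/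
def MonoD (δ : ℕ) (A : Subalgebra k (PowerSeries k)) : Prop :=
  ∀ f : PowerSeries k, f ∈ A ↔
    ∀ n : ℕ, coeff n f ≠ 0 → n ∈ AddSubmonoid.closure ({2, 2 * δ + 1} : Set ℕ)

lemma mem_closure_iff (δ e : ℕ) :
    e ∈ AddSubmonoid.closure ({2, 2 * δ + 1} : Set ℕ) ↔ (e % 2 = 0 ∨ 2 * δ + 1 ≤ e) := by
  constructor
  · intro h
    induction h using AddSubmonoid.closure_induction with
    | mem x hx =>
      rcases hx with rfl | hx
      · left; rfl
      · right
        rw [Set.mem_singleton_iff] at hx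
        omega
    | zero => left; rfl
    | add x y _ _ hx hy =>
      rcases hx with hx | hx <;> rcases hy with hy | hy
      · left; omega
      · right; omega
      · right; omega
      · right; omega
  · intro h
    have h2 : (2 : ℕ) ∈ AddSubmonoid.closure ({2, 2 * δ + 1} : Set ℕ) :=
      AddSubmonoid.subset_closure (by simp)
    have h3 : (2 * δ + 1 : ℕ) ∈ AddSubmonoid.closure ({2, 2 * δ + 1} : Set ℕ) :=
      AddSubmonoid.subset_closure (by simp)
    by_cases he : e % 2 = 0
    · have : e = (e / 2) • 2 := by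
        rw [smul_eq_mul]; omega
      rw [this]
      exact AddSubmonoid.nsmul_mem _ h2 _
    · have : e = (2 * δ + 1) + ((e - (2 * δ + 1)) / 2) • 2 := by
        rw [smul_eq_mul]; omega
      rw [this]
      exact add_mem h3 (AddSubmonoid.nsmul_mem _ h2 _)

lemma MonoD.mem_iff (h : MonoD δ A) (f : PowerSeries k) :
    f ∈ A ↔ ∀ e, e % 2 = 1 → e < 2 * δ + 1 → coeff e f = 0 := by
  rw [h f]
  constructor
  · intro hf e he1 he2
    by_contra hne
    have := (mem_closure_iff δ e).1 (hf e hne)
    omega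
  · intro hf e hne
    rw [mem_closure_iff]
    by_contra hcon
    push Not at hcon
    exact hne (hf e (by omega) (by omega))

lemma MonoD.coeff_A (h : MonoD δ A) {a : PowerSeries k} (ha : a ∈ A) {p : ℕ} (hp1 : p % 2 = 1)
    (hp2 : p < 2 * δ + 1) : coeff p a = 0 := (h.mem_iff a).1 ha p hp1 hp2

lemma MonoD.X_pow_even_mem (h : MonoD δ A) (x : ℕ) : (X : PowerSeries k) ^ (2 * x) ∈ A := by
  rw [h.mem_iff]
  intro e he _
  rw [coeff_X_pow, if_neg (by omega)]

lemma MonoD.X_pow_mul_mem (h : MonoD δ A) (x : ℕ) (f : PowerSeries k) :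
    X ^ (2 * δ + 1 + x) * f ∈ A := by
  rw [h.mem_iff]
  intro e _ he
  rw [coeff_X_pow_mul', if_neg (by omega)]

/-- vanishing of a coefficient of a product -/
lemma coeff_mul_eq_zero_of (a y : PowerSeries k) (e : ℕ)
    (H : ∀ p q, p + q = e → coeff p a = 0 ∨ coeff q y = 0) : coeff e (a * y) = 0 := by
  rw [PowerSeries.coeff_mul]
  refine Finset.sum_eq_zero ?_
  rintro ⟨p, q⟩ hpq
  rw [Finset.HasAntidiagonal.mem_antidiagonal] at hpq
  rcases H p q hpq with h | h
  · simp only; rw [h, zero_mul]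
  · simp only; rw [h, mul_zero]

/-- a coefficient of a product reduces to the constant term of the first factor -/
lemma coeff_mul_eq_single (a y : PowerSeries k) (e : ℕ)
    (H : ∀ p q, p + q = e → p ≠ 0 → coeff p a = 0 ∨ coeff q y = 0) :
    coeff e (a * y) = coeff 0 a * coeff e y := by
  rw [PowerSeries.coeff_mul]
  rw [Finset.sum_eq_single (0, e)]
  · rintro ⟨p, q⟩ hpq hne
    rw [Finset.HasAntidiagonal.mem_antidiagonal] at hpq
    simp only at hpq
    have hp : p ≠ 0 := by
      rintro rfl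
      apply hne
      simp only [zero_add] at hpq
      rw [hpq]
    rcases H p q hpq hp with h | h
    · simp only; rw [h, zero_mul]
    · simp only; rw [h, mul_zero]
  · intro hni
    exact absurd (by simp) hni

/-- the module `M_i` -/
noncomputable def Mod (δ : ℕ) (A : Subalgebra k (PowerSeries k)) (i : ℕ) : Submodule A (PowerSeries k) :=
  Submodule.span A ({1, (X : PowerSeries k) ^ (2 * δ + 1 - 2 * i)} : Set (PowerSeries k))

/-- the monomial description of `M_i` -/
def InMod (δ i : ℕ) (f : PowerSeries k) : Prop :=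
  ∀ e, e % 2 = 1 → e < 2 * δ + 1 - 2 * i → coeff e f = 0

lemma MonoD.decomp (h : MonoD δ A) {i : ℕ} (hi : i ≤ δ) {f : PowerSeries k} (hf : InMod δ i f) :
    ∃ a0 a1 : A, f = (a0 : PowerSeries k) + (a1 : PowerSeries k) * X ^ (2 * δ + 1 - 2 * i) := by
  obtain ⟨a1, ha1⟩ : ∃ a1 : PowerSeries k, a1 = PowerSeries.mk (fun e' =>
      if e' % 2 = 0 ∧ e' < 2 * i then coeff (e' + (2 * δ + 1 - 2 * i)) f else 0) := ⟨_, rfl⟩
  have hc : ∀ e', coeff e' a1 = if e' % 2 = 0 ∧ e' < 2 * i then
      coeff (e' + (2 * δ + 1 - 2 * i)) f else 0 := by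
    intro e'
    rw [ha1, coeff_mk]
  have h1 : a1 ∈ A := by
    rw [h.mem_iff]
    intro e he _
    rw [hc, if_neg (by omega)]
  have h0 : f - a1 * X ^ (2 * δ + 1 - 2 * i) ∈ A := by
    rw [h.mem_iff]
    intro e he1 he2
    rw [map_sub, coeff_mul_X_pow']
    by_cases hpe : 2 * δ + 1 - 2 * i ≤ e
    · rw [if_pos hpe, hc, if_pos (by omega)]
      have : e - (2 * δ + 1 - 2 * i) + (2 * δ + 1 - 2 * i) = e := by omega
      rw [this, sub_self]
    · rw [if_neg hpe, sub_zero]
      exact hf e he1 (by omega)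
  exact ⟨⟨_, h0⟩, ⟨a1, h1⟩, by simp⟩

lemma MonoD.mem_Mod_iff (h : MonoD δ A) {i : ℕ} (hi : i ≤ δ) (f : PowerSeries k) :
    f ∈ Mod δ A i ↔ InMod δ i f := by
  constructor
  · intro hf
    unfold Mod at hf
    induction hf using Submodule.span_induction with
    | mem x hx =>
      rcases hx with rfl | hx
      · intro e he _
        rw [coeff_one, if_neg (by omega)]
      · rw [Set.mem_singleton_iff] at hx
        subst hx
        intro e _ he
        rw [coeff_X_pow, if_neg (by omega)]
    | zero => intro e _ _; simp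
    | add x y _ _ hx hy =>
      intro e he1 he2
      rw [map_add, hx e he1 he2, hy e he1 he2, add_zero]
    | smul a x _ hx =>
      intro e he1 he2
      rw [smulA]
      apply coeff_mul_eq_zero_of
      intro p q hpq
      by_cases hp : p % 2 = 1
      · left
        exact h.coeff_A a.2 hp (by omega)
      · right
        exact hx q (by omega) (by omega)
  · intro hf
    obtain ⟨a0, a1, rfl⟩ := h.decomp hi hf
    have h1 : (1 : PowerSeries k) ∈ Mod δ A i := Submodule.subset_span (by simp)
    have h2 : (X : PowerSeries k) ^ (2 * δ + 1 - 2 * i) ∈ Mod δ A i :=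
      Submodule.subset_span (by simp)
    have h3 := Submodule.add_mem _ (Submodule.smul_mem _ a0 h1) (Submodule.smul_mem _ a1 h2)
    rw [smulA, smulA, mul_one] at h3
    exact h3

end Groth.Agent.Lib.Helper72.A2d
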