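import Mathlib
import Groth.Agent.Lib.Helper72.CubExtA

/-!
# Monomial modules over the cubical ring `A = k + X^(m+1) k⟦X⟧`: presentation and its kernel

`M ⊆ k⟦X⟧` is the `A`-submodule generated by `X^(g l)`, `l : Fin (r+1)`, `g 0 = 0`, `g l < m+1`.
-/

universe u

open PowerSeries

namespace Groth.Agent.Lib.Helper72.CubExt

variable {k : Type u} [Field k] {m r : ℕ} {A : Subalgebra k (PowerSeries k)}
  {M : Submodule A (PowerSeries k)} {g : Fin (r + 1) → ℕ}

lemma smul_def'' (a : A) (b : PowerSeries k) : a • b = (a : PowerSeries k) * b := rfl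

/-- the data of a monomial module over the cubical ring -/
structure GenData (m r : ℕ) (A : Subalgebra k (PowerSeries k)) (M : Submodule A (PowerSeries k))
    (g : Fin (r + 1) → ℕ) : Prop where
  mono : Mono m A
  g0 : g 0 = 0
  ginj : Function.Injective g
  glt : ∀ l, g l < m + 1
  mem : ∀ f, f ∈ M ↔ ∀ e, e < m + 1 → e ∉ Set.range g → coeff e f = 0

namespace GenData

variable (d : GenData m r A M g)
include d

lemma X_pow_g_mem (l : Fin (r + 1)) : (X : PowerSeries k) ^ (g l) ∈ M := by
  rw [d.mem]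
  intro e _ hne
  rw [coeff_X_pow, if_neg]
  rintro rfl
  exact hne ⟨l, rfl⟩

/-- everything divisible by `X^(m+1)` lies in `M` -/
lemma X_pow_mul_mem (f : PowerSeries k) : X ^ (m + 1) * f ∈ M := by
  rw [d.mem]
  intro e he _
  rw [coeff_X_pow_mul', if_neg (by omega)]

/-- the generators of `M` -/
noncomputable def gen (l : Fin (r + 1)) : M := ⟨X ^ (g l), d.X_pow_g_mem l⟩

/-- the presentation `A^(r+1) → M` -/
noncomputable def pres : (Fin (r + 1) → A) →ₗ[A] M := Fintype.linearCombination A d.gen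

lemma coe_pres_apply (a : Fin (r + 1) → A) :
    ((d.pres a : M) : PowerSeries k) = ∑ l, (a l : PowerSeries k) * X ^ (g l) := by
  rw [pres, Fintype.linearCombination_apply, Submodule.coe_sum]
  rfl

lemma pres_eq_zero_iff (a : Fin (r + 1) → A) :
    d.pres a = 0 ↔ ∑ l, (a l : PowerSeries k) * X ^ (g l) = 0 := by
  rw [← d.coe_pres_apply, ZeroMemClass.coe_eq_zero]

lemma pres_surjective : Function.Surjective d.pres := by
  rintro ⟨f, hf⟩
  have hA : X ^ (m + 1) * sh (m + 1) f + C (coeff 0 f) ∈ A :=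
    A.add_mem (d.mono.X_pow_mul_mem _) (A.algebraMap_mem _)
  refine ⟨fun l => if l = 0 then ⟨_, hA⟩ else algebraMap k A (coeff (g l) f), ?_⟩
  apply Subtype.ext
  rw [coe_pres_apply]
  show _ = f
  have key : ∀ l : Fin (r + 1),
      (((if l = 0 then (⟨_, hA⟩ : A) else algebraMap k A (coeff (g l) f) : A)) : PowerSeries k)
        * X ^ (g l)
      = (if l = 0 then X ^ (m + 1) * sh (m + 1) f else 0) + C (coeff (g l) f) * X ^ (g l) := by
    intro l
    by_cases hl : l = 0
    · subst hl
      rw [if_pos rfl, if_pos rfl, d.g0]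
      simp
    · rw [if_neg hl, if_neg hl, zero_add]
      rfl
  rw [Finset.sum_congr rfl (fun l _ => key l), Finset.sum_add_distrib, Finset.sum_ite_eq'
    Finset.univ (0 : Fin (r + 1)) (fun _ => X ^ (m + 1) * sh (m + 1) f), if_pos (Finset.mem_univ _)]
  conv_rhs => rw [f.eq_X_pow_mul_shift_add_trunc (m + 1)]
  congr 1
  rw [trunc_apply, ← Polynomial.coeToPowerSeries.ringHom_apply, map_sum]
  rw [← Finset.sum_image (s := Finset.univ) (g := g)
    (f := fun e => C (coeff e f) * (X : PowerSeries k) ^ e) (fun x _ y _ hxy => d.ginj hxy)]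
  apply Finset.sum_subset_zero_on_sdiff
  · intro e he
    rw [Finset.mem_image] at he
    obtain ⟨l, _, rfl⟩ := he
    rw [Finset.mem_Ico]
    exact ⟨Nat.zero_le _, d.glt l⟩
  · intro e he
    rw [Finset.mem_sdiff, Finset.mem_Ico, Finset.mem_image] at he
    rw [Polynomial.coeToPowerSeries.ringHom_apply, Polynomial.coe_monomial]
    have : coeff e f = 0 := (d.mem f).1 hf e he.1.2 (by
      rintro ⟨l, rfl⟩
      exact he.2 ⟨l, Finset.mem_univ _, rfl⟩)
    rw [this, map_zero]
  · intro e _
    rw [Polynomial.coeToPowerSeries.ringHom_apply, Polynomial.coe_monomial,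
      monomial_eq_C_mul_X_pow]

end GenData

end Groth.Agent.Lib.Helper72.CubExt
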