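import Mathlib
import Groth.Agent.Lib.Helper72.CubGenA

/-!
# Monomial modules over the cubical ring: the kernel of the presentation
-/

universe u

open PowerSeries

namespace Groth.Agent.Lib.Helper72.CubExt

variable {k : Type u} [Field k] {m r : ℕ} {A : Subalgebra k (PowerSeries k)}
  {M : Submodule A (PowerSeries k)} {g : Fin (r + 1) → ℕ}

/-- instance shortcut -/
noncomputable instance (priority := 10000) instModuleSub (M : Submodule A (PowerSeries k)) :
    Module A M := Submodule.module _

/-- instance shortcut -/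
noncomputable instance (priority := 10000) instModuleKerG (d : GenData m r A M g) :
    Module A (LinearMap.ker d.pres) := Submodule.module _

/-- instance shortcut -/
noncomputable instance (priority := 10000) instSMulKerG (d : GenData m r A M g) :
    SMul A (LinearMap.ker d.pres) :=
  (instModuleKerG d).toDistribMulAction.toMulAction.toSMul

namespace GenData

variable (d : GenData m r A M g)
include d

/-- elements of the kernel have vanishing constant coefficients -/
lemma ker_coeff_zero {a : Fin (r + 1) → A} (ha : d.pres a = 0)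
    (i : Fin (r + 1)) : coeff 0 (a i : PowerSeries k) = 0 := by
  rw [d.pres_eq_zero_iff] at ha
  have h1 := congrArg (coeff (g i)) ha
  rw [map_sum, map_zero] at h1
  rw [Finset.sum_eq_single i] at h1
  · rw [coeff_mul_X_pow', if_pos le_rfl, Nat.sub_self] at h1
    exact h1
  · intro l _ hl
    rw [coeff_mul_X_pow']
    split_ifs with hle
    · have hlt : g l < g i := lt_of_le_of_ne hle (fun hh => hl (d.ginj hh))
      exact d.mono.coeff_eq_zero (a l).2 (by omega) (by have := d.glt i; omega)
    · rfl
  · intro hni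
    exact absurd (Finset.mem_univ _) hni

lemma ker_coeff_low {a : Fin (r + 1) → A} (ha : d.pres a = 0)
    (l : Fin (r + 1)) {i : ℕ} (hi : i < m + 1) : coeff i (a l : PowerSeries k) = 0 :=
  d.mono.coeff_eq_zero' (f := ((a l : A) : PowerSeries k)) (a l).2 (d.ker_coeff_zero ha l) hi

lemma ker_X_pow_mul_sh {a : Fin (r + 1) → A} (ha : d.pres a = 0) (l : Fin (r + 1)) :
    (X : PowerSeries k) ^ (m + 1) * sh (m + 1) (a l : PowerSeries k) = (a l : PowerSeries k) :=
  X_pow_mul_sh _ _ (fun _ hi => d.ker_coeff_low ha l hi)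

lemma sh_mul_ker {a : Fin (r + 1) → A} (ha : d.pres a = 0)
    (l : Fin (r + 1)) (c : PowerSeries k) :
    sh (m + 1) (c * (a l : PowerSeries k)) = c * sh (m + 1) (a l : PowerSeries k) := by
  conv_lhs => rw [← d.ker_X_pow_mul_sh ha l]
  rw [mul_left_comm, sh_X_pow_mul]

/-- the elements `X^(m+1) * b` of `A` -/
noncomputable def xb (b : PowerSeries k) : A := ⟨X ^ (m + 1) * b, d.mono.X_pow_mul_mem b⟩

@[simp] lemma coe_xb (b : PowerSeries k) :
    ((d.xb b : A) : PowerSeries k) = X ^ (m + 1) * b := rfl

/-- the syzygies `b v_j = X^n b e_{j+1} - X^{n+g_{j+1}} b e_0` -/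
noncomputable def bv (b : PowerSeries k) (j : Fin r) : LinearMap.ker d.pres :=
  ⟨Pi.single j.succ (d.xb b) - Pi.single 0 (d.xb (X ^ (g j.succ) * b)), by
    rw [LinearMap.mem_ker, d.pres_eq_zero_iff]
    rw [Finset.sum_eq_add_of_mem (0 : Fin (r + 1)) j.succ (Finset.mem_univ _) (Finset.mem_univ _)
      (Fin.succ_ne_zero j).symm]
    · simp only [Pi.sub_apply, Pi.single_apply, if_pos, if_neg (Fin.succ_ne_zero j),
        if_neg (Fin.succ_ne_zero j).symm, if_true, zero_sub, sub_zero, d.g0, pow_zero, mul_one]
      push_cast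
      simp only [coe_xb]
      ring
    · intro l _ hl
      simp only [Pi.sub_apply, Pi.single_apply, if_neg hl.2, if_neg hl.1, sub_zero]
      simp⟩

/-- the basic syzygies `v_j` -/
noncomputable def v (j : Fin r) : LinearMap.ker d.pres := d.bv 1 j

lemma bv_val_succ (b : PowerSeries k) (j l : Fin r) :
    ((d.bv b j : LinearMap.ker d.pres) : Fin (r + 1) → A) l.succ
      = if l = j then d.xb b else 0 := by
  simp only [bv, Pi.sub_apply]
  rw [Pi.single_apply, Pi.single_apply, if_neg (Fin.succ_ne_zero l), sub_zero]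
  simp only [Fin.succ_inj]

lemma bv_val_zero (b : PowerSeries k) (j : Fin r) :
    ((d.bv b j : LinearMap.ker d.pres) : Fin (r + 1) → A) 0
      = - d.xb (X ^ (g j.succ) * b) := by
  simp only [bv, Pi.sub_apply]
  rw [Pi.single_apply, Pi.single_apply, if_neg (Fin.succ_ne_zero j).symm, if_pos rfl, zero_sub]

/-- `X^n • a = Σ a_{j+1} • v_j` on the kernel -/
lemma xpow_smul_eq (a : LinearMap.ker d.pres) :
    (d.xb 1 • a : LinearMap.ker d.pres) = ∑ j : Fin r, (a.1 j.succ) • d.v j := by
  apply Subtype.ext
  rw [Submodule.coe_smul, Submodule.coe_sum]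
  funext l
  rw [Finset.sum_apply]
  simp only [Submodule.coe_smul, Pi.smul_apply, smul_eq_mul]
  refine Fin.cases ?_ (fun l' => ?_) l
  · simp only [v, bv_val_zero]
    apply Subtype.ext
    have ha : d.pres a.1 = 0 := a.2
    rw [d.pres_eq_zero_iff, Fin.sum_univ_succ] at ha
    have h2 : X ^ (m + 1) * ((a.1 0 : PowerSeries k) * X ^ (g 0)
        + ∑ j : Fin r, (a.1 j.succ : PowerSeries k) * X ^ (g j.succ)) = 0 := by
      rw [ha, mul_zero]
    simp only [d.g0, pow_zero, mul_one] at h2
    rw [mul_add, Finset.mul_sum] at h2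
    have h3 := eq_neg_of_add_eq_zero_left h2
    push_cast
    simp only [coe_xb, mul_one]
    rw [h3, ← Finset.sum_neg_distrib]
    refine Finset.sum_congr rfl (fun j _ => ?_)
    ring
  · simp only [v, bv_val_succ]
    rw [Finset.sum_eq_single l']
    · rw [if_pos rfl, mul_comm]
    · intro j _ hj
      rw [if_neg (Ne.symm hj), mul_zero]
    · intro hni
      exact absurd (Finset.mem_univ _) hni

/-- `X^n • (b v_j) = (X^n b) • v_j` -/
lemma xpow_smul_bv (b : PowerSeries k) (j : Fin r) :
    (d.xb 1 • d.bv b j : LinearMap.ker d.pres) = d.xb b • d.v j := by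
  apply Subtype.ext
  rw [Submodule.coe_smul, Submodule.coe_smul]
  funext l
  simp only [Pi.smul_apply, smul_eq_mul]
  refine Fin.cases ?_ (fun l' => ?_) l
  · simp only [v, bv_val_zero]
    apply Subtype.ext
    push_cast
    simp only [coe_xb]
    ring
  · simp only [v, bv_val_succ]
    split_ifs
    · apply Subtype.ext
      push_cast
      simp only [coe_xb]
      ring
    · rw [mul_zero, mul_zero]

/-- consequence for linear maps out of the kernel -/
lemma X_pow_mul_apply (φ : LinearMap.ker d.pres →ₗ[A] M) (a : LinearMap.ker d.pres) :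
    X ^ (m + 1) * (φ a : PowerSeries k)
      = ∑ j : Fin r, (a.1 j.succ : PowerSeries k) * (φ (d.v j) : PowerSeries k) := by
  have h1 : φ ((d.xb 1 • a : LinearMap.ker d.pres)) = d.xb 1 • φ a := map_smul _ _ _
  rw [xpow_smul_eq, map_sum] at h1
  have h2 := congrArg (fun x : M => (x : PowerSeries k)) h1
  simp only [map_smul, Submodule.coe_sum, Submodule.coe_smul, smul_def'', coe_xb, mul_one] at h2
  exact h2.symm

/-- the values `φ (v_j)` lie in the conductor of `M` -/
lemma mul_apply_v_mem (φ : LinearMap.ker d.pres →ₗ[A] M) (b : PowerSeries k) (j : Fin r) :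
    b * (φ (d.v j) : PowerSeries k) ∈ M := by
  have h1 : φ ((d.xb 1 • d.bv b j : LinearMap.ker d.pres)) = d.xb 1 • φ (d.bv b j) :=
    map_smul _ _ _
  rw [xpow_smul_bv, map_smul] at h1
  have h2 := congrArg (fun x : M => (x : PowerSeries k)) h1
  simp only [Submodule.coe_smul, smul_def'', coe_xb, mul_one] at h2
  rw [mul_assoc] at h2
  have h3 := X_pow_mul_cancel (m + 1) h2
  rw [h3]
  exact (φ (d.bv b j)).2

end GenData

end Groth.Agent.Lib.Helper72.CubExt
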