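import Mathlib
import Groth.Agent.Lib.Helper72.A2dA
import Groth.Agent.Lib.Helper72.CubGenB

/-!
# The `A_{2δ}` ring: presentation of `M_i` and its kernel
-/

universe u

open PowerSeries

namespace Groth.Agent.Lib.Helper72.A2d

open Groth.Agent.Lib.Helper72.CubExt (sh coeff_sh sh_X_pow_mul X_pow_mul_sh X_pow_mul_cancel)

variable {k : Type u} [Field k] {δ i : ℕ} {A : Subalgebra k (PowerSeries k)}

/-- first generator of `M_i` -/
noncomputable def gen0 (δ : ℕ) (A : Subalgebra k (PowerSeries k)) (i : ℕ) : Mod δ A i :=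
  ⟨1, Submodule.subset_span (by simp)⟩

/-- second generator of `M_i` -/
noncomputable def gen1 (δ : ℕ) (A : Subalgebra k (PowerSeries k)) (i : ℕ) : Mod δ A i :=
  ⟨X ^ (2 * δ + 1 - 2 * i), Submodule.subset_span (by simp)⟩

/-- the presentation `A² → M_i` -/
noncomputable def pres (δ : ℕ) (A : Subalgebra k (PowerSeries k)) (i : ℕ) :
    (Fin 2 → A) →ₗ[A] Mod δ A i :=
  Fintype.linearCombination A ![gen0 δ A i, gen1 δ A i]

lemma coe_pres (a : Fin 2 → A) : ((pres δ A i a : Mod δ A i) : PowerSeries k)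
    = (a 0 : PowerSeries k) + (a 1 : PowerSeries k) * X ^ (2 * δ + 1 - 2 * i) := by
  rw [pres, Fintype.linearCombination_apply, Fin.sum_univ_two]
  simp only [Matrix.cons_val_zero, Matrix.cons_val_one, Submodule.coe_add, Submodule.coe_smul]
  rw [smulA, smulA]
  simp [gen0, gen1]

/-- instance shortcut -/
noncomputable instance (priority := 10000) instModuleKerD :
    Module A (LinearMap.ker (pres δ A i)) := Submodule.module _

/-- instance shortcut -/
noncomputable instance (priority := 10000) instSMulKerD :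
    SMul A (LinearMap.ker (pres δ A i)) :=
  (instModuleKerD (δ := δ) (i := i) (A := A)).toDistribMulAction.toMulAction.toSMul

lemma ker_eq (a : LinearMap.ker (pres δ A i)) :
    (a.1 0 : PowerSeries k) = - ((a.1 1 : PowerSeries k) * X ^ (2 * δ + 1 - 2 * i)) := by
  have ha : pres δ A i a.1 = 0 := a.2
  have h2 := congrArg (fun x : Mod δ A i => (x : PowerSeries k)) ha
  simp only [coe_pres, ZeroMemClass.coe_zero] at h2
  exact eq_neg_of_add_eq_zero_left h2

section

variable (h : MonoD δ A) (hi : i ≤ δ)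
include h hi

lemma pres_surjective : Function.Surjective (pres δ A i) := by
  rintro ⟨f, hf⟩
  obtain ⟨a0, a1, hf'⟩ := h.decomp hi ((h.mem_Mod_iff hi f).1 hf)
  refine ⟨![a0, a1], Subtype.ext ?_⟩
  rw [coe_pres]
  simp only [Matrix.cons_val_zero, Matrix.cons_val_one]
  exact hf'.symm

omit hi in
/-- even powers of `X` as elements of `A` -/
noncomputable def xev (x : ℕ) : A := ⟨X ^ (2 * x), h.X_pow_even_mem x⟩

omit hi in
/-- multiples of `X^(2δ+1)` as elements of `A` -/
noncomputable def xodd (x : ℕ) (f : PowerSeries k) : A :=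
  ⟨X ^ (2 * δ + 1 + x) * f, h.X_pow_mul_mem x f⟩

omit hi in
@[simp] lemma coe_xev (x : ℕ) : ((xev h x : A) : PowerSeries k) = X ^ (2 * x) := rfl

omit hi in
@[simp] lemma coe_xodd (x : ℕ) (f : PowerSeries k) :
    ((xodd h x f : A) : PowerSeries k) = X ^ (2 * δ + 1 + x) * f := rfl

/-- the basic syzygy `u₀ = (-X^(2δ+1), X^(2i))` -/
noncomputable def u0 : LinearMap.ker (pres δ A i) :=
  ⟨![- xodd h 0 1, xev h i], by
    rw [LinearMap.mem_ker]
    apply Subtype.ext
    rw [coe_pres]
    simp only [Matrix.cons_val_zero, Matrix.cons_val_one, ZeroMemClass.coe_zero]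
    push_cast
    simp only [coe_xodd, coe_xev, add_zero, mul_one]
    rw [← pow_add]
    have : 2 * i + (2 * δ + 1 - 2 * i) = 2 * δ + 1 := by omega
    rw [this, neg_add_cancel]⟩

/-- the syzygy `u₁ = (-X^(2δ+1+p), X^(2δ+1))` -/
noncomputable def u1 : LinearMap.ker (pres δ A i) :=
  ⟨![- xodd h (2 * δ + 1 - 2 * i) 1, xodd h 0 1], by
    rw [LinearMap.mem_ker]
    apply Subtype.ext
    rw [coe_pres]
    simp only [Matrix.cons_val_zero, Matrix.cons_val_one, ZeroMemClass.coe_zero]
    push_cast
    simp only [coe_xodd, add_zero, mul_one]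
    rw [← pow_add, neg_add_cancel]⟩

lemma ker_low (a : LinearMap.ker (pres δ A i)) {e : ℕ} (he : e < 2 * i) :
    coeff e (a.1 1 : PowerSeries k) = 0 := by
  by_cases hpar : e % 2 = 1
  · exact h.coeff_A (a.1 1).2 hpar (by omega)
  · have h1 : coeff (e + (2 * δ + 1 - 2 * i)) (a.1 0 : PowerSeries k) = 0 :=
      h.coeff_A (a.1 0).2 (by omega) (by omega)
    rw [ker_eq a, map_neg, coeff_mul_X_pow, neg_eq_zero] at h1
    exact h1

lemma ker_sh (a : LinearMap.ker (pres δ A i)) :
    (X : PowerSeries k) ^ (2 * i) * sh (2 * i) (a.1 1 : PowerSeries k) = (a.1 1 : PowerSeries k) :=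
  X_pow_mul_sh _ _ (fun _ he => ker_low h hi a he)

lemma ker_sh_inMod (a : LinearMap.ker (pres δ A i)) :
    InMod δ i (sh (2 * i) (a.1 1 : PowerSeries k)) := by
  intro e he1 he2
  rw [coeff_sh]
  exact h.coeff_A (a.1 1).2 (by omega) (by omega)

lemma sh_smul (c : A) (a : LinearMap.ker (pres δ A i)) :
    sh (2 * i) ((c : PowerSeries k) * (a.1 1 : PowerSeries k))
      = (c : PowerSeries k) * sh (2 * i) (a.1 1 : PowerSeries k) := by
  conv_lhs => rw [← ker_sh h hi a]
  rw [mul_left_comm, sh_X_pow_mul]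

/-- key relation: `X^(2i) • a = a₁ • u₀` -/
lemma xev_smul_eq (a : LinearMap.ker (pres δ A i)) :
    (xev h i • a : LinearMap.ker (pres δ A i)) = (a.1 1) • u0 h hi := by
  apply Subtype.ext
  rw [Submodule.coe_smul, Submodule.coe_smul]
  funext l
  simp only [Pi.smul_apply, smul_eq_mul]
  apply Subtype.ext
  fin_cases l
  · simp only [u0, Fin.zero_eta, Matrix.cons_val_zero]
    push_cast
    rw [ker_eq a]
    simp only [coe_xev, coe_xodd, add_zero, mul_one]
    have : (X : PowerSeries k) ^ (2 * δ + 1) = X ^ (2 * i) * X ^ (2 * δ + 1 - 2 * i) := by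
      rw [← pow_add]
      congr 1
      omega
    rw [this]
    ring
  · simp only [u0, Fin.mk_one, Matrix.cons_val_one]
    push_cast
    simp only [coe_xev]
    ring

/-- values of a linear map on the kernel are determined by the value on `u₀` -/
lemma apply_eq {N : Submodule A (PowerSeries k)} (φ : LinearMap.ker (pres δ A i) →ₗ[A] N)
    (a : LinearMap.ker (pres δ A i)) :
    (φ a : PowerSeries k) = sh (2 * i) (a.1 1 : PowerSeries k) * (φ (u0 h hi) : PowerSeries k) := by
  have h1 : φ ((xev h i • a : LinearMap.ker (pres δ A i))) = xev h i • φ a := map_smul _ _ _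
  rw [xev_smul_eq h hi, map_smul] at h1
  have h2 := congrArg (fun x : N => (x : PowerSeries k)) h1
  simp only [Submodule.coe_smul, smulA, coe_xev] at h2
  apply Groth.Agent.Lib.Helper72.CubExt.X_pow_mul_cancel (2 * i)
  rw [← h2, ← mul_assoc, ker_sh h hi a]

end

end Groth.Agent.Lib.Helper72.A2d
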