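import Mathlib
import Groth.Agent.Lib.Helper72.A2dB

/-!
# The `A_{2δ}` ring: linear maps from the syzygy module of `M_i` to `M_j`
-/

universe u

open PowerSeries

namespace Groth.Agent.Lib.Helper72.A2d

open Groth.Agent.Lib.Helper72.CubExt (sh coeff_sh sh_X_pow_mul X_pow_mul_sh)

variable {k : Type u} [Field k] {δ i j : ℕ} {A : Subalgebra k (PowerSeries k)}

lemma sh_X_pow (n : ℕ) : sh n ((X : PowerSeries k) ^ n) = 1 := by
  have := sh_X_pow_mul n (1 : PowerSeries k)
  rwa [mul_one] at this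

/-- products of elements of `M_i` with elements satisfying the `H`-conditions lie in `M_j` -/
lemma mul_inMod {m y : PowerSeries k} (hm : InMod δ i m) (hy1 : InMod δ j y)
    (hy2 : ∀ e, e % 2 = 0 → e < 2 * (i - j) → coeff e y = 0) : InMod δ j (m * y) := by
  intro e he1 he2
  apply coeff_mul_eq_zero_of
  intro p q hpq
  by_cases hp : p % 2 = 1
  · by_cases hp2 : p < 2 * δ + 1 - 2 * i
    · left
      exact hm p hp hp2
    · right
      exact hy2 q (by omega) (by omega)
  · right
    exact hy1 q (by omega) (by omega)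

section

variable (h : MonoD δ A) (hi : i ≤ δ) (hj : j ≤ δ)
include h hi hj

omit hi in
lemma apply_inMod (φ : LinearMap.ker (pres δ A i) →ₗ[A] Mod δ A j)
    (a : LinearMap.ker (pres δ A i)) : InMod δ j (φ a : PowerSeries k) :=
  (h.mem_Mod_iff hj _).1 (φ a).2

lemma apply_u0_even (φ : LinearMap.ker (pres δ A i) →ₗ[A] Mod δ A j) {e : ℕ}
    (he1 : e % 2 = 0) (he2 : e < 2 * (i - j)) : coeff e (φ (u0 h hi) : PowerSeries k) = 0 := by
  have h1 := apply_eq h hi φ (u1 (i := i) h)
  have h2 : ((u1 (i := i) h).1 1 : PowerSeries k)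
      = X ^ (2 * i) * X ^ (2 * δ + 1 - 2 * i) := by
    simp only [u1, Matrix.cons_val_one, Matrix.cons_val_zero, Matrix.cons_val_fin_one, coe_xodd,
      add_zero, mul_one]
    rw [← pow_add]
    congr 1
    omega
  rw [h2, sh_X_pow_mul] at h1
  have h3 := apply_inMod h hj φ (u1 (i := i) h) (e + (2 * δ + 1 - 2 * i)) (by omega) (by omega)
  rw [h1, coeff_X_pow_mul] at h3
  exact h3

/-- the linear map on the kernel with prescribed value on `u₀` -/
noncomputable def phiOf (y : PowerSeries k) (hy1 : InMod δ j y)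
    (hy2 : ∀ e, e % 2 = 0 → e < 2 * (i - j) → coeff e y = 0) :
    LinearMap.ker (pres δ A i) →ₗ[A] Mod δ A j where
  toFun a := ⟨sh (2 * i) (a.1 1 : PowerSeries k) * y,
    (h.mem_Mod_iff hj _).2 (mul_inMod (ker_sh_inMod h hi a) hy1 hy2)⟩
  map_add' a b := by
    apply Subtype.ext
    simp only [Submodule.coe_add, Pi.add_apply, Subalgebra.coe_add, map_add, add_mul]
  map_smul' c a := by
    apply Subtype.ext
    simp only [RingHom.id_apply, Submodule.coe_smul, Pi.smul_apply, smul_eq_mul,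
      Subalgebra.coe_mul]
    rw [smulA, sh_smul h hi c a, mul_assoc]

lemma coe_phiOf_u0 (y : PowerSeries k) (hy1 : InMod δ j y)
    (hy2 : ∀ e, e % 2 = 0 → e < 2 * (i - j) → coeff e y = 0) :
    ((phiOf h hi hj y hy1 hy2 (u0 h hi) : Mod δ A j) : PowerSeries k) = y := by
  show sh (2 * i) (((u0 h hi).1 1 : A) : PowerSeries k) * y = y
  simp only [u0, Matrix.cons_val_one, Matrix.cons_val_zero, Matrix.cons_val_fin_one, coe_xev]
  rw [sh_X_pow, one_mul]

lemma single_eq_smul (l : Fin 2) (c : A) :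
    (Pi.single l c : Fin 2 → A) = c • Pi.single l (1 : A) := by
  rw [← Pi.single_smul, smul_eq_mul, mul_one]

omit hj in
lemma u0_val_eq : (u0 h hi).1 = (- xodd h 0 1) • Pi.single 0 (1 : A)
    + xev h i • Pi.single 1 (1 : A) := by
  funext l
  fin_cases l
  · simp [u0]
  · simp [u0]

/-- extension criterion -/
lemma exists_ext_iff (φ : LinearMap.ker (pres δ A i) →ₗ[A] Mod δ A j) :
    (∃ ψ : (Fin 2 → A) →ₗ[A] Mod δ A j, ψ ∘ₗ (LinearMap.ker (pres δ A i)).subtype = φ) ↔
    ∃ β0 β1 : Mod δ A j, (φ (u0 h hi) : PowerSeries k)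
      = X ^ (2 * i) * (β1 : PowerSeries k) - X ^ (2 * δ + 1) * (β0 : PowerSeries k) := by
  constructor
  · rintro ⟨ψ, rfl⟩
    refine ⟨ψ (Pi.single 0 1), ψ (Pi.single 1 1), ?_⟩
    show ((ψ (u0 h hi).1 : Mod δ A j) : PowerSeries k) = _
    rw [u0_val_eq h hi, map_add, map_smul, map_smul]
    simp only [Submodule.coe_add, Submodule.coe_smul, smulA, coe_xev]
    push_cast
    simp only [coe_xodd, add_zero, mul_one]
    ring
  · rintro ⟨β0, β1, hβ⟩
    refine ⟨(LinearMap.proj (R := A) (φ := fun _ : Fin 2 => A) 0).smulRight β0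
      + (LinearMap.proj (R := A) (φ := fun _ : Fin 2 => A) 1).smulRight β1, ?_⟩
    apply LinearMap.ext
    intro a
    apply Subtype.ext
    rw [apply_eq h hi φ a, hβ]
    simp only [LinearMap.coe_comp, Function.comp_apply, Submodule.coe_subtype,
      LinearMap.add_apply, LinearMap.smulRight_apply, LinearMap.proj_apply,
      Submodule.coe_add, Submodule.coe_smul, smulA]
    rw [ker_eq a]
    conv_lhs => rw [← ker_sh h hi a]
    have : (X : PowerSeries k) ^ (2 * δ + 1) = X ^ (2 * i) * X ^ (2 * δ + 1 - 2 * i) := by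
      rw [← pow_add]
      congr 1
      omega
    rw [this]
    ring

end

end Groth.Agent.Lib.Helper72.A2d
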