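import Mathlib
import Groth.Agent.Lib.Helper72.CubExtA

/-!
# The presentation `A^(m+1) → k⟦X⟧` over the cubical ring and its kernel
-/

universe u

open PowerSeries

namespace Groth.Agent.Lib.Helper72.CubExt

variable {k : Type u} [Field k] {m : ℕ} {A : Subalgebra k (PowerSeries k)}

/-- the presentation `A^(m+1) → B`, `a ↦ Σ aᵢ Xⁱ` -/
noncomputable def pres (m : ℕ) (A : Subalgebra k (PowerSeries k)) :
    (Fin (m + 1) → A) →ₗ[A] PowerSeries k :=
  Fintype.linearCombination A (fun i : Fin (m + 1) => (X : PowerSeries k) ^ (i : ℕ))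

/-- instance shortcut (the generic search is very slow for subalgebras) -/
noncomputable instance (priority := 10000) instModuleKer :
    Module A (LinearMap.ker (pres m A)) := Submodule.module _

/-- instance shortcut -/
noncomputable instance (priority := 10000) instSMulKer :
    SMul A (LinearMap.ker (pres m A)) :=
  (instModuleKer (m := m) (A := A)).toDistribMulAction.toMulAction.toSMul

lemma smul_def' (a : A) (b : PowerSeries k) : a • b = (a : PowerSeries k) * b := rfl

lemma pres_apply (a : Fin (m + 1) → A) :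
    pres m A a = ∑ i, (a i : PowerSeries k) * X ^ (i : ℕ) := by
  rw [pres, Fintype.linearCombination_apply]
  rfl

lemma pres_single (i : Fin (m + 1)) (a : A) :
    pres m A (Pi.single i a) = (a : PowerSeries k) * X ^ (i : ℕ) := by
  rw [pres, Fintype.linearCombination_apply_single]
  rfl

lemma pres_surjective (h : Mono m A) : Function.Surjective (pres m A) := by
  intro b
  rw [← LinearMap.mem_range]
  rw [b.eq_X_pow_mul_shift_add_trunc (m + 1)]
  refine Submodule.add_mem _ ?_ ?_
  · refine ⟨Pi.single 0 ⟨X ^ (m + 1) * (PowerSeries.mk fun i => coeff (i + (m + 1)) b),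
      h.X_pow_mul_mem _⟩, ?_⟩
    rw [pres_single]
    simp
  · rw [trunc_apply, ← Polynomial.coeToPowerSeries.ringHom_apply, map_sum]
    refine Submodule.sum_mem _ (fun i hi => ?_)
    rw [Polynomial.coeToPowerSeries.ringHom_apply, Polynomial.coe_monomial,
      monomial_eq_C_mul_X_pow]
    rw [Finset.mem_Ico] at hi
    refine ⟨Pi.single ⟨i, hi.2⟩ (algebraMap k A (coeff i b)), ?_⟩
    rw [pres_single]
    rfl

/-- elements of the kernel have vanishing constant coefficients -/
lemma ker_coeff_zero (h : Mono m A) {a : Fin (m + 1) → A} (ha : pres m A a = 0)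
    (i : Fin (m + 1)) : coeff 0 (a i : PowerSeries k) = 0 := by
  have h1 := congrArg (coeff (i : ℕ)) ha
  rw [pres_apply, map_sum, map_zero] at h1
  rw [Finset.sum_eq_single i] at h1
  · rw [coeff_mul_X_pow', if_pos le_rfl, Nat.sub_self] at h1
    exact h1
  · intro l _ hl
    rw [coeff_mul_X_pow']
    split_ifs with hle
    · have hlt : (l : ℕ) < i := lt_of_le_of_ne hle (fun hh => hl (Fin.ext hh))
      exact h.coeff_eq_zero (a l).2 (by omega) (by have := i.2; omega)
    · rfl
  · intro hni
    exact absurd (Finset.mem_univ _) hni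

lemma ker_coeff_low (h : Mono m A) {a : Fin (m + 1) → A} (ha : pres m A a = 0)
    (l : Fin (m + 1)) {i : ℕ} (hi : i < m + 1) : coeff i (a l : PowerSeries k) = 0 :=
  h.coeff_eq_zero' (f := ((a l : A) : PowerSeries k)) (a l).2 (ker_coeff_zero h ha l) hi

lemma ker_X_pow_mul_sh (h : Mono m A) {a : Fin (m + 1) → A} (ha : pres m A a = 0)
    (l : Fin (m + 1)) :
    (X : PowerSeries k) ^ (m + 1) * sh (m + 1) (a l : PowerSeries k) = (a l : PowerSeries k) :=
  X_pow_mul_sh _ _ (fun _ hi => ker_coeff_low h ha l hi)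

/-- for `r ∈ A` and `a` in the kernel, `sh (r * aₗ) = r * sh aₗ` -/
lemma sh_mul_ker (h : Mono m A) {a : Fin (m + 1) → A} (ha : pres m A a = 0)
    (l : Fin (m + 1)) (r : PowerSeries k) :
    sh (m + 1) (r * (a l : PowerSeries k)) = r * sh (m + 1) (a l : PowerSeries k) := by
  conv_lhs => rw [← ker_X_pow_mul_sh h ha l]
  rw [mul_left_comm, sh_X_pow_mul]

/-- the elements `X^(m+1+j)` of `A` -/
noncomputable def xpow (h : Mono m A) (j : ℕ) : A :=
  ⟨X ^ (m + 1 + j), by simpa using h.X_pow_mul_mem' j 1⟩

@[simp] lemma coe_xpow (h : Mono m A) (j : ℕ) :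
    ((xpow h j : A) : PowerSeries k) = X ^ (m + 1 + j) := rfl

/-- the basic syzygies `v_j = X^n e_{j+1} - X^{n+j+1} e_0` -/
noncomputable def v (h : Mono m A) (j : Fin m) : LinearMap.ker (pres m A) :=
  ⟨Pi.single j.succ (xpow h 0) - Pi.single 0 (xpow h (j + 1)), by
    rw [LinearMap.mem_ker, map_sub, pres_single, pres_single, coe_xpow, coe_xpow]
    simp only [Fin.val_succ, Fin.val_zero, pow_zero, mul_one, add_zero]
    rw [← pow_add, sub_self]⟩

lemma v_val_succ (h : Mono m A) (j l : Fin m) :
    ((v h j : LinearMap.ker (pres m A)) : Fin (m + 1) → A) l.succ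
      = if l = j then xpow h 0 else 0 := by
  simp only [v, Pi.sub_apply]
  rw [Pi.single_apply, Pi.single_apply, if_neg (Fin.succ_ne_zero l), sub_zero]
  simp only [Fin.succ_inj]

lemma v_val_zero (h : Mono m A) (j : Fin m) :
    ((v h j : LinearMap.ker (pres m A)) : Fin (m + 1) → A) 0 = - xpow h (j + 1) := by
  simp only [v, Pi.sub_apply]
  rw [Pi.single_apply, Pi.single_apply, if_neg (Fin.succ_ne_zero j).symm, if_pos rfl, zero_sub]

/-- `X^n • a = Σ a_{j+1} • v_j` on the kernel -/
lemma xpow_smul_eq (h : Mono m A) (a : LinearMap.ker (pres m A)) :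
    (xpow h 0 • a : LinearMap.ker (pres m A)) = ∑ j : Fin m, (a.1 j.succ) • v h j := by
  apply Subtype.ext
  rw [Submodule.coe_smul, Submodule.coe_sum]
  funext l
  rw [Finset.sum_apply]
  simp only [Submodule.coe_smul, Pi.smul_apply, smul_eq_mul]
  refine Fin.cases ?_ (fun l' => ?_) l
  · simp only [v_val_zero]
    apply Subtype.ext
    have ha : pres m A a.1 = 0 := a.2
    rw [pres_apply, Fin.sum_univ_succ] at ha
    have h2 : X ^ (m + 1) * ((a.1 0 : PowerSeries k) * X ^ ((0 : Fin (m + 1)) : ℕ)
        + ∑ j : Fin m, (a.1 j.succ : PowerSeries k) * X ^ ((j.succ : Fin (m + 1)) : ℕ)) = 0 := by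
      rw [ha, mul_zero]
    simp only [Fin.val_zero, pow_zero, mul_one, Fin.val_succ] at h2
    rw [mul_add, Finset.mul_sum] at h2
    have h3 := eq_neg_of_add_eq_zero_left h2
    push_cast
    simp only [coe_xpow, add_zero]
    rw [h3, ← Finset.sum_neg_distrib]
    refine Finset.sum_congr rfl (fun j _ => ?_)
    rw [pow_add]
    ring
  · simp only [v_val_succ]
    rw [Finset.sum_eq_single l']
    · rw [if_pos rfl, mul_comm]
    · intro j _ hj
      rw [if_neg (Ne.symm hj), mul_zero]
    · intro hni
      exact absurd (Finset.mem_univ _) hni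

/-- consequence for linear maps out of the kernel -/
lemma X_pow_mul_apply (h : Mono m A) (φ : LinearMap.ker (pres m A) →ₗ[A] PowerSeries k)
    (a : LinearMap.ker (pres m A)) :
    X ^ (m + 1) * φ a = ∑ j : Fin m, (a.1 j.succ : PowerSeries k) * φ (v h j) := by
  have h1 : φ ((xpow h 0 • a : LinearMap.ker (pres m A))) = xpow h 0 • φ a := map_smul _ _ _
  rw [xpow_smul_eq, map_sum] at h1
  simp only [map_smul, smul_def', coe_xpow, add_zero] at h1
  exact h1.symm

end Groth.Agent.Lib.Helper72.CubExt
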