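import Mathlib

/-!
# `Ext¹` from a one-step projective presentation

For a short exact sequence `0 → X₁ → X₂ → X₃ → 0` of `A`-modules with `X₂` projective,
`Ext¹(X₃, Y) ≃ₗ[A] Hom(X₁, Y) ⧸ (restrictions of maps X₂ → Y)`.
-/

universe u

open CategoryTheory Abelian

namespace Groth.Agent.Lib.Helper72.ExtPres

variable {A : Type u} [CommRing A]

section Cat

variable {S : ShortComplex (ModuleCat.{u} A)} (hS : S.ShortExact) (Y : ModuleCat.{u} A)

/-- The connecting map `Hom(X₁, Y) → Ext¹(X₃, Y)`. -/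
noncomputable def delta : (S.X₁ ⟶ Y) →ₗ[A] Ext S.X₃ Y 1 where
  toFun f := hS.extClass.comp (Ext.mk₀ f) (add_zero 1)
  map_add' f g := by rw [Ext.mk₀_add, Ext.comp_add]
  map_smul' r f := by
    rw [Ext.mk₀_smul, Ext.comp_smul]
    rfl

theorem delta_apply (f : S.X₁ ⟶ Y) :
    delta hS Y f = hS.extClass.comp (Ext.mk₀ f) (add_zero 1) := rfl

theorem delta_surjective [Projective S.X₂] : Function.Surjective (delta hS Y) := by
  intro x₃
  have h0 : (Ext.mk₀ S.g).comp x₃ (zero_add 1) = 0 := Ext.eq_zero_of_projective _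
  obtain ⟨x₁, hx₁⟩ := Ext.contravariant_sequence_exact₃ hS Y x₃ h0 (n₀ := 0) (by norm_num)
  obtain ⟨f, rfl⟩ := (Ext.mk₀_bijective S.X₁ Y).2 x₁
  exact ⟨f, hx₁⟩

theorem delta_eq_zero_iff (f : S.X₁ ⟶ Y) :
    delta hS Y f = 0 ↔ ∃ g : S.X₂ ⟶ Y, S.f ≫ g = f := by
  constructor
  · intro h
    obtain ⟨x₂, hx₂⟩ := Ext.contravariant_sequence_exact₁ hS Y (Ext.mk₀ f) (n₁ := 1)
      (by norm_num) h
    obtain ⟨g, rfl⟩ := (Ext.mk₀_bijective S.X₂ Y).2 x₂
    refine ⟨g, ?_⟩
    apply (Ext.mk₀_bijective S.X₁ Y).1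
    rw [← hx₂, Ext.mk₀_comp_mk₀]
  · rintro ⟨g, rfl⟩
    rw [delta_apply, ← Ext.mk₀_comp_mk₀, ← Ext.comp_assoc_of_third_deg_zero, hS.extClass_comp,
      Ext.zero_comp]

end Cat

section Mod

variable {P M N : Type u} [AddCommGroup P] [Module A P] [AddCommGroup M] [Module A M]
  [AddCommGroup N] [Module A N]

/-- the short complex `0 → ker π → P → M → 0` -/
def kerSC (π : P →ₗ[A] M) : ShortComplex (ModuleCat.{u} A) :=
  ShortComplex.mk (ModuleCat.ofHom (LinearMap.ker π).subtype) (ModuleCat.ofHom π) (by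
    refine ModuleCat.hom_ext (LinearMap.ext fun x => ?_)
    exact x.2)

lemma kerSC_shortExact (π : P →ₗ[A] M) (hπ : Function.Surjective π) : (kerSC π).ShortExact := by
  have hmono : Mono (kerSC π).f :=
    (ModuleCat.mono_iff_injective _).mpr (LinearMap.ker π).injective_subtype
  have hepi : Epi (kerSC π).g := (ModuleCat.epi_iff_surjective _).mpr hπ
  refine ShortComplex.ShortExact.mk ?_
  rw [ShortComplex.moduleCat_exact_iff_range_eq_ker]
  show LinearMap.range (LinearMap.ker π).subtype = LinearMap.ker π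
  rw [Submodule.range_subtype]

/-- a linear map out of `ker π` as a morphism out of `(kerSC π).X₁` -/
def toCat (π : P →ₗ[A] M) (φ : LinearMap.ker π →ₗ[A] N) :
    (kerSC π).X₁ ⟶ ModuleCat.of A N := ModuleCat.ofHom φ

lemma toCat_add (π : P →ₗ[A] M) (φ ψ : LinearMap.ker π →ₗ[A] N) :
    toCat π (φ + ψ) = toCat π φ + toCat π ψ := rfl

lemma toCat_smul (π : P →ₗ[A] M) (r : A) (φ : LinearMap.ker π →ₗ[A] N) :
    toCat π (r • φ) = r • toCat π φ := rfl

/-- The connecting map `Hom_A(ker π, N) → Ext¹_A(M, N)`. -/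
noncomputable def D (π : P →ₗ[A] M) (hπ : Function.Surjective π) :
    (LinearMap.ker π →ₗ[A] N) →ₗ[A] Ext (ModuleCat.of A M) (ModuleCat.of A N) 1 where
  toFun φ := delta (kerSC_shortExact π hπ) (ModuleCat.of A N) (toCat π φ)
  map_add' φ ψ := by
    rw [toCat_add, map_add]
    rfl
  map_smul' r φ := by
    rw [RingHom.id_apply, toCat_smul, map_smul]
    rfl

theorem D_surjective [Module.Projective A P] (π : P →ₗ[A] M) (hπ : Function.Surjective π) :
    Function.Surjective (D (N := N) π hπ) := by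
  have : Projective (kerSC π).X₂ := by
    show Projective (ModuleCat.of A P)
    rw [← IsProjective.iff_projective]
    infer_instance
  intro x
  obtain ⟨f, hf⟩ := delta_surjective (kerSC_shortExact π hπ) (ModuleCat.of A N) x
  exact ⟨f.hom, hf⟩

theorem D_eq_zero_iff (π : P →ₗ[A] M) (hπ : Function.Surjective π)
    (φ : LinearMap.ker π →ₗ[A] N) :
    D π hπ φ = 0 ↔ ∃ ψ : P →ₗ[A] N, ψ ∘ₗ (LinearMap.ker π).subtype = φ := by
  show delta (kerSC_shortExact π hπ) (ModuleCat.of A N) (toCat π φ) = 0 ↔ _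
  rw [delta_eq_zero_iff]
  constructor
  · rintro ⟨g, hg⟩
    refine ⟨g.hom, ?_⟩
    have := congrArg ModuleCat.Hom.hom hg
    exact this
  · rintro ⟨ψ, rfl⟩
    exact ⟨ModuleCat.ofHom ψ, rfl⟩

/-- Length of `Ext¹` via any surjection from `Hom(ker π, N)` with the right kernel. -/
theorem length_ext_one [Module.Projective A P] (π : P →ₗ[A] M) (hπ : Function.Surjective π)
    {Q : Type*} [AddCommGroup Q] [Module A Q] (Ψ : (LinearMap.ker π →ₗ[A] N) →ₗ[A] Q)
    (hΨ : Function.Surjective Ψ)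
    (hker : ∀ φ, Ψ φ = 0 ↔ ∃ ψ : P →ₗ[A] N, ψ ∘ₗ (LinearMap.ker π).subtype = φ) :
    Module.length A (Ext (ModuleCat.of A M) (ModuleCat.of A N) 1) = Module.length A Q := by
  have hk : LinearMap.ker (D (N := N) π hπ) = LinearMap.ker Ψ := by
    ext φ
    rw [LinearMap.mem_ker, LinearMap.mem_ker, D_eq_zero_iff, hker]
  have e1 := (D (N := N) π hπ).quotKerEquivOfSurjective (D_surjective π hπ)
  have e2 := Ψ.quotKerEquivOfSurjective hΨ
  rw [← e1.length_eq, ← e2.length_eq, ← (Submodule.quotEquivOfEq _ _ hk).length_eq]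

end Mod

end Groth.Agent.Lib.Helper72.ExtPres
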