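import Mathlib
import Groth.Agent.Lib.Helper72.CubExtB
import Groth.Agent.Lib.Helper72.ExtPres

/-!
# `Ext¹_A(k⟦X⟧, k⟦X⟧)` over the cubical ring `A = k + X^(m+1) k⟦X⟧`
-/

universe u

open PowerSeries CategoryTheory

namespace Groth.Agent.Lib.Helper72.CubExt

variable {k : Type u} [Field k] {m : ℕ} {A : Subalgebra k (PowerSeries k)}

/-- `k` as an `A`-algebra via the constant coefficient -/
@[reducible] noncomputable def algK (A : Subalgebra k (PowerSeries k)) : Algebra A k :=
  (cc A).toAlgebra

attribute [local instance] algK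

lemma algebraMap_eq (a : A) : algebraMap A k a = coeff 0 (a : PowerSeries k) := cc_apply a

lemma smul_k (a : A) (c : k) : a • c = coeff 0 (a : PowerSeries k) * c := by
  rw [Algebra.smul_def, algebraMap_eq]

lemma algebraMap_surjective : Function.Surjective (algebraMap A k) := cc_surjective

/-- the coefficient map on `Hom(K, B)` -/
noncomputable def Psi (h : Mono m A) :
    (LinearMap.ker (pres m A) →ₗ[A] PowerSeries k) →ₗ[A] (Fin m → Fin (m + 1) → k) where
  toFun φ := fun j i => coeff (i : ℕ) (φ (v h j))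
  map_add' φ ψ := by
    funext j i
    simp
  map_smul' r φ := by
    funext j i
    simp only [LinearMap.smul_apply, RingHom.id_apply, Pi.smul_apply]
    rw [smul_def', h.coeff_mul r.2 _ i.2, smul_k]

lemma Psi_apply (h : Mono m A) (φ : LinearMap.ker (pres m A) →ₗ[A] PowerSeries k)
    (j : Fin m) (i : Fin (m + 1)) : Psi h φ j i = coeff (i : ℕ) (φ (v h j)) := rfl

/-- a power series with prescribed low coefficients -/
noncomputable def yOf (q : Fin (m + 1) → k) : PowerSeries k :=
  PowerSeries.mk fun i => if hi : i < m + 1 then q ⟨i, hi⟩ else 0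

lemma coeff_yOf (q : Fin (m + 1) → k) (i : Fin (m + 1)) : coeff (i : ℕ) (yOf q) = q i := by
  rw [yOf, coeff_mk, dif_pos i.2]

/-- the linear map on the kernel with prescribed values on the `v_j` -/
noncomputable def phiOf (h : Mono m A) (y : Fin m → PowerSeries k) :
    LinearMap.ker (pres m A) →ₗ[A] PowerSeries k where
  toFun a := ∑ j : Fin m, sh (m + 1) (a.1 j.succ : PowerSeries k) * y j
  map_add' a b := by
    simp only [Submodule.coe_add, Pi.add_apply, Subalgebra.coe_add, map_add, add_mul,
      Finset.sum_add_distrib]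
  map_smul' r a := by
    simp only [RingHom.id_apply, Submodule.coe_smul, Pi.smul_apply, smul_eq_mul,
      Subalgebra.coe_mul]
    rw [smul_def', Finset.mul_sum]
    refine Finset.sum_congr rfl (fun j _ => ?_)
    rw [sh_mul_ker h a.2 j.succ, mul_assoc]

lemma sh_X_pow (n : ℕ) : sh n ((X : PowerSeries k) ^ n) = 1 := by
  have := sh_X_pow_mul n (1 : PowerSeries k)
  rwa [mul_one] at this

lemma phiOf_v (h : Mono m A) (y : Fin m → PowerSeries k) (l : Fin m) :
    phiOf h y (v h l) = y l := by
  show ∑ j : Fin m, sh (m + 1) (((v h l).1 j.succ : A) : PowerSeries k) * y j = y l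
  simp only [v_val_succ]
  rw [Finset.sum_eq_single l]
  · rw [if_pos rfl, coe_xpow, add_zero, sh_X_pow, one_mul]
  · intro j _ hj
    rw [if_neg hj]
    simp
  · intro hni
    exact absurd (Finset.mem_univ _) hni

lemma Psi_surjective (h : Mono m A) : Function.Surjective (Psi h) := by
  intro q
  refine ⟨phiOf h (fun j => yOf (q j)), ?_⟩
  funext j i
  rw [Psi_apply, phiOf_v, coeff_yOf]

lemma single_eq_smul (l : Fin (m + 1)) (c : A) :
    (Pi.single l c : Fin (m + 1) → A) = c • Pi.single l (1 : A) := by
  rw [← Pi.single_smul, smul_eq_mul, mul_one]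

lemma Psi_eq_zero_iff (h : Mono m A) (φ : LinearMap.ker (pres m A) →ₗ[A] PowerSeries k) :
    Psi h φ = 0 ↔ ∃ ψ : (Fin (m + 1) → A) →ₗ[A] PowerSeries k,
      ψ ∘ₗ (LinearMap.ker (pres m A)).subtype = φ := by
  constructor
  · intro h0
    have hlow : ∀ j : Fin m, ∀ i, i < m + 1 → coeff i (φ (v h j)) = 0 := by
      intro j i hi
      have := congrFun (congrFun h0 j) ⟨i, hi⟩
      exact this
    have hβ : ∀ j : Fin m, X ^ (m + 1) * sh (m + 1) (φ (v h j)) = φ (v h j) :=
      fun j => X_pow_mul_sh _ _ (hlow j)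
    refine ⟨∑ j : Fin m, (LinearMap.proj (R := A) (φ := fun _ : Fin (m + 1) => A) j.succ).smulRight
      (sh (m + 1) (φ (v h j))), ?_⟩
    apply LinearMap.ext
    intro a
    apply X_pow_mul_cancel (m + 1)
    rw [X_pow_mul_apply h φ a]
    simp only [LinearMap.coe_comp, Function.comp_apply, Submodule.coe_subtype,
      LinearMap.coe_sum, Finset.sum_apply, LinearMap.smulRight_apply, LinearMap.proj_apply]
    rw [Finset.mul_sum]
    refine Finset.sum_congr rfl (fun j _ => ?_)
    rw [smul_def', mul_left_comm, hβ j]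
  · rintro ⟨ψ, rfl⟩
    funext j i
    rw [Psi_apply]
    show coeff (i : ℕ) (ψ (v h j).1) = 0
    have hv : (v h j).1 = xpow h 0 • Pi.single j.succ (1 : A)
        - xpow h (j + 1) • Pi.single 0 (1 : A) := by
      rw [← single_eq_smul, ← single_eq_smul]
      rfl
    rw [hv, map_sub, map_smul, map_smul, smul_def', smul_def', coe_xpow, coe_xpow, map_sub,
      coeff_X_pow_mul', coeff_X_pow_mul', if_neg (by have := i.2; omega),
      if_neg (by have := i.2; omega), sub_zero]

/-- finrank of the target -/
lemma finrank_target : Module.finrank k (Fin m → Fin (m + 1) → k) = m * (m + 1) := by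
  rw [Module.finrank_pi_fintype]
  simp only [Module.finrank_pi, Fintype.card_fin, Finset.sum_const, Finset.card_univ, smul_eq_mul]

/-- **The length of `Ext¹_A(k⟦X⟧, k⟦X⟧)`** is `m (m + 1)`. -/
theorem length_ext (h : Mono m A) :
    Module.length A (Abelian.Ext (ModuleCat.of A (PowerSeries k))
      (ModuleCat.of A (PowerSeries k)) 1) = ((m * (m + 1) : ℕ) : ℕ∞) := by
  rw [ExtPres.length_ext_one (pres m A) (pres_surjective h) (Psi h) (Psi_surjective h)
    (Psi_eq_zero_iff h)]
  rw [Module.length_eq_of_surjective (S := A) (R := k) algebraMap_surjective,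
    Module.length_eq_finrank, finrank_target]

end Groth.Agent.Lib.Helper72.CubExt
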