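import Mathlib
import Groth.Agent.Lib.Helper72.CubGenB
import Groth.Agent.Lib.Helper72.ExtPres

/-!
# Monomial modules over the cubical ring: maps out of the kernel and the `Ext¹` criterion
-/

universe u

open PowerSeries CategoryTheory

namespace Groth.Agent.Lib.Helper72.CubExt

variable {k : Type u} [Field k] {m r : ℕ} {A : Subalgebra k (PowerSeries k)}
  {M : Submodule A (PowerSeries k)} {g : Fin (r + 1) → ℕ}

lemma sh_X_pow' (n : ℕ) : sh n ((X : PowerSeries k) ^ n) = 1 := by
  have := sh_X_pow_mul n (1 : PowerSeries k)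
  rwa [mul_one] at this

namespace GenData

variable (d : GenData m r A M g)
include d

/-- the linear map on the kernel with prescribed values on the `v_j` -/
noncomputable def phiOf (y : Fin r → PowerSeries k) (hy : ∀ j b, b * y j ∈ M) :
    LinearMap.ker d.pres →ₗ[A] M where
  toFun a := ⟨∑ j : Fin r, sh (m + 1) (a.1 j.succ : PowerSeries k) * y j,
    Submodule.sum_mem _ (fun j _ => hy j _)⟩
  map_add' a b := by
    apply Subtype.ext
    simp only [Submodule.coe_add, Pi.add_apply, Subalgebra.coe_add, map_add, add_mul,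
      Finset.sum_add_distrib]
  map_smul' c a := by
    apply Subtype.ext
    simp only [RingHom.id_apply, Submodule.coe_smul, Pi.smul_apply, smul_eq_mul,
      Subalgebra.coe_mul]
    rw [smul_def'', Finset.mul_sum]
    refine Finset.sum_congr rfl (fun j _ => ?_)
    rw [d.sh_mul_ker a.2 j.succ, mul_assoc]

lemma coe_phiOf_v (y : Fin r → PowerSeries k) (hy : ∀ j b, b * y j ∈ M) (l : Fin r) :
    ((d.phiOf y hy (d.v l) : M) : PowerSeries k) = y l := by
  show ∑ j : Fin r, sh (m + 1) (((d.v l).1 j.succ : A) : PowerSeries k) * y j = y l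
  simp only [v, bv_val_succ]
  rw [Finset.sum_eq_single l]
  · rw [if_pos rfl, coe_xb, mul_one, sh_X_pow', one_mul]
  · intro j _ hj
    rw [if_neg hj]
    simp
  · intro hni
    exact absurd (Finset.mem_univ _) hni

lemma single_eq_smul' (l : Fin (r + 1)) (c : A) :
    (Pi.single l c : Fin (r + 1) → A) = c • Pi.single l (1 : A) := by
  rw [← Pi.single_smul, smul_eq_mul, mul_one]

/-- a linear map on the kernel extends to `A^(r+1)` iff its values on the `v_j` have the
expected shape -/
lemma exists_ext_iff (φ : LinearMap.ker d.pres →ₗ[A] M) :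
    (∃ ψ : (Fin (r + 1) → A) →ₗ[A] M, ψ ∘ₗ (LinearMap.ker d.pres).subtype = φ) ↔
    ∃ β : Fin (r + 1) → M, ∀ j : Fin r, (φ (d.v j) : PowerSeries k)
      = X ^ (m + 1) * (β j.succ : PowerSeries k)
        - X ^ (m + 1) * (X ^ (g j.succ) * (β 0 : PowerSeries k)) := by
  constructor
  · rintro ⟨ψ, rfl⟩
    refine ⟨fun l => ψ (Pi.single l 1), fun j => ?_⟩
    show ((ψ (d.v j).1 : M) : PowerSeries k) = _
    have hv : (d.v j).1 = d.xb 1 • Pi.single j.succ (1 : A)
        - d.xb (X ^ (g j.succ) * 1) • Pi.single 0 (1 : A) := by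
      rw [← single_eq_smul' d, ← single_eq_smul' d]
      rfl
    rw [hv, map_sub, map_smul, map_smul]
    simp only [Submodule.coe_sub, Submodule.coe_smul, smul_def'', coe_xb, mul_one]
    ring
  · rintro ⟨β, hβ⟩
    refine ⟨∑ l : Fin (r + 1),
      (LinearMap.proj (R := A) (φ := fun _ : Fin (r + 1) => A) l).smulRight (β l), ?_⟩
    apply LinearMap.ext
    intro a
    apply Subtype.ext
    apply X_pow_mul_cancel (m + 1)
    rw [d.X_pow_mul_apply φ a]
    simp only [LinearMap.coe_comp, Function.comp_apply, Submodule.coe_subtype,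
      LinearMap.coe_sum, Finset.sum_apply, LinearMap.smulRight_apply, LinearMap.proj_apply,
      Submodule.coe_sum, Submodule.coe_smul, smul_def'']
    have ha : d.pres a.1 = 0 := a.2
    rw [d.pres_eq_zero_iff, Fin.sum_univ_succ, d.g0, pow_zero, mul_one] at ha
    have ha0 : (a.1 0 : PowerSeries k)
        = - ∑ j : Fin r, (a.1 j.succ : PowerSeries k) * X ^ (g j.succ) :=
      eq_neg_of_add_eq_zero_left ha
    rw [Fin.sum_univ_succ, ha0, mul_add, neg_mul, mul_neg, Finset.sum_mul, Finset.mul_sum,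
      Finset.mul_sum, ← Finset.sum_neg_distrib, ← Finset.sum_add_distrib]
    refine Finset.sum_congr rfl (fun j _ => ?_)
    rw [hβ j]
    ring

/-- **Length of `Ext¹_A(M, M)`** via a surjection from `Hom(K, M)` with the right kernel. -/
theorem length_ext_eq {Q : Type u} [AddCommGroup Q] [Module A Q]
    (Ψ : (LinearMap.ker d.pres →ₗ[A] M) →ₗ[A] Q) (hΨ : Function.Surjective Ψ)
    (hker : ∀ φ, Ψ φ = 0 ↔ ∃ β : Fin (r + 1) → M, ∀ j : Fin r, (φ (d.v j) : PowerSeries k)
      = X ^ (m + 1) * (β j.succ : PowerSeries k)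
        - X ^ (m + 1) * (X ^ (g j.succ) * (β 0 : PowerSeries k))) :
    Module.length A (Abelian.Ext (ModuleCat.of A M) (ModuleCat.of A M) 1) = Module.length A Q := by
  have h2 := ExtPres.length_ext_one (A := A) (P := Fin (r + 1) → A) (M := M) (N := M) d.pres
    d.pres_surjective (Q := Q)
  have h3 := h2 Ψ
  have h4 := h3 hΨ
  have h8 : ∀ φ, Ψ φ = 0 ↔ ∃ ψ : (Fin (r + 1) → A) →ₗ[A] M,
      ψ ∘ₗ (LinearMap.ker d.pres).subtype = φ := by
    intro φ
    rw [hker φ]
    exact (d.exists_ext_iff φ).symm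
  have h9 := h4 h8
  exact h9

end GenData

end Groth.Agent.Lib.Helper72.CubExt
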