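import Mathlib
import Groth.Agent.Lib.Helper72.CubGenC
import Groth.Agent.Lib.Helper72.CubExtC

/-!
# Monomial modules over the cubical ring: span description and coefficient lemmas
-/

universe u

open PowerSeries CategoryTheory

namespace Groth.Agent.Lib.Helper72.CubExt

variable {k : Type u} [Field k] {m : ℕ} {A : Subalgebra k (PowerSeries k)}

/-- monomial description of the span of monomials (containing `1`) over the cubical ring -/
lemma mem_span_iff (h : Mono m A) (G : Set ℕ) (h0 : 0 ∈ G) (f : PowerSeries k) :
    f ∈ Submodule.span A ((fun a : ℕ => (X : PowerSeries k) ^ a) '' G) ↔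
      ∀ e, e < m + 1 → e ∉ G → coeff e f = 0 := by
  constructor
  · intro hf
    induction hf using Submodule.span_induction with
    | mem x hx =>
      obtain ⟨a, ha, rfl⟩ := hx
      intro e _ he
      rw [coeff_X_pow, if_neg]
      rintro rfl
      exact he ha
    | zero => intro e _ _; simp
    | add x y _ _ hx hy =>
      intro e he heG
      rw [map_add, hx e he heG, hy e he heG, add_zero]
    | smul a x _ hx =>
      intro e he heG
      rw [smul_def'', h.coeff_mul a.2 _ he, hx e he heG, mul_zero]
  · intro hf
    rw [f.eq_X_pow_mul_shift_add_trunc (m + 1)]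
    refine Submodule.add_mem _ ?_ ?_
    · have h1 : (X : PowerSeries k) ^ 0 ∈
          Submodule.span A ((fun a : ℕ => (X : PowerSeries k) ^ a) '' G) :=
        Submodule.subset_span ⟨0, h0, rfl⟩
      have h2 := Submodule.smul_mem _
        (⟨X ^ (m + 1) * (PowerSeries.mk fun i => coeff (i + (m + 1)) f),
          h.X_pow_mul_mem _⟩ : A) h1
      rw [smul_def'', pow_zero, mul_one] at h2
      exact h2
    · rw [trunc_apply, ← Polynomial.coeToPowerSeries.ringHom_apply, map_sum]
      refine Submodule.sum_mem _ (fun e he => ?_)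
      rw [Polynomial.coeToPowerSeries.ringHom_apply, Polynomial.coe_monomial,
        monomial_eq_C_mul_X_pow]
      rw [Finset.mem_Ico] at he
      by_cases heG : e ∈ G
      · have h1 : (X : PowerSeries k) ^ e ∈
            Submodule.span A ((fun a : ℕ => (X : PowerSeries k) ^ a) '' G) :=
          Submodule.subset_span ⟨e, heG, rfl⟩
        exact Submodule.smul_mem _ (algebraMap k A (coeff e f)) h1
      · rw [hf e he.2 heG, map_zero, zero_mul]
        exact Submodule.zero_mem _

/-- low coefficients of a product with an element of `A` -/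
lemma Mono.coeff_mul_of_low (h : Mono m A) {a : PowerSeries k} (ha : a ∈ A) {y : PowerSeries k}
    {c : ℕ} (hy : ∀ q, q < c → coeff q y = 0) {e : ℕ} (he : e < m + 1 + c) :
    coeff e (a * y) = coeff 0 a * coeff e y := by
  rw [PowerSeries.coeff_mul]
  rw [Finset.sum_eq_single (0, e)]
  · rintro ⟨p, q⟩ hpq hne
    rw [Finset.HasAntidiagonal.mem_antidiagonal] at hpq
    simp only at hpq
    have hp : p ≠ 0 := by
      rintro rfl
      apply hne
      simp only [zero_add] at hpq
      rw [hpq]
    by_cases hpn : p < m + 1
    · rw [h.coeff_eq_zero ha (Nat.pos_of_ne_zero hp) hpn, zero_mul]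
    · rw [hy q (by omega), mul_zero]
  · intro hni
    exact absurd (by simp) hni

/-- coefficients of a finite sum of monomials with injective exponents -/
lemma coeff_sum_C_mul_X_pow {ι : Type*} [Fintype ι] [DecidableEq ι] (ex : ι → ℕ)
    (hex : Function.Injective ex) (q : ι → k) (t : ι) :
    coeff (ex t) (∑ s, C (q s) * (X : PowerSeries k) ^ (ex s)) = q t := by
  rw [map_sum, Finset.sum_eq_single t]
  · rw [coeff_C_mul_X_pow, if_pos rfl]
  · intro s _ hs
    rw [coeff_C_mul_X_pow, if_neg]
    intro heq
    exact hs (hex heq).symm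
  · intro hni
    exact absurd (Finset.mem_univ _) hni

/-- low coefficients of a finite sum of monomials -/
lemma coeff_sum_C_mul_X_pow_low {ι : Type*} [Fintype ι] (ex : ι → ℕ) (q : ι → k) {c e : ℕ}
    (hex : ∀ s, c ≤ ex s) (he : e < c) :
    coeff e (∑ s, C (q s) * (X : PowerSeries k) ^ (ex s)) = 0 := by
  rw [map_sum]
  refine Finset.sum_eq_zero (fun s _ => ?_)
  rw [coeff_C_mul_X_pow, if_neg]
  have := hex s
  omega

/-- low coefficients of a product -/
lemma coeff_mul_low (b y : PowerSeries k) {c e : ℕ} (hy : ∀ q, q < c → coeff q y = 0)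
    (he : e < c) : coeff e (b * y) = 0 := by
  rw [PowerSeries.coeff_mul]
  refine Finset.sum_eq_zero ?_
  rintro ⟨p, q⟩ hpq
  rw [Finset.HasAntidiagonal.mem_antidiagonal] at hpq
  simp only at hpq
  rw [hy q (by omega), mul_zero]

end Groth.Agent.Lib.Helper72.CubExt
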