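import Mathlib

/-!
# Length of a module with a triangular system of coordinates

`A` a commutative ring with a surjective ring hom `cc : A → k` to a field. If an `A`-module `E`
has additive coordinates `ℓ : E → kᵈ`, surjective, with kernel a submodule `Z`, and triangular
with respect to the `A`-action (`ℓ_t (a v) = cc a * ℓ_t v` whenever the earlier coordinates of `v`
vanish), then `E ⧸ Z` has length `d`.
-/

universe u

namespace Groth.Agent.Lib.Helper72.LenTri

variable {A : Type u} [CommRing A] {k : Type u} [Field k] (cc : A →+* k)

/-- `k` as an `A`-algebra via `cc` -/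
@[reducible] noncomputable def algCC : Algebra A k := cc.toAlgebra

theorem length_k (hcc : Function.Surjective cc) :
    letI := algCC cc
    Module.length A k = 1 := by
  letI := algCC cc
  rw [Module.length_eq_of_surjective (S := A) (R := k) (M := k) hcc, Module.length_eq_finrank,
    Module.finrank_self]
  rfl

theorem length_quot_eq (hcc : Function.Surjective cc) :
    ∀ (d : ℕ) (E : Type u) [AddCommGroup E] [Module A E] (Z : Submodule A E)
      (ℓ : E →+ (Fin d → k)),
      Function.Surjective ℓ → (∀ v, ℓ v = 0 ↔ v ∈ Z) →
      (∀ (t : Fin d) (v : E), (∀ s : Fin d, s < t → ℓ v s = 0) →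
        ∀ a : A, ℓ (a • v) t = cc a * ℓ v t) →
      Module.length A (E ⧸ Z) = d := by
  letI := algCC cc
  intro d
  induction d with
  | zero =>
    intro E _ _ Z ℓ _ hker _
    have hZ : Z = ⊤ := by
      rw [eq_top_iff]
      intro v _
      rw [← hker]
      exact Subsingleton.elim _ _
    subst hZ
    rw [Module.length_eq_zero_iff.2 inferInstance]
    rfl
  | succ d ih =>
    intro E _ _ Z ℓ hsurj hker htri
    -- the submodule F = {ℓ₀ = 0}
    let F : Submodule A E :=
      { carrier := {v | ℓ v 0 = 0}
        add_mem' := by
          intro a b ha hb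
          simp only [Set.mem_ofPred_eq] at ha hb ⊢
          rw [map_add, Pi.add_apply, ha, hb, add_zero]
        zero_mem' := by simp
        smul_mem' := by
          intro a v hv
          simp only [Set.mem_ofPred_eq] at hv ⊢
          rw [htri 0 v (fun s hs => absurd hs (Fin.not_lt_zero s)) a, hv, mul_zero] }
    have hF : ∀ v, v ∈ F ↔ ℓ v 0 = 0 := fun v => Iff.rfl
    have hZF : Z ≤ F := by
      intro v hv
      rw [hF, (hker v).2 hv]
      rfl
    -- the linear map ℓ₀
    let ℓ0 : E →ₗ[A] k :=
      { toFun := fun v => ℓ v 0
        map_add' := by intro a b; rw [map_add, Pi.add_apply]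
        map_smul' := by
          intro a v
          rw [htri 0 v (fun s hs => absurd hs (Fin.not_lt_zero s)) a, RingHom.id_apply,
            Algebra.smul_def]
          rfl }
    have hℓ0 : ∀ v, ℓ0 v = ℓ v 0 := fun v => rfl
    have hZker : Z ≤ LinearMap.ker ℓ0 := by
      intro v hv
      rw [LinearMap.mem_ker, hℓ0, (hker v).2 hv]
      rfl
    let g : (E ⧸ Z) →ₗ[A] k := Z.liftQ ℓ0 hZker
    let Z' : Submodule A F := Z.comap F.subtype
    let f : (F ⧸ Z') →ₗ[A] (E ⧸ Z) := Submodule.mapQ Z' Z F.subtype (le_refl _)
    have hf : Function.Injective f := by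
      rw [← LinearMap.ker_eq_bot, LinearMap.ker_eq_bot']
      intro x hx
      induction x using Submodule.Quotient.induction_on with
      | H v =>
        rw [Submodule.mapQ_apply, Submodule.Quotient.mk_eq_zero] at hx
        rw [Submodule.Quotient.mk_eq_zero]
        exact hx
    have hg : Function.Surjective g := by
      intro c
      obtain ⟨v, hv⟩ := hsurj (fun t => if t = 0 then c else 0)
      refine ⟨Submodule.Quotient.mk v, ?_⟩
      show ℓ0 v = c
      rw [hℓ0, hv]
      simp only [if_true]
    have hex : Function.Exact f g := by
      rw [LinearMap.exact_iff]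
      ext y
      constructor
      · intro hy
        induction y using Submodule.Quotient.induction_on with
        | H w =>
          have hw : ℓ0 w = 0 := hy
          exact ⟨Submodule.Quotient.mk ⟨w, (hF w).2 hw⟩, rfl⟩
      · rintro ⟨x, rfl⟩
        induction x using Submodule.Quotient.induction_on with
        | H v =>
          show ℓ0 (v : E) = 0
          exact v.2
    rw [Module.length_eq_add_of_exact f g hf hg hex, length_k cc hcc]
    -- apply the induction hypothesis to F
    let ℓ' : F →+ (Fin d → k) :=
      { toFun := fun v t => ℓ (v : E) t.succ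
        map_zero' := by funext t; simp
        map_add' := by intro a b; funext t; simp }
    have hℓ' : ∀ (v : F) (t : Fin d), ℓ' v t = ℓ (v : E) t.succ := fun v t => rfl
    have h1 : Function.Surjective ℓ' := by
      intro q
      obtain ⟨w, hw⟩ := hsurj (Fin.cons 0 q)
      refine ⟨⟨w, by rw [hF, hw]; rfl⟩, ?_⟩
      funext t
      rw [hℓ', hw, Fin.cons_succ]
    have h2 : ∀ v : F, ℓ' v = 0 ↔ v ∈ Z' := by
      intro v
      show _ ↔ (v : E) ∈ Z
      rw [← hker]
      constructor
      · intro hv
        funext t
        refine Fin.cases ?_ (fun t' => ?_) t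
        · exact v.2
        · have := congrFun hv t'
          rw [hℓ'] at this
          exact this
      · intro hv
        funext t
        rw [hℓ', hv]
        rfl
    have h3 : ∀ (t : Fin d) (v : F), (∀ s : Fin d, s < t → ℓ' v s = 0) →
        ∀ a : A, ℓ' (a • v) t = cc a * ℓ' v t := by
      intro t v hv a
      rw [hℓ', hℓ', Submodule.coe_smul]
      apply htri
      intro s hs
      refine Fin.cases (motive := fun s => s < t.succ → ℓ (v : E) s = 0) ?_ (fun s' hs' => ?_) s hs
      · intro _
        exact v.2
      · have := hv s' (Fin.succ_lt_succ_iff.1 hs')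
        rw [hℓ'] at this
        exact this
    rw [ih F Z' ℓ' h1 h2 h3]
    push_cast
    rfl

end Groth.Agent.Lib.Helper72.LenTri
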