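import Mathlib
import Groth.Agent.Lib.Helper72.A2dC
import Groth.Agent.Lib.Helper72.CubGenD
import Groth.Agent.Lib.Helper72.LenTri
import Groth.Agent.Lib.Helper72.ExtPres

/-!
# The `A_{2δ}` ring: the length of `Ext¹_A(M_i, M_j)` is `2 min(i, j)`
-/

universe u

open PowerSeries CategoryTheory

namespace Groth.Agent.Lib.Helper72.A2d

open Groth.Agent.Lib.Helper72.CubExt (sh coeff_sh sh_X_pow_mul X_pow_mul_sh cc cc_apply
  cc_surjective coeff_sum_C_mul_X_pow)

variable {k : Type u} [Field k] {δ i j μ : ℕ} {A : Subalgebra k (PowerSeries k)}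

/-- instance shortcut -/
instance (priority := 10000) instSMulCommMod (M : Submodule A (PowerSeries k)) :
    SMulCommClass A A M :=
  ⟨fun a b x => by
    apply Subtype.ext
    simp only [Submodule.coe_smul, smulA]
    ring⟩

set_option synthInstance.maxHeartbeats 400000 in
/-- instance shortcut -/
noncomputable instance (priority := 10000) instModuleHom :
    Module A (LinearMap.ker (pres δ A i) →ₗ[A] Mod δ A j) := LinearMap.module

/-- instance shortcut -/
noncomputable instance (priority := 10000) instSMulHom :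
    SMul A (LinearMap.ker (pres δ A i) →ₗ[A] Mod δ A j) :=
  (instModuleHom (δ := δ) (i := i) (j := j) (A := A)).toDistribMulAction.toMulAction.toSMul

/-- the recorded exponents -/
def ex (δ i j μ : ℕ) (t : Fin (μ + μ)) : ℕ :=
  if (t : ℕ) < μ then 2 * (i - μ + t) else (2 * δ + 1 - 2 * j) + 2 * (t - μ)

lemma ex_injective (hj : j ≤ δ) : Function.Injective (ex δ i j μ) := by
  intro a b hab
  unfold ex at hab
  apply Fin.ext
  split_ifs at hab <;> omega

lemma coeff_sum_of_ne {ι : Type*} [Fintype ι] (e' : ι → ℕ) (q : ι → k) (e : ℕ)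
    (hne : ∀ t, e' t ≠ e) :
    coeff e (∑ s, C (q s) * (X : PowerSeries k) ^ (e' s)) = 0 := by
  rw [map_sum]
  refine Finset.sum_eq_zero (fun s _ => ?_)
  rw [coeff_C_mul_X_pow, if_neg (fun hh => hne s hh.symm)]

section

variable (h : MonoD δ A) (hi : i ≤ δ) (hj : j ≤ δ) (hμi : μ ≤ i) (hμj : μ ≤ j)
  (hμ : μ = i ∨ μ = j)
include h hi hj hμi hμj hμ

/-- the coordinate functionals -/
noncomputable def ell :
    (LinearMap.ker (pres δ A i) →ₗ[A] Mod δ A j) →+ (Fin (μ + μ) → k) where
  toFun φ := fun t => coeff (ex δ i j μ t) (φ (u0 h hi) : PowerSeries k)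
  map_zero' := by funext t; simp
  map_add' φ ψ := by funext t; simp

omit hj hμi hμj hμ in
lemma ell_apply (φ : LinearMap.ker (pres δ A i) →ₗ[A] Mod δ A j) (t : Fin (μ + μ)) :
    ell h hi φ t = coeff (ex δ i j μ t) (φ (u0 h hi) : PowerSeries k) := rfl

omit hj hμi hμj hμ in
lemma ell_even (φ : LinearMap.ker (pres δ A i) →ₗ[A] Mod δ A j) {t' : ℕ} (ht : t' < μ)
    (t : Fin (μ + μ)) (htt : (t : ℕ) = t') :
    ell h hi φ t = coeff (2 * (i - μ + t')) (φ (u0 h hi) : PowerSeries k) := by
  rw [ell_apply]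
  unfold ex
  rw [if_pos (by omega), htt]

omit hj hμi hμj hμ in
lemma ell_odd (φ : LinearMap.ker (pres δ A i) →ₗ[A] Mod δ A j) {t' : ℕ} (ht : t' < μ)
    (t : Fin (μ + μ)) (htt : (t : ℕ) = μ + t') :
    ell h hi φ t = coeff ((2 * δ + 1 - 2 * j) + 2 * t') (φ (u0 h hi) : PowerSeries k) := by
  rw [ell_apply]
  unfold ex
  rw [if_neg (by omega), htt]
  congr 2
  omega

/-- the submodule of extendable maps -/
noncomputable def Zsub : Submodule A (LinearMap.ker (pres δ A i) →ₗ[A] Mod δ A j) where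
  carrier := {φ | ∃ β0 β1 : Mod δ A j, (φ (u0 h hi) : PowerSeries k)
      = X ^ (2 * i) * (β1 : PowerSeries k) - X ^ (2 * δ + 1) * (β0 : PowerSeries k)}
  add_mem' := by
    rintro φ ψ ⟨b0, b1, hb⟩ ⟨c0, c1, hc⟩
    refine ⟨b0 + c0, b1 + c1, ?_⟩
    simp only [LinearMap.add_apply, Submodule.coe_add, hb, hc]
    ring
  zero_mem' := ⟨0, 0, by simp⟩
  smul_mem' := by
    rintro a φ ⟨b0, b1, hb⟩
    refine ⟨a • b0, a • b1, ?_⟩
    simp only [LinearMap.smul_apply, Submodule.coe_smul, smulA, hb]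
    ring

omit hj hμi hμj hμ in
lemma mem_Zsub (φ : LinearMap.ker (pres δ A i) →ₗ[A] Mod δ A j) :
    φ ∈ Zsub (j := j) h hi ↔ ∃ β0 β1 : Mod δ A j, (φ (u0 h hi) : PowerSeries k)
      = X ^ (2 * i) * (β1 : PowerSeries k) - X ^ (2 * δ + 1) * (β0 : PowerSeries k) := Iff.rfl

lemma ell_surjective : Function.Surjective (ell (j := j) (μ := μ) h hi) := by
  intro q
  have hy1 : InMod δ j (∑ t : Fin (μ + μ), C (q t) * (X : PowerSeries k) ^ (ex δ i j μ t)) := by
    intro e he1 he2
    apply coeff_sum_of_ne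
    intro t
    unfold ex
    split_ifs <;> omega
  have hy2 : ∀ e, e % 2 = 0 → e < 2 * (i - j) →
      coeff e (∑ t : Fin (μ + μ), C (q t) * (X : PowerSeries k) ^ (ex δ i j μ t)) = 0 := by
    intro e he1 he2
    apply coeff_sum_of_ne
    intro t
    unfold ex
    split_ifs <;> omega
  refine ⟨phiOf h hi hj _ hy1 hy2, ?_⟩
  funext t
  rw [ell_apply, coe_phiOf_u0, coeff_sum_C_mul_X_pow _ (ex_injective hj)]

/-- the coordinates vanish exactly on the extendable maps -/
lemma ell_eq_zero_iff (φ : LinearMap.ker (pres δ A i) →ₗ[A] Mod δ A j) :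
    ell (μ := μ) h hi φ = 0 ↔ φ ∈ Zsub (j := j) h hi := by
  rw [mem_Zsub]
  constructor
  · intro h0
    obtain ⟨y0, hy0⟩ : ∃ y0 : PowerSeries k, y0 = (φ (u0 h hi) : PowerSeries k) := ⟨_, rfl⟩
    have hH1 : InMod δ j y0 := by rw [hy0]; exact apply_inMod h hj φ _
    have hH2 : ∀ e, e % 2 = 0 → e < 2 * (i - j) → coeff e y0 = 0 := by
      intro e he1 he2; rw [hy0]; exact apply_u0_even h hi hj φ he1 he2
    have hE : ∀ t', t' < μ → coeff (2 * (i - μ + t')) y0 = 0 := by
      intro t' ht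
      have := congrFun h0 ⟨t', by omega⟩
      rw [ell_even h hi φ ht _ rfl] at this
      rw [hy0]; exact this
    have hO : ∀ t', t' < μ → coeff ((2 * δ + 1 - 2 * j) + 2 * t') y0 = 0 := by
      intro t' ht
      have := congrFun h0 ⟨μ + t', by omega⟩
      rw [ell_odd h hi φ ht _ rfl] at this
      rw [hy0]; exact this
    -- low coefficients of y0
    have hodd : ∀ e, e % 2 = 1 → e < (2 * δ + 1 - 2 * j) + 2 * μ → coeff e y0 = 0 := by
      intro e he1 he2
      by_cases hlt : e < 2 * δ + 1 - 2 * j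
      · exact hH1 e he1 hlt
      · have := hO ((e - (2 * δ + 1 - 2 * j)) / 2) (by omega)
        have h2 : 2 * δ + 1 - 2 * j + 2 * ((e - (2 * δ + 1 - 2 * j)) / 2) = e := by omega
        rwa [h2] at this
    have heven : ∀ e, e % 2 = 0 → e < 2 * i → coeff e y0 = 0 := by
      intro e he1 he2
      by_cases hlt : e < 2 * (i - μ)
      · rcases hμ with hμ | hμ
        · omega
        · exact hH2 e he1 (by rw [← hμ]; exact hlt)
      · have := hE ((e - 2 * (i - μ)) / 2) (by omega)
        have h2 : 2 * (i - μ + (e - 2 * (i - μ)) / 2) = e := by omega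
        rwa [h2] at this
    -- the odd tail
    obtain ⟨O, hOdef⟩ : ∃ O : PowerSeries k, O = PowerSeries.mk (fun e' =>
        if e' % 2 = 0 then coeff (e' + (2 * δ + 1)) y0 else 0) := ⟨_, rfl⟩
    have hOc : ∀ e', coeff e' O = if e' % 2 = 0 then coeff (e' + (2 * δ + 1)) y0 else 0 := by
      intro e'; rw [hOdef, coeff_mk]
    have hOmem : O ∈ Mod δ A j := by
      rw [h.mem_Mod_iff hj]
      intro e he1 _
      rw [hOc, if_neg (by omega)]
    have hz : ∀ e, coeff e (y0 - X ^ (2 * δ + 1) * O)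
        = if e % 2 = 1 ∧ 2 * δ + 1 ≤ e then 0 else coeff e y0 := by
      intro e
      rw [map_sub, coeff_X_pow_mul']
      by_cases h1 : 2 * δ + 1 ≤ e
      · rw [if_pos h1, hOc]
        by_cases h2 : e % 2 = 1
        · rw [if_pos (by omega), if_pos ⟨h2, h1⟩]
          have : e - (2 * δ + 1) + (2 * δ + 1) = e := by omega
          rw [this, sub_self]
        · rw [if_neg (by omega), if_neg (by omega), sub_zero]
      · rw [if_neg h1, if_neg (by omega), sub_zero]
    have hzlow : ∀ e, e < 2 * i → coeff e (y0 - X ^ (2 * δ + 1) * O) = 0 := by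
      intro e he
      rw [hz, if_neg (by omega)]
      by_cases hpar : e % 2 = 0
      · exact heven e hpar he
      · apply hodd e (by omega)
        rcases hμ with hμ | hμ <;> omega
    have hβ1 : sh (2 * i) (y0 - X ^ (2 * δ + 1) * O) ∈ Mod δ A j := by
      rw [h.mem_Mod_iff hj]
      intro e he1 he2
      rw [coeff_sh, hz]
      split_ifs with hc
      · rfl
      · apply hodd _ (by omega)
        rcases hμ with hμ | hμ <;> omega
    refine ⟨⟨-O, Submodule.neg_mem _ hOmem⟩, ⟨_, hβ1⟩, ?_⟩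
    rw [← hy0]
    rw [X_pow_mul_sh _ _ hzlow]
    ring
  · rintro ⟨β0, β1, hβ⟩
    funext t
    rw [ell_apply, hβ, map_sub, coeff_X_pow_mul', coeff_X_pow_mul']
    show _ = (0 : k)
    have ht := t.2
    have hβ1 := (h.mem_Mod_iff hj _).1 β1.2
    unfold ex
    by_cases htμ : (t : ℕ) < μ
    · rw [if_pos htμ, if_neg (by omega), if_neg (by omega), sub_zero]
    · rw [if_neg htμ]
      have h2 : ¬ (2 * δ + 1 ≤ 2 * δ + 1 - 2 * j + 2 * ((t : ℕ) - μ)) := by omega
      rw [if_neg h2, sub_zero]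
      split_ifs with hle
      · exact hβ1 _ (by omega) (by omega)
      · rfl

/-- triangularity of the coordinates -/
lemma ell_tri (t : Fin (μ + μ)) (φ : LinearMap.ker (pres δ A i) →ₗ[A] Mod δ A j)
    (hlow : ∀ s : Fin (μ + μ), s < t → ell (μ := μ) h hi φ s = 0) (a : A) :
    ell (μ := μ) h hi (a • φ) t = cc A a * ell (μ := μ) h hi φ t := by
  rw [ell_apply, ell_apply, cc_apply]
  simp only [LinearMap.smul_apply, Submodule.coe_smul, smulA]
  have hH1 : InMod δ j (φ (u0 h hi) : PowerSeries k) := apply_inMod h hj φ _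
  have hH2 : ∀ e, e % 2 = 0 → e < 2 * (i - j) → coeff e (φ (u0 h hi) : PowerSeries k) = 0 :=
    fun e he1 he2 => apply_u0_even h hi hj φ he1 he2
  have ht := t.2
  apply coeff_mul_eq_single
  intro p q hpq hp
  unfold ex at hpq
  by_cases htμ : (t : ℕ) < μ
  · rw [if_pos htμ] at hpq
    by_cases hpar : p % 2 = 1
    · left
      exact h.coeff_A a.2 hpar (by omega)
    · right
      by_cases hlt : q < 2 * (i - μ)
      · rcases hμ with hμ | hμ
        · omega
        · exact hH2 q (by omega) (by rw [← hμ]; exact hlt)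
      · have hs := hlow ⟨(q - 2 * (i - μ)) / 2, by omega⟩ (by
          rw [Fin.lt_def]; simp only; omega)
        rw [ell_even h hi φ (t' := (q - 2 * (i - μ)) / 2) (by omega) _ rfl] at hs
        have h2 : 2 * (i - μ + (q - 2 * (i - μ)) / 2) = q := by omega
        rwa [h2] at hs
  · rw [if_neg htμ] at hpq
    by_cases hpar : p % 2 = 1
    · left
      exact h.coeff_A a.2 hpar (by omega)
    · right
      by_cases hlt : q < 2 * δ + 1 - 2 * j
      · exact hH1 q (by omega) hlt
      · have hs := hlow ⟨μ + (q - (2 * δ + 1 - 2 * j)) / 2, by omega⟩ (by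
          rw [Fin.lt_def]; simp only; omega)
        rw [ell_odd h hi φ (t' := (q - (2 * δ + 1 - 2 * j)) / 2) (by omega) _ rfl] at hs
        have h2 : 2 * δ + 1 - 2 * j + 2 * ((q - (2 * δ + 1 - 2 * j)) / 2) = q := by omega
        rwa [h2] at hs

end

end Groth.Agent.Lib.Helper72.A2d
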