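import Mathlib
import Groth.Agent.Lib.Helper72.ExtPres
import Groth.Agent.Lib.Helper72.LenTri

/-!
# Length of `Ext¹` from a presentation and triangular coordinates on `Hom(K, N)` (abstract form)
-/

universe u

open CategoryTheory Abelian

namespace Groth.Agent.Lib.Helper72.ExtTri

variable {A : Type u} [CommRing A] {k : Type u} [Field k] (cc : A →+* k)
  {P M N : Type u} [AddCommGroup P] [Module A P] [AddCommGroup M] [Module A M]
  [AddCommGroup N] [Module A N]

/-- the submodule of maps on the kernel that extend to `P` -/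
def Zext (π : P →ₗ[A] M) : Submodule A (LinearMap.ker π →ₗ[A] N) :=
  LinearMap.range (LinearMap.lcomp A N (LinearMap.ker π).subtype)

lemma mem_Zext (π : P →ₗ[A] M) (φ : LinearMap.ker π →ₗ[A] N) :
    φ ∈ Zext (N := N) π ↔ ∃ ψ : P →ₗ[A] N, ψ ∘ₗ (LinearMap.ker π).subtype = φ := by
  unfold Zext
  rw [LinearMap.mem_range]
  rfl

theorem length_ext_tri [Module.Projective A P] (hcc : Function.Surjective cc)
    (π : P →ₗ[A] M) (hπ : Function.Surjective π) (d : ℕ)
    (ℓ : (LinearMap.ker π →ₗ[A] N) →+ (Fin d → k)) (hsurj : Function.Surjective ℓ)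
    (hker : ∀ φ, ℓ φ = 0 ↔ ∃ ψ : P →ₗ[A] N, ψ ∘ₗ (LinearMap.ker π).subtype = φ)
    (htri : ∀ (t : Fin d) (φ : LinearMap.ker π →ₗ[A] N), (∀ s : Fin d, s < t → ℓ φ s = 0) →
      ∀ a : A, ℓ (a • φ) t = cc a * ℓ φ t) :
    Module.length A (Ext (ModuleCat.of A M) (ModuleCat.of A N) 1) = d := by
  have h1 := ExtPres.length_ext_one π hπ (Zext (N := N) π).mkQ (Submodule.mkQ_surjective _)
    (by
      intro φ
      rw [Submodule.mkQ_apply, Submodule.Quotient.mk_eq_zero, mem_Zext])
  rw [h1]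
  exact LenTri.length_quot_eq cc hcc d _ (Zext (N := N) π) ℓ hsurj
    (fun φ => (hker φ).trans (mem_Zext π φ).symm) htri

end Groth.Agent.Lib.Helper72.ExtTri
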