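import Mathlib
import Groth.Agent.Lib.Helper72.A2dD
import Groth.Agent.Lib.Helper72.ExtTri

/-!
# The `A_{2δ}` ring: the length of `Ext¹_A(M_i, M_j)` is `2 min(i, j)` (final assembly)
-/

universe u

open PowerSeries CategoryTheory

namespace Groth.Agent.Lib.Helper72.A2d

open Groth.Agent.Lib.Helper72.CubExt (cc cc_surjective)

variable {k : Type u} [Field k] {δ i j μ : ℕ} {A : Subalgebra k (PowerSeries k)}

set_option maxHeartbeats 1000000 in
theorem length_ext (h : MonoD δ A) (hi : i ≤ δ) (hj : j ≤ δ) (hμi : μ ≤ i) (hμj : μ ≤ j)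
    (hμ : μ = i ∨ μ = j) :
    Module.length A (Abelian.Ext (ModuleCat.of A (Mod δ A i)) (ModuleCat.of A (Mod δ A j)) 1)
      = ((μ + μ : ℕ) : ℕ∞) := by
  have h1 := ExtTri.length_ext_tri (A := A) (k := k) (cc A) (P := Fin 2 → A) (M := Mod δ A i)
    (N := Mod δ A j) cc_surjective (pres δ A i) (pres_surjective h hi) (μ + μ)
  have h2 := h1 (ell (μ := μ) h hi) (ell_surjective h hi hj hμi hμj hμ)
  have h3 : ∀ φ : LinearMap.ker (pres δ A i) →ₗ[A] Mod δ A j,
      ell (μ := μ) h hi φ = 0 ↔ ∃ ψ : (Fin 2 → A) →ₗ[A] Mod δ A j,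
        ψ ∘ₗ (LinearMap.ker (pres δ A i)).subtype = φ := by
    intro φ
    rw [ell_eq_zero_iff h hi hj hμi hμj hμ φ, mem_Zsub]
    exact (exists_ext_iff h hi hj φ).symm
  have h4 := h2 h3
  have h5 := h4 (fun t φ hlow a => ell_tri h hi hj hμi hμj hμ t φ hlow a)
  exact h5

end Groth.Agent.Lib.Helper72.A2d
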