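import Mathlib

set_option autoImplicit false

namespace Groth.Agent.Lib.Helper72.AltDet

open Matrix

section Field

variable {K : Type*} [Field K]

lemma diag_zero_of_skew (h2 : (2 : K) ≠ 0) {ι : Type*} (S : Matrix ι ι K) (hS : Sᵀ = -S) (i : ι) :
    S i i = 0 := by
  have h := congrFun (congrFun hS i) i
  rw [transpose_apply, neg_apply] at h
  have h3 : (2 : K) * S i i = 0 := by linear_combination h
  rcases mul_eq_zero.mp h3 with h4 | h4
  · exact absurd h4 h2
  · exact h4

lemma invOf_transpose_of_skew {ι : Type*} [Fintype ι] [DecidableEq ι] (D : Matrix ι ι K)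
    [Invertible D] (hD : Dᵀ = -D) : (⅟D)ᵀ = -⅟D := by
  have h1 : D * (-(⅟D)ᵀ) = 1 := by
    have hD' : D = -Dᵀ := by rw [hD, neg_neg]
    calc D * (-(⅟D)ᵀ) = -(D * (⅟D)ᵀ) := by rw [mul_neg]
      _ = -((-Dᵀ) * (⅟D)ᵀ) := by rw [← hD']
      _ = Dᵀ * (⅟D)ᵀ := by rw [neg_mul, neg_neg]
      _ = (⅟D * D)ᵀ := by rw [transpose_mul]
      _ = 1 := by rw [invOf_mul_self, transpose_one]
  have h2 : ⅟D = -(⅟D)ᵀ := invOf_eq_right_inv h1
  rw [eq_comm, neg_eq_iff_eq_neg]
  exact h2

lemma schur_skew {m n : Type*} [Fintype m] [Fintype n] [DecidableEq m] [DecidableEq n]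
    (A : Matrix m m K) (B : Matrix m n K) (C : Matrix n m K) (D : Matrix n n K) [Invertible D]
    (h : (fromBlocks A B C D)ᵀ = -(fromBlocks A B C D)) :
    (A - B * ⅟D * C)ᵀ = -(A - B * ⅟D * C) := by
  rw [fromBlocks_transpose, fromBlocks_neg, fromBlocks_inj] at h
  obtain ⟨hA, hC, hB, hD⟩ := h
  rw [transpose_sub, transpose_mul, transpose_mul, hA, hC, hB, invOf_transpose_of_skew D hD]
  have h1 : (-B) * (-⅟D * -C) = -(B * ⅟D * C) := by
    simp [Matrix.mul_assoc]
  rw [h1]
  abel

/-- over a field of characteristic not two, the determinant of a skew-symmetric matrix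
is a square -/
theorem det_sq_of_skew (h2 : (2 : K) ≠ 0) : ∀ (n : ℕ) (S : Matrix (Fin n) (Fin n) K),
    Sᵀ = -S → ∃ r : K, S.det = r ^ 2 := by
  intro n
  induction n using Nat.strong_induction_on with
  | _ n ih =>
    intro S hS
    match n, ih, S, hS with
    | 0, _, S, _ => exact ⟨1, by simp⟩
    | 1, _, S, hS =>
      refine ⟨0, ?_⟩
      rw [det_unique, zero_pow two_ne_zero]
      exact diag_zero_of_skew h2 S hS _
    | (n + 2), ih, S, hS =>
      let i₀ : Fin (n + 2) := finSumFinEquiv (Sum.inr 0)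
      let i₁ : Fin (n + 2) := finSumFinEquiv (Sum.inr 1)
      have h01 : i₀ ≠ i₁ := by
        intro h
        have := finSumFinEquiv.injective h
        simp at this
      by_cases hrow : ∀ j, S i₁ j = 0
      · exact ⟨0, by rw [det_eq_zero_of_row_eq_zero i₁ hrow, zero_pow two_ne_zero]⟩
      · push Not at hrow
        obtain ⟨j, hj⟩ := hrow
        have hj1 : j ≠ i₁ := by
          intro h
          rw [h] at hj
          exact hj (diag_zero_of_skew h2 S hS i₁)
        let σ : Equiv.Perm (Fin (n + 2)) := Equiv.swap i₀ j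
        have hσ0 : σ i₀ = j := Equiv.swap_apply_left i₀ j
        have hσ1 : σ i₁ = i₁ := Equiv.swap_apply_of_ne_of_ne h01.symm hj1.symm
        let T : Matrix (Fin n ⊕ Fin 2) (Fin n ⊕ Fin 2) K :=
          (S.submatrix σ σ).submatrix finSumFinEquiv finSumFinEquiv
        have hdet : T.det = S.det := by
          rw [det_submatrix_equiv_self, det_submatrix_equiv_self]
        have hT : Tᵀ = -T := by
          ext x y
          show S (σ (finSumFinEquiv y)) (σ (finSumFinEquiv x)) =
            -S (σ (finSumFinEquiv x)) (σ (finSumFinEquiv y))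
          exact congrFun (congrFun hS _) _
        have hT10 : T (Sum.inr 1) (Sum.inr 0) = S i₁ j := by
          show S (σ i₁) (σ i₀) = _
          rw [hσ0, hσ1]
        obtain ⟨a, ha⟩ : ∃ a, a = S i₁ j := ⟨_, rfl⟩
        have ha0 : a ≠ 0 := ha ▸ hj
        have hT01 : T (Sum.inr 0) (Sum.inr 1) = -a := by
          have h := congrFun (congrFun hT (Sum.inr 1)) (Sum.inr 0)
          rw [transpose_apply, neg_apply, hT10] at h
          rw [h, ha]
        have hT00 : T (Sum.inr 0) (Sum.inr 0) = 0 := diag_zero_of_skew h2 T hT _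
        have hT11 : T (Sum.inr 1) (Sum.inr 1) = 0 := diag_zero_of_skew h2 T hT _
        have hblocks := (fromBlocks_toBlocks T).symm
        have hDdet : T.toBlocks₂₂.det = a ^ 2 := by
          rw [det_fin_two]
          show T (Sum.inr 0) (Sum.inr 0) * T (Sum.inr 1) (Sum.inr 1) -
            T (Sum.inr 0) (Sum.inr 1) * T (Sum.inr 1) (Sum.inr 0) = _
          rw [hT00, hT11, hT01, hT10, ← ha]
          ring
        have hDunit : IsUnit T.toBlocks₂₂.det := by
          rw [hDdet]
          exact (pow_ne_zero 2 ha0).isUnit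
        let _i : Invertible T.toBlocks₂₂ := Matrix.invertibleOfIsUnitDet _ hDunit
        have hT' : (fromBlocks T.toBlocks₁₁ T.toBlocks₁₂ T.toBlocks₂₁ T.toBlocks₂₂)ᵀ =
            -(fromBlocks T.toBlocks₁₁ T.toBlocks₁₂ T.toBlocks₂₁ T.toBlocks₂₂) := by
          rw [fromBlocks_toBlocks]; exact hT
        have hsk := schur_skew _ _ _ _ hT'
        obtain ⟨r, hr⟩ := ih n (by omega) _ hsk
        refine ⟨a * r, ?_⟩
        rw [← hdet, hblocks, det_fromBlocks₂₂, hDdet, hr]
        ring

end Field

end Groth.Agent.Lib.Helper72.AltDet
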