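import Mathlib
import Groth.Agent.Lib.Helper72.AltDet

set_option autoImplicit false

namespace Groth.Agent.Lib.Helper72.AltDet

open Matrix

section Generic

variable (k : Type*) [Field k] [CharZero k] (ι : Type*) [Fintype ι] [DecidableEq ι]

/-- generic skew matrix -/
noncomputable def G : Matrix ι ι (MvPolynomial (ι × ι) k) :=
  Matrix.of fun i j => MvPolynomial.X (i, j) - MvPolynomial.X (j, i)

lemma G_transpose : (G k ι)ᵀ = -(G k ι) := by
  ext i j
  simp [G]

/-- existence of the Pfaffian as a polynomial: the determinant of the generic skew matrix is a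
square -/
theorem exists_pf : ∃ pf : MvPolynomial (ι × ι) k, (G k ι).det = pf ^ 2 := by
  let Pl := MvPolynomial (ι × ι) k
  let K := FractionRing Pl
  have h2 : (2 : K) ≠ 0 := by
    have h : (2 : Pl) ≠ 0 := by
      intro h
      have : (MvPolynomial.C (2 : k) : Pl) = 0 := by rw [map_ofNat]; exact h
      rw [map_eq_zero_iff _ (MvPolynomial.C_injective _ _)] at this
      exact two_ne_zero this
    intro h'
    apply h
    apply IsFractionRing.injective Pl K
    rw [map_ofNat, map_zero]
    exact h'
  let e : ι ≃ Fin (Fintype.card ι) := Fintype.equivFin ι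
  let S : Matrix (Fin (Fintype.card ι)) (Fin (Fintype.card ι)) K :=
    ((algebraMap Pl K).mapMatrix (G k ι)).submatrix e.symm e.symm
  have hS : Sᵀ = -S := by
    ext x y
    show algebraMap Pl K (G k ι (e.symm y) (e.symm x)) = -algebraMap Pl K (G k ι (e.symm x) (e.symm y))
    rw [← map_neg]
    congr 1
    exact congrFun (congrFun (G_transpose k ι) _) _
  obtain ⟨r, hr⟩ := det_sq_of_skew h2 _ S hS
  have hdet : S.det = algebraMap Pl K (G k ι).det := by
    rw [det_submatrix_equiv_self, ← RingHom.map_det]
  have hint : IsIntegral Pl r := by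
    apply IsIntegral.of_pow (n := 2) (by norm_num)
    rw [← hr, hdet]
    exact isIntegral_algebraMap
  obtain ⟨pf, hpf⟩ := IsIntegrallyClosed.isIntegral_iff.mp hint
  refine ⟨pf, ?_⟩
  apply IsFractionRing.injective Pl K
  rw [map_pow, hpf, ← hr, hdet]

/-- specialisation of the generic Pfaffian identity -/
theorem det_eq_sq_of_skew {R : Type*} [CommRing R] (f : k →+* R) (pf : MvPolynomial (ι × ι) k)
    (hpf : (G k ι).det = pf ^ 2) (s : ι × ι → R) (S : Matrix ι ι R)
    (hS : ∀ i j, s (i, j) - s (j, i) = S i j) :
    S.det = (MvPolynomial.eval₂ f s pf) ^ 2 := by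
  have h := congrArg (MvPolynomial.eval₂Hom f s) hpf
  rw [RingHom.map_det, map_pow] at h
  have hm : (MvPolynomial.eval₂Hom f s).mapMatrix (G k ι) = S := by
    ext i j
    simp [G, hS]
  rw [hm] at h
  exact h

end Generic

end Groth.Agent.Lib.Helper72.AltDet
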