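import Mathlib
import Groth.Agent.Lib.Helper72.AltDetB

set_option autoImplicit false

namespace Groth.Agent.Lib.Helper72.AltDet

open Matrix

section Sympl

variable (m : ℕ)

/-- the standard symplectic matrix -/
noncomputable abbrev Jm : Matrix (Fin m ⊕ Fin m) (Fin m ⊕ Fin m) ℂ := Matrix.fromBlocks 0 1 (-1) 0

lemma Jm_transpose : (Jm m)ᵀ = -(Jm m) := by
  rw [Jm, fromBlocks_transpose, fromBlocks_neg]
  simp

lemma Jm_mul_self : Jm m * Jm m = -1 := by
  rw [Jm, fromBlocks_multiply]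
  simp [← fromBlocks_one, fromBlocks_neg]

lemma Jm_det_ne_zero : (Jm m).det ≠ 0 := by
  intro h
  have h2 := congrArg Matrix.det (Jm_mul_self m)
  rw [det_mul, h, zero_mul, det_neg, det_one, mul_one] at h2
  exact (pow_ne_zero _ (by norm_num : (-1 : ℂ) ≠ 0)) h2.symm

lemma skew_JA (A : Matrix (Fin m ⊕ Fin m) (Fin m ⊕ Fin m) ℂ)
    (hA : Aᵀ * Jm m = Jm m * A) : (Jm m * A)ᵀ = -(Jm m * A) := by
  rw [transpose_mul, Jm_transpose, Matrix.mul_neg, hA]

abbrev Idx := (Fin m ⊕ Fin m) × (Fin m ⊕ Fin m)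

theorem exists_Q : ∃ Q : MvPolynomial (Idx m) ℂ,
    ∀ A : Matrix (Fin m ⊕ Fin m) (Fin m ⊕ Fin m) ℂ,
      Aᵀ * Jm m = Jm m * A →
      A.det = (MvPolynomial.eval (fun ij => A ij.1 ij.2) Q) ^ 2 := by
  obtain ⟨pf, hpf⟩ := exists_pf ℂ (Fin m ⊕ Fin m)
  obtain ⟨δ, hδ⟩ := IsAlgClosed.exists_pow_nat_eq ((Jm m).det)⁻¹ (n := 2) (by norm_num)
  let h : Idx m → MvPolynomial (Idx m) ℂ := fun ij =>
    MvPolynomial.C (1 / 2 : ℂ) * ∑ k, MvPolynomial.C (Jm m ij.1 k) * MvPolynomial.X (k, ij.2)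
  refine ⟨MvPolynomial.C δ * MvPolynomial.eval₂ MvPolynomial.C h pf, ?_⟩
  intro A hA
  have hsk := skew_JA m A hA
  have key := det_eq_sq_of_skew ℂ (Fin m ⊕ Fin m) (RingHom.id ℂ) pf hpf
    (fun ij => (1 / 2 : ℂ) * (Jm m * A) ij.1 ij.2) (Jm m * A) (by
      intro i j
      have := congrFun (congrFun hsk j) i
      rw [transpose_apply, Matrix.neg_apply] at this
      simp only
      rw [this]
      ring)
  have hev : MvPolynomial.eval (fun ij => A ij.1 ij.2) (MvPolynomial.eval₂ MvPolynomial.C h pf)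
      = MvPolynomial.eval₂ (RingHom.id ℂ) (fun ij => (1 / 2 : ℂ) * (Jm m * A) ij.1 ij.2) pf := by
    rw [MvPolynomial.eval₂_comp_left (MvPolynomial.eval (fun ij : Idx m => A ij.1 ij.2))]
    congr 1
    · ext x
      simp
    · funext ij
      simp [h, Matrix.mul_apply]
  rw [map_mul, MvPolynomial.eval_C, hev, mul_pow, hδ, ← key, det_mul,
    inv_mul_cancel_left₀ (Jm_det_ne_zero m)]

/-- the skew matrix `J * (X - A)` over `ℂ[X]` -/
noncomputable def St (A : Matrix (Fin m ⊕ Fin m) (Fin m ⊕ Fin m) ℂ) :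
    Matrix (Fin m ⊕ Fin m) (Fin m ⊕ Fin m) (Polynomial ℂ) :=
  (Polynomial.C.mapMatrix (Jm m)) * charmatrix A

lemma St_apply (A : Matrix (Fin m ⊕ Fin m) (Fin m ⊕ Fin m) ℂ) (i j : Fin m ⊕ Fin m) :
    St m A i j = Polynomial.X * Polynomial.C (Jm m i j)
      - ∑ k, Polynomial.C (Jm m i k) * Polynomial.C (A k j) := by
  rw [St, Matrix.mul_apply]
  simp only [charmatrix, RingHom.mapMatrix_apply, Matrix.sub_apply, Matrix.map_apply,
    Matrix.scalar_apply, Matrix.diagonal_apply, mul_sub, Finset.sum_sub_distrib]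
  congr 1
  rw [Finset.sum_eq_single j]
  · rw [if_pos rfl, mul_comm]
  · intro b _ hb
    rw [if_neg hb, mul_zero]
  · intro hj
    exact absurd (Finset.mem_univ j) hj

lemma St_skew (A : Matrix (Fin m ⊕ Fin m) (Fin m ⊕ Fin m) ℂ)
    (hA : Aᵀ * Jm m = Jm m * A) : ∀ i j, St m A j i = - St m A i j := by
  intro i j
  rw [St_apply, St_apply]
  have h1 : Jm m j i = - Jm m i j := by
    have := congrFun (congrFun (Jm_transpose m) i) j
    rw [transpose_apply, Matrix.neg_apply] at this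
    exact this
  have h2 : ∑ k, Polynomial.C (Jm m j k) * Polynomial.C (A k i)
      = - ∑ k, Polynomial.C (Jm m i k) * Polynomial.C (A k j) := by
    have := congrFun (congrFun (skew_JA m A hA) i) j
    rw [transpose_apply, Matrix.neg_apply, Matrix.mul_apply, Matrix.mul_apply] at this
    have h3 := congrArg Polynomial.C this
    rw [map_neg, map_sum, map_sum] at h3
    simpa [map_mul] using h3
  rw [h1, h2, map_neg]
  ring

lemma St_det (A : Matrix (Fin m ⊕ Fin m) (Fin m ⊕ Fin m) ℂ) :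
    (St m A).det = Polynomial.C (Jm m).det * A.charpoly := by
  rw [St, det_mul, ← RingHom.map_det, Matrix.charpoly]

theorem exists_P : ∃ P : MvPolynomial (Idx m) (Polynomial ℂ),
    ∀ A : Matrix (Fin m ⊕ Fin m) (Fin m ⊕ Fin m) ℂ,
      Aᵀ * Jm m = Jm m * A →
      A.charpoly = (MvPolynomial.eval (fun ij => Polynomial.C (A ij.1 ij.2)) P) ^ 2 := by
  obtain ⟨pf, hpf⟩ := exists_pf ℂ (Fin m ⊕ Fin m)
  obtain ⟨δ, hδ⟩ := IsAlgClosed.exists_pow_nat_eq ((Jm m).det)⁻¹ (n := 2) (by norm_num)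
  let h : Idx m → MvPolynomial (Idx m) (Polynomial ℂ) := fun ij =>
    MvPolynomial.C (Polynomial.C (1 / 2 : ℂ)) *
      (MvPolynomial.C (Polynomial.X * Polynomial.C (Jm m ij.1 ij.2))
        - ∑ k, MvPolynomial.C (Polynomial.C (Jm m ij.1 k)) * MvPolynomial.X (k, ij.2))
  refine ⟨MvPolynomial.C (Polynomial.C δ) *
    MvPolynomial.eval₂ (MvPolynomial.C.comp Polynomial.C) h pf, ?_⟩
  intro A hA
  have hsk := St_skew m A hA
  have key := det_eq_sq_of_skew ℂ (Fin m ⊕ Fin m) (Polynomial.C) pf hpf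
    (fun ij => Polynomial.C (1 / 2 : ℂ) * (St m A) ij.1 ij.2) (St m A) (by
      intro i j
      simp only
      rw [hsk i j, mul_neg, sub_neg_eq_add, ← two_mul, ← mul_assoc]
      have : (2 : Polynomial ℂ) * Polynomial.C (1 / 2 : ℂ) = 1 := by
        rw [← Polynomial.C_ofNat, ← Polynomial.C_mul]
        norm_num
      rw [this, one_mul])
  have hev : MvPolynomial.eval (fun ij => Polynomial.C (A ij.1 ij.2))
      (MvPolynomial.eval₂ (MvPolynomial.C.comp Polynomial.C) h pf)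
      = MvPolynomial.eval₂ (Polynomial.C)
        (fun ij => Polynomial.C (1 / 2 : ℂ) * (St m A) ij.1 ij.2) pf := by
    rw [MvPolynomial.eval₂_comp_left
      (MvPolynomial.eval (fun ij : Idx m => Polynomial.C (A ij.1 ij.2)))]
    congr 1
    · ext x
      simp
    · funext ij
      simp [h, St_apply]
  rw [map_mul, MvPolynomial.eval_C, hev, mul_pow, ← key, St_det, ← Polynomial.C_pow, hδ,
    ← mul_assoc, ← Polynomial.C_mul, inv_mul_cancel₀ (Jm_det_ne_zero m), Polynomial.C_1, one_mul]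

end Sympl

end Groth.Agent.Lib.Helper72.AltDet
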