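import Mathlib

namespace Groth.Agent.Lib.Helper72.BinomGcd
open Finset

lemma chi_succ (d : ℕ) (hd : 1 ≤ d) (n : ℕ) :
    (1 - (-1 : ℤ) ^ (n+1) * ((d - 1).choose (n+1) : ℤ)) =
      (1 - (-1 : ℤ) ^ n * ((d - 1).choose n : ℤ)) + (-1)^n * (d.choose (n+1) : ℤ) := by
  obtain ⟨e, rfl⟩ : ∃ e, d = e + 1 := ⟨d - 1, by omega⟩
  simp only [Nat.add_sub_cancel]
  rw [Nat.choose_succ_succ]
  push_cast
  ring

lemma dvd_choose_of_dvd_chi (d N : ℕ) (hd : 1 ≤ d) (g : ℤ)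
    (h : ∀ n ∈ Icc 1 N, g ∣ 1 - (-1 : ℤ) ^ n * ((d - 1).choose n : ℤ)) :
    ∀ j ∈ Icc 1 N, g ∣ (d.choose j : ℤ) := by
  intro j hj
  rw [mem_Icc] at hj
  obtain ⟨n, rfl⟩ : ∃ n, j = n + 1 := ⟨j - 1, by omega⟩
  have h1 := h (n+1) (by rw [mem_Icc]; omega)
  rw [chi_succ d hd n] at h1
  have h0 : g ∣ (1 - (-1 : ℤ) ^ n * ((d - 1).choose n : ℤ)) := by
    rcases Nat.eq_zero_or_pos n with rfl | hn
    · simp
    · exact h n (by rw [mem_Icc]; omega)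
  have h2 : g ∣ (-1 : ℤ)^n * (d.choose (n+1) : ℤ) := (dvd_add_right h0).mp h1
  have h3 : (d.choose (n+1) : ℤ) = (-1 : ℤ)^n * ((-1 : ℤ)^n * (d.choose (n+1) : ℤ)) := by
    rw [← mul_assoc, ← mul_pow]; simp
  rw [h3]
  exact Dvd.dvd.mul_left h2 _

lemma dvd_chi_of_dvd_choose (d N : ℕ) (hd : 1 ≤ d) (g : ℤ)
    (h : ∀ j ∈ Icc 1 N, g ∣ (d.choose j : ℤ)) :
    ∀ n, n ≤ N → g ∣ 1 - (-1 : ℤ) ^ n * ((d - 1).choose n : ℤ) := by
  intro n
  induction n with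
  | zero => intro _; simp
  | succ n ih =>
    intro hn
    rw [chi_succ d hd n]
    exact dvd_add (ih (by omega)) (Dvd.dvd.mul_left (h (n+1) (by rw [mem_Icc]; omega)) _)

lemma lucas_one (p : ℕ) [Fact p.Prime] (e : ℕ) : ∀ m : ℕ, 1 ≤ m →
    (p ^ e * m - 1).choose (p ^ e - 1) ≡ 1 [MOD p] := by
  have hp : p.Prime := Fact.out
  have hp1 : 1 ≤ p := hp.one_lt.le
  induction e with
  | zero => intro m hm; simp [Nat.ModEq]
  | succ e ih =>
    intro m hm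
    have hpe : 1 ≤ p ^ e := Nat.one_le_pow _ _ hp.pos
    obtain ⟨q, hq⟩ : ∃ q, p ^ e * m = q + 1 := ⟨p ^ e * m - 1, by
      have : 1 ≤ p ^ e * m := Nat.one_le_iff_ne_zero.mpr (Nat.mul_ne_zero (by omega) (by omega))
      omega⟩
    obtain ⟨r, hr⟩ : ∃ r, p ^ e = r + 1 := ⟨p ^ e - 1, by omega⟩
    have hn : p ^ (e+1) * m - 1 = (p - 1) + p * q := by
      have : p ^ (e+1) * m = p * (q + 1) := by rw [← hq]; ring
      rw [this, Nat.mul_succ]; omega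
    have hk : p ^ (e+1) - 1 = (p - 1) + p * r := by
      have : p ^ (e+1) = p * (r + 1) := by rw [← hr]; ring
      rw [this, Nat.mul_succ]; omega
    have hlt : p - 1 < p := by omega
    have h1 := Choose.choose_modEq_choose_mod_mul_choose_div_nat (p := p)
      (n := p ^ (e+1) * m - 1) (k := p ^ (e+1) - 1)
    rw [hn, hk]
    rw [hn, hk, Nat.add_mul_mod_self_left, Nat.add_mul_mod_self_left, Nat.mod_eq_of_lt hlt,
      Nat.add_mul_div_left _ _ hp.pos, Nat.add_mul_div_left _ _ hp.pos,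
      Nat.div_eq_of_lt hlt, Nat.choose_self, zero_add, zero_add, one_mul] at h1
    have h2 := ih m hm
    rw [hq, hr] at h2
    simp only [Nat.add_sub_cancel] at h2
    exact h1.trans h2

lemma div_gcd_dvd_choose (d j : ℕ) (hd : 1 ≤ d) (hj : 1 ≤ j) :
    d / Nat.gcd d j ∣ d.choose j := by
  obtain ⟨e, rfl⟩ : ∃ e, d = e + 1 := ⟨d - 1, by omega⟩
  obtain ⟨i, rfl⟩ : ∃ i, j = i + 1 := ⟨j - 1, by omega⟩
  have hg : 0 < Nat.gcd (e+1) (i+1) := Nat.gcd_pos_of_pos_left _ (by omega)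
  obtain ⟨d', hd'⟩ := Nat.gcd_dvd_left (e+1) (i+1)
  obtain ⟨j', hj'⟩ := Nat.gcd_dvd_right (e+1) (i+1)
  have hcop : Nat.Coprime d' j' := by
    have := Nat.coprime_div_gcd_div_gcd hg
    rwa [Nat.div_eq_of_eq_mul_right hg hd', Nat.div_eq_of_eq_mul_right hg hj'] at this
  have h1 := Nat.add_one_mul_choose_eq e i
  rw [Nat.div_eq_of_eq_mul_right hg hd']
  have h2 : d' * e.choose i = (e+1).choose (i+1) * j' := by
    have : Nat.gcd (e+1) (i+1) * (d' * e.choose i) = Nat.gcd (e+1) (i+1) * ((e+1).choose (i+1) * j') := by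
      calc Nat.gcd (e+1) (i+1) * (d' * e.choose i) = (Nat.gcd (e+1) (i+1) * d') * e.choose i := by ring
        _ = (e+1) * e.choose i := by rw [← hd']
        _ = (e+1).choose (i+1) * (i+1) := h1
        _ = (e+1).choose (i+1) * (Nat.gcd (e+1) (i+1) * j') := by rw [← hj']
        _ = _ := by ring
    exact Nat.eq_of_mul_eq_mul_left hg this
  have h3 : d' ∣ (e+1).choose (i+1) * j' := ⟨_, h2.symm⟩
  exact hcop.dvd_of_dvd_mul_right h3

lemma dvd_div_of_dvd_choose (d N : ℕ) (hd : 1 ≤ d) (g : ℕ)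
    (h : ∀ j ∈ Icc 1 N, g ∣ d.choose j) (δ : ℕ) (hδ1 : 1 ≤ δ) (hδN : δ ≤ N) (hδd : δ ∣ d) :
    g ∣ d / δ := by
  rw [Nat.dvd_iff_prime_pow_dvd_dvd]
  intro p k hp hpk
  have : Fact p.Prime := ⟨hp⟩
  obtain ⟨m, hm⟩ := hδd
  have hm1 : 1 ≤ m := by
    rcases Nat.eq_zero_or_pos m with rfl | h
    · simp at hm; omega
    · exact h
  rw [hm, Nat.mul_div_cancel_left _ (by omega : 0 < δ)]
  obtain ⟨e, δ', hδ', hδe⟩ := Nat.exists_eq_pow_mul_and_not_dvd (by omega : δ ≠ 0) p hp.ne_one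
  have hδ'1 : 1 ≤ δ' := by
    rcases Nat.eq_zero_or_pos δ' with rfl | h
    · simp at hδ'
    · exact h
  have hpe : 1 ≤ p ^ e := Nat.one_le_pow _ _ hp.pos
  have hpeN : p ^ e ≤ N := by
    calc p ^ e = p ^ e * 1 := by ring
      _ ≤ p ^ e * δ' := Nat.mul_le_mul_left _ hδ'1
      _ = δ := hδe.symm
      _ ≤ N := hδN
  have h1 : p ^ k ∣ d.choose (p ^ e) := (hpk).trans (h _ (by rw [mem_Icc]; exact ⟨hpe, hpeN⟩))
  have hd2 : d = p ^ e * (δ' * m) := by rw [hm, hδe]; ring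
  have hδm : 1 ≤ δ' * m := Nat.one_le_iff_ne_zero.mpr (Nat.mul_ne_zero (by omega) (by omega))
  have hL := lucas_one p e (δ' * m) hδm
  rw [← hd2] at hL
  obtain ⟨r, hr⟩ : ∃ r, p ^ e = r + 1 := ⟨p ^ e - 1, by omega⟩
  obtain ⟨d0, hd0⟩ : ∃ d0, d = d0 + 1 := ⟨d - 1, by omega⟩
  have h2 := Nat.add_one_mul_choose_eq d0 r
  rw [← hd0, ← hr] at h2
  have hd0' : d0 = d - 1 := by omega
  have hr' : r = p ^ e - 1 := by omega
  rw [hd0', hr'] at h2
  have h3 : (δ' * m) * (d - 1).choose (p ^ e - 1) = d.choose (p ^ e) := by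
    have : p ^ e * ((δ' * m) * (d - 1).choose (p ^ e - 1)) = p ^ e * d.choose (p ^ e) := by
      calc p ^ e * ((δ' * m) * (d - 1).choose (p ^ e - 1))
          = (p ^ e * (δ' * m)) * (d - 1).choose (p ^ e - 1) := by ring
        _ = d * (d - 1).choose (p ^ e - 1) := by rw [← hd2]
        _ = d.choose (p ^ e) * p ^ e := h2
        _ = _ := by ring
    exact Nat.eq_of_mul_eq_mul_left (by omega) this
  rw [← h3] at h1
  have hcopL : Nat.Coprime (p ^ k) ((d - 1).choose (p ^ e - 1)) := by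
    apply Nat.Coprime.pow_left
    rw [Nat.Prime.coprime_iff_not_dvd hp]
    intro hdvd
    have : (d - 1).choose (p ^ e - 1) % p = 0 := Nat.mod_eq_zero_of_dvd hdvd
    have h4 : (d - 1).choose (p ^ e - 1) % p = 1 % p := hL
    rw [this, Nat.mod_eq_of_lt hp.one_lt] at h4
    exact absurd h4 (by norm_num)
  have hcopδ : Nat.Coprime (p ^ k) δ' := by
    apply Nat.Coprime.pow_left
    rw [Nat.Prime.coprime_iff_not_dvd hp]
    exact hδ'
  have h5 : p ^ k ∣ δ' * m := hcopL.dvd_of_dvd_mul_right h1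
  exact hcopδ.dvd_of_dvd_mul_left h5

end Groth.Agent.Lib.Helper72.BinomGcd
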