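/-
Helper72: edge labellings of finite bipartite simple graphs with prescribed vertex sums:
alternating labellings along walks, bridges.
-/
import Mathlib

set_option autoImplicit false
set_option linter.unusedSectionVars false

namespace Groth.Agent.Lib.Helper72.BipLab

open SimpleGraph

variable {V : Type*} [Fintype V] [DecidableEq V] {A : Type*} [AddCommGroup A]

/-- the indicator labelling of an edge. -/
def edgeLab (g : A) (e₀ : Sym2 V) : Sym2 V → A := fun e => if e = e₀ then g else 0

/-- the alternating labelling along a walk. -/
def walkLab (G : SimpleGraph V) (g : A) : ∀ {v w : V}, G.Walk v w → Sym2 V → A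
  | _, _, Walk.nil => 0
  | v, _, Walk.cons (v := v') _ p => edgeLab g s(v, v') - walkLab G g p

lemma walkLab_add (G : SimpleGraph V) (g g' : A) {v w : V} (p : G.Walk v w) :
    walkLab G (g + g') p = walkLab G g p + walkLab G g' p := by
  induction p with
  | nil => simp [walkLab]
  | cons h p ih =>
    funext e
    simp only [walkLab, Pi.sub_apply, Pi.add_apply, ih, edgeLab]
    split_ifs <;> abel

lemma walkLab_zero (G : SimpleGraph V) {v w : V} (p : G.Walk v w) :
    walkLab G (0 : A) p = 0 := by
  induction p with
  | nil => simp [walkLab]
  | cons h p ih =>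
    funext e
    simp [walkLab, ih, edgeLab]

lemma walkLab_eq_zero (G : SimpleGraph V) (g : A) {v w : V} (p : G.Walk v w) {e : Sym2 V}
    (he : e ∉ p.edges) : walkLab G g p e = 0 := by
  induction p with
  | nil => simp [walkLab]
  | cons h p ih =>
    rw [Walk.edges_cons, List.mem_cons, not_or] at he
    simp only [walkLab, Pi.sub_apply, edgeLab, if_neg he.1, ih he.2, sub_zero]

/-- the vertex sums of the indicator labelling of an edge. -/
lemma sum_edgeLab (G : SimpleGraph V) [DecidableRel G.Adj] (g : A) {v v' : V} (h : G.Adj v v')
    (u : V) : ∑ e ∈ G.incidenceFinset u, edgeLab g s(v, v') e =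
      (if u = v then g else 0) + (if u = v' then g else 0) := by
  unfold edgeLab
  rw [Finset.sum_ite_eq']
  have hne : v ≠ v' := h.ne
  by_cases h1 : s(v, v') ∈ G.incidenceFinset u
  · rw [if_pos h1]
    rw [mem_incidenceFinset, mk'_mem_incidenceSet_iff] at h1
    rcases h1.2 with rfl | rfl
    · rw [if_pos rfl, if_neg hne, add_zero]
    · rw [if_neg hne.symm, if_pos rfl, zero_add]
  · rw [if_neg h1]
    rw [mem_incidenceFinset, mk'_mem_incidenceSet_iff, not_and] at h1
    have := h1 h
    rw [not_or] at this
    rw [if_neg this.1, if_neg this.2, add_zero]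

/-- the vertex sums of the alternating labelling along a walk. -/
lemma sum_walkLab (G : SimpleGraph V) [DecidableRel G.Adj] (g : A) {v w : V} (p : G.Walk v w)
    (u : V) : ∑ e ∈ G.incidenceFinset u, walkLab G g p e =
      (if u = v then g else 0) + ((-1 : ℤ) ^ (p.length + 1)) • (if u = w then g else 0) := by
  induction p with
  | @nil a =>
    by_cases h : u = a <;> simp [walkLab, h]
  | cons h p ih =>
    simp only [walkLab, Pi.sub_apply, Finset.sum_sub_distrib, ih, sum_edgeLab G g h u,
      Walk.length_cons]
    rw [pow_succ ((-1 : ℤ)) (p.length + 1)]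
    simp only [mul_neg, mul_one, neg_smul]
    abel

/-- in a bipartite graph the parity of the length of a walk is determined by the colours of its
ends. -/
lemma even_length_iff (G : SimpleGraph V) (c : V → Bool) (hbip : ∀ v w : V, G.Adj v w → c v ≠ c w)
    {v w : V} (p : G.Walk v w) : Even p.length ↔ c v = c w := by
  induction p with
  | nil => simp
  | @cons a b d h p ih =>
    rw [Walk.length_cons, Nat.even_add_one, ih]
    have := hbip _ _ h
    revert this
    cases c a <;> cases c b <;> cases c d <;> simp

end Groth.Agent.Lib.Helper72.BipLab
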