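/-
Helper72: zero-sum edge labellings of finite connected bipartite simple graphs: bridges carry the
label zero.
-/
import Mathlib
import Groth.Agent.Lib.Helper72.BipLab

set_option autoImplicit false
set_option linter.unusedSectionVars false

namespace Groth.Agent.Lib.Helper72.BipLab

open SimpleGraph

variable {V : Type*} [Fintype V] [DecidableEq V] {A : Type*} [AddCommGroup A]

/-- double counting of incidences. -/
lemma sum_smul_incidence (G : SimpleGraph V) [DecidableRel G.Adj] (ψ : V → ℤ) (x : Sym2 V → A) :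
    ∑ v, ψ v • ∑ e ∈ G.incidenceFinset v, x e =
      ∑ e ∈ G.edgeFinset, (∑ v ∈ Finset.univ.filter (fun v => v ∈ e), ψ v) • x e := by
  simp only [Finset.smul_sum, Finset.sum_smul]
  apply Finset.sum_comm'
  intro v e
  simp only [Finset.mem_univ, true_and, mem_incidenceFinset, Finset.mem_filter, mem_edgeFinset]
  rw [incidenceSet]
  simp only [Set.mem_ofPred_eq]
  tauto

/-- a bridge of a bipartite graph carries the label zero in every zero-sum labelling. -/
lemma eq_zero_of_isBridge (G : SimpleGraph V) [DecidableRel G.Adj] (c : V → Bool)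
    (hbip : ∀ v w : V, G.Adj v w → c v ≠ c w) (x : Sym2 V → A)
    (hx : ∀ v, ∑ e ∈ G.incidenceFinset v, x e = 0) {u₀ w₀ : V} (hadj : G.Adj u₀ w₀)
    (hb : G.IsBridge s(u₀, w₀)) : x s(u₀, w₀) = 0 := by
  classical
  rw [isBridge_iff] at hb
  obtain ⟨G', hG'⟩ : ∃ G', G' = G.deleteEdges {s(u₀, w₀)} := ⟨_, rfl⟩
  rw [← hG'] at hb
  let ψ : V → ℤ := fun v => if G'.Reachable u₀ v then (if c v then 1 else -1) else 0
  have h1 := sum_smul_incidence G ψ x
  rw [Finset.sum_congr rfl (fun v _ => by rw [hx v, smul_zero]), Finset.sum_const_zero] at h1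
  have hW : ∀ p q : V, p ≠ q →
      ∑ v ∈ Finset.univ.filter (fun v => v ∈ s(p, q)), ψ v = ψ p + ψ q := by
    intro p q hpq
    have : Finset.univ.filter (fun v => v ∈ s(p, q)) = {p, q} := by
      ext v
      simp [Sym2.mem_iff]
    rw [this, Finset.sum_pair hpq]
  rw [Finset.sum_eq_single s(u₀, w₀)] at h1
  · rw [hW u₀ w₀ hadj.ne] at h1
    have hψu : ψ u₀ = if c u₀ then 1 else -1 := by
      simp only [ψ]
      rw [if_pos (Reachable.refl _)]
    have hψw : ψ w₀ = 0 := by
      simp only [ψ]
      rw [if_neg hb]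
    rw [hψu, hψw, add_zero] at h1
    by_cases hc : c u₀ = true
    · rw [if_pos hc, one_smul] at h1
      exact h1.symm
    · rw [if_neg hc, neg_smul, one_smul] at h1
      exact neg_eq_zero.1 h1.symm
  · intro e he hne
    induction e using Sym2.ind with
    | h p q =>
    rw [mem_edgeFinset, mem_edgeSet] at he
    rw [hW p q he.ne]
    have hadj' : G'.Adj p q := by
      rw [hG', deleteEdges_adj]
      exact ⟨he, hne⟩
    have hreach : G'.Reachable u₀ p ↔ G'.Reachable u₀ q :=
      ⟨fun h => h.trans hadj'.reachable, fun h => h.trans hadj'.symm.reachable⟩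
    have hcol := hbip p q he
    simp only [ψ]
    by_cases hp : G'.Reachable u₀ p
    · rw [if_pos hp, if_pos (hreach.1 hp)]
      have : (if c p = true then (1 : ℤ) else -1) + (if c q = true then (1 : ℤ) else -1) = 0 := by
        revert hcol
        cases c p <;> cases c q <;> simp
      rw [this, zero_smul]
    · rw [if_neg hp, if_neg (fun h => hp (hreach.2 h)), add_zero, zero_smul]
  · intro h
    exact absurd (mem_edgeFinset.2 hadj) h

/-- a zero-sum labelling of a bipartite tree vanishes. -/
lemma eq_zero_of_isTree (G : SimpleGraph V) [DecidableRel G.Adj] (hG : G.IsTree) (c : V → Bool)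
    (hbip : ∀ v w : V, G.Adj v w → c v ≠ c w) (x : Sym2 V → A)
    (hsupp : ∀ e, e ∉ G.edgeSet → x e = 0)
    (hx : ∀ v, ∑ e ∈ G.incidenceFinset v, x e = 0) : x = 0 := by
  funext e
  by_cases he : e ∈ G.edgeSet
  · have hb := (isAcyclic_iff_forall_isBridge.1 hG.isAcyclic) he
    induction e using Sym2.ind with
    | h p q => exact eq_zero_of_isBridge G c hbip x hx he hb
  · exact hsupp e he

end Groth.Agent.Lib.Helper72.BipLab
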