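/-
Helper72: the group of zero-sum edge labellings of a finite connected bipartite simple graph of
cyclomatic number `n` is `A^n`.
-/
import Mathlib
import Groth.Agent.Lib.Helper72.BipLabB
import Groth.Agent.S13410

set_option autoImplicit false
set_option linter.unusedSectionVars false

namespace Groth.Agent.Lib.Helper72.BipLab

open SimpleGraph

variable {V : Type*} [Fintype V] [DecidableEq V] {A : Type*} [AddCommGroup A]

/-- deleting an edge with label zero does not change the vertex sums. -/
lemma sum_incidence_deleteEdges (G : SimpleGraph V) [DecidableRel G.Adj] (e₀ : Sym2 V)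
    [DecidableRel (G.deleteEdges {e₀}).Adj] (z : Sym2 V → A) (hz : z e₀ = 0) (v : V) :
    ∑ e ∈ (G.deleteEdges {e₀}).incidenceFinset v, z e = ∑ e ∈ G.incidenceFinset v, z e := by
  apply Finset.sum_subset
  · intro e he
    rw [mem_incidenceFinset] at he ⊢
    have h1 := he.1
    rw [edgeSet_deleteEdges] at h1
    exact ⟨h1.1, he.2⟩
  · intro e he hne
    rw [mem_incidenceFinset] at he hne
    by_cases h : e = e₀
    · rw [h, hz]
    · exfalso
      apply hne
      refine ⟨?_, he.2⟩
      rw [edgeSet_deleteEdges]
      exact ⟨he.1, h⟩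

theorem zeroSum_range (c : V → Bool) (A : Type*) [AddCommGroup A] :
    ∀ (n : ℕ) (G : SimpleGraph V) [DecidableRel G.Adj], G.Connected →
      (∀ v w : V, G.Adj v w → c v ≠ c w) → G.edgeFinset.card + 1 = Fintype.card V + n →
      ∃ f : (Fin n → A) →+ (Sym2 V → A), Function.Injective f ∧
        Set.range f = {x : Sym2 V → A | (∀ e : Sym2 V, e ∉ G.edgeSet → x e = 0) ∧
          ∀ v : V, ∑ e ∈ G.incidenceFinset v, x e = 0} := by
  classical
  intro n
  induction n with
  | zero =>
    intro G _ hconn hbip hn
    have htree : G.IsTree := by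
      rw [isTree_iff_connected_and_card]
      refine ⟨hconn, ?_⟩
      rw [Nat.card_eq_fintype_card, Nat.card_eq_fintype_card, ← edgeFinset_card]
      simpa using hn
    refine ⟨0, Function.injective_of_subsingleton _, ?_⟩
    ext x
    simp only [Set.mem_range, AddMonoidHom.zero_apply, Set.mem_ofPred_eq]
    constructor
    · rintro ⟨y, rfl⟩
      exact ⟨fun _ _ => rfl, fun v => by simp⟩
    · rintro ⟨h1, h2⟩
      exact ⟨0, (eq_zero_of_isTree G htree c hbip x h1 h2).symm⟩
  | succ n ih =>
    intro G _ hconn hbip hn
    -- a non-bridge edge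
    obtain ⟨e₀, he₀, hnb⟩ : ∃ e₀ ∈ G.edgeSet, ¬ G.IsBridge e₀ := by
      by_contra hcon
      push Not at hcon
      have hac : G.IsAcyclic := isAcyclic_iff_forall_isBridge.2 fun e he => hcon e he
      have htree : G.IsTree := ⟨hconn, hac⟩
      have := htree.card_edgeFinset
      omega
    induction e₀ using Sym2.ind with
    | h u₀ w₀ =>
    have hconn' : (G.deleteEdges {s(u₀, w₀)}).Connected :=
      hconn.connected_delete_edge_of_not_isBridge hnb
    have hbip' : ∀ v w : V, (G.deleteEdges {s(u₀, w₀)}).Adj v w → c v ≠ c w := by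
      intro v w h
      rw [deleteEdges_adj] at h
      exact hbip v w h.1
    have hcard : (G.deleteEdges {s(u₀, w₀)}).edgeFinset = G.edgeFinset.erase s(u₀, w₀) := by
      ext e
      rw [Finset.mem_erase, mem_edgeFinset, mem_edgeFinset, edgeSet_deleteEdges]
      simp only [Set.mem_sdiff, Set.mem_singleton_iff]
      tauto
    have hn' : (G.deleteEdges {s(u₀, w₀)}).edgeFinset.card + 1 = Fintype.card V + n := by
      rw [hcard, Finset.card_erase_of_mem (mem_edgeFinset.2 he₀)]
      have : 0 < G.edgeFinset.card := Finset.card_pos.2 ⟨_, mem_edgeFinset.2 he₀⟩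
      omega
    obtain ⟨f', hinj', hrange'⟩ := ih (G.deleteEdges {s(u₀, w₀)}) hconn' hbip' hn'
    obtain ⟨φ, hφ1, hφ2⟩ := Groth.Agent.S13410.result G hconn c hbip A s(u₀, w₀) he₀ hconn'
    have hmem' : ∀ y, (∀ e : Sym2 V, e ∉ (G.deleteEdges {s(u₀, w₀)}).edgeSet → f' y e = 0) ∧
        ∀ v : V, ∑ e ∈ (G.deleteEdges {s(u₀, w₀)}).incidenceFinset v, f' y e = 0 := by
      intro y
      have : f' y ∈ Set.range f' := ⟨y, rfl⟩
      rw [hrange'] at this
      exact this
    have he₀' : s(u₀, w₀) ∉ (G.deleteEdges {s(u₀, w₀)}).edgeSet := by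
      rw [edgeSet_deleteEdges]
      exact fun h => h.2 rfl
    let tailHom : (Fin (n + 1) → A) →+ (Fin n → A) :=
      { toFun := Fin.tail, map_zero' := rfl, map_add' := fun _ _ => rfl }
    refine ⟨f'.comp tailHom + φ.comp (Pi.evalAddMonoidHom (fun _ : Fin (n + 1) => A) 0), ?_, ?_⟩
    · rw [injective_iff_map_eq_zero]
      intro y hy
      simp only [AddMonoidHom.add_apply, AddMonoidHom.comp_apply, Pi.evalAddMonoidHom_apply] at hy
      have h0 : y 0 = 0 := by
        have := congrFun hy s(u₀, w₀)
        rw [Pi.add_apply, (hmem' _).1 _ he₀', zero_add, hφ2] at this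
        exact this
      rw [h0, map_zero, add_zero] at hy
      have h1 : tailHom y = 0 := hinj' (by rw [hy, map_zero])
      funext i
      refine Fin.cases h0 (fun j => ?_) i
      exact congrFun h1 j
    · ext x
      simp only [Set.mem_range, AddMonoidHom.add_apply, AddMonoidHom.comp_apply,
        Pi.evalAddMonoidHom_apply, Set.mem_ofPred_eq]
      constructor
      · rintro ⟨y, rfl⟩
        constructor
        · intro e he
          have he' : e ∉ (G.deleteEdges {s(u₀, w₀)}).edgeSet := by
            rw [edgeSet_deleteEdges]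
            exact fun h => he h.1
          rw [Pi.add_apply, (hmem' _).1 e he', (hφ1 _).1 e he, add_zero]
        · intro v
          simp only [Pi.add_apply, Finset.sum_add_distrib]
          rw [(hφ1 _).2 v, add_zero,
            ← sum_incidence_deleteEdges G s(u₀, w₀) _ ((hmem' _).1 _ he₀') v]
          exact (hmem' _).2 v
      · rintro ⟨h1, h2⟩
        have hx' : x - φ (x s(u₀, w₀)) ∈ Set.range f' := by
          rw [hrange']
          have h0 : (x - φ (x s(u₀, w₀))) s(u₀, w₀) = 0 := by
            rw [Pi.sub_apply, hφ2, sub_self]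
          constructor
          · intro e he
            by_cases hee : e = s(u₀, w₀)
            · rw [hee, h0]
            · have : e ∉ G.edgeSet := by
                intro h
                apply he
                rw [edgeSet_deleteEdges]
                exact ⟨h, hee⟩
              rw [Pi.sub_apply, h1 e this, (hφ1 _).1 e this, sub_zero]
          · intro v
            rw [sum_incidence_deleteEdges G s(u₀, w₀) _ h0 v]
            simp only [Pi.sub_apply, Finset.sum_sub_distrib]
            rw [h2 v, (hφ1 _).2 v, sub_zero]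
        obtain ⟨y', hy'⟩ := hx'
        refine ⟨Fin.cons (x s(u₀, w₀)) y', ?_⟩
        have ht : tailHom (Fin.cons (x s(u₀, w₀)) y') = y' := by
          funext i
          exact congrFun (Fin.tail_cons (α := fun _ : Fin (n + 1) => A) (x s(u₀, w₀)) y') i
        rw [ht, hy', Fin.cons_zero]
        abel

end Groth.Agent.Lib.Helper72.BipLab
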