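import Groth.Prelude.Def_RootCh2

/-!
Helper lemmas for facets / chambers / fundamental weights of a finite root system.
-/

namespace Groth.Agent.Lib.Helper72.RootChLib

open RootCh Module

universe u v w x

variable {ι : Type u} {R : Type v} {M : Type w} {N : Type x}

section NoOrder

variable [CommRing R] [AddCommGroup M] [Module R M] [AddCommGroup N] [Module R N]
variable {P : RootPairing ι R M N} [P.IsRootSystem]

/-- pairing of a fundamental weight with a simple coroot. -/
lemma coroot'_fundWeight (b : P.Base) (i j : b.support) [DecidableEq b.support] :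
    P.coroot' j (fundWeight b i) = if j = i then 1 else 0 := by
  split_ifs with h
  · subst h; exact coroot'_fundWeight_self b j
  · exact coroot'_fundWeight_of_ne b i j h

/-- Every vector is the combination of the fundamental weights with its simple coroot pairings. -/
lemma eq_sum_fundWeight (b : P.Base) (v : M) :
    v = ∑ i : b.support, P.coroot' i v • fundWeight b i := by
  classical
  apply P.toPerfPair.injective
  apply b.toCoweightBasis.ext
  intro j
  rw [map_sum, LinearMap.sum_apply]
  simp only [LinearMap.toPerfPair_apply, map_smul,
    LinearMap.smul_apply, RootPairing.Base.toCoweightBasis_apply, smul_eq_mul]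
  have : ∀ i : b.support, P.toLinearMap (fundWeight b i) (P.coroot j) = if j = i then 1 else 0 :=
    fun i ↦ coroot'_fundWeight b i j
  simp only [this, mul_ite, mul_one, mul_zero, Finset.sum_ite_eq, Finset.mem_univ, if_true]
  rfl

lemma toLinearMap_eq_sum_fundWeight (b : P.Base) (v : M) (y : N) :
    P.toLinearMap v y = ∑ i : b.support, P.coroot' i v * P.toLinearMap (fundWeight b i) y := by
  conv_lhs => rw [eq_sum_fundWeight b v]
  simp [map_sum, LinearMap.sum_apply]

end NoOrder

section Ordered

variable [Field R] [LinearOrder R] [IsStrictOrderedRing R]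
variable [AddCommGroup M] [Module R M] [AddCommGroup N] [Module R N]
variable {P : RootPairing ι R M N}

/-- vectors of the closed chamber pair non-negatively with sums of simple coroots. -/
lemma nonneg_of_mem_closure {b : P.Base} {ξ : M} (hξ : ξ ∈ closedChamber b) {y : N}
    (hy : y ∈ AddSubmonoid.closure (P.coroot '' b.support)) : 0 ≤ P.toLinearMap ξ y := by
  induction hy using AddSubmonoid.closure_induction with
  | mem y hy =>
    obtain ⟨i, hi, rfl⟩ := hy
    exact hξ i hi
  | zero => simp
  | add y z _ _ hy hz => rw [map_add]; exact add_nonneg hy hz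

variable [P.IsRootSystem]

lemma fundWeight_mem_closedChamber (b : P.Base) (i : b.support) :
    fundWeight b i ∈ closedChamber b := by
  classical
  intro j hj
  have := coroot'_fundWeight b i ⟨j, hj⟩
  change P.coroot' j (fundWeight b i) = _ at this
  rw [this]
  split_ifs <;> simp

lemma fundWeight_mem_baseCorners (b : P.Base) (i : b.support) :
    fundWeight b i ∈ baseCorners b :=
  ⟨⟨b, i, rfl⟩, fundWeight_mem_closedChamber b i⟩

/-- key inequality: `⟨w_i, y⟩ * ⟨ξ, α̌_i⟩ ≤ ⟨ξ, y⟩` for `y` a sum of simple coroots. -/
lemma fundWeight_mul_le {b : P.Base} (i : b.support) {ξ : M} (hξ : ξ ∈ closedChamber b) {y : N}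
    (hy : y ∈ AddSubmonoid.closure (P.coroot '' b.support)) :
    P.toLinearMap (fundWeight b i) y * P.coroot' i ξ ≤ P.toLinearMap ξ y := by
  classical
  induction hy using AddSubmonoid.closure_induction with
  | mem y hy =>
    obtain ⟨j, hj, rfl⟩ := hy
    have h1 := coroot'_fundWeight b i ⟨j, hj⟩
    change P.toLinearMap (fundWeight b i) (P.coroot j) = _ at h1
    rw [h1]
    split_ifs with h
    · have : j = i.1 := congrArg Subtype.val h
      subst this
      rw [one_mul]
      exact le_rfl
    · rw [zero_mul]
      exact hξ j hj
  | zero => simp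
  | add y z _ _ hy hz =>
    rw [map_add, map_add, add_mul]
    exact add_le_add hy hz

end Ordered

end Groth.Agent.Lib.Helper72.RootChLib
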