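import Groth.Prelude.Def_RootCh2
import Groth.Agent.Lib.Helper72.RootChLib
import Groth.Agent.Lib.Helper27.WeylBase
import Mathlib.LinearAlgebra.RootSystem.Finite.Nondegenerate
import Mathlib.LinearAlgebra.RootSystem.BaseExists

/-!
# Chambers, facets and corners of a finite root system (helper72)

Library for the `RootCh` family: positivity of coroots, sign vectors on chambers,
reflected bases, existence of a chamber containing a vector in its closure,
gallery induction, corners of chambers and facets.
-/

set_option autoImplicit false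
set_option linter.unusedSectionVars false

namespace Groth.Agent.Lib.Helper72.Chamber

open RootCh Module RootPairing
open Groth.Agent.Lib.Helper27.Weyl
open Groth.Agent.Lib.Helper72.RootChLib

universe u v w x

variable {ι : Type u} {R : Type v} {M : Type w} {N : Type x}
variable [Field R] [LinearOrder R] [IsStrictOrderedRing R]
variable [AddCommGroup M] [Module R M] [AddCommGroup N] [Module R N]
variable {P : RootPairing ι R M N}

section Form

variable [Fintype ι]

/-- `B(α_i, α_i) * ⟨x, α̌_i⟩ = 2 * B(α_i, x)`. -/
lemma rootForm_mul_coroot' (i : ι) (x : M) :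
    P.RootForm (P.root i) (P.root i) * P.coroot' i x = 2 * P.RootForm (P.root i) x := by
  have h := congrArg (fun y => P.toLinearMap x y) (P.rootForm_self_smul_coroot i)
  simp only [map_smul, smul_eq_mul, map_nsmul, nsmul_eq_mul, Nat.cast_ofNat,
    toLinearMap_apply_apply_Polarization] at h
  exact h

lemma rootForm_root_self_pos (i : ι) : 0 < P.RootForm (P.root i) (P.root i) := by
  rw [P.rootForm_root_self]
  have h : P.pairing i i * P.pairing i i ≤ ∑ k, P.pairing i k * P.pairing i k :=
    Finset.single_le_sum (f := fun k => P.pairing i k * P.pairing i k)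
      (fun k _ => mul_self_nonneg _) (Finset.mem_univ i)
  rw [P.pairing_same] at h
  linarith

/-- sign of `⟨x, α̌_i⟩` is the sign of `B(α_i, x)`. -/
lemma coroot'_pos_iff_rootForm (i : ι) (x : M) :
    0 < P.coroot' i x ↔ 0 < P.RootForm (P.root i) x := by
  have h := rootForm_mul_coroot' (P := P) i x
  have hB := rootForm_root_self_pos (P := P) i
  constructor
  · intro hx
    have : 0 < P.RootForm (P.root i) (P.root i) * P.coroot' i x := mul_pos hB hx
    linarith
  · intro hx
    by_contra hcon
    rw [not_lt] at hcon
    have : P.RootForm (P.root i) (P.root i) * P.coroot' i x ≤ 0 :=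
      mul_nonpos_of_nonneg_of_nonpos hB.le hcon
    linarith

end Form

section Pos

variable [P.IsRootSystem] [Finite ι] [P.IsCrystallographic] [P.IsReduced]

/-- `ρ`: the sum of the fundamental weights of a base. -/
noncomputable def rho (b : P.Base) : M := ∑ i : b.support, fundWeight b i

lemma coroot'_rho (b : P.Base) (j : b.support) : P.coroot' j (rho b) = 1 := by
  classical
  rw [rho, map_sum]
  simp only [coroot'_fundWeight b _ j]
  simp

lemma rho_mem_openChamber (b : P.Base) : rho b ∈ openChamber b := by
  intro j hj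
  have := coroot'_rho b ⟨j, hj⟩
  change P.coroot' j (rho b) = 1 at this
  rw [this]; exact one_pos

lemma openChamber_subset_closedChamber (b : P.Base) : openChamber b ⊆ closedChamber b :=
  fun _ h i hi => (h i hi).le

/-- A positive root lies in the additive closure of the simple roots. -/
lemma root_mem_closure_of_isPos {b : P.Base} {i : ι} (hi : b.IsPos i) :
    P.root i ∈ AddSubmonoid.closure (P.root '' b.support) := by
  obtain ⟨f, hf, h | h⟩ := b.exists_root_eq_sum_nat_or_neg i
  · rw [h]
    refine sum_mem fun j hj => nsmul_mem (AddSubmonoid.subset_closure (Set.mem_image_of_mem _ hj)) _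
  · exfalso
    have h' : P.root i = ∑ j ∈ b.support, (-(f j : ℤ)) • P.root j := by
      rw [h, ← Finset.sum_neg_distrib]
      refine Finset.sum_congr rfl fun j _ => ?_
      rw [neg_smul, natCast_zsmul]
    have hh := RootPairing.Base.height_eq_sum h'
    rw [RootPairing.Base.isPos_iff, hh] at hi
    have : ∑ j ∈ b.support, (-(f j : ℤ)) ≤ 0 :=
      Finset.sum_nonpos fun j _ => by simp
    omega

lemma pos_of_mem_closure_of_openChamber {b : P.Base} {ξ : M} (hξ : ξ ∈ openChamber b) {y : N}
    (hy : y ∈ AddSubmonoid.closure (P.coroot '' b.support)) :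
    y = 0 ∨ 0 < P.toLinearMap ξ y := by
  induction hy using AddSubmonoid.closure_induction with
  | mem y hy =>
    obtain ⟨i, hi, rfl⟩ := hy
    exact Or.inr (hξ i hi)
  | zero => exact Or.inl rfl
  | add y z _ _ hy hz =>
    rcases hy with rfl | hy
    · rcases hz with rfl | hz
      · left; simp
      · right; simpa using hz
    · right
      rcases hz with rfl | hz
      · simpa using hy
      · rw [map_add]; exact add_pos hy hz

/-- positive roots have positive coroots (w.r.t. the same base). -/
lemma coroot_mem_closure_of_isPos {b : P.Base} {i : ι} (hi : b.IsPos i) :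
    P.coroot i ∈ AddSubmonoid.closure (P.coroot '' b.support) := by
  classical
  have : Fintype ι := Fintype.ofFinite ι
  rcases b.coroot_mem_or_neg_mem i with h | h
  · exact h
  · exfalso
    have hρ := rho_mem_openChamber b
    have h1 : 0 ≤ P.toLinearMap (rho b) (-P.coroot i) :=
      nonneg_of_mem_closure (openChamber_subset_closedChamber b hρ) h
    have key : ∀ y ∈ AddSubmonoid.closure (P.root '' b.support),
        y = 0 ∨ 0 < P.RootForm y (rho b) := by
      intro y hy
      induction hy using AddSubmonoid.closure_induction with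
      | mem y hy =>
        obtain ⟨j, hj, rfl⟩ := hy
        right
        rw [← coroot'_pos_iff_rootForm]
        exact hρ j hj
      | zero => exact Or.inl rfl
      | add y z _ _ hy hz =>
        rcases hy with rfl | hy
        · rcases hz with rfl | hz
          · left; simp
          · right; simpa using hz
        · right
          rcases hz with rfl | hz
          · simpa using hy
          · rw [map_add, LinearMap.add_apply]; exact add_pos hy hz
    rcases key _ (root_mem_closure_of_isPos hi) with h0 | h0
    · exact P.ne_zero i h0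
    · rw [← coroot'_pos_iff_rootForm] at h0
      rw [map_neg] at h1
      change 0 ≤ -(P.coroot' i (rho b)) at h1
      linarith

lemma not_isPos_reflectionPerm_self {b : P.Base} {i : ι} (hi : b.IsPos i) :
    ¬ b.IsPos (P.reflectionPerm i i) := not_isPos_neg b hi

lemma coroot_reflectionPerm_self (i : ι) : P.coroot (P.reflectionPerm i i) = -P.coroot i := by
  rw [P.coroot_reflectionPerm, P.coreflection_apply_self]

lemma root_reflectionPerm_self' (i : ι) : P.root (P.reflectionPerm i i) = -P.root i := by
  rw [P.root_reflectionPerm, P.reflection_apply_self]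

lemma neg_coroot_mem_closure_of_not_isPos {b : P.Base} {i : ι} (hi : ¬ b.IsPos i) :
    -P.coroot i ∈ AddSubmonoid.closure (P.coroot '' b.support) := by
  have := coroot_mem_closure_of_isPos (isPos_neg_of_not b hi)
  rwa [coroot_reflectionPerm_self] at this

lemma coroot'_nonneg_of_isPos {b : P.Base} {ξ : M} (hξ : ξ ∈ closedChamber b) {i : ι}
    (hi : b.IsPos i) : 0 ≤ P.coroot' i ξ :=
  nonneg_of_mem_closure hξ (coroot_mem_closure_of_isPos hi)

lemma coroot'_nonpos_of_not_isPos {b : P.Base} {ξ : M} (hξ : ξ ∈ closedChamber b) {i : ι}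
    (hi : ¬ b.IsPos i) : P.coroot' i ξ ≤ 0 := by
  have := nonneg_of_mem_closure hξ (neg_coroot_mem_closure_of_not_isPos hi)
  rw [map_neg] at this
  change 0 ≤ -(P.coroot' i ξ) at this
  linarith

lemma coroot'_pos_of_isPos {b : P.Base} {ξ : M} (hξ : ξ ∈ openChamber b) {i : ι}
    (hi : b.IsPos i) : 0 < P.coroot' i ξ := by
  rcases pos_of_mem_closure_of_openChamber hξ (coroot_mem_closure_of_isPos hi) with h | h
  · exact absurd h (P.flip.ne_zero i)
  · exact h

lemma coroot'_neg_of_not_isPos {b : P.Base} {ξ : M} (hξ : ξ ∈ openChamber b) {i : ι}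
    (hi : ¬ b.IsPos i) : P.coroot' i ξ < 0 := by
  rcases pos_of_mem_closure_of_openChamber hξ (neg_coroot_mem_closure_of_not_isPos hi) with h | h
  · exact absurd (neg_eq_zero.mp h) (P.flip.ne_zero i)
  · rw [map_neg] at h
    change 0 < -(P.coroot' i ξ) at h
    linarith

end Pos

section Sign

variable [P.IsRootSystem] [Finite ι] [P.IsCrystallographic] [P.IsReduced]

lemma sgnVec_apply (ξ : M) (i : ι) : sgnVec P ξ i = SignType.sign (P.coroot' i ξ) := rfl

lemma sgnVec_eq_one_of_isPos {b : P.Base} {ξ : M} (hξ : ξ ∈ openChamber b) {i : ι}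
    (hi : b.IsPos i) : sgnVec P ξ i = 1 :=
  sign_pos (coroot'_pos_of_isPos hξ hi)

lemma sgnVec_eq_neg_one_of_not_isPos {b : P.Base} {ξ : M} (hξ : ξ ∈ openChamber b) {i : ι}
    (hi : ¬ b.IsPos i) : sgnVec P ξ i = -1 :=
  sign_neg (coroot'_neg_of_not_isPos hξ hi)

lemma mem_closedChamber_iff_sgnVec {b : P.Base} {ξ : M} :
    ξ ∈ closedChamber b ↔ ∀ i ∈ b.support, sgnVec P ξ i ≠ -1 := by
  refine forall₂_congr fun i _ => ?_
  rw [sgnVec_apply, Ne, sign_eq_neg_one_iff, not_lt]

lemma Facet.mem_cham_iff (F : Facet P) (b : P.Base) :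
    b ∈ F.cham ↔ ∀ i ∈ b.support, F.sgn i ≠ -1 := by
  constructor
  · intro h
    obtain ⟨ξ, hξ⟩ := F.exists_sgnVec_eq
    have := mem_closedChamber_iff_sgnVec.mp (h (show ξ ∈ F.carrier from hξ))
    rwa [hξ] at this
  · intro h ξ hξ
    rw [mem_closedChamber_iff_sgnVec]
    have hξ' : sgnVec P ξ = F.sgn := hξ
    rwa [hξ']

lemma Facet.mem_cham_iff_mem (F : Facet P) {ξ : M} (hξ : ξ ∈ F.carrier) (b : P.Base) :
    b ∈ F.cham ↔ ξ ∈ closedChamber b := by
  rw [Facet.mem_cham_iff, mem_closedChamber_iff_sgnVec]
  have hξ' : sgnVec P ξ = F.sgn := hξ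
  rw [hξ']

lemma mem_carrier_ofVec (ξ : M) : ξ ∈ (Facet.ofVec P ξ).carrier := rfl

lemma Facet.sgn_nonneg_of_isPos {F : Facet P} {b : P.Base} (hb : b ∈ F.cham) {i : ι}
    (hi : b.IsPos i) : F.sgn i ≠ -1 := by
  obtain ⟨ξ, hξ⟩ := F.exists_sgnVec_eq
  have h1 := coroot'_nonneg_of_isPos (hb (show ξ ∈ F.carrier from hξ)) hi
  rw [← hξ, sgnVec_apply, Ne, sign_eq_neg_one_iff, not_lt]
  exact h1

lemma Facet.sgn_neg (F : Facet P) (i : ι) : F.sgn (P.reflectionPerm i i) = -F.sgn i := by
  obtain ⟨ξ, hξ⟩ := F.exists_sgnVec_eq
  rw [← hξ, sgnVec_apply, sgnVec_apply]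
  have : P.coroot' (P.reflectionPerm i i) ξ = -(P.coroot' i ξ) := by
    change P.toLinearMap ξ (P.coroot (P.reflectionPerm i i)) = -(P.toLinearMap ξ (P.coroot i))
    rw [coroot_reflectionPerm_self, map_neg]
  rw [this, Left.sign_neg]

end Sign

section Refl

variable [P.IsRootSystem] [Finite ι] [P.IsCrystallographic] [P.IsReduced]

omit [LinearOrder R] [IsStrictOrderedRing R] [P.IsRootSystem] [Finite ι] [P.IsCrystallographic]
  [P.IsReduced] in
lemma base_ext {b b' : P.Base} (h : b.support = b'.support) : b = b' := by
  cases b; cases b'; simp only [RootPairing.Base.mk.injEq]; exact h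

/-- The base obtained by reflecting `b` in the root `j`. -/
noncomputable def reflBase (b : P.Base) (j : ι) : P.Base := smulBase (Equiv.reflection P j) b

lemma mem_reflBase_support (b : P.Base) (j i : ι) :
    i ∈ (reflBase b j).support ↔ P.reflectionPerm j i ∈ b.support := by
  rw [reflBase, mem_smulBase_support, Equiv.reflection_inv, reflection_smul_idx]

lemma reflectionPerm_mem_reflBase_support (b : P.Base) (j : ι) {i : ι} (hi : i ∈ b.support) :
    P.reflectionPerm j i ∈ (reflBase b j).support := by
  rw [mem_reflBase_support, P.reflectionPerm_self]; exact hi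

lemma isPos_reflBase (b : P.Base) (j i : ι) :
    (reflBase b j).IsPos i ↔ b.IsPos (P.reflectionPerm j i) := by
  rw [reflBase, isPos_smulBase', Equiv.reflection_inv, reflection_smul_idx]

lemma isPos_reflBase_of_ne {b : P.Base} {j i : ι} (hj : j ∈ b.support) (h1 : i ≠ j)
    (h2 : i ≠ P.reflectionPerm j j) : (reflBase b j).IsPos i ↔ b.IsPos i := by
  rw [isPos_reflBase, isPos_reflectionPerm_iff b hj h1 h2]

lemma not_isPos_reflBase_self {b : P.Base} {j : ι} (hj : j ∈ b.support) :
    ¬ (reflBase b j).IsPos j := by
  rw [isPos_reflBase]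
  exact not_isPos_neg b (RootPairing.Base.isPos_of_mem_support hj)

lemma isPos_reflBase_neg {b : P.Base} {j : ι} (hj : j ∈ b.support) :
    (reflBase b j).IsPos (P.reflectionPerm j j) := by
  rw [isPos_reflBase, P.reflectionPerm_self]
  exact RootPairing.Base.isPos_of_mem_support hj

lemma mem_closedChamber_reflBase (b : P.Base) (j : ι) (ξ : M) :
    ξ ∈ closedChamber (reflBase b j) ↔ P.reflection j ξ ∈ closedChamber b := by
  constructor
  · intro h k hk
    rw [P.coroot'_reflection]
    exact h _ (reflectionPerm_mem_reflBase_support b j hk)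
  · intro h i hi
    rw [mem_reflBase_support] at hi
    have := h _ hi
    rwa [P.coroot'_reflection, P.reflectionPerm_self] at this

lemma reflection_eq_self_of_coroot'_eq_zero {j : ι} {ξ : M} (h : P.coroot' j ξ = 0) :
    P.reflection j ξ = ξ := by
  rw [P.reflection_apply, h, zero_smul, sub_zero]

lemma setOf_isPos_reflBase_not (b b' : P.Base) {j : ι} (hj : j ∈ b.support)
    (hj' : ¬ b'.IsPos j) :
    {i | (reflBase b j).IsPos i ∧ ¬ b'.IsPos i} = {i | b.IsPos i ∧ ¬ b'.IsPos i} \ {j} := by
  have hjpos : b.IsPos j := RootPairing.Base.isPos_of_mem_support hj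
  ext i
  simp only [Set.mem_ofPred_eq, Set.mem_sdiff, Set.mem_singleton_iff]
  rw [isPos_reflBase]
  by_cases hij : i = j
  · subst hij
    simp [not_isPos_neg b hjpos]
  · by_cases hij' : i = P.reflectionPerm j j
    · subst hij'
      have h1 : b'.IsPos (P.reflectionPerm j j) := isPos_neg_of_not b' hj'
      simp [h1]
    · have h1 := isPos_reflectionPerm_iff b hj hij hij'
      simp [h1, hij]

/-- Gallery induction: two chambers whose closures contain `ξ` are connected by reflections in
simple roots vanishing on `ξ`. -/
theorem chamber_induction {ξ : M} (Q : P.Base → Prop)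
    (hstep : ∀ (b : P.Base) (j : ι), j ∈ b.support → P.coroot' j ξ = 0 →
      ξ ∈ closedChamber b → Q b → Q (reflBase b j))
    {b b' : P.Base} (hb : ξ ∈ closedChamber b) (hb' : ξ ∈ closedChamber b') (h : Q b) : Q b' := by
  suffices H : ∀ n : ℕ, ∀ b : P.Base, {i | b.IsPos i ∧ ¬ b'.IsPos i}.ncard = n →
      ξ ∈ closedChamber b → Q b → Q b' from H _ b rfl hb h
  intro n
  induction n with
  | zero =>
    intro b hn hb h
    have hfin : {i | b.IsPos i ∧ ¬ b'.IsPos i}.Finite := Set.toFinite _
    rw [Set.ncard_eq_zero hfin] at hn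
    have h1 : ∀ i, b.IsPos i → b'.IsPos i := by
      intro i hi
      by_contra hcon
      have : i ∈ {i | b.IsPos i ∧ ¬ b'.IsPos i} := ⟨hi, hcon⟩
      rw [hn] at this; exact this
    have h2 := support_eq_of_isPos_iff (isPos_iff_of_imp h1)
    rwa [← base_ext h2]
  | succ n ih =>
    intro b hn hb h
    have hne : {i | b.IsPos i ∧ ¬ b'.IsPos i}.Nonempty := by
      rw [← Set.ncard_pos]; omega
    obtain ⟨j, hj, hj'⟩ := exists_simple_not_isPos hne
    have h0 : P.coroot' j ξ = 0 :=
      le_antisymm (coroot'_nonpos_of_not_isPos hb' hj') (hb j hj)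
    have hcard : {i | (reflBase b j).IsPos i ∧ ¬ b'.IsPos i}.ncard = n := by
      have hmem : j ∈ {i | b.IsPos i ∧ ¬ b'.IsPos i} :=
        ⟨RootPairing.Base.isPos_of_mem_support hj, hj'⟩
      rw [setOf_isPos_reflBase_not b b' hj hj', Set.ncard_sdiff_singleton_of_mem hmem, hn]; rfl
    refine ih (reflBase b j) hcard ?_ (hstep b j hj h0 hb h)
    rw [mem_closedChamber_reflBase, reflection_eq_self_of_coroot'_eq_zero h0]
    exact hb

/-- Every vector lies in the closed chamber of some base. -/
theorem exists_base_mem_closedChamber (ξ : M) : ∃ b : P.Base, ξ ∈ closedChamber b := by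
  obtain ⟨b₀⟩ := P.nonempty_base
  suffices H : ∀ n : ℕ, ∀ b : P.Base, {i | b.IsPos i ∧ P.coroot' i ξ < 0}.ncard = n →
      ∃ b' : P.Base, ξ ∈ closedChamber b' from H _ b₀ rfl
  intro n
  induction n with
  | zero =>
    intro b hn
    have hfin : {i | b.IsPos i ∧ P.coroot' i ξ < 0}.Finite := Set.toFinite _
    rw [Set.ncard_eq_zero hfin] at hn
    refine ⟨b, fun i hi => ?_⟩
    by_contra hcon
    have : i ∈ {i | b.IsPos i ∧ P.coroot' i ξ < 0} :=
      ⟨RootPairing.Base.isPos_of_mem_support hi, not_le.mp hcon⟩
    rw [hn] at this; exact this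
  | succ n ih =>
    intro b hn
    by_cases hb : ξ ∈ closedChamber b
    · exact ⟨b, hb⟩
    · have : ∃ j ∈ b.support, P.coroot' j ξ < 0 := by
        by_contra hcon
        push Not at hcon
        exact hb hcon
      obtain ⟨j, hj, hjξ⟩ := this
      have hjpos : b.IsPos j := RootPairing.Base.isPos_of_mem_support hj
      have key : {i | (reflBase b j).IsPos i ∧ P.coroot' i ξ < 0} =
          {i | b.IsPos i ∧ P.coroot' i ξ < 0} \ {j} := by
        ext i
        simp only [Set.mem_ofPred_eq, Set.mem_sdiff, Set.mem_singleton_iff]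
        rw [isPos_reflBase]
        by_cases hij : i = j
        · subst hij
          simp [not_isPos_neg b hjpos]
        · by_cases hij' : i = P.reflectionPerm j j
          · subst hij'
            have h1 : ¬ P.coroot' (P.reflectionPerm j j) ξ < 0 := by
              have : P.coroot' (P.reflectionPerm j j) ξ = -(P.coroot' j ξ) := by
                change P.toLinearMap ξ (P.coroot (P.reflectionPerm j j)) =
                  -(P.toLinearMap ξ (P.coroot j))
                rw [coroot_reflectionPerm_self, map_neg]
              rw [this]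
              have : P.coroot' j ξ < 0 := hjξ
              linarith
            constructor
            · rintro ⟨_, h2⟩; exact absurd h2 h1
            · rintro ⟨⟨_, h2⟩, _⟩; exact absurd h2 h1
          · have h1 := isPos_reflectionPerm_iff b hj hij hij'
            simp [h1, hij]
      have hcard : {i | (reflBase b j).IsPos i ∧ P.coroot' i ξ < 0}.ncard = n := by
        have hmem : j ∈ {i | b.IsPos i ∧ P.coroot' i ξ < 0} := ⟨hjpos, hjξ⟩
        rw [key, Set.ncard_sdiff_singleton_of_mem hmem, hn]; rfl
      exact ih _ hcard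

end Refl

section FundWeight

variable [P.IsRootSystem] [Finite ι] [P.IsCrystallographic] [P.IsReduced]

lemma eq_fundWeight_iff (b : P.Base) (i : b.support) (w : M) :
    w = fundWeight b i ↔
      P.coroot' i w = 1 ∧ ∀ k : b.support, k ≠ i → P.coroot' k w = 0 := by
  constructor
  · rintro rfl
    exact ⟨coroot'_fundWeight_self b i, fun k hk => coroot'_fundWeight_of_ne b i k hk⟩
  · rintro ⟨h1, h2⟩
    rw [eq_sum_fundWeight b w, Finset.sum_eq_single i]
    · rw [h1, one_smul]
    · intro k _ hk
      rw [h2 k hk, zero_smul]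
    · intro h; exact absurd (Finset.mem_univ i) h

lemma eq_fundCoweight_iff (b : P.Base) (i : b.support) (x : N) :
    x = fundCoweight b i ↔
      P.root' i x = 1 ∧ ∀ k : b.support, k ≠ i → P.root' k x = 0 :=
  eq_fundWeight_iff (P := P.flip) b.flip i x

lemma fundWeight_injective (b : P.Base) : Function.Injective (fundWeight b) := by
  intro i i' h
  by_contra hne
  have h1 := coroot'_fundWeight_self b i
  rw [h, coroot'_fundWeight_of_ne b i' i hne] at h1
  exact zero_ne_one h1

lemma fundCoweight_injective (b : P.Base) : Function.Injective (fundCoweight b) :=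
  fundWeight_injective (P := P.flip) b.flip

lemma linearIndependent_fundWeight (b : P.Base) : LinearIndependent R (fundWeight b) := by
  classical
  rw [Fintype.linearIndependent_iff]
  intro g hg k
  have := congrArg (P.coroot' k) hg
  rw [map_sum, map_zero] at this
  simp only [map_smul, smul_eq_mul, coroot'_fundWeight b _ k, mul_ite, mul_one, mul_zero,
    Finset.sum_ite_eq, Finset.mem_univ, if_true] at this
  exact this

lemma fundWeight_reflBase (b : P.Base) (j : ι) (i : b.support) :
    fundWeight (reflBase b j)
      ⟨P.reflectionPerm j i, reflectionPerm_mem_reflBase_support b j i.2⟩ =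
      P.reflection j (fundWeight b i) := by
  symm
  rw [eq_fundWeight_iff]
  constructor
  · change P.coroot' (P.reflectionPerm j i) _ = 1
    rw [P.coroot'_reflection, P.reflectionPerm_self]
    exact coroot'_fundWeight_self b i
  · intro k hk
    rw [P.coroot'_reflection]
    have hk' : P.reflectionPerm j k ∈ b.support := (mem_reflBase_support b j k).mp k.2
    refine coroot'_fundWeight_of_ne b i ⟨_, hk'⟩ ?_
    intro h
    apply hk
    apply Subtype.ext
    have : P.reflectionPerm j k = i := congrArg Subtype.val h
    change (k : ι) = P.reflectionPerm j i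
    rw [← this, P.reflectionPerm_self]

lemma root'_coreflection (j k : ι) (x : N) :
    P.root' k (P.coreflection j x) = P.root' (P.reflectionPerm j k) x := by
  rw [P.coreflection_apply, map_sub, map_smul]
  change _ = P.toLinearMap (P.root (P.reflectionPerm j k)) x
  rw [P.root_reflectionPerm, P.reflection_apply_root]
  simp only [RootPairing.root', map_sub, map_smul, LinearMap.sub_apply, LinearMap.smul_apply,
    smul_eq_mul, RootPairing.root_coroot_eq_pairing]
  ring

lemma fundCoweight_reflBase (b : P.Base) (j : ι) (i : b.support) :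
    fundCoweight (reflBase b j)
      ⟨P.reflectionPerm j i, reflectionPerm_mem_reflBase_support b j i.2⟩ =
      P.coreflection j (fundCoweight b i) := by
  symm
  rw [eq_fundCoweight_iff]
  constructor
  · change P.root' (P.reflectionPerm j i) _ = 1
    rw [root'_coreflection, P.reflectionPerm_self]
    exact root'_fundCoweight_self b i
  · intro k hk
    rw [root'_coreflection]
    have hk' : P.reflectionPerm j k ∈ b.support := (mem_reflBase_support b j k).mp k.2
    refine root'_fundCoweight_of_ne b i ⟨_, hk'⟩ ?_
    intro h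
    apply hk
    apply Subtype.ext
    have : P.reflectionPerm j k = i := congrArg Subtype.val h
    change (k : ι) = P.reflectionPerm j i
    rw [← this, P.reflectionPerm_self]

/-- The corners of the chamber of `b` are the fundamental weights of `b`. -/
theorem baseCorners_eq (b : P.Base) : baseCorners b = Set.range (fundWeight b) := by
  apply Set.Subset.antisymm
  · rintro w ⟨⟨b', i', rfl⟩, hw⟩
    refine chamber_induction (ξ := fundWeight b' i')
      (fun b'' => fundWeight b' i' ∈ Set.range (fundWeight b'')) ?_
      (fundWeight_mem_closedChamber b' i') hw ⟨i', rfl⟩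
    rintro b'' j hj h0 - ⟨i'', hi''⟩
    refine ⟨⟨P.reflectionPerm j i'', reflectionPerm_mem_reflBase_support b'' j i''.2⟩, ?_⟩
    rw [fundWeight_reflBase, hi'', reflection_eq_self_of_coroot'_eq_zero h0]
  · rintro _ ⟨i, rfl⟩
    exact fundWeight_mem_baseCorners b i

lemma corr_self (b : P.Base) (i : b.support) : Corr P (fundWeight b i) (fundCoweight b i) :=
  ⟨b, i, rfl, rfl⟩

/-- The correspondence between fundamental weights and coweights is well defined. -/
theorem eq_fundCoweight_of_corr {b : P.Base} {i : b.support} {x : N}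
    (h : Corr P (fundWeight b i) x) : x = fundCoweight b i := by
  obtain ⟨b', i', hw, hx⟩ := h
  have key : ∃ i'' : b.support, fundWeight b i'' = fundWeight b i ∧ fundCoweight b i'' = x := by
    refine chamber_induction (ξ := fundWeight b i)
      (fun b'' => ∃ i'' : b''.support, fundWeight b'' i'' = fundWeight b i ∧
        fundCoweight b'' i'' = x) ?_
      (hw ▸ fundWeight_mem_closedChamber b' i') (fundWeight_mem_closedChamber b i)
      ⟨i', hw, hx⟩
    rintro b'' j hj h0 - ⟨i'', h1, h2⟩
    refine ⟨⟨P.reflectionPerm j i'', reflectionPerm_mem_reflBase_support b'' j i''.2⟩, ?_, ?_⟩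
    · rw [fundWeight_reflBase, h1, reflection_eq_self_of_coroot'_eq_zero h0]
    · rw [fundCoweight_reflBase, h2, P.coreflection_apply]
      have hne : (⟨j, hj⟩ : b''.support) ≠ i'' := by
        intro h
        have := coroot'_fundWeight_self b'' i''
        rw [h1, ← h] at this
        change P.coroot' j _ = 1 at this
        rw [h0] at this
        exact zero_ne_one this
      have := root'_fundCoweight_of_ne b'' i'' ⟨j, hj⟩ hne
      rw [h2] at this
      change P.root' j x = 0 at this
      rw [this, zero_smul, sub_zero]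
  obtain ⟨i'', h1, h2⟩ := key
  rw [← h2, fundWeight_injective b h1]

lemma corr_fundWeight_iff {b : P.Base} {i : b.support} {x : N} :
    Corr P (fundWeight b i) x ↔ x = fundCoweight b i :=
  ⟨eq_fundCoweight_of_corr, fun h => h ▸ corr_self b i⟩

end FundWeight

end Groth.Agent.Lib.Helper72.Chamber
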