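import Groth.Agent.Lib.Helper72.ChamberFacet

/-!
# Dual facets, sums of roots (helper72)
-/

set_option autoImplicit false
set_option linter.unusedSectionVars false

namespace Groth.Agent.Lib.Helper72.Chamber

open RootCh Module RootPairing
open Groth.Agent.Lib.Helper27.Weyl
open Groth.Agent.Lib.Helper72.RootChLib

universe u v w x

variable {ι : Type u} {R : Type v} {M : Type w} {N : Type x}
variable [Field R] [LinearOrder R] [IsStrictOrderedRing R]
variable [AddCommGroup M] [Module R M] [AddCommGroup N] [Module R N]
variable {P : RootPairing ι R M N}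
variable [P.IsRootSystem] [Finite ι] [P.IsCrystallographic] [P.IsReduced]

section Dual

lemma sign_eq_of_mul_eq {a s t : R} (ha : 0 < a) (h : a * s = 2 * t) :
    SignType.sign s = SignType.sign t := by
  rcases lt_trichotomy s 0 with hs | hs | hs
  · have : a * s < 0 := mul_neg_of_pos_of_neg ha hs
    rw [sign_neg hs, sign_neg (by linarith)]
  · subst hs
    rw [mul_zero] at h
    have : t = 0 := by linarith
    rw [this]
  · have : 0 < a * s := mul_pos ha hs
    rw [sign_pos hs, sign_pos (by linarith)]

lemma sign_coroot'_eq_sign_rootForm [Fintype ι] (i : ι) (x : M) :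
    SignType.sign (P.coroot' i x) = SignType.sign (P.RootForm (P.root i) x) :=
  sign_eq_of_mul_eq (rootForm_root_self_pos i) (rootForm_mul_coroot' i x)

/-- polarization preserves sign vectors -/
lemma cosgnVec_polarization [Fintype ι] (ξ : M) :
    cosgnVec P (P.Polarization ξ) = sgnVec P ξ := by
  funext i
  change SignType.sign (P.toLinearMap (P.root i) (P.Polarization ξ)) = SignType.sign _
  rw [P.toLinearMap_apply_apply_Polarization, sign_coroot'_eq_sign_rootForm,
    ← P.rootForm_symmetric.eq ξ (P.root i), RingHom.id_apply]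

/-- The dual facet, as a facet of the flipped root system. -/
noncomputable def dualFacet (F : Facet P) : Facet P.flip where
  sgn := F.sgn
  exists_sgnVec_eq := by
    classical
    have : Fintype ι := Fintype.ofFinite ι
    obtain ⟨ξ, hξ⟩ := F.exists_sgnVec_eq
    exact ⟨P.Polarization ξ, (cosgnVec_polarization ξ).trans hξ⟩

@[simp] lemma dualFacet_sgn (F : Facet P) : (dualFacet F).sgn = F.sgn := rfl

lemma dualFacet_carrier (F : Facet P) : (dualFacet F).carrier = F.dualCarrier := rfl

lemma dualFacet_closure (F : Facet P) : (dualFacet F).closure = F.dualClosure := rfl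

lemma dualFacet_corners (F : Facet P) : (dualFacet F).corners = F.dualCorners := rfl

lemma Facet.flip_mem_dual_cham {F : Facet P} {b : P.Base} (hb : b ∈ F.cham) :
    b.flip ∈ (dualFacet F).cham := by
  rw [Facet.mem_cham_iff] at hb ⊢
  exact hb

theorem Facet.dualCorners_eq {F : Facet P} {b : P.Base} (hb : b ∈ F.cham) :
    F.dualCorners = (fundCoweight b) '' {i : b.support | F.sgn i = 1} := by
  rw [← dualFacet_corners, Facet.corners_eq (Facet.flip_mem_dual_cham hb)]
  rfl

lemma Facet.polarization_mem_dualCarrier [Fintype ι] {F : Facet P} {ξ : M} (hξ : ξ ∈ F.carrier) :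
    P.Polarization ξ ∈ F.dualCarrier :=
  (cosgnVec_polarization ξ).trans hξ

lemma corr_flip {w : M} {x : N} (h : Corr P w x) : Corr P.flip x w := by
  obtain ⟨b, i, hw, hx⟩ := h
  exact ⟨b.flip, i, hx, hw⟩

theorem eq_fundWeight_of_corr {b : P.Base} {i : b.support} {w : M}
    (h : Corr P w (fundCoweight b i)) : w = fundWeight b i :=
  eq_fundCoweight_of_corr (P := P.flip) (b := b.flip) (i := i) (corr_flip h)

end Dual

end Groth.Agent.Lib.Helper72.Chamber
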