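import Groth.Agent.Lib.Helper72.Chamber

/-!
# Structure of facets relative to an adjacent chamber (helper72)
-/

set_option autoImplicit false
set_option linter.unusedSectionVars false

namespace Groth.Agent.Lib.Helper72.Chamber

open RootCh Module RootPairing
open Groth.Agent.Lib.Helper27.Weyl
open Groth.Agent.Lib.Helper72.RootChLib

universe u v w x

variable {ι : Type u} {R : Type v} {M : Type w} {N : Type x}
variable [Field R] [LinearOrder R] [IsStrictOrderedRing R]
variable [AddCommGroup M] [Module R M] [AddCommGroup N] [Module R N]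
variable {P : RootPairing ι R M N}
variable [P.IsRootSystem] [Finite ι] [P.IsCrystallographic] [P.IsReduced]

section Pattern

/-- zero pattern on sums of simple coroots -/
lemma toLinearMap_eq_zero_iff_of_mem_closure {b : P.Base} {ξ ξ' : M}
    (hξ : ξ ∈ closedChamber b) (hξ' : ξ' ∈ closedChamber b)
    (h : ∀ i ∈ b.support, P.coroot' i ξ = 0 ↔ P.coroot' i ξ' = 0) {y : N}
    (hy : y ∈ AddSubmonoid.closure (P.coroot '' b.support)) :
    P.toLinearMap ξ y = 0 ↔ P.toLinearMap ξ' y = 0 := by
  induction hy using AddSubmonoid.closure_induction with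
  | mem y hy =>
    obtain ⟨i, hi, rfl⟩ := hy
    exact h i hi
  | zero => simp
  | add y z hy hz ihy ihz =>
    have h1 := nonneg_of_mem_closure hξ hy
    have h2 := nonneg_of_mem_closure hξ hz
    have h3 := nonneg_of_mem_closure hξ' hy
    have h4 := nonneg_of_mem_closure hξ' hz
    rw [map_add, map_add, add_eq_zero_iff_of_nonneg h1 h2, add_eq_zero_iff_of_nonneg h3 h4,
      ihy, ihz]

lemma sign_eq_of_nonneg_of_zero_iff {a b : R} (ha : 0 ≤ a) (hb : 0 ≤ b) (h : a = 0 ↔ b = 0) :
    SignType.sign a = SignType.sign b := by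
  rcases ha.eq_or_lt with h0 | h0
  · rw [← h0, h.mp h0.symm]
  · have hb0 : 0 < b := lt_of_le_of_ne hb (fun hb0 => h0.ne' (h.mpr hb0.symm))
    rw [sign_pos h0, sign_pos hb0]

/-- two vectors of a closed chamber with the same zero pattern on simple coroots lie in the
same facet. -/
lemma sgnVec_eq_of_zero_pattern {b : P.Base} {ξ ξ' : M}
    (hξ : ξ ∈ closedChamber b) (hξ' : ξ' ∈ closedChamber b)
    (h : ∀ i ∈ b.support, P.coroot' i ξ = 0 ↔ P.coroot' i ξ' = 0) :
    sgnVec P ξ = sgnVec P ξ' := by
  funext i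
  rw [sgnVec_apply, sgnVec_apply]
  by_cases hi : b.IsPos i
  · have hy := coroot_mem_closure_of_isPos hi
    exact sign_eq_of_nonneg_of_zero_iff (nonneg_of_mem_closure hξ hy)
      (nonneg_of_mem_closure hξ' hy) (toLinearMap_eq_zero_iff_of_mem_closure hξ hξ' h hy)
  · have hy := neg_coroot_mem_closure_of_not_isPos hi
    have h1 := nonneg_of_mem_closure hξ hy
    have h2 := nonneg_of_mem_closure hξ' hy
    have h3 := toLinearMap_eq_zero_iff_of_mem_closure hξ hξ' h hy
    rw [map_neg] at h1 h2 h3
    rw [map_neg] at h3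
    have h4 := sign_eq_of_nonneg_of_zero_iff h1 h2 h3
    rw [Left.sign_neg, Left.sign_neg, neg_inj] at h4
    exact h4

end Pattern

section FacetStructure

variable {F : Facet P} {b : P.Base}

lemma Facet.sgn_eq_zero_of_ne_one (hb : b ∈ F.cham) {i : ι} (hi : i ∈ b.support)
    (h : F.sgn i ≠ 1) : F.sgn i = 0 := by
  have h1 := (Facet.mem_cham_iff F b).mp hb i hi
  rcases hs : F.sgn i with _ | _ | _
  · rfl
  · exact absurd hs h1
  · exact absurd hs h

/-- membership in a facet in terms of the coordinates w.r.t. an adjacent chamber -/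
lemma Facet.mem_carrier_iff (hb : b ∈ F.cham) (ξ : M) :
    ξ ∈ F.carrier ↔ ∀ i ∈ b.support,
      (F.sgn i = 1 → 0 < P.coroot' i ξ) ∧ (F.sgn i ≠ 1 → P.coroot' i ξ = 0) := by
  constructor
  · intro hξ i hi
    have hξ' : sgnVec P ξ = F.sgn := hξ
    constructor
    · intro h
      rw [← hξ', sgnVec_apply, sign_eq_one_iff] at h
      exact h
    · intro h
      have := Facet.sgn_eq_zero_of_ne_one hb hi h
      rw [← hξ', sgnVec_apply, sign_eq_zero_iff] at this
      exact this
  · intro h
    obtain ⟨ξ₀, hξ₀⟩ := F.exists_sgnVec_eq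
    have hξ₀b : ξ₀ ∈ closedChamber b := hb (show ξ₀ ∈ F.carrier from hξ₀)
    have hξb : ξ ∈ closedChamber b := by
      intro i hi
      by_cases h1 : F.sgn i = 1
      · exact ((h i hi).1 h1).le
      · exact ((h i hi).2 h1).ge
    change sgnVec P ξ = F.sgn
    rw [← hξ₀]
    apply sgnVec_eq_of_zero_pattern hξb hξ₀b
    intro i hi
    have h0 : P.coroot' i ξ₀ = 0 ↔ F.sgn i ≠ 1 := by
      constructor
      · intro h0 h1
        rw [← hξ₀, sgnVec_apply, h0, sign_zero] at h1
        exact zero_ne_one h1
      · intro h1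
        have := Facet.sgn_eq_zero_of_ne_one hb hi h1
        rw [← hξ₀, sgnVec_apply, sign_eq_zero_iff] at this
        exact this
    rw [h0]
    constructor
    · intro h0' h1
      exact ((h i hi).1 h1).ne' h0'
    · exact (h i hi).2

/-- corners of a facet = fundamental weights of an adjacent chamber at the positive indices -/
theorem Facet.corners_eq (hb : b ∈ F.cham) :
    F.corners = (fundWeight b) '' {i : b.support | F.sgn i = 1} := by
  obtain ⟨ξ₀, hξ₀⟩ := F.exists_sgnVec_eq
  have hξ₀b : ξ₀ ∈ closedChamber b := hb (show ξ₀ ∈ F.carrier from hξ₀)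
  apply Set.Subset.antisymm
  · rintro w ⟨hw, hcl⟩
    have hwb : w ∈ closedChamber b := by
      rw [mem_closedChamber_iff_sgnVec]
      intro i hi
      have h1 := (Facet.mem_cham_iff F b).mp hb i hi
      rcases hcl i with h | h
      · rw [h]; decide
      · rw [h]; exact h1
    have : w ∈ baseCorners b := ⟨hw, hwb⟩
    rw [baseCorners_eq] at this
    obtain ⟨i, rfl⟩ := this
    refine ⟨i, ?_, rfl⟩
    have h1 : sgnVec P (fundWeight b i) i = 1 := by
      rw [sgnVec_apply, coroot'_fundWeight_self, sign_one]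
    rcases hcl i with h | h
    · rw [h1] at h; exact absurd h (by decide)
    · change F.sgn i = 1
      rw [← h, h1]
  · rintro _ ⟨i, hi, rfl⟩
    have hi' : F.sgn i = 1 := hi
    refine ⟨⟨b, i, rfl⟩, ?_⟩
    have hpos : 0 < P.coroot' i ξ₀ := by
      rw [← hξ₀, sgnVec_apply, sign_eq_one_iff] at hi'
      exact hi'
    have hw := fundWeight_mem_closedChamber b i
    intro k
    by_cases hk : b.IsPos k
    · have hy := coroot_mem_closure_of_isPos hk
      have h1 : 0 ≤ P.coroot' k (fundWeight b i) := nonneg_of_mem_closure hw hy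
      rcases h1.eq_or_lt with h0 | h0
      · left
        rw [sgnVec_apply, ← h0, sign_zero]
      · right
        have h2 := fundWeight_mul_le i hξ₀b hy
        have h3 : 0 < P.coroot' k ξ₀ := lt_of_lt_of_le (mul_pos h0 hpos) h2
        rw [← hξ₀, sgnVec_apply, sgnVec_apply, sign_pos h0, sign_pos h3]
    · have hy := neg_coroot_mem_closure_of_not_isPos hk
      have h1 := nonneg_of_mem_closure hw hy
      rw [map_neg] at h1
      change 0 ≤ -(P.coroot' k (fundWeight b i)) at h1
      rcases h1.eq_or_lt with h0 | h0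
      · left
        rw [sgnVec_apply, sign_eq_zero_iff]
        linarith
      · right
        have h2 := fundWeight_mul_le i hξ₀b hy
        rw [map_neg, map_neg] at h2
        change -(P.coroot' k (fundWeight b i)) * _ ≤ -(P.coroot' k ξ₀) at h2
        have h3 : 0 < -(P.coroot' k ξ₀) := lt_of_lt_of_le (mul_pos h0 hpos) h2
        rw [← hξ₀, sgnVec_apply, sgnVec_apply, sign_neg (by linarith), sign_neg (by linarith)]

lemma Facet.fundWeight_mem_corners (hb : b ∈ F.cham) {i : b.support} (hi : F.sgn i = 1) :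
    fundWeight b i ∈ F.corners := by
  rw [Facet.corners_eq hb]; exact ⟨i, hi, rfl⟩

lemma Facet.exists_of_mem_corners (hb : b ∈ F.cham) {w : M} (hw : w ∈ F.corners) :
    ∃ i : b.support, F.sgn i = 1 ∧ fundWeight b i = w := by
  rw [Facet.corners_eq hb] at hw; exact hw

/-- every facet has an adjacent chamber -/
lemma Facet.exists_mem_cham (F : Facet P) : ∃ b : P.Base, b ∈ F.cham := by
  obtain ⟨ξ₀, hξ₀⟩ := F.exists_sgnVec_eq
  obtain ⟨b, hb⟩ := exists_base_mem_closedChamber (P := P) ξ₀
  exact ⟨b, (Facet.mem_cham_iff_mem F (show ξ₀ ∈ F.carrier from hξ₀) b).mpr hb⟩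

lemma Facet.corners_subset_baseCorners (hb : b ∈ F.cham) : F.corners ⊆ baseCorners b := by
  rw [Facet.corners_eq hb]
  rintro _ ⟨i, -, rfl⟩
  exact fundWeight_mem_baseCorners b i

/-- a vector lies in the span of the corners iff it is killed by the simple coroots vanishing
on the facet -/
lemma Facet.mem_span_corners_iff (hb : b ∈ F.cham) (v : M) :
    v ∈ Submodule.span R F.corners ↔ ∀ j ∈ b.support, F.sgn j ≠ 1 → P.coroot' j v = 0 := by
  constructor
  · intro hv j hj hj1
    induction hv using Submodule.span_induction with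
    | mem w hw =>
      obtain ⟨i, hi, rfl⟩ := Facet.exists_of_mem_corners hb hw
      refine coroot'_fundWeight_of_ne b i ⟨j, hj⟩ ?_
      rintro rfl
      exact hj1 hi
    | zero => simp
    | add x y _ _ hx hy => rw [map_add, hx, hy, add_zero]
    | smul a x _ hx => rw [map_smul, hx, smul_zero]
  · intro h
    rw [eq_sum_fundWeight b v]
    refine Submodule.sum_mem _ fun i _ => ?_
    by_cases hi : F.sgn i = 1
    · exact Submodule.smul_mem _ _ (Submodule.subset_span (Facet.fundWeight_mem_corners hb hi))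
    · rw [h i i.2 hi, zero_smul]; exact Submodule.zero_mem _

lemma Facet.mem_span_corners_of_mem_carrier (hb : b ∈ F.cham) {ξ : M} (hξ : ξ ∈ F.carrier) :
    ξ ∈ Submodule.span R F.corners := by
  rw [Facet.mem_span_corners_iff hb]
  intro j hj hj1
  exact (((Facet.mem_carrier_iff hb ξ).mp hξ) j hj).2 hj1

lemma Facet.add_fundWeight_mem_carrier (hb : b ∈ F.cham) {ξ : M} (hξ : ξ ∈ F.carrier)
    {i : b.support} (hi : F.sgn i = 1) : ξ + fundWeight b i ∈ F.carrier := by
  classical
  rw [Facet.mem_carrier_iff hb] at hξ ⊢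
  intro k hk
  have hk' := coroot'_fundWeight b i ⟨k, hk⟩
  change P.coroot' k (fundWeight b i) = _ at hk'
  rw [map_add, hk']
  constructor
  · intro h1
    have := (hξ k hk).1 h1
    split_ifs <;> linarith
  · intro h1
    have hne : (⟨k, hk⟩ : b.support) ≠ i := by
      rintro rfl; exact h1 hi
    rw [if_neg hne, add_zero]
    exact (hξ k hk).2 h1

theorem Facet.span_carrier_eq (F : Facet P) :
    Submodule.span R F.carrier = Submodule.span R F.corners := by
  obtain ⟨b, hb⟩ := Facet.exists_mem_cham F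
  obtain ⟨ξ₀, hξ₀⟩ := F.exists_sgnVec_eq
  have hξ₀' : ξ₀ ∈ F.carrier := hξ₀
  apply le_antisymm
  · rw [Submodule.span_le]
    intro ξ hξ
    exact Facet.mem_span_corners_of_mem_carrier hb hξ
  · rw [Submodule.span_le]
    intro w hw
    obtain ⟨i, hi, rfl⟩ := Facet.exists_of_mem_corners hb hw
    have h1 := Submodule.subset_span (s := F.carrier) (R := R)
      (Facet.add_fundWeight_mem_carrier hb hξ₀' hi)
    have h2 := Submodule.subset_span (s := F.carrier) (R := R) hξ₀'
    have := Submodule.sub_mem _ h1 h2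
    rwa [add_sub_cancel_left] at this

/-- the facet with a prescribed pattern relative to a base -/
lemma exists_facet_of_pattern (b : P.Base) (T : Set b.support) :
    ∃ G : Facet P, b ∈ G.cham ∧ ∀ i : b.support, G.sgn i = 1 ↔ i ∈ T := by
  classical
  let ξ : M := ∑ i ∈ Finset.univ.filter (· ∈ T), fundWeight b i
  have hξ : ∀ k : b.support, P.coroot' k ξ = if k ∈ T then 1 else 0 := by
    intro k
    simp only [ξ, map_sum, coroot'_fundWeight b _ k]
    rw [Finset.sum_ite_eq]
    simp
  have hξb : ξ ∈ closedChamber b := by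
    intro i hi
    have := hξ ⟨i, hi⟩
    change P.coroot' i ξ = _ at this
    rw [this]
    split_ifs <;> simp
  refine ⟨Facet.ofVec P ξ, (Facet.mem_cham_iff_mem _ (mem_carrier_ofVec ξ) b).mpr hξb, ?_⟩
  intro i
  change sgnVec P ξ i = 1 ↔ _
  rw [sgnVec_apply, hξ i, sign_eq_one_iff]
  split_ifs with h <;> simp [h]

lemma exists_facet_corners_eq (b : P.Base) (T : Set b.support) :
    ∃ G : Facet P, b ∈ G.cham ∧ G.corners = fundWeight b '' T := by
  obtain ⟨G, hG, hT⟩ := exists_facet_of_pattern b T
  refine ⟨G, hG, ?_⟩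
  rw [Facet.corners_eq hG]
  congr 1
  ext i
  exact hT i

end FacetStructure

end Groth.Agent.Lib.Helper72.Chamber
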