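import Groth.Agent.Lib.Helper72.ChamberSpecial4

/-!
# Existence of the point of the solid closest to the origin; the special facet (helper72)
-/

set_option autoImplicit false
set_option linter.unusedSectionVars false

namespace Groth.Agent.Lib.Helper72.Chamber

open RootCh Module RootPairing
open Groth.Agent.Lib.Helper27.Weyl
open Groth.Agent.Lib.Helper72.RootChLib

universe u v w x

variable {ι : Type u} {R : Type v} {M : Type w} {N : Type x}
variable [Field R] [LinearOrder R] [IsStrictOrderedRing R]
variable [AddCommGroup M] [Module R M] [AddCommGroup N] [Module R N]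
variable {P : RootPairing ι R M N}
variable [P.IsRootSystem] [Finite ι] [P.IsCrystallographic] [P.IsReduced]

section Min

variable {B : LinearMap.BilinForm R N} {d : P.Base → N}

lemma finite_facet : Finite (Facet P) :=
  Finite.of_injective (fun F : Facet P => F.sgn) (fun _ _ h => Facet.ext h)

lemma finiteDimensional_coweight (P : RootPairing ι R M N) [P.IsRootSystem]
    [P.IsCrystallographic] [P.IsReduced] : FiniteDimensional R N := by
  obtain ⟨b⟩ := P.nonempty_base
  exact Module.Finite.of_basis b.toCoweightBasis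

/-- orthogonal projection onto the complement of a subspace -/
lemma IsInvForm.exists_orth_point (hB : IsInvForm P B) (V : Submodule R N) (p : N) :
    ∃ a : N, p - a ∈ V ∧ ∀ v ∈ V, B a v = 0 := by
  have := finiteDimensional_coweight P
  have hsymm : LinearMap.IsSymm B := ⟨fun x y => by rw [RingHom.id_apply]; exact hB.symm x y⟩
  have hrefl : B.IsRefl := hsymm.isRefl
  have hdisj : Disjoint V (B.orthogonal V) := by
    rw [Submodule.disjoint_def]
    intro x hx hx'
    have h0 : B x x = 0 := (LinearMap.BilinForm.mem_orthogonal_iff.mp hx') x hx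
    by_contra hne
    exact (hB.pos x hne).ne' h0
  have hcompl := (LinearMap.BilinForm.isCompl_orthogonal_iff_disjoint hrefl).mpr hdisj
  have hp : p ∈ V ⊔ B.orthogonal V := by rw [hcompl.sup_eq_top]; exact Submodule.mem_top
  obtain ⟨v₀, hv₀, a, ha, hpa⟩ := Submodule.mem_sup.mp hp
  refine ⟨a, ?_, fun v hv => ?_⟩
  · rw [← hpa, add_sub_cancel_right]; exact hv₀
  · rw [hB.symm]
    exact (LinearMap.BilinForm.mem_orthogonal_iff.mp ha) v hv

/-- the vectors of `N` killed by the corners of a facet -/
def cornerKer (F : Facet P) : Submodule R N where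
  carrier := {v | ∀ m ∈ F.corners, P.toLinearMap m v = 0}
  add_mem' := by
    intro x y hx hy m hm
    rw [map_add, hx m hm, hy m hm, add_zero]
  zero_mem' := by
    intro m _
    rw [map_zero]
  smul_mem' := by
    intro c x hx m hm
    rw [map_smul, hx m hm, smul_zero]

lemma mem_cornerKer (F : Facet P) (v : N) :
    v ∈ cornerKer F ↔ ∀ m ∈ F.corners, P.toLinearMap m v = 0 := Iff.rfl

lemma poly_mono (hd : IsCCS d) {F G : Facet P} (h : G ≤ F) : poly d G ⊆ poly d F := by
  rw [← dualSolid_eq_poly hd, ← dualSolid_eq_poly hd]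
  exact convexHull_mono (Set.image_mono (Facet.cham_subset_of_le h))

/-- pushing a point of the polyhedron to the boundary, recording the boundary facet -/
lemma exists_boundary_facet (hd : IsCCS d) {F : Facet P} {x : N} (hx : x ∈ poly d F) (v : N)
    (hv : ∀ m ∈ F.corners, P.toLinearMap m v = 0)
    (hneg : ∃ m ∈ F.corners', P.toLinearMap m v < 0) :
    ∃ s : R, 0 ≤ s ∧ x + s • v ∈ poly d F ∧ ∃ G : Facet P, G ≤ F ∧
      {i | G.sgn i = 0} ⊂ {i | F.sgn i = 0} ∧ x + s • v ∈ poly d G := by
  classical
  rw [mem_poly_iff hd] at hx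
  obtain ⟨hx1, hx2⟩ := hx
  have hfin : F.corners'.Finite := finite_fundWeights.subset (Facet.corners'_subset_fundWeights F)
  obtain ⟨s, hs, hall, m₀, hm₀, hm₀a, htight⟩ := exists_tight hfin.toFinset
    (fun m => P.toLinearMap m x - cval d m) (fun m => P.toLinearMap m v)
    (fun m hm => by
      rw [Set.Finite.mem_toFinset] at hm
      have := hx2 m hm
      linarith)
    (by
      obtain ⟨m, hm, hma⟩ := hneg
      exact ⟨m, (Set.Finite.mem_toFinset hfin).mpr hm, hma⟩)
  rw [Set.Finite.mem_toFinset] at hm₀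
  have hm₀F : m₀ ∉ F.corners := fun h => by
    have := hv m₀ h
    rw [this] at hm₀a
    exact lt_irrefl _ hm₀a
  obtain ⟨b₀, hb₀, i₀, rfl⟩ := Facet.exists_of_mem_corners' hm₀
  obtain ⟨G, hGb, hGT⟩ := exists_facet_of_pattern b₀ ({i : b₀.support | F.sgn i = 1} ∪ {i₀})
  have hi₀F : F.sgn i₀ ≠ 1 := fun h => hm₀F (Facet.fundWeight_mem_corners hb₀ h)
  have hGF : G ≤ F := by
    refine Facet.le_of_pattern hb₀ hGb fun i hi h1 => ?_
    exact (hGT ⟨i, hi⟩).mpr (Or.inl h1)
  have hlt : {i | G.sgn i = 0} ⊂ {i | F.sgn i = 0} := by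
    refine ⟨fun i hi => ?_, fun hsub => ?_⟩
    · rcases hGF i with h | h
      · exact h
      · exact h.trans hi
    · have h1 : (i₀ : ι) ∈ {i | F.sgn i = 0} := Facet.sgn_eq_zero_of_ne_one hb₀ i₀.2 hi₀F
      have h2 : G.sgn i₀ = 0 := hsub h1
      have h3 : G.sgn i₀ = 1 := (hGT i₀).mpr (Or.inr rfl)
      rw [h2] at h3
      exact absurd h3 (by decide)
  have hmemG : x + s • v ∈ poly d G := by
    rw [mem_poly_iff hd]
    constructor
    · intro m hm
      obtain ⟨i, hi, rfl⟩ := Facet.exists_of_mem_corners hGb hm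
      rcases (hGT i).mp hi with h1 | h1
      · have hmF := Facet.fundWeight_mem_corners hb₀ h1
        rw [map_add, map_smul, hv _ hmF, smul_zero, add_zero]
        exact hx1 _ hmF
      · have h1' : i = i₀ := h1
        subst h1'
        rw [map_add, map_smul, smul_eq_mul]
        linarith
    · intro m hm
      have hmF := Facet.corners'_subset_of_le hGF hm
      have := hall m ((Set.Finite.mem_toFinset hfin).mpr hmF)
      rw [map_add, map_smul, smul_eq_mul]
      linarith
  exact ⟨s, hs, poly_mono hd hGF hmemG, G, hGF, hlt, hmemG⟩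

/-- every polyhedron `poly d F` has a point of minimal norm -/
theorem exists_min_poly (hB : IsInvForm P B) (hd : IsCCS d) (F : Facet P) :
    ∃ y₀ ∈ poly d F, ∀ y ∈ poly d F, B y₀ y₀ ≤ B y y := by
  suffices H : ∀ n : ℕ, ∀ F : Facet P, {i | F.sgn i = 0}.ncard = n →
      ∃ y₀ ∈ poly d F, ∀ y ∈ poly d F, B y₀ y₀ ≤ B y y from H _ F rfl
  intro n
  induction n using Nat.strong_induction_on with
  | _ n ih =>
    intro F hn
    have ih' : ∀ G : Facet P, ∃ y₀ : N, {i | G.sgn i = 0} ⊂ {i | F.sgn i = 0} →
        y₀ ∈ poly d G ∧ ∀ y ∈ poly d G, B y₀ y₀ ≤ B y y := by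
      intro G
      by_cases hlt : {i | G.sgn i = 0} ⊂ {i | F.sgn i = 0}
      · have := Set.ncard_lt_ncard hlt (Set.toFinite _)
        obtain ⟨y₀, h1, h2⟩ := ih _ (hn ▸ this) G rfl
        exact ⟨y₀, fun _ => ⟨h1, h2⟩⟩
      · exact ⟨0, fun h => absurd h hlt⟩
    choose yG hyG using ih'
    obtain ⟨b, hb⟩ := Facet.exists_mem_cham F
    have hdb : d b ∈ poly d F := by
      rw [← dualSolid_eq_poly hd]
      exact subset_convexHull R _ ⟨b, hb, rfl⟩
    by_cases hall : ∀ i ∈ b.support, F.sgn i = 1
    · refine ⟨d b, hdb, fun y hy => ?_⟩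
      have hyb : y = d b := by
        apply eq_of_forall_fundWeight_eq b
        intro i
        have hm := Facet.fundWeight_mem_corners hb (hall i i.2)
        rw [((mem_poly_iff hd F y).mp hy).1 _ hm, cval_eq hd (fundWeight_mem_baseCorners b i)]
      rw [hyb]
    · obtain ⟨a, ha1, ha2⟩ := hB.exists_orth_point (cornerKer F) (d b)
      have hacorner : ∀ m ∈ F.corners, P.toLinearMap m a = cval d m := by
        intro m hm
        have h1 := (mem_cornerKer F _).mp ha1 m hm
        rw [map_sub, sub_eq_zero] at h1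
        rw [← h1, cval_eq hd (Facet.corners_subset_baseCorners hb hm)]
      -- points of the polyhedron differ from `a` by an element of the kernel
      have hker : ∀ y ∈ poly d F, y - a ∈ cornerKer F := by
        intro y hy m hm
        rw [map_sub, ((mem_poly_iff hd F y).mp hy).1 m hm, hacorner m hm, sub_self]
      have hnorm : ∀ y ∈ poly d F, ∀ t : R,
          B (a + t • (y - a)) (a + t • (y - a)) = B a a + t * t * B (y - a) (y - a) := by
        intro y hy t
        have h0 := ha2 _ (hker y hy)
        simp only [map_add, map_smul, LinearMap.add_apply, LinearMap.smul_apply, smul_eq_mul]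
        rw [hB.symm (y - a) a, h0]
        ring
      by_cases hapoly : a ∈ poly d F
      · refine ⟨a, hapoly, fun y hy => ?_⟩
        have := hnorm y hy 1
        rw [one_smul, add_sub_cancel] at this
        rw [this]
        have := hB.nonneg (y - a)
        linarith
      · -- `a` violates a half-space constraint
        have hviol : ∃ m₁ ∈ F.corners', P.toLinearMap m₁ a < cval d m₁ := by
          by_contra hcon
          push Not at hcon
          exact hapoly ((mem_poly_iff hd F a).mpr ⟨hacorner, hcon⟩)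
        obtain ⟨m₁, hm₁, hm₁a⟩ := hviol
        -- boundary point on the way from `y` to `a`
        have hbdry : ∀ y ∈ poly d F, ∃ G : Facet P,
            {i | G.sgn i = 0} ⊂ {i | F.sgn i = 0} ∧ G ≤ F ∧ B (yG G) (yG G) ≤ B y y := by
          intro y hy
          have hy' := (mem_poly_iff hd F y).mp hy
          have hv : ∀ m ∈ F.corners, P.toLinearMap m (a - y) = 0 := by
            intro m hm
            rw [map_sub, hacorner m hm, hy'.1 m hm, sub_self]
          have hneg : ∃ m ∈ F.corners', P.toLinearMap m (a - y) < 0 := by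
            refine ⟨m₁, hm₁, ?_⟩
            rw [map_sub]
            have := hy'.2 m₁ hm₁
            linarith
          obtain ⟨s, hs, hsF, G, hGF, hlt, hsG⟩ := exists_boundary_facet hd hy (a - y) hv hneg
          refine ⟨G, hlt, hGF, ?_⟩
          have hs1 : s ≤ 1 := by
            by_contra hcon
            rw [not_le] at hcon
            have h1 := ((mem_poly_iff hd F _).mp hsF).2 m₁ hm₁
            rw [map_add, map_smul, smul_eq_mul, map_sub] at h1
            have h2 := hy'.2 m₁ hm₁
            nlinarith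
          have h1 := (hyG G hlt).2 _ hsG
          have h2 : y + s • (a - y) = a + (1 - s) • (y - a) := by module
          rw [h2, hnorm y hy] at h1
          have h3 := hnorm y hy 1
          rw [one_smul, add_sub_cancel] at h3
          rw [h3]
          have h4 := hB.nonneg (y - a)
          have h5 : (1 - s) * (1 - s) ≤ 1 := by nlinarith
          have h6 : (1 - s) * (1 - s) * B (y - a) (y - a) ≤ 1 * B (y - a) (y - a) :=
            mul_le_mul_of_nonneg_right h5 h4
          linarith
        -- choose the best boundary facet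
        have := finite_facet (P := P)
        let 𝒢 : Set (Facet P) := {G | {i | G.sgn i = 0} ⊂ {i | F.sgn i = 0} ∧ G ≤ F}
        have h𝒢fin : 𝒢.Finite := Set.toFinite _
        have h𝒢ne : h𝒢fin.toFinset.Nonempty := by
          obtain ⟨G, hlt, hGF, -⟩ := hbdry (d b) hdb
          exact ⟨G, (Set.Finite.mem_toFinset _).mpr ⟨hlt, hGF⟩⟩
        obtain ⟨G₀, hG₀, hG₀min⟩ := Finset.exists_min_image h𝒢fin.toFinset
          (fun G => B (yG G) (yG G)) h𝒢ne
        rw [Set.Finite.mem_toFinset] at hG₀
        refine ⟨yG G₀, poly_mono hd hG₀.2 (hyG G₀ hG₀.1).1, fun y hy => ?_⟩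
        obtain ⟨G, hlt, hGF, hle⟩ := hbdry y hy
        exact (hG₀min G ((Set.Finite.mem_toFinset _).mpr ⟨hlt, hGF⟩)).trans hle

lemma poly_origin_eq_solid (hd : IsCCS d) : poly d (Facet.origin P) = solid d := by
  rw [← dualSolid_eq_poly hd, solid_eq_dualSolid_origin]

lemma IsInvForm.lt_of_special (hB : IsInvForm P B) (hd : IsCCS d) {F : Facet P} {y₁ : N}
    (h1 : y₁ ∈ F.dualCarrier) (h2 : y₁ ∈ dualSolid d F) {y : N} (hy : y ∈ solid d)
    (hne : y ≠ y₁) : B y₁ y₁ < B y y := by
  have h3 := hB.apply_sub_nonneg hd h1 h2 hy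
  have h4 : 0 < B (y - y₁) (y - y₁) := hB.pos _ (sub_ne_zero.mpr hne)
  have h5 : B y y = B y₁ y₁ + 2 * B y₁ (y - y₁) + B (y - y₁) (y - y₁) := by
    simp only [map_sub, LinearMap.sub_apply]
    rw [hB.symm y y₁]
    ring
  rw [h5]
  linarith

/-- S14246: there is exactly one special facet -/
theorem existsUnique_special (hd : IsCCS d) : ∃! F : Facet P, IsSpecial d F := by
  classical
  have : Fintype ι := Fintype.ofFinite ι
  have hB := corootForm_isInvForm (P := P)
  obtain ⟨y₀, hy₀, hmin⟩ := exists_min_poly hB hd (Facet.origin P)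
  rw [poly_origin_eq_solid hd] at hy₀ hmin
  set F₀ : Facet P := Facet.ofVec P (weightOf P P.CorootForm y₀) with hF₀
  have hy₀F : y₀ ∈ F₀.dualCarrier := (hB.sgnVec_weightOf y₀).symm
  have hspec := special_of_closest hB hd hy₀ hmin hy₀F
  refine ⟨F₀, hspec.1, fun F hF => ?_⟩
  obtain ⟨y₁, h1, h2⟩ := hF
  have hy₁ : y₁ = y₀ := by
    by_contra hne
    have h3 := hB.lt_of_special hd h1 h2 hy₀ (Ne.symm hne)
    have h4 := hmin y₁ (dualSolid_subset_solid d F h2)
    exact absurd h3 (not_lt.mpr h4)
  subst hy₁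
  apply Facet.ext
  have e1 : cosgnVec P y₁ = F.sgn := h1
  have e2 : cosgnVec P y₁ = F₀.sgn := hy₀F
  rw [← e1, ← e2]

/-- S14247 -/
theorem special_of_maximal (hd : IsCCS d) {F : Facet P} {b : P.Base} (hb : b ∈ F.cham)
    (hmax : ∀ (G : Facet P) (c : P.Base), c ∈ G.cham → G.deg d c ≤ F.deg d b)
    (hmaxl : ∀ (G : Facet P) (c : P.Base), c ∈ G.cham → G.deg d c = F.deg d b → F ≤ G → G = F) :
    IsSpecial d F := by
  obtain ⟨F₀, hF₀, -⟩ := existsUnique_special hd
  obtain ⟨b₀, hb₀⟩ := Facet.exists_mem_cham F₀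
  obtain ⟨h1, h2⟩ := special_isGreatest hd hb₀ hF₀
  have heq : F₀.deg d b₀ = F.deg d b := le_antisymm (hmax F₀ b₀ hb₀) (h1 F b hb)
  have hle : F ≤ F₀ := h2 F b hb heq.symm
  rw [← hmaxl F₀ b₀ hb₀ heq hle]
  exact hF₀

end Min

end Groth.Agent.Lib.Helper72.Chamber
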