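import Groth.Agent.Lib.Helper72.ChamberSpecial4

/-!
# Parabolic sets of roots and facets (helper72)
-/

set_option autoImplicit false
set_option linter.unusedSectionVars false

namespace Groth.Agent.Lib.Helper72.Chamber

open RootCh Module RootPairing
open Groth.Agent.Lib.Helper27.Weyl
open Groth.Agent.Lib.Helper72.RootChLib

universe u v w x

variable {ι : Type u} {R : Type v} {M : Type w} {N : Type x}
variable [Field R] [LinearOrder R] [IsStrictOrderedRing R]
variable [AddCommGroup M] [Module R M] [AddCommGroup N] [Module R N]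
variable {P : RootPairing ι R M N}
variable [P.IsRootSystem] [Finite ι] [P.IsCrystallographic] [P.IsReduced]

section Parab

/-- the parabolic set of a facet is a parabolic set of roots -/
theorem Facet.isParabolicSubset_parab (F : Facet P) : IsParabolicSubset P F.parab := by
  classical
  have : Fintype ι := Fintype.ofFinite ι
  obtain ⟨ξ, hξ⟩ := F.exists_sgnVec_eq
  have hmem : ∀ i, i ∈ F.parab ↔ 0 ≤ P.RootForm (P.root i) ξ := by
    intro i
    change F.sgn i ≠ -1 ↔ _
    rw [← hξ, sgnVec_apply, sign_coroot'_eq_sign_rootForm, Ne, sign_eq_neg_one_iff, not_lt]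
  constructor
  · intro i j k hi hj hk
    rw [hmem] at hi hj ⊢
    rw [hk, map_add, LinearMap.add_apply]
    exact add_nonneg hi hj
  · intro i
    by_cases h : i ∈ F.parab
    · exact Or.inl h
    · right
      change F.sgn _ ≠ -1
      rw [Facet.sgn_neg]
      have h' : F.sgn i = -1 := by
        by_contra h''; exact h h''
      rw [h']; decide

lemma root'_fundCoweight_nonneg_of_isPos {b : P.Base} {i : ι} (hi : b.IsPos i)
    (l : b.support) : 0 ≤ P.root' i (fundCoweight b l) :=
  nonneg_of_mem_closure (P := P.flip) (b := b.flip)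
    (fundWeight_mem_closedChamber (P := P.flip) b.flip l) (root_mem_closure_of_isPos hi)

lemma root'_add {i j k : ι} (hk : P.root k = P.root i + P.root j) (y : N) :
    P.root' k y = P.root' i y + P.root' j y := by
  change P.toLinearMap (P.root k) y = P.toLinearMap (P.root i) y + P.toLinearMap (P.root j) y
  rw [hk, map_add, LinearMap.add_apply]

lemma root_neg_add {i j k : ι} (hk : P.root k = P.root i + P.root j) :
    P.root (P.reflectionPerm k k) =
      P.root (P.reflectionPerm i i) + P.root (P.reflectionPerm j j) := by
  rw [root_reflectionPerm_self', root_reflectionPerm_self', root_reflectionPerm_self', hk, neg_add]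

/-- a parabolic set contains the positive roots of some base -/
lemma exists_base_isPos_subset {S : Set ι} (hS : IsParabolicSubset P S) :
    ∃ b : P.Base, ∀ i, b.IsPos i → i ∈ S := by
  have := finite_base (P := P)
  obtain ⟨b₀⟩ := P.nonempty_base
  have : Nonempty P.Base := ⟨b₀⟩
  obtain ⟨b, hbmax⟩ := Finite.exists_max (fun b : P.Base => (S ∩ {i | b.IsPos i}).ncard)
  have hsimple : ∀ j ∈ b.support, j ∈ S := by
    intro j hj
    by_contra hjS
    have hnegS : P.reflectionPerm j j ∈ S := (hS.2 j).resolve_left hjS
    have hsub : S ∩ {i | b.IsPos i} ⊂ S ∩ {i | (reflBase b j).IsPos i} := by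
      refine ⟨fun i hi => ⟨hi.1, ?_⟩, fun hcon => ?_⟩
      · have hij : i ≠ j := fun h => hjS (h ▸ hi.1)
        have hij' : i ≠ P.reflectionPerm j j := by
          rintro rfl
          exact not_isPos_neg b (RootPairing.Base.isPos_of_mem_support hj) hi.2
        exact (isPos_reflBase_of_ne hj hij hij').mpr hi.2
      · have h1 : P.reflectionPerm j j ∈ S ∩ {i | (reflBase b j).IsPos i} :=
          ⟨hnegS, isPos_reflBase_neg hj⟩
        have h2 := hcon h1
        exact not_isPos_neg b (RootPairing.Base.isPos_of_mem_support hj) h2.2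
    have := Set.ncard_lt_ncard hsub (Set.toFinite _)
    exact absurd (hbmax (reflBase b j)) (not_le.mpr this)
  refine ⟨b, fun i hi => ?_⟩
  exact hi.induction_on_add (p := (· ∈ S)) hsimple
    (fun i j k hk hi hj => hS.1 i j k hi (hsimple j hj) hk)

/-- the negative roots of a parabolic set containing the positive roots of `b` -/
lemma neg_mem_iff_of_isPos {S : Set ι} (hS : IsParabolicSubset P S) {b : P.Base}
    (hb : ∀ i, b.IsPos i → i ∈ S) {β : ι} (hβ : b.IsPos β) :
    P.reflectionPerm β β ∈ S ↔
      ∀ l : b.support, P.reflectionPerm l l ∉ S → P.root' β (fundCoweight b l) = 0 := by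
  suffices H : b.IsPos β ∧ (P.reflectionPerm β β ∈ S ↔
      ∀ l : b.support, P.reflectionPerm l l ∉ S → P.root' β (fundCoweight b l) = 0) from H.2
  have hbase : ∀ j (hj : j ∈ b.support), (P.reflectionPerm j j ∈ S ↔
      ∀ l : b.support, P.reflectionPerm l l ∉ S → P.root' j (fundCoweight b l) = 0) := by
    intro j hj
    constructor
    · intro hjS l hl
      refine root'_fundCoweight_of_ne b l ⟨j, hj⟩ ?_
      rintro rfl
      exact hl hjS
    · intro h
      by_contra hjS
      have := h ⟨j, hj⟩ hjS
      rw [root'_fundCoweight_self b ⟨j, hj⟩] at this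
      exact one_ne_zero this
  refine hβ.induction_on_add (p := fun β => b.IsPos β ∧ (P.reflectionPerm β β ∈ S ↔
      ∀ l : b.support, P.reflectionPerm l l ∉ S → P.root' β (fundCoweight b l) = 0)) ?_ ?_
  · intro j hj
    exact ⟨RootPairing.Base.isPos_of_mem_support hj, hbase j hj⟩
  · rintro i j k hk ⟨hipos, hi⟩ hj
    have hjpos := RootPairing.Base.isPos_of_mem_support hj
    have hkpos : b.IsPos k := hipos.add hjpos hk
    refine ⟨hkpos, ?_⟩
    constructor
    · intro hkS l hl
      -- -j = -k + i and -i = -k + j
      have h1 : P.root (P.reflectionPerm j j) = P.root (P.reflectionPerm k k) + P.root i := by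
        rw [root_reflectionPerm_self', root_reflectionPerm_self', hk]; abel
      have h2 : P.root (P.reflectionPerm i i) = P.root (P.reflectionPerm k k) + P.root j := by
        rw [root_reflectionPerm_self', root_reflectionPerm_self', hk]; abel
      have hjS : P.reflectionPerm j j ∈ S := hS.1 _ _ _ hkS (hb i hipos) h1
      have hiS : P.reflectionPerm i i ∈ S := hS.1 _ _ _ hkS (hb j hjpos) h2
      rw [root'_add hk, hi.mp hiS l hl, (hbase j hj).mp hjS l hl, add_zero]
    · intro h
      have hsplit : ∀ l : b.support, P.reflectionPerm l l ∉ S →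
          P.root' i (fundCoweight b l) = 0 ∧ P.root' j (fundCoweight b l) = 0 := by
        intro l hl
        have := h l hl
        rw [root'_add hk] at this
        exact (add_eq_zero_iff_of_nonneg (root'_fundCoweight_nonneg_of_isPos hipos l)
          (root'_fundCoweight_nonneg_of_isPos hjpos l)).mp this
      have hiS : P.reflectionPerm i i ∈ S := hi.mpr fun l hl => (hsplit l hl).1
      have hjS : P.reflectionPerm j j ∈ S := (hbase j hj).mpr fun l hl => (hsplit l hl).2
      exact hS.1 _ _ _ hiS hjS (root_neg_add hk)

/-- every parabolic set of roots is the parabolic set of a facet -/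
theorem exists_facet_parab_eq {S : Set ι} (hS : IsParabolicSubset P S) :
    ∃ F : Facet P, F.parab = S := by
  classical
  have : Fintype ι := Fintype.ofFinite ι
  obtain ⟨b, hb⟩ := exists_base_isPos_subset hS
  obtain ⟨F, hFb, hFT⟩ := exists_facet_of_pattern b
    {l : b.support | P.reflectionPerm l l ∉ S}
  refine ⟨F, ?_⟩
  -- a point of the dual facet
  obtain ⟨ξ, hξ⟩ := F.exists_sgnVec_eq
  have hx : P.Polarization ξ ∈ F.dualCarrier :=
    Facet.polarization_mem_dualCarrier (show ξ ∈ F.carrier from hξ)
  set x := P.Polarization ξ with hxdef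
  have hxc : ∀ i ∈ b.support, (F.sgn i = 1 → 0 < P.root' i x) ∧
      (F.sgn i ≠ 1 → P.root' i x = 0) :=
    (Facet.mem_carrier_iff (F := dualFacet F) (Facet.flip_mem_dual_cham hFb) x).mp hx
  have hsgn : ∀ k, F.sgn k = SignType.sign (P.root' k x) := by
    intro k
    have : cosgnVec P x = F.sgn := hx
    rw [← this]; rfl
  ext k
  by_cases hk : b.IsPos k
  · exact ⟨fun _ => hb k hk, fun _ => Facet.sgn_nonneg_of_isPos hFb hk⟩
  · -- k = -β with β positive
    have hβ : b.IsPos (P.reflectionPerm k k) := isPos_neg_of_not b hk
    have hkk : P.reflectionPerm (P.reflectionPerm k k) (P.reflectionPerm k k) = k :=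
      P.indexNeg.neg_neg k
    have h1 := neg_mem_iff_of_isPos hS hb hβ
    rw [hkk] at h1
    rw [h1]
    change F.sgn k ≠ -1 ↔ _
    have h2 : F.sgn k = -F.sgn (P.reflectionPerm k k) := by
      rw [Facet.sgn_neg, neg_neg]
    rw [h2, hsgn, root'_eq_sum b]
    have hterm : ∀ l ∈ (Finset.univ : Finset b.support),
        0 ≤ P.root' (P.reflectionPerm k k) (fundCoweight b l) * P.root' l x := by
      intro l _
      apply mul_nonneg (root'_fundCoweight_nonneg_of_isPos hβ l)
      by_cases hl : F.sgn l = 1
      · exact ((hxc l l.2).1 hl).le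
      · exact ((hxc l l.2).2 hl).ge
    have hsum := Finset.sum_nonneg hterm
    constructor
    · intro hne l hl
      have hzero : ∑ l : b.support,
          P.root' (P.reflectionPerm k k) (fundCoweight b l) * P.root' l x = 0 := by
        rcases hsum.eq_or_lt with h0 | h0
        · exact h0.symm
        · rw [sign_pos h0] at hne
          exact absurd rfl hne
      have := (Finset.sum_eq_zero_iff_of_nonneg hterm).mp hzero l (Finset.mem_univ _)
      rw [mul_eq_zero] at this
      rcases this with h0 | h0
      · exact h0
      · have hl1 : F.sgn l = 1 := (hFT l).mpr hl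
        exact absurd h0 ((hxc l l.2).1 hl1).ne'
    · intro h
      have hzero : ∑ l : b.support,
          P.root' (P.reflectionPerm k k) (fundCoweight b l) * P.root' l x = 0 := by
        apply Finset.sum_eq_zero
        intro l _
        by_cases hl : F.sgn l = 1
        · rw [h l ((hFT l).mp hl), zero_mul]
        · rw [(hxc l l.2).2 hl, mul_zero]
      rw [hzero, sign_zero]
      decide

lemma Facet.eq_of_parab_eq {F G : Facet P} (h : F.parab = G.parab) : F = G :=
  le_antisymm ((Facet.le_iff_parab_subset F G).mpr h.le)
    ((Facet.le_iff_parab_subset G F).mpr h.ge)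

/-- S14236 -/
theorem isParabolicSubset_iff (S : Set ι) :
    IsParabolicSubset P S ↔ ∃! F : Facet P, F.parab = S := by
  constructor
  · intro hS
    obtain ⟨F, hF⟩ := exists_facet_parab_eq hS
    exact ⟨F, hF, fun G hG => Facet.eq_of_parab_eq (hG.trans hF.symm)⟩
  · rintro ⟨F, rfl, -⟩
    exact Facet.isParabolicSubset_parab F

end Parab

end Groth.Agent.Lib.Helper72.Chamber
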