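import Groth.Agent.Lib.Helper72.ChamberSolid2

/-!
# Semi-stability criteria (helper72)
-/

set_option autoImplicit false
set_option linter.unusedSectionVars false

namespace Groth.Agent.Lib.Helper72.Chamber

open RootCh Module RootPairing
open Groth.Agent.Lib.Helper27.Weyl
open Groth.Agent.Lib.Helper72.RootChLib

universe u v w x

variable {ι : Type u} {R : Type v} {M : Type w} {N : Type x}
variable [Field R] [LinearOrder R] [IsStrictOrderedRing R]
variable [AddCommGroup M] [Module R M] [AddCommGroup N] [Module R N]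
variable {P : RootPairing ι R M N}
variable [P.IsRootSystem] [Finite ι] [P.IsCrystallographic] [P.IsReduced]

section Semistable

variable {d : P.Base → N}

lemma origin_sgn (i : ι) : (Facet.origin P).sgn i = 0 := by
  change sgnVec P 0 i = 0
  rw [sgnVec_apply, map_zero, sign_zero]

lemma origin_cham : (Facet.origin P).cham = Set.univ := by
  ext b
  simp only [Set.mem_univ, iff_true]
  rw [Facet.mem_cham_iff]
  intro i _
  rw [origin_sgn]; decide

lemma origin_corners : (Facet.origin P).corners = ∅ := by
  obtain ⟨b, hb⟩ := Facet.exists_mem_cham (Facet.origin P)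
  rw [Facet.corners_eq hb]
  ext w
  simp only [Set.mem_image, Set.mem_ofPred_eq, Set.mem_empty_iff_false, iff_false]
  rintro ⟨i, hi, -⟩
  rw [origin_sgn] at hi
  exact absurd hi (by decide)

lemma mem_origin_corners' (m : M) :
    m ∈ (Facet.origin P).corners' ↔ ∃ b : P.Base, m ∈ baseCorners b := by
  simp only [Facet.corners', Set.mem_iUnion, origin_cham, Set.mem_univ, exists_true_left]

lemma solid_eq_dualSolid_origin (d : P.Base → N) : solid d = dualSolid d (Facet.origin P) := by
  rw [solid, dualSolid, origin_cham, Set.image_univ]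

/-- (iii) ⇔ (iv) -/
theorem isSemistable_iff_corner (hd : IsCCS d) :
    IsSemistable d ↔ ∀ (b : P.Base), ∀ m ∈ baseCorners b, P.toLinearMap m (d b) ≤ 0 := by
  rw [IsSemistable, solid_eq_dualSolid_origin, dualSolid_eq_poly hd, mem_poly_iff hd]
  constructor
  · rintro ⟨-, h⟩ b m hm
    have := h m ((mem_origin_corners' m).mpr ⟨b, hm⟩)
    rw [cval_eq hd hm, map_zero] at this
    exact this
  · intro h
    refine ⟨fun m hm => ?_, fun m hm => ?_⟩
    · rw [origin_corners] at hm; exact absurd hm (Set.notMem_empty m)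
    · obtain ⟨b, hb⟩ := (mem_origin_corners' m).mp hm
      rw [cval_eq hd hb, map_zero]
      exact h b m hb

lemma Facet.deg_eq_sum (d : P.Base → N) (F : Facet P) (b : P.Base) :
    F.deg d b = ∑ i : b.support,
      P.coroot' i (∑ k ∈ (Set.toFinite F.parab).toFinset, P.root k) *
        P.toLinearMap (fundWeight b i) (d b) := by
  rw [Facet.deg_eq, toLinearMap_eq_sum_fundWeight b]

lemma Facet.deg_nonpos_of_corner (F : Facet P) {b : P.Base} (hb : b ∈ F.cham)
    (h : ∀ m ∈ baseCorners b, P.toLinearMap m (d b) ≤ 0) : F.deg d b ≤ 0 := by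
  rw [Facet.deg_eq_sum]
  apply Finset.sum_nonpos
  intro i _
  apply mul_nonpos_of_nonneg_of_nonpos
  · exact hb (Facet.sum_root_parab_mem_carrier F) i i.2
  · exact h _ (fundWeight_mem_baseCorners b i)

/-- the ray facet of a fundamental weight -/
lemma exists_ray_facet (b : P.Base) (i₀ : b.support) :
    ∃ F : Facet P, b ∈ F.cham ∧ F.dim = 1 ∧
      ∀ d : P.Base → N, ∃ c : R, 0 < c ∧ F.deg d b = c * P.toLinearMap (fundWeight b i₀) (d b) := by
  classical
  obtain ⟨F, hb, hT⟩ := exists_facet_of_pattern b ({i₀} : Set b.support)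
  refine ⟨F, hb, ?_, fun d => ?_⟩
  · have hc : F.corners = {fundWeight b i₀} := by
      rw [Facet.corners_eq hb]
      have : {i : b.support | F.sgn i = 1} = {i₀} := by
        ext i; exact hT i
      rw [this, Set.image_singleton]
    rw [Facet.dim, Facet.span_carrier_eq, hc]
    apply finrank_span_singleton
    intro h0
    have := coroot'_fundWeight_self b i₀
    rw [h0, map_zero] at this
    exact zero_ne_one this
  · have hv := (Facet.mem_carrier_iff hb _).mp (Facet.sum_root_parab_mem_carrier F)
    refine ⟨_, (hv i₀ i₀.2).1 ((hT i₀).mpr rfl), ?_⟩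
    rw [Facet.deg_eq_sum, Finset.sum_eq_single i₀]
    · intro i _ hi
      have : F.sgn i ≠ 1 := fun h => hi ((hT i).mp h)
      rw [(hv i i.2).2 this, zero_mul]
    · intro h; exact absurd (Finset.mem_univ i₀) h

/-- (i) ⇔ (iv) -/
theorem isSemistable_iff_deg (hd : IsCCS d) :
    (∀ (F : Facet P) (b : P.Base), b ∈ F.cham → F.deg d b ≤ 0) ↔ IsSemistable d := by
  rw [isSemistable_iff_corner hd]
  constructor
  · intro h b m hm
    rw [baseCorners_eq] at hm
    obtain ⟨i₀, rfl⟩ := hm
    obtain ⟨F, hb, -, hdeg⟩ := exists_ray_facet b i₀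
    obtain ⟨c, hc, hcd⟩ := hdeg d
    have := h F b hb
    rw [hcd] at this
    by_contra hcon
    rw [not_le] at hcon
    have := mul_pos hc hcon
    linarith
  · intro h F b hb
    exact Facet.deg_nonpos_of_corner F hb (h b)

/-- (ii) ⇔ (iv) -/
theorem isSemistable_iff_deg_dim_one (hd : IsCCS d) :
    (∀ (F : Facet P) (b : P.Base), F.dim = 1 → b ∈ F.cham → F.deg d b ≤ 0) ↔
      IsSemistable d := by
  rw [isSemistable_iff_corner hd]
  constructor
  · intro h b m hm
    rw [baseCorners_eq] at hm
    obtain ⟨i₀, rfl⟩ := hm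
    obtain ⟨F, hb, hdim, hdeg⟩ := exists_ray_facet b i₀
    obtain ⟨c, hc, hcd⟩ := hdeg d
    have := h F b hdim hb
    rw [hcd] at this
    by_contra hcon
    rw [not_le] at hcon
    have := mul_pos hc hcon
    linarith
  · intro h F b _ hb
    exact Facet.deg_nonpos_of_corner F hb (h b)

end Semistable

end Groth.Agent.Lib.Helper72.Chamber
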