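import Groth.Agent.Lib.Helper72.ChamberSum

/-!
# Complementary convex solids: wall crossing and the dual solid (helper72)
-/

set_option autoImplicit false
set_option linter.unusedSectionVars false

namespace Groth.Agent.Lib.Helper72.Chamber

open RootCh Module RootPairing
open Groth.Agent.Lib.Helper27.Weyl
open Groth.Agent.Lib.Helper72.RootChLib

universe u v w x

variable {ι : Type u} {R : Type v} {M : Type w} {N : Type x}
variable [Field R] [LinearOrder R] [IsStrictOrderedRing R]
variable [AddCommGroup M] [Module R M] [AddCommGroup N] [Module R N]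
variable {P : RootPairing ι R M N}
variable [P.IsRootSystem] [Finite ι] [P.IsCrystallographic] [P.IsReduced]

section Expansion

lemma toLinearMap_fundWeight (b : P.Base) (i : b.support) :
    P.toLinearMap (fundWeight b i) = b.toCoweightBasis.coord i :=
  P.toLinearMap.apply_symm_toPerfPair_self _

/-- expansion of a vector of `N` in the basis of simple coroots -/
lemma eq_sum_coroot (b : P.Base) (y : N) :
    y = ∑ i : b.support, P.toLinearMap (fundWeight b i) y • P.coroot i := by
  conv_lhs => rw [← b.toCoweightBasis.sum_repr y]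
  refine Finset.sum_congr rfl fun i _ => ?_
  rw [toLinearMap_fundWeight, Basis.coord_apply, RootPairing.Base.toCoweightBasis_apply]

lemma eq_of_forall_fundWeight_eq (b : P.Base) {y y' : N}
    (h : ∀ i : b.support, P.toLinearMap (fundWeight b i) y = P.toLinearMap (fundWeight b i) y') :
    y = y' := by
  rw [eq_sum_coroot b y, eq_sum_coroot b y']
  exact Finset.sum_congr rfl fun i _ => by rw [h i]

lemma eq_smul_coroot_of_forall_ne (b : P.Base) (j : b.support) {y : N}
    (h : ∀ i : b.support, i ≠ j → P.toLinearMap (fundWeight b i) y = 0) :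
    y = P.toLinearMap (fundWeight b j) y • P.coroot j := by
  conv_lhs => rw [eq_sum_coroot b y]
  rw [Finset.sum_eq_single j]
  · intro i _ hi
    rw [h i hi, zero_smul]
  · intro hj; exact absurd (Finset.mem_univ j) hj

end Expansion

section Wall

variable {d : P.Base → N}

lemma fundWeight_mem_baseCorners_reflBase (b : P.Base) {j : ι} (hj : j ∈ b.support)
    {i : b.support} (hi : i ≠ ⟨j, hj⟩) : fundWeight b i ∈ baseCorners (reflBase b j) := by
  have h0 : P.coroot' j (fundWeight b i) = 0 :=
    coroot'_fundWeight_of_ne b i ⟨j, hj⟩ (Ne.symm hi)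
  have := fundWeight_reflBase b j i
  rw [reflection_eq_self_of_coroot'_eq_zero h0] at this
  rw [← this]
  exact fundWeight_mem_baseCorners _ _

lemma fundWeight_notMem_closedChamber_reflBase (b : P.Base) {j : ι} (hj : j ∈ b.support) :
    fundWeight b ⟨j, hj⟩ ∉ closedChamber (reflBase b j) := by
  intro h
  have hmem : P.reflectionPerm j j ∈ (reflBase b j).support :=
    reflectionPerm_mem_reflBase_support b j hj
  have h1 := h _ hmem
  have h2 : P.coroot' (P.reflectionPerm j j) (fundWeight b ⟨j, hj⟩) = -1 := by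
    change P.toLinearMap (fundWeight b ⟨j, hj⟩) (P.coroot (P.reflectionPerm j j)) = -1
    rw [coroot_reflectionPerm_self, map_neg]
    have := coroot'_fundWeight_self b ⟨j, hj⟩
    change P.toLinearMap (fundWeight b ⟨j, hj⟩) (P.coroot j) = 1 at this
    rw [this]
  rw [h2] at h1
  linarith

lemma baseCorners_inter_reflBase (b : P.Base) {j : ι} (hj : j ∈ b.support) :
    baseCorners b ∩ baseCorners (reflBase b j) =
      fundWeight b '' {i : b.support | i ≠ ⟨j, hj⟩} := by
  apply Set.Subset.antisymm
  · rintro w ⟨hw, hw'⟩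
    rw [baseCorners_eq] at hw
    obtain ⟨i, rfl⟩ := hw
    refine ⟨i, ?_, rfl⟩
    rintro rfl
    exact fundWeight_notMem_closedChamber_reflBase b hj hw'.2
  · rintro _ ⟨i, hi, rfl⟩
    exact ⟨fundWeight_mem_baseCorners b i, fundWeight_mem_baseCorners_reflBase b hj hi⟩

lemma ncard_baseCorners_inter_reflBase (b : P.Base) {j : ι} (hj : j ∈ b.support) :
    (baseCorners b ∩ baseCorners (reflBase b j)).ncard + 1 = b.support.card := by
  classical
  rw [baseCorners_inter_reflBase b hj, Set.ncard_image_of_injective _ (fundWeight_injective b)]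
  have h1 : {i : b.support | i ≠ ⟨j, hj⟩} = ({⟨j, hj⟩} : Set b.support)ᶜ := by
    ext i; simp
  rw [h1]
  have h2 := Set.ncard_add_ncard_compl ({⟨j, hj⟩} : Set b.support)
  rw [Set.ncard_singleton, Nat.card_eq_fintype_card, Fintype.card_coe] at h2
  omega

lemma isPos_and_not_isPos_reflBase_iff (b : P.Base) {j : ι} (hj : j ∈ b.support) (k : ι) :
    (b.IsPos k ∧ ¬ (reflBase b j).IsPos k) ↔ k = j := by
  have hjpos : b.IsPos j := RootPairing.Base.isPos_of_mem_support hj
  constructor
  · rintro ⟨hk, hk'⟩
    by_contra hne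
    by_cases hne' : k = P.reflectionPerm j j
    · rw [hne'] at hk
      exact not_isPos_neg b hjpos hk
    · exact hk' ((isPos_reflBase_of_ne hj hne hne').mpr hk)
  · rintro rfl
    exact ⟨hjpos, not_isPos_reflBase_self hj⟩

/-- wall crossing: `d (s_j b) = d b + t • α̌_j` with `t ≥ 0`. -/
theorem exists_wall_crossing (hd : IsCCS d) (b : P.Base) {j : ι} (hj : j ∈ b.support) :
    ∃ t : R, 0 ≤ t ∧ d (reflBase b j) = d b + t • P.coroot j := by
  set z := d (reflBase b j) - d b with hz
  have h1 : ∀ i : b.support, i ≠ ⟨j, hj⟩ → P.toLinearMap (fundWeight b i) z = 0 := by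
    intro i hi
    rw [hz, map_sub, sub_eq_zero]
    exact (hd.corner_eq b (reflBase b j) _ (fundWeight_mem_baseCorners b i)
      (fundWeight_mem_baseCorners_reflBase b hj hi)).symm
  have h2 := eq_smul_coroot_of_forall_ne b ⟨j, hj⟩ h1
  refine ⟨P.toLinearMap (fundWeight b ⟨j, hj⟩) z, ?_, ?_⟩
  · have h3 := hd.wall_le b (reflBase b j) j (ncard_baseCorners_inter_reflBase b hj)
      (isPos_and_not_isPos_reflBase_iff b hj)
    have h4 : P.root' j z = 2 * P.toLinearMap (fundWeight b ⟨j, hj⟩) z := by
      conv_lhs => rw [h2]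
      rw [map_smul, smul_eq_mul, mul_comm]
      congr 1
      exact P.root_coroot_two j
    have h5 : 0 ≤ P.root' j z := by
      rw [hz, map_sub]; linarith
    rw [h4] at h5
    linarith
  · rw [← h2, hz]; abel

lemma setOf_isPos_reflBase_coroot'_neg (b : P.Base) {j : ι} (hj : j ∈ b.support) {ξ : M}
    (hjξ : P.coroot' j ξ < 0) :
    {i | (reflBase b j).IsPos i ∧ P.coroot' i ξ < 0} =
      {i | b.IsPos i ∧ P.coroot' i ξ < 0} \ {j} := by
  have hjpos : b.IsPos j := RootPairing.Base.isPos_of_mem_support hj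
  ext i
  simp only [Set.mem_ofPred_eq, Set.mem_sdiff, Set.mem_singleton_iff]
  rw [isPos_reflBase]
  by_cases hij : i = j
  · subst hij
    simp [not_isPos_neg b hjpos]
  · by_cases hij' : i = P.reflectionPerm j j
    · subst hij'
      have h1 : ¬ P.coroot' (P.reflectionPerm j j) ξ < 0 := by
        have : P.coroot' (P.reflectionPerm j j) ξ = -(P.coroot' j ξ) := by
          change P.toLinearMap ξ (P.coroot (P.reflectionPerm j j)) =
            -(P.toLinearMap ξ (P.coroot j))
          rw [coroot_reflectionPerm_self, map_neg]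
        rw [this]
        linarith
      constructor
      · rintro ⟨_, h2⟩; exact absurd h2 h1
      · rintro ⟨⟨_, h2⟩, _⟩; exact absurd h2 h1
    · have h1 := isPos_reflectionPerm_iff b hj hij hij'
      simp [h1, hij]

/-- the value of `d` at a chamber having `w` as a corner minimises the pairing with `w`. -/
theorem corner_le (hd : IsCCS d) {b : P.Base} {w : M} (hw : w ∈ baseCorners b) (b' : P.Base) :
    P.toLinearMap w (d b) ≤ P.toLinearMap w (d b') := by
  suffices H : ∀ n : ℕ, ∀ b' : P.Base, {i | b'.IsPos i ∧ P.coroot' i w < 0}.ncard = n →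
      P.toLinearMap w (d b) ≤ P.toLinearMap w (d b') from H _ b' rfl
  intro n
  induction n with
  | zero =>
    intro b' hn
    have hfin : {i | b'.IsPos i ∧ P.coroot' i w < 0}.Finite := Set.toFinite _
    rw [Set.ncard_eq_zero hfin] at hn
    have hwb' : w ∈ closedChamber b' := by
      intro i hi
      by_contra hcon
      have : i ∈ {i | b'.IsPos i ∧ P.coroot' i w < 0} :=
        ⟨RootPairing.Base.isPos_of_mem_support hi, not_le.mp hcon⟩
      rw [hn] at this; exact this
    exact (hd.corner_eq b b' w hw ⟨hw.1, hwb'⟩).le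
  | succ n ih =>
    intro b' hn
    by_cases hwb' : w ∈ closedChamber b'
    · exact (hd.corner_eq b b' w hw ⟨hw.1, hwb'⟩).le
    · have : ∃ j ∈ b'.support, P.coroot' j w < 0 := by
        by_contra hcon
        push Not at hcon
        exact hwb' hcon
      obtain ⟨j, hj, hjw⟩ := this
      have hcard : {i | (reflBase b' j).IsPos i ∧ P.coroot' i w < 0}.ncard = n := by
        have hmem : j ∈ {i | b'.IsPos i ∧ P.coroot' i w < 0} :=
          ⟨RootPairing.Base.isPos_of_mem_support hj, hjw⟩
        rw [setOf_isPos_reflBase_coroot'_neg b' hj hjw,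
          Set.ncard_sdiff_singleton_of_mem hmem, hn]; rfl
      have h1 := ih _ hcard
      obtain ⟨t, ht, htd⟩ := exists_wall_crossing hd b' hj
      rw [htd, map_add, map_smul, smul_eq_mul] at h1
      have h2 : t * P.toLinearMap w (P.coroot j) ≤ 0 :=
        mul_nonpos_of_nonneg_of_nonpos ht hjw.le
      linarith

end Wall

section Order

lemma Facet.cham_subset_of_le {F G : Facet P} (h : G ≤ F) : G.cham ⊆ F.cham := by
  intro b hb
  rw [Facet.mem_cham_iff] at hb ⊢
  intro i hi
  rcases h i with h0 | h0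
  · rw [h0]; decide
  · rw [h0]; exact hb i hi

lemma Facet.corners'_subset_of_le {F G : Facet P} (h : G ≤ F) : G.corners' ⊆ F.corners' := by
  intro m hm
  simp only [Facet.corners', Set.mem_iUnion] at hm ⊢
  obtain ⟨b, hb, hmb⟩ := hm
  exact ⟨b, Facet.cham_subset_of_le h hb, hmb⟩

lemma Facet.le_of_pattern {F G : Facet P} {b : P.Base} (hF : b ∈ F.cham) (hG : b ∈ G.cham)
    (h : ∀ i ∈ b.support, F.sgn i = 1 → G.sgn i = 1) : G ≤ F := by
  obtain ⟨ξF, hξF⟩ := F.exists_sgnVec_eq
  obtain ⟨ξG, hξG⟩ := G.exists_sgnVec_eq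
  have hFb : ξF ∈ closedChamber b := hF (show ξF ∈ F.carrier from hξF)
  have hGb : ξG ∈ closedChamber b := hG (show ξG ∈ G.carrier from hξG)
  have hsum : ξF + ξG ∈ closedChamber b := by
    intro i hi
    rw [map_add]
    exact add_nonneg (hFb i hi) (hGb i hi)
  have hpat : ∀ i ∈ b.support, P.coroot' i (ξF + ξG) = 0 ↔ P.coroot' i ξG = 0 := by
    intro i hi
    rw [map_add, add_eq_zero_iff_of_nonneg (hFb i hi) (hGb i hi)]
    constructor
    · exact fun h => h.2
    · intro h0
      refine ⟨?_, h0⟩
      have hG1 : G.sgn i ≠ 1 := by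
        rw [← hξG, sgnVec_apply, h0, sign_zero]; decide
      have hF1 : F.sgn i ≠ 1 := fun h1 => hG1 (h i hi h1)
      have := Facet.sgn_eq_zero_of_ne_one hF hi hF1
      rw [← hξF, sgnVec_apply, sign_eq_zero_iff] at this
      exact this
  have hsgn := sgnVec_eq_of_zero_pattern hsum hGb hpat
  rw [hξG] at hsgn
  intro k
  rw [← hξF, ← hsgn, sgnVec_apply, sgnVec_apply, map_add]
  by_cases hk : b.IsPos k
  · have h1 := coroot'_nonneg_of_isPos hFb hk
    have h2 := coroot'_nonneg_of_isPos hGb hk
    rcases h1.eq_or_lt with h0 | h0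
    · left; rw [← h0, sign_zero]
    · right; rw [sign_pos h0, sign_pos (by linarith)]
  · have h1 := coroot'_nonpos_of_not_isPos hFb hk
    have h2 := coroot'_nonpos_of_not_isPos hGb hk
    rcases h1.eq_or_lt with h0 | h0
    · left; rw [h0, sign_zero]
    · right; rw [sign_neg h0, sign_neg (by linarith)]

end Order

section Solid

variable {d : P.Base → N}

omit [LinearOrder R] [IsStrictOrderedRing R] [P.IsRootSystem] [Finite ι] [P.IsCrystallographic]
  [P.IsReduced] in
lemma exists_tight {κ : Type*} [LinearOrder R] [IsStrictOrderedRing R] (C : Finset κ) (e a : κ → R)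
    (he : ∀ m ∈ C, 0 ≤ e m) (hneg : ∃ m ∈ C, a m < 0) :
    ∃ s : R, 0 ≤ s ∧ (∀ m ∈ C, 0 ≤ e m + s * a m) ∧ ∃ m ∈ C, a m < 0 ∧ e m + s * a m = 0 := by
  classical
  have hne : (C.filter (fun m => a m < 0)).Nonempty := by
    obtain ⟨m, hm, hma⟩ := hneg
    exact ⟨m, Finset.mem_filter.mpr ⟨hm, hma⟩⟩
  obtain ⟨m₀, hm₀, hmin⟩ := Finset.exists_min_image _ (fun m => e m / (-a m)) hne
  rw [Finset.mem_filter] at hm₀
  obtain ⟨hm₀C, hm₀a⟩ := hm₀
  have hpos₀ : 0 < -a m₀ := neg_pos.mpr hm₀a
  refine ⟨e m₀ / (-a m₀), div_nonneg (he m₀ hm₀C) hpos₀.le, ?_, m₀, hm₀C, hm₀a, ?_⟩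
  · intro m hm
    by_cases hma : a m < 0
    · have hpos : 0 < -a m := neg_pos.mpr hma
      have h1 := hmin m (Finset.mem_filter.mpr ⟨hm, hma⟩)
      rw [le_div_iff₀ hpos] at h1
      linarith
    · rw [not_lt] at hma
      exact add_nonneg (he m hm) (mul_nonneg (div_nonneg (he m₀ hm₀C) hpos₀.le) hma)
  · have hne0 : a m₀ ≠ 0 := hm₀a.ne
    field_simp
    ring

lemma finite_base : Finite P.Base :=
  Finite.of_injective (fun b : P.Base => b.support) (fun _ _ h => base_ext h)

lemma finite_fundWeights : (fundWeights P).Finite := by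
  have := finite_base (P := P)
  have h : fundWeights P = ⋃ b : P.Base, Set.range (fundWeight b) := by
    ext w
    simp only [fundWeights, Set.mem_ofPred_eq, Set.mem_iUnion, Set.mem_range]
  rw [h]
  exact Set.finite_iUnion fun b => Set.finite_range _

lemma Facet.corners'_subset_fundWeights (F : Facet P) : F.corners' ⊆ fundWeights P := by
  intro m hm
  simp only [Facet.corners', Set.mem_iUnion] at hm
  obtain ⟨b, -, hmb⟩ := hm
  exact hmb.1

lemma Facet.corners_subset_corners' (F : Facet P) : F.corners ⊆ F.corners' := by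
  intro m hm
  obtain ⟨b, hb⟩ := Facet.exists_mem_cham F
  simp only [Facet.corners', Set.mem_iUnion]
  exact ⟨b, hb, Facet.corners_subset_baseCorners hb hm⟩

lemma mem_hyper_iff (hd : IsCCS d) {b : P.Base} {m : M} (hm : m ∈ baseCorners b) (x : N) :
    x ∈ hyper d m ↔ P.toLinearMap m x = P.toLinearMap m (d b) := by
  constructor
  · intro h; exact h b hm
  · intro h b' hm'
    rw [h]; exact hd.corner_eq b b' m hm hm'

lemma mem_halfClosed_iff (hd : IsCCS d) {b : P.Base} {m : M} (hm : m ∈ baseCorners b) (x : N) :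
    x ∈ halfClosed d m ↔ P.toLinearMap m (d b) ≤ P.toLinearMap m x := by
  constructor
  · intro h; exact h b hm
  · intro h b' hm'
    rw [← hd.corner_eq b b' m hm hm']; exact h

lemma convex_hyper (d : P.Base → N) (m : M) : Convex R (hyper d m) := by
  intro x hx y hy a c _ _ hac b hb
  rw [map_add, map_smul, map_smul, hx b hb, hy b hb, smul_eq_mul, smul_eq_mul, ← add_mul, hac,
    one_mul]

lemma convex_halfClosed (d : P.Base → N) (m : M) : Convex R (halfClosed d m) := by
  intro x hx y hy a c ha hc hac b hb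
  rw [map_add, map_smul, map_smul, smul_eq_mul, smul_eq_mul]
  have h1 := mul_le_mul_of_nonneg_left (hx b hb) ha
  have h2 := mul_le_mul_of_nonneg_left (hy b hb) hc
  calc P.toLinearMap m (d b) = (a + c) * P.toLinearMap m (d b) := by rw [hac, one_mul]
    _ ≤ _ := by rw [add_mul]; exact add_le_add h1 h2

/-- the polyhedron cut out by the hyperplanes of the corners of `F` and the half-spaces of the
corners of the adjacent chambers -/
def poly (d : P.Base → N) (F : Facet P) : Set N :=
  (⋂ m ∈ F.corners, hyper d m) ∩ ⋂ m ∈ F.corners', halfClosed d m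

lemma convex_poly (d : P.Base → N) (F : Facet P) : Convex R (poly d F) := by
  apply Convex.inter
  · exact convex_iInter₂ fun m _ => convex_hyper d m
  · exact convex_iInter₂ fun m _ => convex_halfClosed d m

theorem dualSolid_subset_poly (hd : IsCCS d) (F : Facet P) : dualSolid d F ⊆ poly d F := by
  refine convexHull_min ?_ (convex_poly d F)
  rintro _ ⟨b, hb, rfl⟩
  refine ⟨?_, ?_⟩
  · simp only [Set.mem_iInter]
    intro m hm
    rw [mem_hyper_iff hd (Facet.corners_subset_baseCorners hb hm)]
  · simp only [Set.mem_iInter]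
    intro m hm
    simp only [Facet.corners', Set.mem_iUnion] at hm
    obtain ⟨b', -, hmb'⟩ := hm
    rw [mem_halfClosed_iff hd hmb']
    exact corner_le hd hmb' b

end Solid

end Groth.Agent.Lib.Helper72.Chamber
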