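import Groth.Agent.Lib.Helper72.ChamberSolid

/-!
# The dual solid is the polyhedron (helper72)
-/

set_option autoImplicit false
set_option linter.unusedSectionVars false

namespace Groth.Agent.Lib.Helper72.Chamber

open RootCh Module RootPairing
open Groth.Agent.Lib.Helper27.Weyl
open Groth.Agent.Lib.Helper72.RootChLib

universe u v w x

variable {ι : Type u} {R : Type v} {M : Type w} {N : Type x}
variable [Field R] [LinearOrder R] [IsStrictOrderedRing R]
variable [AddCommGroup M] [Module R M] [AddCommGroup N] [Module R N]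
variable {P : RootPairing ι R M N}
variable [P.IsRootSystem] [Finite ι] [P.IsCrystallographic] [P.IsReduced]

section Solid2

variable {d : P.Base → N}

/-- the common value `⟨m, d b⟩` for the chambers `b` having `m` as a corner -/
noncomputable def cval (d : P.Base → N) (m : M) : R := by
  classical
  exact if h : ∃ b : P.Base, m ∈ baseCorners b then P.toLinearMap m (d h.choose) else 0

lemma cval_eq (hd : IsCCS d) {b : P.Base} {m : M} (hm : m ∈ baseCorners b) :
    cval d m = P.toLinearMap m (d b) := by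
  classical
  have h : ∃ b : P.Base, m ∈ baseCorners b := ⟨b, hm⟩
  rw [cval, dif_pos h]
  exact hd.corner_eq _ _ m h.choose_spec hm

lemma Facet.exists_of_mem_corners' {F : Facet P} {m : M} (hm : m ∈ F.corners') :
    ∃ b ∈ F.cham, ∃ i : b.support, fundWeight b i = m := by
  simp only [Facet.corners', Set.mem_iUnion] at hm
  obtain ⟨b, hb, hmb⟩ := hm
  rw [baseCorners_eq] at hmb
  obtain ⟨i, rfl⟩ := hmb
  exact ⟨b, hb, i, rfl⟩

lemma mem_poly_iff (hd : IsCCS d) (F : Facet P) (x : N) :
    x ∈ poly d F ↔ (∀ m ∈ F.corners, P.toLinearMap m x = cval d m) ∧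
      ∀ m ∈ F.corners', cval d m ≤ P.toLinearMap m x := by
  simp only [poly, Set.mem_inter_iff, Set.mem_iInter]
  constructor
  · rintro ⟨h1, h2⟩
    refine ⟨fun m hm => ?_, fun m hm => ?_⟩
    · obtain ⟨b, hb, i, rfl⟩ := Facet.exists_of_mem_corners' (Facet.corners_subset_corners' F hm)
      rw [cval_eq hd (fundWeight_mem_baseCorners b i)]
      exact (mem_hyper_iff hd (fundWeight_mem_baseCorners b i) x).mp (h1 _ hm)
    · obtain ⟨b, hb, i, rfl⟩ := Facet.exists_of_mem_corners' hm
      rw [cval_eq hd (fundWeight_mem_baseCorners b i)]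
      exact (mem_halfClosed_iff hd (fundWeight_mem_baseCorners b i) x).mp (h2 _ hm)
  · rintro ⟨h1, h2⟩
    refine ⟨fun m hm => ?_, fun m hm => ?_⟩
    · obtain ⟨b, hb, i, rfl⟩ := Facet.exists_of_mem_corners' (Facet.corners_subset_corners' F hm)
      rw [mem_hyper_iff hd (fundWeight_mem_baseCorners b i),
        ← cval_eq hd (fundWeight_mem_baseCorners b i)]
      exact h1 _ hm
    · obtain ⟨b, hb, i, rfl⟩ := Facet.exists_of_mem_corners' hm
      rw [mem_halfClosed_iff hd (fundWeight_mem_baseCorners b i),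
        ← cval_eq hd (fundWeight_mem_baseCorners b i)]
      exact h2 _ hm

/-- pushing a point of the polyhedron to the boundary in a direction killed by the corners -/
lemma exists_smul_add_mem_dualSolid (hd : IsCCS d) {F : Facet P}
    (ih : ∀ G : Facet P, G ≤ F → {i | G.sgn i = 0} ⊂ {i | F.sgn i = 0} →
      poly d G ⊆ dualSolid d G)
    {x : N} (hx : x ∈ poly d F) (v : N) (hv : ∀ m ∈ F.corners, P.toLinearMap m v = 0)
    (hneg : ∃ m ∈ F.corners', P.toLinearMap m v < 0) :
    ∃ s : R, 0 ≤ s ∧ x + s • v ∈ dualSolid d F := by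
  classical
  rw [mem_poly_iff hd] at hx
  obtain ⟨hx1, hx2⟩ := hx
  have hfin : F.corners'.Finite := finite_fundWeights.subset (Facet.corners'_subset_fundWeights F)
  obtain ⟨s, hs, hall, m₀, hm₀, hm₀a, htight⟩ := exists_tight hfin.toFinset
    (fun m => P.toLinearMap m x - cval d m) (fun m => P.toLinearMap m v)
    (fun m hm => by
      rw [Set.Finite.mem_toFinset] at hm
      have := hx2 m hm
      linarith)
    (by
      obtain ⟨m, hm, hma⟩ := hneg
      exact ⟨m, (Set.Finite.mem_toFinset hfin).mpr hm, hma⟩)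
  rw [Set.Finite.mem_toFinset] at hm₀
  refine ⟨s, hs, ?_⟩
  have hm₀F : m₀ ∉ F.corners := fun h => by
    have := hv m₀ h
    rw [this] at hm₀a
    exact lt_irrefl _ hm₀a
  obtain ⟨b₀, hb₀, i₀, rfl⟩ := Facet.exists_of_mem_corners' hm₀
  obtain ⟨G, hGb, hGT⟩ := exists_facet_of_pattern b₀ ({i : b₀.support | F.sgn i = 1} ∪ {i₀})
  have hi₀F : F.sgn i₀ ≠ 1 := fun h => hm₀F (Facet.fundWeight_mem_corners hb₀ h)
  have hGF : G ≤ F := by
    refine Facet.le_of_pattern hb₀ hGb fun i hi h1 => ?_
    exact (hGT ⟨i, hi⟩).mpr (Or.inl h1)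
  have hlt : {i | G.sgn i = 0} ⊂ {i | F.sgn i = 0} := by
    refine ⟨fun i hi => ?_, fun hsub => ?_⟩
    · rcases hGF i with h | h
      · exact h
      · exact h.trans hi
    · have h1 : (i₀ : ι) ∈ {i | F.sgn i = 0} := Facet.sgn_eq_zero_of_ne_one hb₀ i₀.2 hi₀F
      have h2 : G.sgn i₀ = 0 := hsub h1
      have h3 : G.sgn i₀ = 1 := (hGT i₀).mpr (Or.inr rfl)
      rw [h2] at h3
      exact absurd h3 (by decide)
  have hmemG : x + s • v ∈ poly d G := by
    rw [mem_poly_iff hd]
    constructor
    · intro m hm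
      obtain ⟨i, hi, rfl⟩ := Facet.exists_of_mem_corners hGb hm
      rcases (hGT i).mp hi with h1 | h1
      · have hmF := Facet.fundWeight_mem_corners hb₀ h1
        rw [map_add, map_smul, hv _ hmF, smul_zero, add_zero]
        exact hx1 _ hmF
      · have h1' : i = i₀ := h1
        subst h1'
        rw [map_add, map_smul, smul_eq_mul]
        linarith
    · intro m hm
      have hmF := Facet.corners'_subset_of_le hGF hm
      have := hall m ((Set.Finite.mem_toFinset hfin).mpr hmF)
      rw [map_add, map_smul, smul_eq_mul]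
      linarith
  have h1 := ih G hGF hlt hmemG
  exact convexHull_mono (Set.image_mono (Facet.cham_subset_of_le hGF)) h1

/-- the polyhedron is contained in the dual solid -/
theorem poly_subset_dualSolid (hd : IsCCS d) (F : Facet P) : poly d F ⊆ dualSolid d F := by
  suffices H : ∀ n : ℕ, ∀ F : Facet P, {i | F.sgn i = 0}.ncard = n →
      poly d F ⊆ dualSolid d F from H _ F rfl
  intro n
  induction n using Nat.strong_induction_on with
  | _ n ih =>
    intro F hn x hx
    have ih' : ∀ G : Facet P, G ≤ F → {i | G.sgn i = 0} ⊂ {i | F.sgn i = 0} →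
        poly d G ⊆ dualSolid d G := by
      intro G _ hlt
      have := Set.ncard_lt_ncard hlt (Set.toFinite _)
      exact ih _ (hn ▸ this) G rfl
    obtain ⟨b, hb⟩ := Facet.exists_mem_cham F
    by_cases hall : ∀ i ∈ b.support, F.sgn i = 1
    · have hxb : x = d b := by
        apply eq_of_forall_fundWeight_eq b
        intro i
        have hm := Facet.fundWeight_mem_corners hb (hall i i.2)
        rw [((mem_poly_iff hd F x).mp hx).1 _ hm, cval_eq hd (fundWeight_mem_baseCorners b i)]
      rw [hxb]
      exact subset_convexHull R _ ⟨b, hb, rfl⟩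
    · push Not at hall
      obtain ⟨i₀, hi₀, hi₀1⟩ := hall
      have hi₀0 : F.sgn i₀ = 0 := Facet.sgn_eq_zero_of_ne_one hb hi₀ hi₀1
      have hv : ∀ m ∈ F.corners, P.toLinearMap m (P.coroot i₀) = 0 := by
        intro m hm
        obtain ⟨i, hi, rfl⟩ := Facet.exists_of_mem_corners hb hm
        refine coroot'_fundWeight_of_ne b i ⟨i₀, hi₀⟩ ?_
        rintro rfl
        exact hi₀1 hi
      have hv' : ∀ m ∈ F.corners, P.toLinearMap m (-P.coroot i₀) = 0 := by
        intro m hm
        rw [map_neg, hv m hm, neg_zero]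
      -- the corner on the other side of the wall
      obtain ⟨ξ₀, hξ₀⟩ := F.exists_sgnVec_eq
      have hξ₀i : P.coroot' i₀ ξ₀ = 0 := by
        rw [← hξ₀, sgnVec_apply, sign_eq_zero_iff] at hi₀0; exact hi₀0
      have hb' : reflBase b i₀ ∈ F.cham := by
        rw [Facet.mem_cham_iff_mem F (show ξ₀ ∈ F.carrier from hξ₀), mem_closedChamber_reflBase,
          reflection_eq_self_of_coroot'_eq_zero hξ₀i]
        exact hb (show ξ₀ ∈ F.carrier from hξ₀)
      have hneg : ∃ m ∈ F.corners', P.toLinearMap m (P.coroot i₀) < 0 := by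
        refine ⟨fundWeight (reflBase b i₀)
          ⟨P.reflectionPerm i₀ i₀, reflectionPerm_mem_reflBase_support b i₀ hi₀⟩, ?_, ?_⟩
        · simp only [Facet.corners', Set.mem_iUnion]
          exact ⟨_, hb', fundWeight_mem_baseCorners _ _⟩
        · have := fundWeight_reflBase b i₀ ⟨i₀, hi₀⟩
          rw [this]
          change P.coroot' i₀ (P.reflection i₀ (fundWeight b ⟨i₀, hi₀⟩)) < 0
          rw [P.coroot'_reflection]
          change P.toLinearMap (fundWeight b ⟨i₀, hi₀⟩) (P.coroot (P.reflectionPerm i₀ i₀)) < 0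
          rw [coroot_reflectionPerm_self, map_neg]
          have h1 := coroot'_fundWeight_self b ⟨i₀, hi₀⟩
          change P.toLinearMap (fundWeight b ⟨i₀, hi₀⟩) (P.coroot i₀) = 1 at h1
          rw [h1]
          linarith
      have hneg' : ∃ m ∈ F.corners', P.toLinearMap m (-P.coroot i₀) < 0 := by
        refine ⟨fundWeight b ⟨i₀, hi₀⟩, ?_, ?_⟩
        · simp only [Facet.corners', Set.mem_iUnion]
          exact ⟨_, hb, fundWeight_mem_baseCorners _ _⟩
        · rw [map_neg]
          have h1 := coroot'_fundWeight_self b ⟨i₀, hi₀⟩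
          change P.toLinearMap (fundWeight b ⟨i₀, hi₀⟩) (P.coroot i₀) = 1 at h1
          rw [h1]
          linarith
      obtain ⟨s₁, hs₁, hmem₁⟩ := exists_smul_add_mem_dualSolid hd ih' hx _ hv hneg
      obtain ⟨s₂, hs₂, hmem₂⟩ := exists_smul_add_mem_dualSolid hd ih' hx _ hv' hneg'
      rcases hs₁.eq_or_lt with h0 | h0
      · rw [← h0, zero_smul, add_zero] at hmem₁
        exact hmem₁
      · have hT : 0 < s₁ + s₂ := by linarith
        have hconv := convex_convexHull R (d '' F.cham)
        have key := hconv hmem₁ hmem₂ (div_nonneg hs₂ hT.le) (div_nonneg hs₁ hT.le)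
          (by field_simp; ring)
        have hxe : x = (s₂ / (s₁ + s₂)) • (x + s₁ • P.coroot i₀) +
            (s₁ / (s₁ + s₂)) • (x + s₂ • -P.coroot i₀) := by
          have hab : s₂ / (s₁ + s₂) + s₁ / (s₁ + s₂) = 1 := by field_simp; ring
          have h0' : s₂ / (s₁ + s₂) * s₁ - s₁ / (s₁ + s₂) * s₂ = 0 := by field_simp; ring
          calc x = (s₂ / (s₁ + s₂) + s₁ / (s₁ + s₂)) • x +
                (s₂ / (s₁ + s₂) * s₁ - s₁ / (s₁ + s₂) * s₂) • P.coroot i₀ := by
                rw [hab, h0', one_smul, zero_smul, add_zero]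
            _ = _ := by module
        rw [hxe]
        exact key

/-- The dual solid of a facet is the polyhedron cut out by the hyperplanes of its corners and the
half-spaces of the corners of the adjacent chambers. -/
theorem dualSolid_eq_poly (hd : IsCCS d) (F : Facet P) : dualSolid d F = poly d F :=
  Set.Subset.antisymm (dualSolid_subset_poly hd F) (poly_subset_dualSolid hd F)

end Solid2

end Groth.Agent.Lib.Helper72.Chamber
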