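import Groth.Agent.Lib.Helper72.ChamberSpecial

/-!
# Special facets and the point of the solid closest to the origin (helper72)
-/

set_option autoImplicit false
set_option linter.unusedSectionVars false

namespace Groth.Agent.Lib.Helper72.Chamber

open RootCh Module RootPairing
open Groth.Agent.Lib.Helper27.Weyl
open Groth.Agent.Lib.Helper72.RootChLib

universe u v w x

variable {ι : Type u} {R : Type v} {M : Type w} {N : Type x}
variable [Field R] [LinearOrder R] [IsStrictOrderedRing R]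
variable [AddCommGroup M] [Module R M] [AddCommGroup N] [Module R N]
variable {P : RootPairing ι R M N}
variable [P.IsRootSystem] [Finite ι] [P.IsCrystallographic] [P.IsReduced]

section Closest

variable {B : LinearMap.BilinForm R N} {d : P.Base → N}

lemma mem_solid_iff (hd : IsCCS d) (y : N) :
    y ∈ solid d ↔ ∀ (b : P.Base), ∀ m ∈ baseCorners b,
      P.toLinearMap m (d b) ≤ P.toLinearMap m y := by
  rw [solid_eq_dualSolid_origin, dualSolid_eq_poly hd, mem_poly_iff hd]
  constructor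
  · rintro ⟨-, h⟩ b m hm
    have := h m ((mem_origin_corners' m).mpr ⟨b, hm⟩)
    rwa [cval_eq hd hm] at this
  · intro h
    refine ⟨fun m hm => ?_, fun m hm => ?_⟩
    · rw [origin_corners] at hm; exact absurd hm (Set.notMem_empty m)
    · obtain ⟨b, hb⟩ := (mem_origin_corners' m).mp hm
      rw [cval_eq hd hb]
      exact h b m hb

lemma dualSolid_subset_solid (d : P.Base → N) (F : Facet P) : dualSolid d F ⊆ solid d :=
  convexHull_mono (Set.image_subset_range d _)

lemma convex_solid (d : P.Base → N) : Convex R (solid d) := convex_convexHull R _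

omit [P.IsRootSystem] [Finite ι] [P.IsCrystallographic] [P.IsReduced]
  [AddCommGroup M] [Module R M] in
/-- variational inequality for a point of minimal norm in a convex set -/
lemma apply_sub_nonneg_of_min {K : Set N} (hK : Convex R K) (hBs : ∀ y z : N, B y z = B z y)
    (hBnn : ∀ y : N, 0 ≤ B y y) {y₀ : N} (hy₀ : y₀ ∈ K) (hmin : ∀ y ∈ K, B y₀ y₀ ≤ B y y)
    {y : N} (hy : y ∈ K) : 0 ≤ B y₀ (y - y₀) := by
  by_contra hcon
  rw [not_le] at hcon
  set ε := -B y₀ (y - y₀) with hε
  have hεpos : 0 < ε := by rw [hε]; linarith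
  set Q := B (y - y₀) (y - y₀) with hQ
  have hQnn : 0 ≤ Q := hBnn _
  obtain ⟨t, ht0, ht1, htQ⟩ : ∃ t : R, 0 < t ∧ t ≤ 1 ∧ t * Q ≤ ε := by
    by_cases h : Q ≤ ε
    · exact ⟨1, one_pos, le_rfl, by rwa [one_mul]⟩
    · rw [not_le] at h
      have hQpos : 0 < Q := lt_trans hεpos h
      refine ⟨ε / Q, div_pos hεpos hQpos, (div_le_one hQpos).mpr h.le, ?_⟩
      rw [div_mul_cancel₀ _ hQpos.ne']
  have hmem : y₀ + t • (y - y₀) ∈ K := by
    have := hK hy₀ hy (sub_nonneg.mpr ht1) ht0.le (by ring)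
    convert this using 1
    module
  have h1 := hmin _ hmem
  have h2 : B (y₀ + t • (y - y₀)) (y₀ + t • (y - y₀)) =
      B y₀ y₀ + 2 * t * B y₀ (y - y₀) + t * t * Q := by
    simp only [map_add, map_smul, LinearMap.add_apply, LinearMap.smul_apply, smul_eq_mul]
    rw [hBs (y - y₀) y₀, hQ]
    ring
  rw [h2] at h1
  have h3 : B y₀ (y - y₀) = -ε := by rw [hε]; ring
  rw [h3] at h1
  have h4 : t * (t * Q) ≤ t * ε := mul_le_mul_of_nonneg_left htQ ht0.le
  have h5 : 0 < t * ε := mul_pos ht0 hεpos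
  nlinarith

lemma IsInvForm.apply_eq_sum (_hB : IsInvForm P B) (b : P.Base) (y₀ z : N) :
    B y₀ z = ∑ i : b.support,
      P.coroot' i (weightOf P B y₀) * P.toLinearMap (fundWeight b i) z := by
  rw [← toLinearMap_weightOf (P := P), toLinearMap_eq_sum_fundWeight b]

/-- a point of the dual facet lying in the dual solid minimises the norm on the whole solid -/
lemma IsInvForm.apply_sub_nonneg (hB : IsInvForm P B) (hd : IsCCS d) {F : Facet P} {y₀ : N}
    (h1 : y₀ ∈ F.dualCarrier) (h2 : y₀ ∈ dualSolid d F) {y : N} (hy : y ∈ solid d) :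
    0 ≤ B y₀ (y - y₀) := by
  obtain ⟨b, hb⟩ := Facet.exists_mem_cham F
  have hμ := (Facet.mem_carrier_iff hb _).mp (hB.weightOf_mem_carrier h1)
  rw [dualSolid_eq_poly hd, mem_poly_iff hd] at h2
  rw [hB.apply_eq_sum b]
  apply Finset.sum_nonneg
  intro i _
  by_cases hi : F.sgn i = 1
  · apply mul_nonneg ((hμ i i.2).1 hi).le
    rw [map_sub, h2.1 _ (Facet.fundWeight_mem_corners hb hi),
      cval_eq hd (fundWeight_mem_baseCorners b i), sub_nonneg]
    exact (mem_solid_iff hd y).mp hy b _ (fundWeight_mem_baseCorners b i)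
  · rw [(hμ i i.2).2 hi, zero_mul]

/-- S14244 -/
theorem special_closest (hB : IsInvForm P B) (hd : IsCCS d) {F : Facet P}
    (hF : IsSpecial d F) :
    ∃ y₀ : N, yLocus d F = {y₀} ∧ y₀ ∈ solid d ∧
      ∀ y ∈ solid d, y ≠ y₀ → B y₀ y₀ < B y y := by
  obtain ⟨y₀, hy1, hy2⟩ := hF
  refine ⟨y₀, ?_, dualSolid_subset_solid d F hy2, fun y hy hne => ?_⟩
  · exact Set.Subsingleton.eq_singleton_of_mem (yLocus_subsingleton hd F)
      (mem_yLocus_of_mem hd hy1 hy2)
  · have h1 := hB.apply_sub_nonneg hd hy1 hy2 hy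
    have h2 : 0 < B (y - y₀) (y - y₀) := hB.pos _ (sub_ne_zero.mpr hne)
    have h3 : B y y = B y₀ y₀ + 2 * B y₀ (y - y₀) + B (y - y₀) (y - y₀) := by
      simp only [map_sub, LinearMap.sub_apply]
      rw [hB.symm y y₀]
      ring
    rw [h3]
    linarith

/-- S14245 -/
theorem special_of_closest (hB : IsInvForm P B) (hd : IsCCS d) {y₀ : N} (hy₀ : y₀ ∈ solid d)
    (hmin : ∀ y ∈ solid d, B y₀ y₀ ≤ B y y) {F : Facet P} (hF : y₀ ∈ F.dualCarrier) :
    IsSpecial d F ∧ yLocus d F = {y₀} := by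
  obtain ⟨b, hb⟩ := Facet.exists_mem_cham F
  have hμ := (Facet.mem_carrier_iff hb _).mp (hB.weightOf_mem_carrier hF)
  have hsol := (mem_solid_iff hd y₀).mp hy₀
  have hdb : d b ∈ solid d := subset_convexHull R _ ⟨b, rfl⟩
  have hvar := apply_sub_nonneg_of_min (convex_solid d) hB.symm hB.nonneg hy₀ hmin hdb
  rw [hB.apply_eq_sum b] at hvar
  have hterm : ∀ i ∈ (Finset.univ : Finset b.support),
      P.coroot' i (weightOf P B y₀) * P.toLinearMap (fundWeight b i) (d b - y₀) ≤ 0 := by
    intro i _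
    by_cases hi : F.sgn i = 1
    · apply mul_nonpos_of_nonneg_of_nonpos ((hμ i i.2).1 hi).le
      rw [map_sub, sub_nonpos]
      exact hsol b _ (fundWeight_mem_baseCorners b i)
    · rw [(hμ i i.2).2 hi, zero_mul]
  have hzero := (Finset.sum_eq_zero_iff_of_nonpos hterm).mp
    (le_antisymm (Finset.sum_nonpos hterm) hvar)
  have hmem : y₀ ∈ dualSolid d F := by
    rw [dualSolid_eq_poly hd, mem_poly_iff hd]
    constructor
    · intro m hm
      obtain ⟨i, hi, rfl⟩ := Facet.exists_of_mem_corners hb hm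
      have h0 := hzero i (Finset.mem_univ _)
      rw [mul_eq_zero] at h0
      rcases h0 with h0 | h0
      · exact absurd h0 ((hμ i i.2).1 hi).ne'
      · rw [map_sub, sub_eq_zero] at h0
        rw [cval_eq hd (fundWeight_mem_baseCorners b i), h0]
    · intro m hm
      obtain ⟨b', -, i, rfl⟩ := Facet.exists_of_mem_corners' hm
      rw [cval_eq hd (fundWeight_mem_baseCorners b' i)]
      exact hsol b' _ (fundWeight_mem_baseCorners b' i)
  refine ⟨⟨y₀, hF, hmem⟩, ?_⟩
  exact Set.Subsingleton.eq_singleton_of_mem (yLocus_subsingleton hd F)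
    (mem_yLocus_of_mem hd hF hmem)

end Closest

end Groth.Agent.Lib.Helper72.Chamber
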