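import Groth.Agent.Lib.Helper72.ChamberSpecial2

/-!
# The special facet is the largest facet of maximal degree (helper72)
-/

set_option autoImplicit false
set_option linter.unusedSectionVars false

namespace Groth.Agent.Lib.Helper72.Chamber

open RootCh Module RootPairing
open Groth.Agent.Lib.Helper27.Weyl
open Groth.Agent.Lib.Helper72.RootChLib

universe u v w x

variable {ι : Type u} {R : Type v} {M : Type w} {N : Type x}
variable [Field R] [LinearOrder R] [IsStrictOrderedRing R]
variable [AddCommGroup M] [Module R M] [AddCommGroup N] [Module R N]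
variable {P : RootPairing ι R M N}
variable [P.IsRootSystem] [Finite ι] [P.IsCrystallographic] [P.IsReduced]

section Order2

/-- the order on facets is inclusion of parabolic sets -/
theorem Facet.le_iff_parab_subset (F G : Facet P) : F ≤ G ↔ F.parab ⊆ G.parab := by
  constructor
  · intro h i hi
    change G.sgn i ≠ -1
    rcases h i with h0 | h0
    · rw [h0]; decide
    · rw [h0]; exact hi
  · intro h i
    have hn := Facet.sgn_neg G i
    have hnF := Facet.sgn_neg F i
    rcases hs : G.sgn i with _ | _ | _
    · left; rfl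
    · right
      -- G.sgn i = -1
      have h1 : i ∉ G.parab := fun h' => h' hs
      have h2 : i ∉ F.parab := fun h' => h1 (h h')
      have h3 : F.sgn i = -1 := by
        by_contra h4; exact h2 h4
      exact h3.symm
    · right
      -- G.sgn i = 1, so G.sgn (-i) = -1
      have h0 : G.sgn (P.reflectionPerm i i) = -1 := by rw [hn, hs]; rfl
      have h1 : P.reflectionPerm i i ∉ G.parab := fun h' => h' h0
      have h2 : P.reflectionPerm i i ∉ F.parab := fun h' => h1 (h h')
      have h3 : F.sgn (P.reflectionPerm i i) = -1 := by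
        by_contra h4; exact h2 h4
      rw [hnF] at h3
      have h5 : F.sgn i = 1 := by
        rcases hf : F.sgn i with _ | _ | _
        · rw [hf] at h3; exact absurd h3 (by decide)
        · rw [hf] at h3; exact absurd h3 (by decide)
        · rfl
      exact h5.symm

end Order2

section MaxDeg

variable {d : P.Base → N}

/-- negation of root indices as a permutation -/
noncomputable def negPerm (P : RootPairing ι R M N) : Equiv.Perm ι :=
  Function.Involutive.toPerm (fun i => P.reflectionPerm i i) (fun i => P.indexNeg.neg_neg i)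

omit [LinearOrder R] [IsStrictOrderedRing R] [P.IsRootSystem] [Finite ι] [P.IsCrystallographic]
  [P.IsReduced] in
lemma negPerm_apply (i : ι) : negPerm P i = P.reflectionPerm i i := rfl

lemma two_mul_sum_eq [Fintype ι] (S : Set ι) [DecidablePred (· ∈ S)] (r : ι → R)
    (hr : ∀ i, r (P.reflectionPerm i i) = -r i) :
    2 * ∑ i ∈ Finset.univ.filter (· ∈ S), r i =
      ∑ i, ((if i ∈ S then r i else 0) + (if P.reflectionPerm i i ∈ S then -r i else 0)) := by
  rw [Finset.sum_add_distrib, Finset.sum_filter, two_mul]
  congr 1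
  rw [← Equiv.sum_comp (negPerm P) (fun i => if i ∈ S then r i else 0)]
  refine Finset.sum_congr rfl fun i _ => ?_
  rw [negPerm_apply, hr]

lemma toLinearMap_eq_of_agree_on_corners {F : Facet P} {v : M}
    (hv : v ∈ Submodule.span R F.corners) {x x' : N}
    (h : ∀ m ∈ F.corners, P.toLinearMap m x = P.toLinearMap m x') :
    P.toLinearMap v x = P.toLinearMap v x' := by
  induction hv using Submodule.span_induction with
  | mem w hw => exact h w hw
  | zero => simp
  | add a b _ _ ha hb => rw [map_add, LinearMap.add_apply, LinearMap.add_apply, ha, hb]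
  | smul a b _ hb => rw [map_smul, LinearMap.smul_apply, LinearMap.smul_apply, hb]

lemma root'_neg (i : ι) (y : N) : P.root' (P.reflectionPerm i i) y = -P.root' i y := by
  change P.toLinearMap (P.root (P.reflectionPerm i i)) y = -(P.toLinearMap (P.root i) y)
  rw [root_reflectionPerm_self', map_neg, LinearMap.neg_apply]

/-- comparing sums over parabolic sets against a point of the dual facet -/
lemma sum_parab_le (F G : Facet P) {y₀ : N} (hy₀ : y₀ ∈ F.dualCarrier) :
    (∑ i ∈ (Set.toFinite G.parab).toFinset, P.root' i y₀ ≤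
      ∑ i ∈ (Set.toFinite F.parab).toFinset, P.root' i y₀) ∧
    (∑ i ∈ (Set.toFinite G.parab).toFinset, P.root' i y₀ =
      ∑ i ∈ (Set.toFinite F.parab).toFinset, P.root' i y₀ → G.parab ⊆ F.parab) := by
  classical
  have : Fintype ι := Fintype.ofFinite ι
  set r : ι → R := fun i => P.root' i y₀ with hr
  have hrn : ∀ i, r (P.reflectionPerm i i) = -r i := fun i => root'_neg i y₀
  have hsgn : ∀ i, F.sgn i = SignType.sign (r i) := by
    intro i
    have : cosgnVec P y₀ = F.sgn := hy₀
    rw [← this]; rfl
  have hfilt : ∀ H : Facet P, (Set.toFinite H.parab).toFinset =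
      Finset.univ.filter (· ∈ H.parab) := by
    intro H; ext i; simp
  have hF := two_mul_sum_eq (P := P) F.parab r hrn
  have hG := two_mul_sum_eq (P := P) G.parab r hrn
  have hFabs : ∀ i, ((if i ∈ F.parab then r i else 0) +
      (if P.reflectionPerm i i ∈ F.parab then -r i else 0)) = |r i| := by
    intro i
    have h1 : i ∈ F.parab ↔ F.sgn i ≠ -1 := Iff.rfl
    have h2 : P.reflectionPerm i i ∈ F.parab ↔ -F.sgn i ≠ -1 := by
      rw [← Facet.sgn_neg]; exact Iff.rfl
    rw [if_congr h1 rfl rfl, if_congr h2 rfl rfl, hsgn i]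
    rcases lt_trichotomy (r i) 0 with h | h | h
    · rw [sign_neg h, abs_of_neg h]; simp
    · rw [h]; simp
    · rw [sign_pos h, abs_of_pos h]; simp
  have hGle : ∀ i, ((if i ∈ G.parab then r i else 0) +
      (if P.reflectionPerm i i ∈ G.parab then -r i else 0)) ≤ |r i| := by
    intro i
    split_ifs
    · rw [add_neg_cancel]; exact abs_nonneg _
    · rw [add_zero]; exact le_abs_self _
    · rw [zero_add]; exact neg_le_abs _
    · rw [add_zero]; exact abs_nonneg _
  simp only [hFabs] at hF
  rw [hfilt F, hfilt G]
  constructor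
  · have : 2 * ∑ i ∈ Finset.univ.filter (· ∈ G.parab), r i ≤
        2 * ∑ i ∈ Finset.univ.filter (· ∈ F.parab), r i := by
      rw [hF, hG]
      exact Finset.sum_le_sum fun i _ => hGle i
    linarith
  · intro heq
    have heq2 : ∑ i, ((if i ∈ G.parab then r i else 0) +
        (if P.reflectionPerm i i ∈ G.parab then -r i else 0)) = ∑ i, |r i| := by
      rw [← hG, ← hF, heq]
    have hall := (Finset.sum_eq_sum_iff_of_le (fun i _ => hGle i)).mp heq2
    intro i hi
    by_contra hiF
    have hF1 : F.sgn i = -1 := by
      by_contra h; exact hiF h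
    have hri : r i < 0 := by
      rw [hsgn i] at hF1; exact sign_eq_neg_one_iff.mp hF1
    have := hall i (Finset.mem_univ _)
    rw [if_pos hi, abs_of_neg hri] at this
    split_ifs at this <;> linarith

/-- S14248 -/
theorem special_isGreatest (hd : IsCCS d) {F : Facet P} {b : P.Base} (hb : b ∈ F.cham)
    (hF : IsSpecial d F) :
    (∀ (G : Facet P) (c : P.Base), c ∈ G.cham → G.deg d c ≤ F.deg d b) ∧
      ∀ (G : Facet P) (c : P.Base), c ∈ G.cham → G.deg d c = F.deg d b → G ≤ F := by
  obtain ⟨y₀, hy1, hy2⟩ := hF
  have hy₀sol := dualSolid_subset_solid d F hy2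
  have hpoly := hy2
  rw [dualSolid_eq_poly hd, mem_poly_iff hd] at hpoly
  -- degree of F
  have hdegF : F.deg d b = ∑ i ∈ (Set.toFinite F.parab).toFinset, P.root' i y₀ := by
    rw [Facet.deg_eq]
    have hv := Facet.mem_span_corners_of_mem_carrier hb (Facet.sum_root_parab_mem_carrier F)
    rw [toLinearMap_eq_of_agree_on_corners hv (x' := y₀)]
    · simp only [map_sum, LinearMap.sum_apply]
    · intro m hm
      rw [hpoly.1 m hm, cval_eq hd (Facet.corners_subset_baseCorners hb hm)]
  -- degree of G
  have hdegG : ∀ (G : Facet P) (c : P.Base), c ∈ G.cham →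
      G.deg d c ≤ ∑ i ∈ (Set.toFinite G.parab).toFinset, P.root' i y₀ := by
    intro G c hc
    have h1 : ∑ i ∈ (Set.toFinite G.parab).toFinset, P.root' i y₀ =
        P.toLinearMap (∑ i ∈ (Set.toFinite G.parab).toFinset, P.root i) y₀ := by
      simp only [map_sum, LinearMap.sum_apply]
    rw [h1, Facet.deg_eq, toLinearMap_eq_sum_fundWeight c, toLinearMap_eq_sum_fundWeight c _ y₀]
    apply Finset.sum_le_sum
    intro i _
    apply mul_le_mul_of_nonneg_left
    · exact (mem_solid_iff hd y₀).mp hy₀sol c _ (fundWeight_mem_baseCorners c i)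
    · exact hc (Facet.sum_root_parab_mem_carrier G) i i.2
  constructor
  · intro G c hc
    rw [hdegF]
    exact (hdegG G c hc).trans (sum_parab_le F G hy1).1
  · intro G c hc heq
    rw [Facet.le_iff_parab_subset]
    apply (sum_parab_le F G hy1).2
    apply le_antisymm (sum_parab_le F G hy1).1
    rw [← hdegF, ← heq]
    exact hdegG G c hc

end MaxDeg

end Groth.Agent.Lib.Helper72.Chamber
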