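import Groth.Agent.Lib.Helper72.ChamberSpecial3

/-!
# Numerical invariants and special facets (helper72)
-/

set_option autoImplicit false
set_option linter.unusedSectionVars false

namespace Groth.Agent.Lib.Helper72.Chamber

open RootCh Module RootPairing
open Groth.Agent.Lib.Helper27.Weyl
open Groth.Agent.Lib.Helper72.RootChLib

universe u v w x

variable {ι : Type u} {R : Type v} {M : Type w} {N : Type x}
variable [Field R] [LinearOrder R] [IsStrictOrderedRing R]
variable [AddCommGroup M] [Module R M] [AddCommGroup N] [Module R N]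
variable {P : RootPairing ι R M N}
variable [P.IsRootSystem] [Finite ι] [P.IsCrystallographic] [P.IsReduced]

section NumInv

variable {d : P.Base → N} {F : Facet P} {b : P.Base}

/-- expansion of a root in the simple roots -/
lemma root_eq_sum (b : P.Base) (k : ι) :
    P.root k = ∑ l : b.support, P.root' k (fundCoweight b l) • P.root l :=
  eq_sum_coroot (P := P.flip) b.flip (P.root k)

lemma root'_eq_sum (b : P.Base) (k : ι) (y : N) :
    P.root' k y = ∑ l : b.support, P.root' k (fundCoweight b l) * P.root' l y := by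
  change P.toLinearMap (P.root k) y = _
  conv_lhs => rw [root_eq_sum b k]
  simp only [map_sum, map_smul, LinearMap.sum_apply, LinearMap.smul_apply, smul_eq_mul]

lemma mem_Psi_iff (hb : b ∈ F.cham) (i₀ : b.support) (k : ι) :
    k ∈ F.Psi (fundWeight b i₀) ↔ P.root' k (fundCoweight b i₀) = 1 ∧
      ∀ i' : b.support, F.sgn i' = 1 → i' ≠ i₀ → P.root' k (fundCoweight b i') = 0 := by
  simp only [Facet.Psi, Set.mem_ofPred_eq]
  constructor
  · rintro ⟨h1, h2⟩
    refine ⟨h1 _ (corr_self b i₀), fun i' hi' hne => ?_⟩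
    exact h2 _ (Facet.fundWeight_mem_corners hb hi')
      (fun h => hne (fundWeight_injective b h)) _ (corr_self b i')
  · rintro ⟨h1, h2⟩
    refine ⟨fun x hx => ?_, fun w' hw' hne x hx => ?_⟩
    · rw [eq_fundCoweight_of_corr hx]; exact h1
    · obtain ⟨i', hi', rfl⟩ := Facet.exists_of_mem_corners hb hw'
      rw [eq_fundCoweight_of_corr hx]
      exact h2 i' hi' (fun h => hne (h ▸ rfl))

lemma self_mem_Psi (hb : b ∈ F.cham) (i₀ : b.support) : (i₀ : ι) ∈ F.Psi (fundWeight b i₀) := by
  rw [mem_Psi_iff hb]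
  exact ⟨root'_fundCoweight_self b i₀, fun i' _ hne => root'_fundCoweight_of_ne b i' i₀ hne.symm⟩

lemma root'_eq_of_mem_Psi (hb : b ∈ F.cham) {i₀ : b.support} {k : ι}
    (hk : k ∈ F.Psi (fundWeight b i₀)) {y : N} (hy : y ∈ Submodule.span R F.dualCarrier) :
    P.root' k y = P.root' i₀ y := by
  rw [mem_Psi_iff hb] at hk
  rw [root'_eq_sum b k y, Finset.sum_eq_single i₀]
  · rw [hk.1, one_mul]
  · intro l _ hl
    by_cases hl1 : F.sgn l = 1
    · rw [hk.2 l hl1 hl, zero_mul]
    · rw [(Facet.mem_span_dualCarrier_iff hb y).mp hy l l.2 hl1, mul_zero]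
  · intro h; exact absurd (Finset.mem_univ i₀) h

lemma numInv_eq_card_mul (hd : IsCCS d) (hb : b ∈ F.cham) {i₀ : b.support} (hi₀ : F.sgn i₀ = 1)
    {y : N} (hy1 : y ∈ dualSolid d F) (hy2 : y ∈ Submodule.span R F.dualCarrier) :
    F.numInv d (fundWeight b i₀) b =
      ((Set.toFinite (F.Psi (fundWeight b i₀))).toFinset.card : R) * P.root' i₀ y := by
  have hm := Facet.fundWeight_mem_corners hb hi₀
  rw [dualSolid_eq_poly hd, mem_poly_iff hd] at hy1
  rw [Facet.numInv_eq, toLinearMap_eq_of_agree_on_corners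
    (Facet.sum_root_psi_mem_span_corners F hm) (x' := y)]
  · simp only [map_sum, LinearMap.sum_apply]
    rw [Finset.sum_congr rfl (g := fun _ => P.root' i₀ y)]
    · rw [Finset.sum_const, nsmul_eq_mul]
    · intro k hk
      rw [Set.Finite.mem_toFinset] at hk
      exact root'_eq_of_mem_Psi hb hk hy2
  · intro m' hm'
    rw [hy1.1 m' hm', cval_eq hd (Facet.corners_subset_baseCorners hb hm')]

lemma card_Psi_pos (hb : b ∈ F.cham) (i₀ : b.support) :
    (0 : R) < ((Set.toFinite (F.Psi (fundWeight b i₀))).toFinset.card : R) := by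
  rw [Nat.cast_pos, Finset.card_pos]
  exact ⟨i₀, (Set.Finite.mem_toFinset _).mpr (self_mem_Psi hb i₀)⟩

/-- S14243 -/
theorem special_iff_numInv (hd : IsCCS d) (F : Facet P) :
    ((∀ m ∈ F.corners, ∀ b ∈ F.cham, 0 < F.numInv d m b) ∧
        (dualSolid d F ∩ (Submodule.span R F.dualCarrier : Set N)).Nonempty) ↔
      IsSpecial d F := by
  constructor
  · rintro ⟨hS1, y, hy1, hy2⟩
    obtain ⟨b, hb⟩ := Facet.exists_mem_cham F
    refine ⟨y, ?_, hy1⟩
    rw [← dualFacet_carrier, Facet.mem_carrier_iff (Facet.flip_mem_dual_cham hb)]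
    intro i hi
    constructor
    · intro hi1
      have h1 := hS1 _ (Facet.fundWeight_mem_corners hb (i := ⟨i, hi⟩) hi1) b hb
      rw [numInv_eq_card_mul hd hb (i₀ := ⟨i, hi⟩) hi1 hy1 hy2] at h1
      exact (pos_iff_pos_of_mul_pos h1).mp (card_Psi_pos hb _)
    · intro hi1
      exact (Facet.mem_span_dualCarrier_iff hb y).mp hy2 i hi hi1
  · rintro ⟨y₀, hy1, hy2⟩
    have hy3 : y₀ ∈ Submodule.span R F.dualCarrier := Submodule.subset_span hy1
    refine ⟨fun m hm b hb => ?_, ⟨y₀, hy2, hy3⟩⟩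
    obtain ⟨i₀, hi₀, rfl⟩ := Facet.exists_of_mem_corners hb hm
    rw [numInv_eq_card_mul hd hb hi₀ hy2 hy3]
    apply mul_pos (card_Psi_pos hb _)
    have : cosgnVec P y₀ = F.sgn := hy1
    have h1 : cosgnVec P y₀ i₀ = 1 := by rw [this]; exact hi₀
    exact sign_eq_one_iff.mp h1

end NumInv

end Groth.Agent.Lib.Helper72.Chamber
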