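import Groth.Agent.Lib.Helper72.ChamberDual

/-!
# Sums of roots over parabolic / elementary sets (helper72)
-/

set_option autoImplicit false
set_option linter.unusedSectionVars false

namespace Groth.Agent.Lib.Helper72.Chamber

open RootCh Module RootPairing
open Groth.Agent.Lib.Helper27.Weyl
open Groth.Agent.Lib.Helper72.RootChLib

universe u v w x

variable {ι : Type u} {R : Type v} {M : Type w} {N : Type x}
variable [Field R] [LinearOrder R] [IsStrictOrderedRing R]
variable [AddCommGroup M] [Module R M] [AddCommGroup N] [Module R N]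
variable {P : RootPairing ι R M N}
variable [P.IsRootSystem] [Finite ι] [P.IsCrystallographic] [P.IsReduced]

section Sums

/-- if a finite set of roots is stable under `s_j` then its sum is orthogonal to `α̌_j`. -/
lemma coroot'_sum_root_eq_zero_of_stable (S : Finset ι) (j : ι)
    (h : ∀ i, i ∈ S ↔ P.reflectionPerm j i ∈ S) :
    P.coroot' j (∑ i ∈ S, P.root i) = 0 := by
  have hrefl : P.reflection j (∑ i ∈ S, P.root i) = ∑ i ∈ S, P.root i := by
    rw [map_sum]
    have := Finset.sum_equiv (s := S) (t := S) (P.reflectionPerm j) h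
      (f := fun i ↦ P.root (P.reflectionPerm j i)) (g := fun i ↦ P.root i) (fun i _ ↦ rfl)
    rw [← this]
    exact Finset.sum_congr rfl fun i _ ↦ (P.root_reflectionPerm j i).symm
  rw [RootPairing.reflection_apply, sub_eq_self, smul_eq_zero] at hrefl
  exact hrefl.resolve_right (P.ne_zero j)

lemma pairing_reflectionPerm_self_left (a j : ι) :
    P.pairing (P.reflectionPerm j a) j = -P.pairing a j := by
  change P.coroot' j (P.root (P.reflectionPerm j a)) = -(P.toLinearMap (P.root a) (P.coroot j))
  rw [P.root_reflectionPerm, P.coroot'_reflection]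
  change P.toLinearMap (P.root a) (P.coroot (P.reflectionPerm j j)) = _
  rw [coroot_reflectionPerm_self, map_neg]

lemma sign_pairing_comm [Fintype ι] (i j : ι) :
    SignType.sign (P.pairing i j) = SignType.sign (P.pairing j i) := by
  have h1 := sign_coroot'_eq_sign_rootForm (P := P) j (P.root i)
  have h2 := sign_coroot'_eq_sign_rootForm (P := P) i (P.root j)
  rw [RootPairing.root_coroot'_eq_pairing] at h1 h2
  rw [h1, h2, ← P.rootForm_symmetric.eq (P.root i) (P.root j), RingHom.id_apply]

/-- `⟨2ρ, α̌_j⟩ = 2` for a simple root `j`. -/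
lemma sum_isPos_pairing [Fintype ι]
    (b : P.Base) [DecidablePred b.IsPos] {j : ι} (hj : j ∈ b.support) :
    ∑ i ∈ Finset.univ.filter b.IsPos, P.pairing i j = 2 := by
  classical
  have hjpos : b.IsPos j := RootPairing.Base.isPos_of_mem_support hj
  have hjmem : j ∈ Finset.univ.filter b.IsPos := by simp [hjpos]
  rw [← Finset.add_sum_erase _ _ hjmem, P.pairing_same]
  suffices h : ∑ i ∈ (Finset.univ.filter b.IsPos).erase j, P.pairing i j = 0 by
    rw [h, add_zero]
  refine Finset.sum_involution (fun a _ => P.reflectionPerm j a) ?_ ?_ ?_ ?_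
  · intro a _
    rw [pairing_reflectionPerm_self_left, add_neg_cancel]
  · intro a _ hne h
    apply hne
    have h1 : P.root (P.reflectionPerm j a) = P.root a := by rw [h]
    rw [P.root_reflectionPerm, P.reflection_apply_root, sub_eq_self, smul_eq_zero] at h1
    exact h1.resolve_right (P.ne_zero j)
  · intro a ha
    rw [Finset.mem_erase, Finset.mem_filter] at ha ⊢
    obtain ⟨haj, -, hapos⟩ := ha
    refine ⟨?_, Finset.mem_univ _, hapos.reflectionPerm hj haj⟩
    intro h
    have : a = P.reflectionPerm j j := by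
      have h2 := P.reflectionPerm_self j a
      rw [h] at h2
      exact h2.symm
    rw [this] at hapos
    exact not_isPos_neg b hjpos hapos
  · intro a _
    exact P.reflectionPerm_self j a

lemma pairing_le_zero_of_ne_of_mem_support (b : P.Base) {i j : ι} (hij : i ≠ j)
    (hi : i ∈ b.support) (hj : j ∈ b.support) : P.pairing i j ≤ 0 := by
  have h := b.pairingIn_le_zero_of_ne hij hi hj
  rw [← P.algebraMap_pairingIn ℤ i j]
  simpa using h

/-- for `y` a sum of simple coroots vanishing on `ξ`, `⟨α_j, y⟩ ≤ 0` for simple `j` positive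
on `ξ`. -/
lemma root'_nonpos_of_mem_closure_of_vanish {b : P.Base} {ξ : M} (hξ : ξ ∈ closedChamber b)
    {j : ι} (hj : j ∈ b.support) (hjξ : 0 < P.coroot' j ξ) {y : N}
    (hy : y ∈ AddSubmonoid.closure (P.coroot '' b.support)) (h0 : P.toLinearMap ξ y = 0) :
    P.root' j y ≤ 0 := by
  induction hy using AddSubmonoid.closure_induction with
  | mem y hy =>
    obtain ⟨l, hl, rfl⟩ := hy
    have hlj : j ≠ l := by
      rintro rfl
      change P.coroot' j ξ = 0 at h0
      rw [h0] at hjξ
      exact lt_irrefl _ hjξ
    exact pairing_le_zero_of_ne_of_mem_support b hlj hj hl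
  | zero => simp
  | add y z hy hz ihy ihz =>
    have h1 := nonneg_of_mem_closure hξ hy
    have h2 := nonneg_of_mem_closure hξ hz
    rw [map_add, add_eq_zero_iff_of_nonneg h1 h2] at h0
    rw [map_add]
    exact add_nonpos (ihy h0.1) (ihz h0.2)

variable {F : Facet P} {b : P.Base}

/-- a negative root vanishing on the facet pairs non-negatively with simple coroots positive on
the facet. -/
lemma pairing_nonneg_of_not_isPos_of_sgn_eq_zero (hb : b ∈ F.cham) {i j : ι}
    (hi : ¬ b.IsPos i) (hi0 : F.sgn i = 0) (hj : j ∈ b.support) (hj1 : F.sgn j = 1) :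
    0 ≤ P.pairing i j := by
  classical
  have : Fintype ι := Fintype.ofFinite ι
  obtain ⟨ξ₀, hξ₀⟩ := F.exists_sgnVec_eq
  have hξ₀b : ξ₀ ∈ closedChamber b := hb (show ξ₀ ∈ F.carrier from hξ₀)
  have hjξ : 0 < P.coroot' j ξ₀ := by
    rw [← hξ₀, sgnVec_apply, sign_eq_one_iff] at hj1; exact hj1
  have hiξ : P.coroot' i ξ₀ = 0 := by
    rw [← hξ₀, sgnVec_apply, sign_eq_zero_iff] at hi0; exact hi0
  have hy := neg_coroot_mem_closure_of_not_isPos hi
  have h0 : P.toLinearMap ξ₀ (-P.coroot i) = 0 := by
    rw [map_neg]
    change -(P.coroot' i ξ₀) = 0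
    rw [hiξ, neg_zero]
  have h1 := root'_nonpos_of_mem_closure_of_vanish hξ₀b hj hjξ hy h0
  rw [map_neg] at h1
  change -(P.pairing j i) ≤ 0 at h1
  have h2 : 0 ≤ P.pairing j i := by linarith
  have h3 := sign_pairing_comm (P := P) i j
  by_contra hneg
  rw [not_le] at hneg
  rw [sign_neg hneg] at h3
  have := sign_eq_neg_one_iff.mp h3.symm
  linarith

/-- the sum of the roots of the parabolic set of a facet lies in the facet -/
theorem Facet.sum_root_parab_mem_carrier (F : Facet P) :
    (∑ i ∈ (Set.toFinite F.parab).toFinset, P.root i) ∈ F.carrier := by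
  classical
  have : Fintype ι := Fintype.ofFinite ι
  obtain ⟨b, hb⟩ := Facet.exists_mem_cham F
  obtain ⟨ξ₀, hξ₀⟩ := F.exists_sgnVec_eq
  set S := (Set.toFinite F.parab).toFinset with hS
  have hmemS : ∀ i, i ∈ S ↔ F.sgn i ≠ -1 := by
    intro i; simp [hS, Facet.parab]
  rw [Facet.mem_carrier_iff hb]
  intro j hj
  constructor
  · intro hj1
    -- split S into positive roots and the rest
    have hsplit : S = Finset.univ.filter b.IsPos ∪ S.filter (fun i => ¬ b.IsPos i) := by
      ext i
      simp only [Finset.mem_union, Finset.mem_filter, Finset.mem_univ, true_and]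
      constructor
      · intro hi
        by_cases hp : b.IsPos i
        · exact Or.inl hp
        · exact Or.inr ⟨hi, hp⟩
      · rintro (hp | ⟨hi, -⟩)
        · rw [hmemS]; exact Facet.sgn_nonneg_of_isPos hb hp
        · exact hi
    have hdisj : Disjoint (Finset.univ.filter b.IsPos) (S.filter (fun i => ¬ b.IsPos i)) := by
      rw [Finset.disjoint_left]
      intro i h1 h2
      exact (Finset.mem_filter.mp h2).2 (Finset.mem_filter.mp h1).2
    rw [map_sum]
    simp only [RootPairing.root_coroot'_eq_pairing]
    rw [hsplit, Finset.sum_union hdisj, sum_isPos_pairing b hj]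
    have : 0 ≤ ∑ i ∈ S.filter (fun i => ¬ b.IsPos i), P.pairing i j := by
      apply Finset.sum_nonneg
      intro i hi
      rw [Finset.mem_filter, hmemS] at hi
      obtain ⟨hi1, hi2⟩ := hi
      have hi3 : F.sgn i ≠ 1 := by
        intro h
        have h' : F.sgn (P.reflectionPerm i i) = -1 := by rw [Facet.sgn_neg, h]
        exact Facet.sgn_nonneg_of_isPos hb (isPos_neg_of_not b hi2) h'
      have hi0 : F.sgn i = 0 := by
        rcases hs : F.sgn i with _ | _ | _
        · rfl
        · exact absurd hs hi1
        · exact absurd hs hi3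
      exact pairing_nonneg_of_not_isPos_of_sgn_eq_zero hb hi2 hi0 hj hj1
    linarith
  · intro hj1
    have hj0 := Facet.sgn_eq_zero_of_ne_one hb hj hj1
    apply coroot'_sum_root_eq_zero_of_stable
    intro i
    rw [hmemS, hmemS]
    have hξj : P.coroot' j ξ₀ = 0 := by
      rw [← hξ₀, sgnVec_apply, sign_eq_zero_iff] at hj0; exact hj0
    have : F.sgn (P.reflectionPerm j i) = F.sgn i := by
      rw [← hξ₀, sgnVec_apply, sgnVec_apply, ← P.coroot'_reflection,
        reflection_eq_self_of_coroot'_eq_zero hξj]
    rw [this]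

/-- reflecting in a simple root vanishing on the facet does not change the pairing with a
fundamental coweight corresponding to a corner of the facet -/
lemma root'_reflectionPerm_of_corr (hb : b ∈ F.cham) {j : ι} (hj : j ∈ b.support)
    (hj1 : F.sgn j ≠ 1) {w : M} (hw : w ∈ F.corners) {x : N} (hx : Corr P w x) (i : ι) :
    P.root' (P.reflectionPerm j i) x = P.root' i x := by
  obtain ⟨i₁, hi₁, rfl⟩ := Facet.exists_of_mem_corners hb hw
  have hx' := eq_fundCoweight_of_corr hx
  subst hx'
  rw [← root'_coreflection, P.coreflection_apply]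
  have hne : (⟨j, hj⟩ : b.support) ≠ i₁ := by
    rintro rfl; exact hj1 hi₁
  have := root'_fundCoweight_of_ne b i₁ ⟨j, hj⟩ hne
  change P.root' j _ = 0 at this
  rw [this, zero_smul, sub_zero]

/-- the sum of the roots of an elementary set lies in the span of the corners -/
theorem Facet.sum_root_psi_mem_span_corners (F : Facet P) {m : M} (hm : m ∈ F.corners) :
    (∑ i ∈ (Set.toFinite (F.Psi m)).toFinset, P.root i) ∈ Submodule.span R F.corners := by
  classical
  obtain ⟨b, hb⟩ := Facet.exists_mem_cham F
  rw [Facet.mem_span_corners_iff hb]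
  intro j hj hj1
  apply coroot'_sum_root_eq_zero_of_stable
  intro i
  simp only [Set.Finite.mem_toFinset, Facet.Psi, Set.mem_ofPred_eq]
  constructor
  · rintro ⟨h1, h2⟩
    refine ⟨fun x hx => ?_, fun w' hw' hne x hx => ?_⟩
    · rw [root'_reflectionPerm_of_corr hb hj hj1 hm hx]; exact h1 x hx
    · rw [root'_reflectionPerm_of_corr hb hj hj1 hw' hx]; exact h2 w' hw' hne x hx
  · rintro ⟨h1, h2⟩
    refine ⟨fun x hx => ?_, fun w' hw' hne x hx => ?_⟩
    · rw [← root'_reflectionPerm_of_corr hb hj hj1 hm hx]; exact h1 x hx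
    · rw [← root'_reflectionPerm_of_corr hb hj hj1 hw' hx]; exact h2 w' hw' hne x hx

/-- (B1) extends to the span of the corners of a facet -/
lemma toLinearMap_eq_of_mem_span_corners {d : P.Base → N} (hd : IsCCS d) {b' : P.Base}
    (hb : b ∈ F.cham) (hb' : b' ∈ F.cham) {v : M} (hv : v ∈ Submodule.span R F.corners) :
    P.toLinearMap v (d b) = P.toLinearMap v (d b') := by
  induction hv using Submodule.span_induction with
  | mem w hw =>
    exact hd.corner_eq b b' w (Facet.corners_subset_baseCorners hb hw)
      (Facet.corners_subset_baseCorners hb' hw)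
  | zero => simp
  | add x y _ _ hx hy => rw [map_add, LinearMap.add_apply, LinearMap.add_apply, hx, hy]
  | smul a x _ hx => rw [map_smul, LinearMap.smul_apply, LinearMap.smul_apply, hx]

lemma Facet.numInv_eq (d : P.Base → N) (F : Facet P) (m : M) (b : P.Base) :
    F.numInv d m b =
      P.toLinearMap (∑ i ∈ (Set.toFinite (F.Psi m)).toFinset, P.root i) (d b) := by
  simp only [Facet.numInv, map_sum, LinearMap.sum_apply]

lemma Facet.deg_eq (d : P.Base → N) (F : Facet P) (b : P.Base) :
    F.deg d b =
      P.toLinearMap (∑ i ∈ (Set.toFinite F.parab).toFinset, P.root i) (d b) := by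
  simp only [Facet.deg, map_sum, LinearMap.sum_apply]

end Sums

end Groth.Agent.Lib.Helper72.Chamber
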