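/-
Helper72: two subspaces of the same dimension of a finite dimensional vector space have a common
complement.
-/
import Mathlib

set_option autoImplicit false

namespace Groth.Agent.Lib.Helper72.CommonCompl

variable {K : Type*} [Field K] {E : Type*} [AddCommGroup E] [Module K E]

/-- a vector space is not the union of two proper subspaces. -/
lemma exists_not_mem_of_ne_top {P Q : Submodule K E} (hP : P ≠ ⊤) (hQ : Q ≠ ⊤) :
    ∃ x, x ∉ P ∧ x ∉ Q := by
  obtain ⟨a, ha⟩ : ∃ a, a ∉ P := by
    by_contra h
    push Not at h
    exact hP (eq_top_iff.2 fun x _ => h x)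
  obtain ⟨b, hb⟩ : ∃ b, b ∉ Q := by
    by_contra h
    push Not at h
    exact hQ (eq_top_iff.2 fun x _ => h x)
  by_cases haQ : a ∈ Q
  · by_cases hbP : b ∈ P
    · refine ⟨a + b, fun h => ha ?_, fun h => hb ?_⟩
      · have := P.sub_mem h hbP
        simpa using this
      · have := Q.sub_mem h haQ
        simpa using this
    · exact ⟨b, hbP, hb⟩
  · exact ⟨a, ha, haQ⟩

lemma isCompl_step {P Z' : Submodule K E} {x : E} (hx : x ∉ P)
    (h : IsCompl (P ⊔ Submodule.span K {x}) Z') : IsCompl P (Z' ⊔ Submodule.span K {x}) := by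
  constructor
  · rw [Submodule.disjoint_def]
    intro p hp hpz
    obtain ⟨z, hz, y, hy, rfl⟩ := Submodule.mem_sup.1 hpz
    obtain ⟨c, rfl⟩ := Submodule.mem_span_singleton.1 hy
    have hz0 : z = 0 := by
      have h1 : z ∈ P ⊔ Submodule.span K {x} := by
        have : z = (z + c • x) + (-c) • x := by rw [neg_smul]; abel
        rw [this]
        exact Submodule.add_mem_sup hp (Submodule.mem_span_singleton.2 ⟨-c, rfl⟩)
      exact (Submodule.disjoint_def.1 h.disjoint) z h1 hz
    rw [hz0, zero_add] at hp ⊢
    by_cases hc : c = 0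
    · rw [hc, zero_smul]
    · exfalso
      apply hx
      have := P.smul_mem c⁻¹ hp
      rwa [smul_smul, inv_mul_cancel₀ hc, one_smul] at this
  · rw [codisjoint_iff, sup_comm Z', ← sup_assoc]
    exact codisjoint_iff.1 h.codisjoint

/-- two subspaces of the same dimension have a common complement. -/
theorem exists_common_compl [FiniteDimensional K E] :
    ∀ (n : ℕ) (P Q : Submodule K E), Module.finrank K P = Module.finrank K Q →
      Module.finrank K P + n = Module.finrank K E →
      ∃ Z : Submodule K E, IsCompl P Z ∧ IsCompl Q Z := by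
  intro n
  induction n with
  | zero =>
    intro P Q hPQ hn
    have hP : P = ⊤ := Submodule.eq_top_of_finrank_eq (by omega)
    have hQ : Q = ⊤ := Submodule.eq_top_of_finrank_eq (by omega)
    exact ⟨⊥, by rw [hP]; exact isCompl_top_bot, by rw [hQ]; exact isCompl_top_bot⟩
  | succ n ih =>
    intro P Q hPQ hn
    have hP : P ≠ ⊤ := by
      intro h
      rw [h, finrank_top] at hn
      omega
    have hQ : Q ≠ ⊤ := by
      intro h
      rw [h, finrank_top] at hPQ
      omega
    obtain ⟨x, hxP, hxQ⟩ := exists_not_mem_of_ne_top hP hQ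
    have hfr : ∀ R : Submodule K E, x ∉ R →
        Module.finrank K ↥(R ⊔ Submodule.span K {x}) = Module.finrank K R + 1 := by
      intro R hxR
      have hx0 : x ≠ 0 := fun h => hxR (h ▸ R.zero_mem)
      have hdisj : R ⊓ Submodule.span K {x} = ⊥ := by
        rw [eq_bot_iff]
        intro y hy
        obtain ⟨hy1, hy2⟩ := Submodule.mem_inf.1 hy
        obtain ⟨c, rfl⟩ := Submodule.mem_span_singleton.1 hy2
        by_cases hc : c = 0
        · rw [hc, zero_smul]; exact Submodule.zero_mem _
        · exfalso
          apply hxR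
          have := R.smul_mem c⁻¹ hy1
          rwa [smul_smul, inv_mul_cancel₀ hc, one_smul] at this
      have h1 := Submodule.finrank_sup_add_finrank_inf_eq R (Submodule.span K {x})
      rw [hdisj, finrank_bot, add_zero, finrank_span_singleton hx0] at h1
      exact h1
    obtain ⟨Z', hZP, hZQ⟩ := ih (P ⊔ Submodule.span K {x}) (Q ⊔ Submodule.span K {x})
      (by rw [hfr P hxP, hfr Q hxQ, hPQ]) (by rw [hfr P hxP]; omega)
    exact ⟨Z' ⊔ Submodule.span K {x}, isCompl_step hxP hZP, isCompl_step hxQ hZQ⟩

theorem exists_common_compl' [FiniteDimensional K E] (P Q : Submodule K E)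
    (h : Module.finrank K P = Module.finrank K Q) :
    ∃ Z : Submodule K E, IsCompl P Z ∧ IsCompl Q Z := by
  have hle := Submodule.finrank_le P
  exact exists_common_compl (Module.finrank K E - Module.finrank K P) P Q h (by omega)

end Groth.Agent.Lib.Helper72.CommonCompl
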