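import Mathlib
import Groth.Agent.Lib.Helper72.CubExtC

/-!
# `End_A(k⟦X⟧) / A` over the cubical ring `A = k + X^(m+1) k⟦X⟧`
-/

universe u

open PowerSeries CategoryTheory

namespace Groth.Agent.Lib.Helper72.CubExt

variable {k : Type u} [Field k] {m : ℕ} {A : Subalgebra k (PowerSeries k)}

attribute [local instance] algK

/-- the coefficient map on `End_A(B)` -/
noncomputable def Theta (h : Mono m A) :
    (PowerSeries k →ₗ[A] PowerSeries k) →ₗ[A] (Fin m → k) where
  toFun φ := fun i => coeff ((i : ℕ) + 1) (φ 1)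
  map_add' φ ψ := by
    funext i
    simp
  map_smul' r φ := by
    funext i
    simp only [LinearMap.smul_apply, RingHom.id_apply, Pi.smul_apply]
    rw [smul_def', h.coeff_mul r.2 _ (by have := i.2; omega), smul_k]

lemma Theta_apply (h : Mono m A) (φ : PowerSeries k →ₗ[A] PowerSeries k) (i : Fin m) :
    Theta h φ i = coeff ((i : ℕ) + 1) (φ 1) := rfl

/-- multiplication by a power series as an `A`-linear map -/
noncomputable def mulB (A : Subalgebra k (PowerSeries k)) (b : PowerSeries k) :
    PowerSeries k →ₗ[A] PowerSeries k where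
  toFun f := b * f
  map_add' := mul_add b
  map_smul' r f := by
    simp only [RingHom.id_apply, smul_def']
    ring

@[simp] lemma mulB_apply (b f : PowerSeries k) : mulB A b f = b * f := rfl

lemma Theta_surjective (h : Mono m A) : Function.Surjective (Theta h) := by
  intro q
  refine ⟨mulB A (PowerSeries.mk fun i => if hi : i - 1 < m then q ⟨i - 1, hi⟩ else 0), ?_⟩
  funext i
  rw [Theta_apply, mulB_apply, mul_one, coeff_mk]
  simp only [Nat.add_sub_cancel, Fin.is_lt, dite_true, Fin.eta]

lemma Theta_eq_zero_iff (h : Mono m A) (φ : PowerSeries k →ₗ[A] PowerSeries k) :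
    Theta h φ = 0 ↔ φ ∈ LinearMap.range
      (Algebra.lsmul A A (PowerSeries k) : A →ₐ[A] Module.End A (PowerSeries k)).toLinearMap := by
  constructor
  · intro h0
    have hmem : φ 1 ∈ A := by
      apply h.mem_of_coeff
      intro i hi0 hi
      have := congrFun h0 ⟨i - 1, by omega⟩
      rw [Theta_apply] at this
      simp only [Pi.zero_apply] at this
      rwa [Nat.sub_add_cancel hi0] at this
    refine ⟨⟨φ 1, hmem⟩, ?_⟩
    apply LinearMap.ext
    intro b
    show (⟨φ 1, hmem⟩ : A) • b = φ b
    rw [smul_def']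
    apply X_pow_mul_cancel (m + 1)
    have h1 : φ ((⟨X ^ (m + 1) * b, h.X_pow_mul_mem b⟩ : A) • (1 : PowerSeries k))
        = (⟨X ^ (m + 1) * b, h.X_pow_mul_mem b⟩ : A) • φ 1 := map_smul _ _ _
    have h2 : φ (xpow h 0 • b) = xpow h 0 • φ b := map_smul _ _ _
    rw [smul_def', smul_def'] at h1 h2
    simp only [mul_one, coe_xpow, add_zero] at h1 h2
    rw [← h2, h1]
    ring
  · rintro ⟨a, rfl⟩
    funext i
    rw [Theta_apply]
    show coeff ((i : ℕ) + 1) (a • (1 : PowerSeries k)) = 0
    rw [smul_def', mul_one]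
    exact h.coeff_eq_zero a.2 (by omega) (by have := i.2; omega)

/-- **The length of `End_A(k⟦X⟧) / A`** is `m`. -/
theorem length_end (h : Mono m A) :
    Module.length A ((PowerSeries k →ₗ[A] PowerSeries k) ⧸ LinearMap.range
      (Algebra.lsmul A A (PowerSeries k) : A →ₐ[A] Module.End A (PowerSeries k)).toLinearMap)
      = ((m : ℕ) : ℕ∞) := by
  have hk : LinearMap.range
      (Algebra.lsmul A A (PowerSeries k) : A →ₐ[A] Module.End A (PowerSeries k)).toLinearMap
      = LinearMap.ker (Theta h) := by
    ext φ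
    rw [LinearMap.mem_ker, Theta_eq_zero_iff]
  rw [(Submodule.quotEquivOfEq _ _ hk).length_eq,
    ((Theta h).quotKerEquivOfSurjective (Theta_surjective h)).length_eq,
    Module.length_eq_of_surjective (S := A) (R := k) algebraMap_surjective,
    Module.length_eq_finrank, Module.finrank_pi, Fintype.card_fin]

end Groth.Agent.Lib.Helper72.CubExt
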