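import Mathlib
import Groth.Agent.Lib.Helper72.CubGenD

/-!
# `Ext¹_A(M_i, M_i)` for `M_i = ⟨1, X, …, X^i⟩` over the cubical ring (`n = m + 1`, `i = r`)
-/

universe u

open PowerSeries CategoryTheory

namespace Groth.Agent.Lib.Helper72.CubExt

variable {k : Type u} [Field k] {m r : ℕ} {A : Subalgebra k (PowerSeries k)}
  {M : Submodule A (PowerSeries k)}

attribute [local instance] algK

/-- generator exponents for `M_i`: `0, 1, …, i` -/
def g31 (r : ℕ) (l : Fin (r + 1)) : ℕ := l

lemma mem_range_g31 (e : ℕ) : e ∈ Set.range (g31 r) ↔ e ≤ r := by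
  constructor
  · rintro ⟨l, rfl⟩
    have := l.2
    unfold g31
    omega
  · intro he
    exact ⟨⟨e, by omega⟩, rfl⟩

lemma genData31 (h : Mono m A) (hr : r + 1 ≤ m) :
    GenData m r A (Submodule.span A ((fun a : ℕ => (X : PowerSeries k) ^ a) '' (Set.Iic r)))
      (g31 r) where
  mono := h
  g0 := rfl
  ginj := by
    intro a b hab
    exact Fin.ext hab
  glt := by
    intro l
    have := l.2
    unfold g31
    omega
  mem := by
    intro f
    rw [mem_span_iff h _ (by simp)]
    refine forall_congr' (fun e => forall_congr' (fun he => ?_))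
    rw [mem_range_g31]
    simp only [Set.mem_Iic]

section

variable (d : GenData m r A M (g31 r)) (hr : r + 1 ≤ m)
include d hr

lemma cond_low31 {y : PowerSeries k} (hy : ∀ b, b * y ∈ M) {q : ℕ} (hq : q < m + 1) :
    coeff q y = 0 := by
  have h1 := (d.mem _).1 (hy (X ^ (max q (r + 1) - q))) (max q (r + 1)) (by omega) (by
    rw [mem_range_g31]
    omega)
  rw [coeff_X_pow_mul', if_pos (by omega)] at h1
  have h2 : max q (r + 1) - (max q (r + 1) - q) = q := by omega
  rwa [h2] at h1

omit hr in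
lemma mem_of_low31 {f : PowerSeries k} (hf : ∀ q, q < m + 1 → coeff q f = 0) : f ∈ M := by
  rw [d.mem]
  intro e he _
  exact hf e he

/-- the coefficient map -/
noncomputable def Psi31 :
    (LinearMap.ker d.pres →ₗ[A] M) →ₗ[A] (Fin r → Fin (m - 1 - r) → k) where
  toFun φ := fun j s => coeff (m + r + 3 + s) (φ (d.v j) : PowerSeries k)
    - (if hs : (s : ℕ) < j then
        coeff (m + r + 2) (φ (d.v ⟨j - s - 1, by have := j.2; omega⟩) : PowerSeries k) else 0)
  map_add' φ ψ := by
    funext j s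
    simp only [LinearMap.add_apply, Submodule.coe_add, map_add, Pi.add_apply]
    split_ifs <;> ring
  map_smul' a φ := by
    funext j s
    have hlow : ∀ (j' : Fin r) (e : ℕ), e < m + 1 + (m + 1) →
        coeff e ((a : PowerSeries k) * (φ (d.v j') : PowerSeries k))
          = coeff 0 (a : PowerSeries k) * coeff e (φ (d.v j') : PowerSeries k) := by
      intro j' e he
      exact d.mono.coeff_mul_of_low a.2 (c := m + 1)
        (fun q hq => cond_low31 d hr (fun b => d.mul_apply_v_mem φ b j') hq) he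
    simp only [LinearMap.smul_apply, RingHom.id_apply, Pi.smul_apply, Submodule.coe_smul,
      smul_def'', smul_k]
    have hs := s.2
    rw [hlow j _ (by omega)]
    split_ifs with hsj
    · rw [hlow _ _ (by omega), mul_sub]
    · rw [sub_zero, sub_zero]

lemma Psi31_apply (φ : LinearMap.ker d.pres →ₗ[A] M) (j : Fin r) (s : Fin (m - 1 - r)) :
    Psi31 d hr φ j s = coeff (m + r + 3 + s) (φ (d.v j) : PowerSeries k)
    - (if hs : (s : ℕ) < j then
        coeff (m + r + 2) (φ (d.v ⟨j - s - 1, by have := j.2; omega⟩) : PowerSeries k) else 0) :=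
  rfl

lemma Psi31_surjective : Function.Surjective (Psi31 d hr) := by
  intro q
  have hy : ∀ (j : Fin r) (b : PowerSeries k),
      b * (∑ s : Fin (m - 1 - r), C (q j s) * (X : PowerSeries k) ^ (m + r + 3 + (s : ℕ))) ∈ M := by
    intro j b
    apply mem_of_low31 d
    intro e he
    apply coeff_mul_low b _ (c := m + 1) _ he
    intro e' he'
    apply coeff_sum_C_mul_X_pow_low (fun s : Fin (m - 1 - r) => m + r + 3 + (s : ℕ)) (q j)
      (c := m + 1) _ he'
    intro s
    omega
  refine ⟨d.phiOf (fun j => ∑ s : Fin (m - 1 - r),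
    C (q j s) * (X : PowerSeries k) ^ (m + r + 3 + (s : ℕ))) hy, ?_⟩
  funext j s
  rw [Psi31_apply]
  simp only [d.coe_phiOf_v]
  rw [coeff_sum_C_mul_X_pow (fun s : Fin (m - 1 - r) => m + r + 3 + (s : ℕ))
    (fun a b hab => Fin.ext (by simpa using hab))]
  have h0 : ∀ j' : Fin r, coeff (m + r + 2) (∑ s : Fin (m - 1 - r),
      C (q j' s) * (X : PowerSeries k) ^ (m + r + 3 + (s : ℕ))) = 0 := by
    intro j'
    apply coeff_sum_C_mul_X_pow_low (fun s : Fin (m - 1 - r) => m + r + 3 + (s : ℕ)) (q j')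
      (c := m + r + 3) _ (by omega)
    intro s
    omega
  split_ifs
  · rw [h0, sub_zero]
  · rw [sub_zero]

omit hr in
/-- coefficients in the window `[n+r+1, 2n-1]` of an element of the shape `X^n β - X^(n+J) β₀` -/
lemma coeff_shape31 (β : Fin (r + 1) → M) (j : Fin r) {e : ℕ} (he1 : m + r + 2 ≤ e)
    (he2 : e ≤ 2 * m + 1) :
    coeff e (X ^ (m + 1) * (β j.succ : PowerSeries k)
        - X ^ (m + 1) * (X ^ (g31 r j.succ) * (β 0 : PowerSeries k)))
      = - coeff (e - (m + 1) - ((j : ℕ) + 1)) (β 0 : PowerSeries k) := by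
  have hj := j.2
  have hg : g31 r j.succ = (j : ℕ) + 1 := by simp [g31]
  rw [map_sub, coeff_X_pow_mul', coeff_X_pow_mul', if_pos (by omega), if_pos (by omega),
    coeff_X_pow_mul', hg, if_pos (by omega)]
  have hmem := (β j.succ).2
  rw [d.mem] at hmem
  rw [hmem (e - (m + 1)) (by omega) (by rw [mem_range_g31]; omega), zero_sub]

lemma Psi31_eq_zero_iff (φ : LinearMap.ker d.pres →ₗ[A] M) :
    Psi31 d hr φ = 0 ↔ ∃ β : Fin (r + 1) → M, ∀ j : Fin r, (φ (d.v j) : PowerSeries k)
      = X ^ (m + 1) * (β j.succ : PowerSeries k)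
        - X ^ (m + 1) * (X ^ (g31 r j.succ) * (β 0 : PowerSeries k)) := by
  constructor
  · intro h0
    have hΨ : ∀ (j : Fin r) (s : Fin (m - 1 - r)),
        coeff (m + r + 3 + s) (φ (d.v j) : PowerSeries k)
        = (if hs : (s : ℕ) < j then
          coeff (m + r + 2) (φ (d.v ⟨j - s - 1, by have := j.2; omega⟩) : PowerSeries k)
          else 0) := by
      intro j s
      have := congrFun (congrFun h0 j) s
      rw [Psi31_apply] at this
      exact sub_eq_zero.1 this
    have hlow : ∀ (j : Fin r) (e : ℕ), e < m + 1 → coeff e (φ (d.v j) : PowerSeries k) = 0 :=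
      fun j e he => cond_low31 d hr (fun b => d.mul_apply_v_mem φ b j) he
    -- the element β₀
    obtain ⟨β0, hβ0⟩ : ∃ β0 : PowerSeries k, β0 = PowerSeries.mk (fun l =>
        if h : 1 ≤ l ∧ l ≤ r then
          - coeff (m + r + 2) (φ (d.v ⟨r - l, by omega⟩) : PowerSeries k) else 0) := ⟨_, rfl⟩
    have hβ0c : ∀ l, coeff l β0 = if h : 1 ≤ l ∧ l ≤ r then
          - coeff (m + r + 2) (φ (d.v ⟨r - l, by omega⟩) : PowerSeries k) else 0 := by
      intro l
      rw [hβ0, coeff_mk]
    have hβ0mem : β0 ∈ M := by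
      rw [d.mem]
      intro e _ hne
      rw [mem_range_g31] at hne
      rw [hβ0c, dif_neg (by omega)]
    -- the elements z_j
    have hzlow : ∀ (j : Fin r) (e : ℕ), e < m + 1 →
        coeff e ((φ (d.v j) : PowerSeries k) + X ^ (m + 1) * (X ^ ((j : ℕ) + 1) * β0)) = 0 := by
      intro j e he
      rw [map_add, hlow j e he, coeff_X_pow_mul', if_neg (by omega), add_zero]
    have hzwin : ∀ (j : Fin r) (e : ℕ), m + r + 2 ≤ e → e ≤ 2 * m + 1 →
        coeff e ((φ (d.v j) : PowerSeries k) + X ^ (m + 1) * (X ^ ((j : ℕ) + 1) * β0)) = 0 := by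
      intro j e he1 he2
      have hj := j.2
      rw [map_add, coeff_X_pow_mul', if_pos (by omega), coeff_X_pow_mul', if_pos (by omega),
        hβ0c]
      rcases Nat.eq_or_lt_of_le he1 with heq | hlt
      · subst heq
        rw [dif_pos (by omega)]
        have hfin : (⟨r - (m + r + 2 - (m + 1) - ((j : ℕ) + 1)), by omega⟩ : Fin r) = j :=
          Fin.ext (by simp only; omega)
        rw [hfin, add_neg_cancel]
      · obtain ⟨s, rfl⟩ : ∃ s, e = m + r + 3 + s := ⟨e - (m + r + 3), by omega⟩
        have hs : s < m - 1 - r := by omega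
        have h1 := hΨ j ⟨s, hs⟩
        simp only at h1
        rw [h1]
        by_cases hsj : s < (j : ℕ)
        · rw [dif_pos hsj, dif_pos (by omega)]
          have hfin : (⟨r - (m + r + 3 + s - (m + 1) - ((j : ℕ) + 1)), by omega⟩ : Fin r)
              = ⟨(j : ℕ) - s - 1, by omega⟩ := Fin.ext (by simp only; omega)
          rw [hfin, add_neg_cancel]
        · rw [dif_neg hsj, dif_neg (by omega), add_zero]
    have hβmem : ∀ j : Fin r,
        sh (m + 1) ((φ (d.v j) : PowerSeries k) + X ^ (m + 1) * (X ^ ((j : ℕ) + 1) * β0)) ∈ M := by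
      intro j
      rw [d.mem]
      intro e he hne
      rw [mem_range_g31] at hne
      rw [coeff_sh]
      exact hzwin j _ (by omega) (by omega)
    refine ⟨fun l => Fin.cases ⟨β0, hβ0mem⟩ (fun j => ⟨_, hβmem j⟩) l, fun j => ?_⟩
    simp only [Fin.cases_succ, Fin.cases_zero]
    rw [X_pow_mul_sh _ _ (hzlow j)]
    have hg : g31 r j.succ = (j : ℕ) + 1 := by simp [g31]
    rw [hg]
    ring
  · rintro ⟨β, hβ⟩
    funext j s
    rw [Psi31_apply]
    have hj := j.2
    have hs := s.2
    show _ = (0 : k)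
    rw [hβ j, coeff_shape31 d β j (by omega) (by omega)]
    split_ifs with hsj
    · rw [hβ _, coeff_shape31 d β _ (by omega) (by omega)]
      simp only
      have h2 : m + r + 3 + (s : ℕ) - (m + 1) - ((j : ℕ) + 1)
          = m + r + 2 - (m + 1) - ((j : ℕ) - (s : ℕ) - 1 + 1) := by omega
      rw [h2, sub_self]
    · have hmem := (β 0).2
      rw [d.mem] at hmem
      rw [hmem _ (by omega) (by rw [mem_range_g31]; omega)]
      simp

/-- **The length of `Ext¹_A(M_i, M_i)`** is `i (n - 2 - i)`. -/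
theorem length_ext31 :
    Module.length A (Abelian.Ext (ModuleCat.of A M) (ModuleCat.of A M) 1)
      = ((r * (m - 1 - r) : ℕ) : ℕ∞) := by
  have h1 := d.length_ext_eq (Psi31 d hr) (Psi31_surjective d hr) (Psi31_eq_zero_iff d hr)
  rw [h1, Module.length_eq_of_surjective (S := A) (R := k) algebraMap_surjective,
    Module.length_eq_finrank, Module.finrank_pi_fintype]
  simp only [Module.finrank_pi, Fintype.card_fin, Finset.sum_const, Finset.card_univ, smul_eq_mul]

end

end Groth.Agent.Lib.Helper72.CubExt
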