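import Mathlib
import Groth.Agent.Lib.Helper72.CubGenD

/-!
# `Ext¹_A(R_{n-i}, R_{n-i})` over the cubical ring (`n = m + 1`, `i = r`)
-/

universe u

open PowerSeries CategoryTheory

namespace Groth.Agent.Lib.Helper72.CubExt

variable {k : Type u} [Field k] {m r : ℕ} {A : Subalgebra k (PowerSeries k)}
  {M : Submodule A (PowerSeries k)}

attribute [local instance] algK

/-- generator exponents for `R_{n-i}`: `0, n-i, …, n-1` -/
def g33 (m r : ℕ) (l : Fin (r + 1)) : ℕ := if (l : ℕ) = 0 then 0 else m - r + l

lemma g33_zero : g33 m r 0 = 0 := by simp [g33]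

lemma g33_succ (hr : r + 1 ≤ m) (j : Fin r) : g33 m r j.succ = m + 1 - r + j := by
  simp only [g33, Fin.val_succ]
  rw [if_neg (by omega)]
  have := j.2
  omega

lemma mem_range_g33 (hr : r + 1 ≤ m) (e : ℕ) :
    e ∈ Set.range (g33 m r) ↔ e = 0 ∨ (m + 1 - r ≤ e ∧ e ≤ m) := by
  constructor
  · rintro ⟨l, rfl⟩
    unfold g33
    have := l.2
    split_ifs with h
    · left; rfl
    · right; omega
  · rintro (rfl | ⟨h1, h2⟩)
    · exact ⟨0, g33_zero⟩
    · refine ⟨⟨e - (m - r), by omega⟩, ?_⟩
      unfold g33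
      simp only
      rw [if_neg (by omega)]
      omega

lemma genData33 (h : Mono m A) (hr : r + 1 ≤ m) :
    GenData m r A (Submodule.span A ((fun a : ℕ => (X : PowerSeries k) ^ a) ''
      ({0} ∪ Set.Icc (m + 1 - r) (m + 1 - 1)))) (g33 m r) where
  mono := h
  g0 := g33_zero
  ginj := by
    intro a b hab
    unfold g33 at hab
    apply Fin.ext
    split_ifs at hab <;> omega
  glt := by
    intro l
    unfold g33
    have := l.2
    split_ifs <;> omega
  mem := by
    intro f
    rw [mem_span_iff h _ (by simp)]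
    refine forall_congr' (fun e => forall_congr' (fun he => ?_))
    rw [mem_range_g33 hr]
    simp only [Set.mem_union, Set.mem_singleton_iff, Set.mem_Icc, Nat.add_sub_cancel]

section

variable (d : GenData m r A M (g33 m r)) (hr : r + 1 ≤ m)
include d hr

lemma cond_low33 {y : PowerSeries k} (hy : ∀ b, b * y ∈ M) {q : ℕ} (hq : q < m + 1 - r) :
    coeff q y = 0 := by
  have h1 := (d.mem _).1 (hy (X ^ (m - r - q))) (m - r) (by omega) (by
    rw [mem_range_g33 hr]
    omega)
  rw [coeff_X_pow_mul', if_pos (by omega)] at h1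
  have h2 : m - r - (m - r - q) = q := by omega
  rwa [h2] at h1

lemma mem_of_low33 {f : PowerSeries k} (hf : ∀ q, q < m + 1 - r → coeff q f = 0) : f ∈ M := by
  rw [d.mem]
  intro e he hne
  apply hf
  by_contra hcon
  apply hne
  rw [mem_range_g33 hr]
  right
  omega

/-- the exponents recorded by `Psi33` -/
def eOf33 (m r : ℕ) (t : Fin m) : ℕ := m + 1 - r + t + (if (t : ℕ) < r then 0 else 1)

omit d hr in
lemma eOf33_injective : Function.Injective (eOf33 m r) := by
  intro a b hab
  unfold eOf33 at hab
  apply Fin.ext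
  split_ifs at hab <;> omega

/-- the coefficient map -/
noncomputable def Psi33 :
    (LinearMap.ker d.pres →ₗ[A] M) →ₗ[A] (Fin r → Fin m → k) where
  toFun φ := fun j t => coeff (eOf33 m r t) (φ (d.v j) : PowerSeries k)
  map_add' φ ψ := by
    funext j t
    simp
  map_smul' a φ := by
    funext j t
    simp only [LinearMap.smul_apply, RingHom.id_apply, Pi.smul_apply, Submodule.coe_smul]
    rw [smul_def'', d.mono.coeff_mul_of_low a.2 (c := m + 1 - r)
      (fun q hq => cond_low33 d hr (fun b => d.mul_apply_v_mem φ b j) hq)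
      (by unfold eOf33; have := t.2; split_ifs <;> omega), smul_k]

lemma Psi33_apply (φ : LinearMap.ker d.pres →ₗ[A] M) (j : Fin r) (t : Fin m) :
    Psi33 d hr φ j t = coeff (eOf33 m r t) (φ (d.v j) : PowerSeries k) := rfl

lemma Psi33_surjective : Function.Surjective (Psi33 d hr) := by
  intro q
  have hy : ∀ (j : Fin r) (b : PowerSeries k),
      b * (∑ t : Fin m, C (q j t) * (X : PowerSeries k) ^ (eOf33 m r t)) ∈ M := by
    intro j b
    apply mem_of_low33 d hr
    intro e he
    apply coeff_mul_low b _ (c := m + 1 - r) _ he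
    intro e' he'
    apply coeff_sum_C_mul_X_pow_low (eOf33 m r) (q j) (c := m + 1 - r) _ he'
    intro s
    unfold eOf33
    omega
  refine ⟨d.phiOf (fun j => ∑ t : Fin m, C (q j t) * (X : PowerSeries k) ^ (eOf33 m r t)) hy, ?_⟩
  funext j t
  rw [Psi33_apply, d.coe_phiOf_v, coeff_sum_C_mul_X_pow _ eOf33_injective]

lemma Psi33_eq_zero_iff (φ : LinearMap.ker d.pres →ₗ[A] M) :
    Psi33 d hr φ = 0 ↔ ∃ β : Fin (r + 1) → M, ∀ j : Fin r, (φ (d.v j) : PowerSeries k)
      = X ^ (m + 1) * (β j.succ : PowerSeries k)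
        - X ^ (m + 1) * (X ^ (g33 m r j.succ) * (β 0 : PowerSeries k)) := by
  constructor
  · intro h0
    have hE : ∀ (j : Fin r) (t : Fin m), coeff (eOf33 m r t) (φ (d.v j) : PowerSeries k) = 0 :=
      fun j t => congrFun (congrFun h0 j) t
    have hlow : ∀ (j : Fin r) (e : ℕ), e < m + 1 → coeff e (φ (d.v j) : PowerSeries k) = 0 := by
      intro j e he
      by_cases he1 : e < m + 1 - r
      · exact cond_low33 d hr (fun b => d.mul_apply_v_mem φ b j) he1
      · have := hE j ⟨e - (m + 1 - r), by omega⟩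
        unfold eOf33 at this
        simp only at this
        rw [if_pos (by omega)] at this
        have h2 : m + 1 - r + (e - (m + 1 - r)) + 0 = e := by omega
        rwa [h2] at this
    have hβmem : ∀ j : Fin r, sh (m + 1) (φ (d.v j) : PowerSeries k) ∈ M := by
      intro j
      rw [d.mem]
      intro e he hne
      rw [mem_range_g33 hr] at hne
      rw [coeff_sh]
      have := hE j ⟨e + r - 1, by omega⟩
      unfold eOf33 at this
      simp only at this
      rw [if_neg (by omega)] at this
      have h2 : m + 1 - r + (e + r - 1) + 1 = e + (m + 1) := by omega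
      rwa [h2] at this
    refine ⟨fun l => Fin.cases 0 (fun j => ⟨_, hβmem j⟩) l, fun j => ?_⟩
    simp only [Fin.cases_succ, Fin.cases_zero, ZeroMemClass.coe_zero, mul_zero, sub_zero]
    exact (X_pow_mul_sh _ _ (hlow j)).symm
  · rintro ⟨β, hβ⟩
    funext j t
    rw [Psi33_apply, hβ j, map_sub, ← mul_assoc, ← pow_add, coeff_X_pow_mul', coeff_X_pow_mul']
    have ht := t.2
    have hj := j.2
    have hg := g33_succ hr j
    have h2 : ¬ (m + 1 + g33 m r j.succ ≤ eOf33 m r t) := by
      rw [hg]; unfold eOf33; split_ifs <;> omega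
    rw [if_neg h2, sub_zero]
    show _ = (0 : k)
    split_ifs with hle
    · have hmem := (β j.succ).2
      rw [d.mem] at hmem
      apply hmem
      · unfold eOf33; split_ifs <;> omega
      · rw [mem_range_g33 hr]
        unfold eOf33 at hle ⊢
        split_ifs at hle ⊢ <;> omega
    · rfl

/-- **The length of `Ext¹_A(R_{n-i}, R_{n-i})`** is `i (n - 1)`. -/
theorem length_ext33 :
    Module.length A (Abelian.Ext (ModuleCat.of A M) (ModuleCat.of A M) 1)
      = ((r * m : ℕ) : ℕ∞) := by
  have h1 := d.length_ext_eq (Psi33 d hr) (Psi33_surjective d hr) (Psi33_eq_zero_iff d hr)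
  rw [h1, Module.length_eq_of_surjective (S := A) (R := k) algebraMap_surjective,
    Module.length_eq_finrank, Module.finrank_pi_fintype]
  simp only [Module.finrank_pi, Fintype.card_fin, Finset.sum_const, Finset.card_univ, smul_eq_mul]

end

end Groth.Agent.Lib.Helper72.CubExt
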