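import Mathlib.Algebra.Ring.Int.Defs
import Mathlib.Algebra.Ring.Parity
import Mathlib.Algebra.Group.Basic
import Mathlib.Algebra.Ring.Int.Parity
import Mathlib.Tactic.Module
import Mathlib.Tactic.LinearCombination
import Mathlib.Tactic.Ring
import Mathlib.Tactic.Abel
import Mathlib.Algebra.Module.NatInt

/-!
Maps of degree two ("theorem of the cube" relation) between abelian groups (helper72).
-/

set_option autoImplicit false

namespace Groth.Agent.Lib.Helper72.Cube

universe u v

section Arith

theorem two_mul_ediv (n : ℤ) : 2 * (n * (n + 1) / 2) = n * (n + 1) :=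
  Int.mul_ediv_cancel' (Int.even_mul_succ_self n).two_dvd

theorem two_mul_ediv' (n : ℤ) : 2 * (n * (n - 1) / 2) = n * (n - 1) := by
  have := Int.even_mul_succ_self (n - 1)
  rw [sub_add_cancel, mul_comm] at this
  exact Int.mul_ediv_cancel' this.two_dvd

theorem coefA (n : ℤ) :
    (n + 1) * (n + 1 + 1) / 2 = 2 * (n * (n + 1) / 2) - ((n - 1) * (n - 1 + 1) / 2) + 1 := by
  have h1 := two_mul_ediv (n + 1)
  have h2 := two_mul_ediv n
  have h3 := two_mul_ediv (n - 1)
  have : 2 * ((n + 1) * (n + 1 + 1) / 2) =
      2 * (2 * (n * (n + 1) / 2) - ((n - 1) * (n - 1 + 1) / 2) + 1) := by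
    linear_combination h1 - 2 * h2 + h3
  omega

theorem coefB (n : ℤ) :
    (n + 1) * (n + 1 - 1) / 2 = 2 * (n * (n - 1) / 2) - ((n - 1) * (n - 1 - 1) / 2) + 1 := by
  have h1 := two_mul_ediv' (n + 1)
  have h2 := two_mul_ediv' n
  have h3 := two_mul_ediv' (n - 1)
  have : 2 * ((n + 1) * (n + 1 - 1) / 2) =
      2 * (2 * (n * (n - 1) / 2) - ((n - 1) * (n - 1 - 1) / 2) + 1) := by
    linear_combination h1 - 2 * h2 + h3
  omega

end Arith

variable {A : Type u} {G : Type v} [AddCommGroup A] [AddCommGroup G]
  (f : A → G)

/-- The associated symmetric "bilinear" defect. -/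
def defect (x y : A) : G := f (x + y) - f x - f y

theorem defect_comm (x y : A) : defect f x y = defect f y x := by
  unfold defect; rw [add_comm x y]; abel

/-- The statement `P n`. -/
def P (x : A) (n : ℤ) : Prop :=
  f (n • x) = (n * (n + 1) / 2) • f x + (n * (n - 1) / 2) • f (-x)

variable
  (hf : ∀ x y z : A, f (x + y + z) + f x + f y + f z = f (x + y) + f (x + z) + f (y + z))

include hf

theorem map_zero' : f 0 = 0 := by
  have h := hf 0 0 0
  simp only [add_zero] at h
  have : f 0 + (f 0 + f 0 + f 0) = 0 + (f 0 + f 0 + f 0) := by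
    rw [zero_add]
    calc f 0 + (f 0 + f 0 + f 0) = f 0 + f 0 + f 0 + f 0 := by abel
      _ = f 0 + f 0 + f 0 := h
  exact add_right_cancel this

theorem defect_add_left (x y z : A) :
    defect f (x + y) z = defect f x z + defect f y z := by
  have h := hf x y z
  unfold defect
  have e : f (x + y + z) = f (x + y) + f (x + z) + f (y + z) - f x - f y - f z := by
    rw [← h]; abel
  rw [e]; abel

theorem defect_zero_left (y : A) : defect f 0 y = 0 := by
  unfold defect; rw [zero_add, map_zero' f hf]; abel

/-- `defect f · z` as an additive monoid hom. -/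
def defectHom (z : A) : A →+ G where
  toFun x := defect f x z
  map_zero' := defect_zero_left f hf z
  map_add' x y := defect_add_left f hf x y z

theorem defect_zsmul_left (n : ℤ) (x z : A) : defect f (n • x) z = n • defect f x z :=
  map_zsmul (defectHom f hf z) n x

theorem defect_neg_left (x z : A) : defect f (-x) z = - defect f x z :=
  map_neg (defectHom f hf z) x

theorem defect_neg_right (x z : A) : defect f x (-z) = - defect f x z := by
  rw [defect_comm, defect_neg_left f hf, defect_comm]

/-- `f x + f (-x) = defect x x`. -/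
theorem add_neg_eq_defect (x : A) : f x + f (-x) = defect f x x := by
  have h := defect_neg_right f hf x x
  unfold defect at h ⊢
  rw [add_neg_cancel, map_zero' f hf] at h
  have : f x + f (-x) = -(0 - f x - f (-x)) := by abel
  rw [this, h]; abel

theorem step (n : ℤ) (x : A) :
    f ((n + 1) • x) = (2 : ℤ) • f (n • x) - f ((n - 1) • x) + f x + f (-x) := by
  have h := hf (n • x) x (-x)
  have e1 : n • x + x + -x = n • x := by abel
  have e2 : n • x + x = (n + 1) • x := by rw [add_smul, one_smul]
  have e3 : n • x + -x = (n - 1) • x := by rw [sub_smul, one_smul]; abel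
  rw [e1, e2, e3, add_neg_cancel, map_zero' f hf, add_zero] at h
  have : f ((n + 1) • x) = f (n • x) + f (n • x) + f x + f (-x) - f ((n - 1) • x) := by
    rw [h]; abel
  rw [this, two_smul]; abel

theorem P_succ (x : A) (n : ℤ) (h0 : P f x (n - 1)) (h1 : P f x n) : P f x (n + 1) := by
  unfold P at *
  rw [step f hf, h1, h0, coefA, coefB]
  module

theorem P_pred (x : A) (n : ℤ) (h1 : P f x n) (h2 : P f x (n + 1)) : P f x (n - 1) := by
  unfold P at *
  have hs := step f hf n x
  have : f ((n - 1) • x) = (2 : ℤ) • f (n • x) - f ((n + 1) • x) + f x + f (-x) := by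
    rw [hs]; abel
  rw [this, h1, h2, coefA, coefB]
  module

theorem P_zero (x : A) : P f x 0 := by
  unfold P; simp [map_zero' f hf]

omit hf in
theorem P_one (x : A) : P f x 1 := by
  unfold P; norm_num

theorem formula (n : ℤ) (x : A) :
    f (n • x) = (n * (n + 1) / 2) • f x + (n * (n - 1) / 2) • f (-x) := by
  suffices h : P f x n ∧ P f x (n + 1) from h.1
  induction n using Int.induction_on with
  | zero => exact ⟨P_zero f hf x, by simpa using P_one f x⟩
  | succ k ih =>
    refine ⟨ih.2, ?_⟩
    have := P_succ f hf x (k + 1) (by simpa using ih.1) ih.2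
    exact this
  | pred k ih =>
    refine ⟨?_, by simpa using ih.1⟩
    have := P_pred f hf x (-(k : ℤ)) ih.1 ih.2
    exact this

end Groth.Agent.Lib.Helper72.Cube
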