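/-
Helper72: the linear automorphisms of a Weierstrass-type cubic `κ x³ + A y² z + ε x z² + ζ z³`
(with `ε ζ ≠ 0`) fixing the flex `(0, 1, 0)`.
-/
import Mathlib

set_option autoImplicit false
set_option linter.unusedSectionVars false

namespace Groth.Agent.Lib.Helper72.CubicForm

variable {K : Type*} [Field K] [CharZero K]

/-- the Weierstrass-type cubic as a function. -/
def Gw (κ A ε ζ x y z : K) : K := κ * x ^ 3 + A * y ^ 2 * z + ε * x * z ^ 2 + ζ * z ^ 3

theorem weier_stab {κ A ε ζ c : K} (hκ : κ ≠ 0) (hA : A ≠ 0) (hε : ε ≠ 0) (hζ : ζ ≠ 0)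
    {a00 a02 a10 a11 a12 a20 a22 : K}
    (hdet : a00 * a11 * a22 - a02 * a11 * a20 ≠ 0)
    (h : ∀ x y z : K, Gw κ A ε ζ (a00 * x + a02 * z) (a10 * x + a11 * y + a12 * z)
      (a20 * x + a22 * z) = c * Gw κ A ε ζ x y z) :
    a02 = 0 ∧ a10 = 0 ∧ a12 = 0 ∧ a20 = 0 ∧ a00 = a22 ∧ (a11 = a22 ∨ a11 = -a22) := by
  have h11 : a11 ≠ 0 := by
    intro h0
    apply hdet
    rw [h0]; ring
  -- a20 = 0
  have h20 : a20 = 0 := by
    have h1 := h 1 1 0
    have h2 := h 1 (-1) 0
    have h3 := h 1 0 0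
    simp only [Gw] at h1 h2 h3
    have : A * a11 ^ 2 * a20 = 0 := by linear_combination (1 / 2 : K) * h1 + (1 / 2 : K) * h2 - h3
    exact (mul_eq_zero.1 this).resolve_left (mul_ne_zero hA (pow_ne_zero 2 h11))
  subst h20
  have hdet' : a00 * a11 * a22 ≠ 0 := by
    intro h0
    apply hdet
    rw [h0]; ring
  have h00 : a00 ≠ 0 := fun h0 => hdet' (by rw [h0]; ring)
  have h22 : a22 ≠ 0 := fun h0 => hdet' (by rw [h0]; ring)
  -- a10 + a12 = 0, a12 - a10 = 0
  have hu : a10 + a12 = 0 := by
    have h1 := h 1 1 1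
    have h2 := h 1 (-1) 1
    simp only [Gw] at h1 h2
    have : A * a11 * a22 * (a10 + a12) = 0 := by linear_combination (1 / 4 : K) * h1 - (1 / 4 : K) * h2
    exact (mul_eq_zero.1 this).resolve_left (mul_ne_zero (mul_ne_zero hA h11) h22)
  have hu' : a12 - a10 = 0 := by
    have h1 := h (-1) 1 1
    have h2 := h (-1) (-1) 1
    simp only [Gw] at h1 h2
    have : A * a11 * a22 * (a12 - a10) = 0 := by linear_combination (1 / 4 : K) * h1 - (1 / 4 : K) * h2
    exact (mul_eq_zero.1 this).resolve_left (mul_ne_zero (mul_ne_zero hA h11) h22)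
  have h12 : a12 = 0 := by linear_combination (1 / 2 : K) * hu + (1 / 2 : K) * hu'
  have h10 : a10 = 0 := by linear_combination (1 / 2 : K) * hu - (1 / 2 : K) * hu'
  subst h12 h10
  -- c = a11² a22
  have hc : c = a11 ^ 2 * a22 := by
    have h1 := h 0 1 1
    have h3 := h 0 0 1
    simp only [Gw] at h1 h3
    have : A * (a11 ^ 2 * a22 - c) = 0 := by linear_combination h1 - h3
    have := (mul_eq_zero.1 this).resolve_left hA
    linear_combination -this
  -- a02 = 0
  have h02 : a02 = 0 := by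
    have h1 := h 1 0 1
    have h2 := h (-1) 0 1
    have h3 := h 0 0 1
    simp only [Gw] at h1 h2 h3
    have : κ * a00 ^ 2 * a02 = 0 := by linear_combination (1 / 6 : K) * h1 + (1 / 6 : K) * h2 - (1 / 3 : K) * h3
    exact (mul_eq_zero.1 this).resolve_left (mul_ne_zero hκ (pow_ne_zero 2 h00))
  subst h02
  have hc2 : c = a22 ^ 3 := by
    have h3 := h 0 0 1
    simp only [Gw] at h3
    have : ζ * (a22 ^ 3 - c) = 0 := by linear_combination h3
    have := (mul_eq_zero.1 this).resolve_left hζ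
    linear_combination -this
  have h0022 : a00 = a22 := by
    have h1 := h 1 0 1
    have h2 := h 2 0 1
    have h3 := h 0 0 1
    simp only [Gw] at h1 h2 h3
    have : ε * (a00 * a22 ^ 2 - c) = 0 := by
      linear_combination (4 / 3 : K) * h1 - (1 / 6 : K) * h2 - (7 / 6 : K) * h3
    have h4 := (mul_eq_zero.1 this).resolve_left hε
    have : a22 ^ 2 * (a00 - a22) = 0 := by rw [hc2] at h4; linear_combination h4
    have := (mul_eq_zero.1 this).resolve_left (pow_ne_zero 2 h22)
    linear_combination this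
  refine ⟨rfl, rfl, rfl, rfl, h0022, ?_⟩
  have : a22 * ((a11 - a22) * (a11 + a22)) = 0 := by
    rw [hc2] at hc
    linear_combination -hc
  have := (mul_eq_zero.1 this).resolve_left h22
  rcases mul_eq_zero.1 this with h5 | h5
  · left; linear_combination h5
  · right; linear_combination h5

end Groth.Agent.Lib.Helper72.CubicForm
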