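/-
Helper72: a smooth plane cubic in Weierstrass-type coordinates `κ x³ + A y² z + ε x z² + ζ z³`.
-/
import Mathlib
import Groth.Agent.Lib.Helper72.CubicPlaneB
import Groth.Agent.Lib.Helper72.CubicFormK

set_option autoImplicit false
set_option linter.unusedSectionVars false

open MvPolynomial Finset

namespace Groth.Agent.Lib.Helper72.CubicForm

universe u
variable {K : Type u} [Field K] [IsAlgClosed K] [CharZero K]

theorem rep_weierstrass {f : MvPolynomial (Fin 3) K} (hf : f.IsHomogeneous 3) (hsm : SmoothP f) :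
    ∃ κ A ε ζ : K, κ ≠ 0 ∧ A ≠ 0 ∧
      Rep f (fun x y z => κ * x ^ 3 + A * y ^ 2 * z + ε * x * z ^ 2 + ζ * z ^ 3) := by
  obtain ⟨p, w, hp0, hw0, hfp, hT⟩ := exists_flex hf
  obtain ⟨i, hi⟩ := hsm p hp0 hfp
  set b : Fin 3 → K := Pi.single i 1 with hb
  set A : K := D f p b with hA
  have hA0 : A ≠ 0 := by rw [hA, hb, D_single]; exact hi
  have hDpw : D f p w = 0 := by rw [D_eq hf, hT p, zero_div]
  have hDwp : D f w p = 0 := by rw [D_eq hf, T_swap13, hT w, zero_div]
  have hTwpb : T f w p b = 0 := by rw [T_swap12, T_swap23, hT b]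
  have hTpbp : T f p b p = 2 * A := by rw [T_swap23, ← two_D hf]
  have hTpbw : T f p b w = 0 := hT b
  -- the coordinate matrix
  set E₀ : Matrix (Fin 3) (Fin 3) K := Matrix.of fun r c => (![w, p, b] c) r with hE₀
  have hmul : ∀ v : Fin 3 → K, E₀.mulVec v = v 0 • w + v 1 • p + v 2 • b := by
    intro v
    funext r
    simp [hE₀, Matrix.mulVec, dotProduct, Fin.sum_univ_three]
    ring
  have hdet : E₀.det ≠ 0 := by
    intro h0
    obtain ⟨v, hv0, hv⟩ := Matrix.exists_mulVec_eq_zero_iff.2 h0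
    rw [hmul] at hv
    have h2 : v 2 = 0 := by
      have := congrArg (D f p) hv
      rw [D_add_right, D_add_right, D_smul_right, D_smul_right, D_smul_right, hDpw,
        D_self hf, hfp] at this
      have h3 : D f p (0 : Fin 3 → K) = 0 := by
        have := D_smul_right f (0 : K) p 0
        simpa using this
      rw [h3] at this
      have : v 2 * A = 0 := by linear_combination this
      exact (mul_eq_zero.1 this).resolve_right hA0
    have h1 : v 1 = 0 := by
      have := congrArg (T f p b) hv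
      rw [T_add_right, T_add_right, T_smul_right, T_smul_right, T_smul_right, hTpbw, hTpbp,
        h2] at this
      have h3 : T f p b (0 : Fin 3 → K) = 0 := by
        have := T_smul_right f (0 : K) p b 0
        simpa using this
      rw [h3] at this
      have : v 1 * (2 * A) = 0 := by linear_combination this
      rcases mul_eq_zero.1 this with h | h
      · exact h
      · exact absurd h (mul_ne_zero two_ne_zero hA0)
    have h0' : v 0 = 0 := by
      rw [h1, h2, zero_smul, zero_smul, add_zero, add_zero] at hv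
      exact (smul_eq_zero.1 hv).resolve_right hw0
    apply hv0
    funext r
    fin_cases r
    · exact h0'
    · exact h1
    · exact h2
  -- stage 0
  set κ : K := eval w f with hκ
  set ζ : K := eval b f with hζ
  set γ : K := D f w b with hγ
  set ε : K := D f b w with hε
  set β : K := D f b p with hβ
  have hrep0 : Rep f (fun x y z => κ * x ^ 3 + ζ * z ^ 3 + γ * x ^ 2 * z + A * y ^ 2 * z +
      ε * x * z ^ 2 + β * y * z ^ 2) := by
    refine ⟨E₀, hdet, fun v => ?_⟩
    rw [hmul, expand3 hf, hfp, hDwp, hDpw, hTwpb]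
    ring
  have hκ0 : κ ≠ 0 := by
    intro h0
    obtain ⟨y₀, hy₀⟩ := exists_root_quadratic A 0 γ hA0
    refine Rep.not_sing hf hsm hrep0 1 y₀ 0 (fun h => one_ne_zero h.1) ?_
    intro q₀ q₁ q₂
    refine ⟨2 * γ * q₀ * q₂ + 2 * A * y₀ * q₁ * q₂ + ε * q₂ ^ 2 + β * y₀ * q₂ ^ 2,
      ζ * q₂ ^ 3 + γ * q₀ ^ 2 * q₂ + A * q₁ ^ 2 * q₂ + ε * q₀ * q₂ ^ 2 + β * q₁ * q₂ ^ 2,
      fun t => ?_⟩
    simp only [h0]
    linear_combination (t * q₂) * hy₀
  -- stage 1
  set r : K := -γ / (3 * κ) with hr
  set s : K := -β / (2 * A) with hs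
  have h1 : 3 * κ * r + γ = 0 := by rw [hr]; field_simp; ring
  have h2 : 2 * A * s + β = 0 := by rw [hs]; field_simp; ring
  refine ⟨κ, A, 3 * κ * r ^ 2 + 2 * γ * r + ε,
    κ * r ^ 3 + γ * r ^ 2 + ε * r + ζ + A * s ^ 2 + β * s, hκ0, hA0, ?_⟩
  refine (hrep0.change3 1 0 r 0 1 s 0 0 1 (by simp)).congr ?_
  intro x y z
  linear_combination (x ^ 2 * z) * h1 + (y * z ^ 2) * h2

end Groth.Agent.Lib.Helper72.CubicForm
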