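/-
Helper72: a smooth plane cubic in the second canonical form `κ m³ + A t₁ t₂ t₃`.
-/
import Mathlib
import Groth.Agent.Lib.Helper72.CubicPlaneC

set_option autoImplicit false
set_option linter.unusedSectionVars false

open MvPolynomial Finset

namespace Groth.Agent.Lib.Helper72.CubicForm

universe u
variable {K : Type u} [Field K] [IsAlgClosed K] [CharZero K]

lemma exists_root_quartic (a b c d e : K) (ha : a ≠ 0) :
    ∃ x : K, a * x ^ 4 + b * x ^ 3 + c * x ^ 2 + d * x + e = 0 := by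
  have hdeg : (Polynomial.C a * Polynomial.X ^ 4 + (Polynomial.C b * Polynomial.X ^ 3 +
      Polynomial.C c * Polynomial.X ^ 2 + Polynomial.C d * Polynomial.X +
      Polynomial.C e)).degree = 4 := by
    rw [Polynomial.degree_add_eq_left_of_degree_lt]
    · exact Polynomial.degree_C_mul_X_pow 4 ha
    · rw [Polynomial.degree_C_mul_X_pow 4 ha]
      exact Polynomial.degree_cubic_lt
  obtain ⟨x, hx⟩ := IsAlgClosed.exists_root
    (Polynomial.C a * Polynomial.X ^ 4 + (Polynomial.C b * Polynomial.X ^ 3 +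
      Polynomial.C c * Polynomial.X ^ 2 + Polynomial.C d * Polynomial.X +
      Polynomial.C e)) (by rw [hdeg]; norm_num)
  refine ⟨x, ?_⟩
  have : a * x ^ 4 + (b * x ^ 3 + c * x ^ 2 + d * x + e) = 0 := by simpa using hx
  linear_combination this

/-- the root of the 3-division quartic used to split off a cube. -/
lemma exists_quartic_root {f : MvPolynomial (Fin 3) K} (hf : f.IsHomogeneous 3)
    (hsm : SmoothP f) {κ A ε ζ : K} (hκ : κ ≠ 0) (_hA : A ≠ 0)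
    (hrep : Rep f (fun x y z => κ * x ^ 3 + A * y ^ 2 * z + ε * x * z ^ 2 + ζ * z ^ 3)) :
    ∃ x₁ : K, x₁ ≠ 0 ∧
      3 * κ ^ 2 * x₁ ^ 4 + 6 * ε * κ * x₁ ^ 2 + 12 * κ * ζ * x₁ - ε ^ 2 = 0 := by
  by_cases hε : ε = 0
  · have hζ : ζ ≠ 0 := by
      intro hζ
      refine Rep.not_sing hf hsm hrep 0 0 1 (fun h => one_ne_zero h.2.2) ?_
      intro q₀ q₁ q₂
      refine ⟨A * q₁ ^ 2, κ * q₀ ^ 3 + A * q₁ ^ 2 * q₂, fun t => ?_⟩
      simp only [hε, hζ]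
      ring
    obtain ⟨x₁, hx₁⟩ := IsAlgClosed.exists_pow_nat_eq (-4 * ζ / κ) (by norm_num : 0 < 3)
    have hx₁' : κ * x₁ ^ 3 = -4 * ζ := by rw [hx₁]; field_simp
    refine ⟨x₁, ?_, ?_⟩
    · intro h0
      rw [h0] at hx₁'
      have : ζ = 0 := by linear_combination (1 / 4 : K) * hx₁'
      exact hζ this
    · rw [hε]
      linear_combination (3 * κ * x₁) * hx₁'
  · obtain ⟨x₁, hx₁⟩ := exists_root_quartic (3 * κ ^ 2) 0 (6 * ε * κ) (12 * κ * ζ) (-ε ^ 2)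
      (mul_ne_zero (by norm_num) (pow_ne_zero 2 hκ))
    refine ⟨x₁, ?_, by linear_combination hx₁⟩
    intro h0
    rw [h0] at hx₁
    have : ε ^ 2 = 0 := by linear_combination -hx₁
    exact hε ((pow_eq_zero_iff two_ne_zero).1 this)

/-- the second canonical form of a smooth plane cubic. -/
theorem rep_second_form {f : MvPolynomial (Fin 3) K} (hf : f.IsHomogeneous 3) (hsm : SmoothP f) :
    ∃ κ A α₁ α₂ α₃ : K, κ ≠ 0 ∧ A ≠ 0 ∧
      Rep f (fun X Y Z => κ * (α₁ * X + α₂ * Y + α₃ * Z) ^ 3 + A * X * Y * Z) := by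
  obtain ⟨κ, A, ε, ζ, hκ, hA, hrep⟩ := rep_weierstrass hf hsm
  obtain ⟨x₁, hx₁0, hQ⟩ := exists_quartic_root hf hsm hκ hA hrep
  have h6 : 6 * κ * x₁ ≠ 0 := mul_ne_zero (mul_ne_zero (by norm_num) hκ) hx₁0
  obtain ⟨ν, hν⟩ : ∃ ν : K, 6 * κ * x₁ * ν = ε - 3 * κ * x₁ ^ 2 :=
    ⟨(ε - 3 * κ * x₁ ^ 2) / (6 * κ * x₁), by field_simp⟩
  have hν2 : 3 * κ * x₁ * ν ^ 2 = κ * x₁ ^ 3 + ζ := by
    have h12 : 12 * κ * x₁ ≠ 0 := mul_ne_zero (mul_ne_zero (by norm_num) hκ) hx₁0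
    apply mul_left_cancel₀ h12
    linear_combination (6 * κ * x₁ * ν + ε - 3 * κ * x₁ ^ 2) * hν - hQ
  obtain ⟨τ, hτ⟩ := IsAlgClosed.exists_pow_nat_eq (-(3 * κ * x₁) / A) (by norm_num : 0 < 2)
  have hτ' : A * τ ^ 2 = -(3 * κ * x₁) := by rw [hτ]; field_simp
  have hτ0 : τ ≠ 0 := by
    intro h0
    rw [h0] at hτ'
    have : 3 * κ * x₁ = 0 := by linear_combination hτ'
    exact mul_ne_zero (mul_ne_zero (by norm_num) hκ) hx₁0 this
  have hrep1 : Rep f (fun x y z => κ * (x - x₁ * z) ^ 3 +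
      A * z * (y - τ * (x + ν * z)) * (y + τ * (x + ν * z))) := by
    refine hrep.congr fun x y z => ?_
    linear_combination (z * (x + ν * z) ^ 2) * hτ' - (x * z ^ 2) * hν - z ^ 3 * hν2
  have h2τ : 2 * τ ≠ 0 := mul_ne_zero two_ne_zero hτ0
  refine ⟨κ, A, -(ν + x₁), -1 / (2 * τ), 1 / (2 * τ), hκ, hA, ?_⟩
  refine (hrep1.change3 (-ν) (-1 / (2 * τ)) (1 / (2 * τ)) 0 (1 / 2) (1 / 2) 1 0 0 ?_).congr ?_
  · have : (-ν) * (1 / 2 * 0 - 1 / 2 * 0) - -1 / (2 * τ) * (0 * 0 - 1 / 2 * 1) +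
        1 / (2 * τ) * (0 * 0 - 1 / 2 * 1) = -1 / (2 * τ) := by
      field_simp
      ring
    rw [this]
    exact div_ne_zero (by norm_num) h2τ
  · intro X Y Z
    have e1 : 1 / 2 * Y + 1 / 2 * Z - τ * ((-ν) * X + -1 / (2 * τ) * Y + 1 / (2 * τ) * Z +
        ν * (1 * X + 0 * Y + 0 * Z)) = Y := by
      field_simp
      ring
    have e2 : 1 / 2 * Y + 1 / 2 * Z + τ * ((-ν) * X + -1 / (2 * τ) * Y + 1 / (2 * τ) * Z +
        ν * (1 * X + 0 * Y + 0 * Z)) = Z := by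
      field_simp
      ring
    have e3 : (-ν) * X + -1 / (2 * τ) * Y + 1 / (2 * τ) * Z - x₁ * (1 * X + 0 * Y + 0 * Z) =
        -(ν + x₁) * X + -1 / (2 * τ) * Y + 1 / (2 * τ) * Z := by ring
    have e0 : (0 : K) * X + 1 / 2 * Y + 1 / 2 * Z = 1 / 2 * Y + 1 / 2 * Z := by ring
    simp only [e0, e1, e2, e3]
    ring

end Groth.Agent.Lib.Helper72.CubicForm
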