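/-
Helper72: the Hesse normal form of a smooth plane cubic over an algebraically closed field of
characteristic zero.
-/
import Mathlib
import Groth.Agent.Lib.Helper72.CubicPlaneD

set_option autoImplicit false
set_option linter.unusedSectionVars false

open MvPolynomial Finset

namespace Groth.Agent.Lib.Helper72.CubicForm

universe u
variable {K : Type u} [Field K] [IsAlgClosed K] [CharZero K]

/-- a primitive cube root of unity. -/
lemma exists_omega : ∃ ω : K, ω ^ 2 + ω + 1 = 0 := by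
  obtain ⟨ω, hω⟩ := exists_root_quadratic (1 : K) 1 1 one_ne_zero
  exact ⟨ω, by linear_combination hω⟩

lemma omega_det_ne_zero {ω : K} (hω : ω ^ 2 + ω + 1 = 0) :
    (1 : K) * (ω ^ 2 * ω ^ 2 - ω * ω) - 1 * (1 * ω ^ 2 - ω * 1) + 1 * (1 * ω - ω ^ 2 * 1) ≠ 0 := by
  intro h
  have h' : 6 * ω + 3 = 0 := by linear_combination h - (-3 - ω + ω ^ 2) * hω
  have : (3 : K) = 0 := by linear_combination 4 * hω - ((2 * ω + 1) / 3) * h'
  exact three_ne_zero this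

lemma omega_prod {ω : K} (hω : ω ^ 2 + ω + 1 = 0) (x y z : K) :
    (x + y + z) * (x + ω ^ 2 * y + ω * z) * (x + ω * y + ω ^ 2 * z) =
      x ^ 3 + y ^ 3 + z ^ 3 - 3 * x * y * z := by
  linear_combination (3*x*y*z - x*y*z*ω + x*y*z*ω^2 + x*y^2*ω + x*z^2*ω + x^2*y + x^2*z +
    y*z^2*ω^2 + y^2*z*ω^2 - y^3 + y^3*ω - z^3 + z^3*ω) * hω

/-- **Hesse normal form**. -/
theorem rep_hesse {f : MvPolynomial (Fin 3) K} (hf : f.IsHomogeneous 3) (hsm : SmoothP f) :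
    ∃ k c : K, k ^ 3 ≠ 1 ∧ c ≠ 0 ∧
      Rep f (fun x y z => c * (x ^ 3 + y ^ 3 + z ^ 3 - 3 * k * x * y * z)) := by
  obtain ⟨κ, A, α₁, α₂, α₃, hκ, hA, hrep⟩ := rep_second_form hf hsm
  have hα₁ : α₁ ≠ 0 := by
    intro h0
    refine Rep.not_sing hf hsm hrep 1 0 0 (fun h => one_ne_zero h.1) ?_
    intro q₀ q₁ q₂
    refine ⟨A * q₁ * q₂, κ * (α₂ * q₁ + α₃ * q₂) ^ 3 + A * q₀ * q₁ * q₂, fun t => ?_⟩
    simp only [h0]
    ring
  have hα₂ : α₂ ≠ 0 := by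
    intro h0
    refine Rep.not_sing hf hsm hrep 0 1 0 (fun h => one_ne_zero h.2.1) ?_
    intro q₀ q₁ q₂
    refine ⟨A * q₀ * q₂, κ * (α₁ * q₀ + α₃ * q₂) ^ 3 + A * q₀ * q₁ * q₂, fun t => ?_⟩
    simp only [h0]
    ring
  have hα₃ : α₃ ≠ 0 := by
    intro h0
    refine Rep.not_sing hf hsm hrep 0 0 1 (fun h => one_ne_zero h.2.2) ?_
    intro q₀ q₁ q₂
    refine ⟨A * q₀ * q₁, κ * (α₁ * q₀ + α₂ * q₁) ^ 3 + A * q₀ * q₁ * q₂, fun t => ?_⟩
    simp only [h0]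
    ring
  obtain ⟨ρ, hρ⟩ := IsAlgClosed.exists_pow_nat_eq (α₁ * α₂ * α₃) (by norm_num : 0 < 3)
  have hρ0 : ρ ≠ 0 := by
    intro h0
    rw [h0] at hρ
    have : α₁ * α₂ * α₃ = 0 := by rw [← hρ]; ring
    exact mul_ne_zero (mul_ne_zero hα₁ hα₂) hα₃ this
  -- diagonal rescaling
  have hscale : ρ / α₁ * (ρ / α₂) * (ρ / α₃) = 1 := by
    field_simp
    linear_combination hρ
  have hrep2 : Rep f (fun X Y Z => κ * ρ ^ 3 * (X + Y + Z) ^ 3 + A * X * Y * Z) := by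
    refine (hrep.change3 (ρ / α₁) 0 0 0 (ρ / α₂) 0 0 0 (ρ / α₃) ?_).congr ?_
    · have : ρ / α₁ * (ρ / α₂ * (ρ / α₃) - 0 * 0) - 0 * (0 * (ρ / α₃) - 0 * 0) +
          0 * (0 * 0 - ρ / α₂ * 0) = 1 := by linear_combination hscale
      rw [this]
      exact one_ne_zero
    · intro X Y Z
      have e1 : α₁ * (ρ / α₁ * X + 0 * Y + 0 * Z) + α₂ * (0 * X + ρ / α₂ * Y + 0 * Z) +
          α₃ * (0 * X + 0 * Y + ρ / α₃ * Z) = ρ * (X + Y + Z) := by
        field_simp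
        ring
      rw [e1]
      linear_combination (A * X * Y * Z) * hscale
  -- Fourier change of coordinates
  obtain ⟨ω, hω⟩ := exists_omega (K := K)
  have hrep3 : Rep f (fun x y z => (27 * κ * ρ ^ 3 + A) * x ^ 3 +
      A * (y ^ 3 + z ^ 3 - 3 * x * y * z)) := by
    refine (hrep2.change3 1 1 1 1 (ω ^ 2) ω 1 ω (ω ^ 2) (omega_det_ne_zero hω)).congr ?_
    intro x y z
    have e1 : (1 * x + 1 * y + 1 * z) + (1 * x + ω ^ 2 * y + ω * z) + (1 * x + ω * y + ω ^ 2 * z)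
        = 3 * x + (y + z) * (ω ^ 2 + ω + 1) := by ring
    have e2 : A * (1 * x + 1 * y + 1 * z) * (1 * x + ω ^ 2 * y + ω * z) *
        (1 * x + ω * y + ω ^ 2 * z) = A * (x ^ 3 + y ^ 3 + z ^ 3 - 3 * x * y * z) := by
      rw [← omega_prod hω x y z]
      ring
    rw [e1, e2, hω]
    ring
  have hD : 27 * κ * ρ ^ 3 + A ≠ 0 := by
    intro h0
    refine Rep.not_sing hf hsm hrep3 1 0 0 (fun h => one_ne_zero h.1) ?_
    intro q₀ q₁ q₂
    refine ⟨-3 * A * q₁ * q₂, A * (q₁ ^ 3 + q₂ ^ 3 - 3 * q₀ * q₁ * q₂), fun t => ?_⟩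
    simp only [h0]
    ring
  obtain ⟨k, hk⟩ := IsAlgClosed.exists_pow_nat_eq (A / (27 * κ * ρ ^ 3 + A)) (by norm_num : 0 < 3)
  have hk' : (27 * κ * ρ ^ 3 + A) * k ^ 3 = A := by rw [hk]; field_simp
  have hk0 : k ≠ 0 := by
    intro h0
    rw [h0] at hk'
    apply hA
    rw [← hk']
    ring
  refine ⟨k, A, ?_, hA, ?_⟩
  · intro h1
    rw [h1, mul_one] at hk'
    have : κ * ρ ^ 3 = 0 := by linear_combination (1 / 27 : K) * hk'
    exact mul_ne_zero hκ (pow_ne_zero 3 hρ0) this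
  · refine (hrep3.change3 k 0 0 0 1 0 0 0 1 ?_).congr ?_
    · have : k * (1 * 1 - 0 * 0) - 0 * (0 * 1 - 0 * 0) + 0 * (0 * 0 - 1 * 0) = k := by ring
      rw [this]
      exact hk0
    · intro x y z
      linear_combination (x ^ 3) * hk'

end Groth.Agent.Lib.Helper72.CubicForm
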