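/-
Helper72: flexes of smooth plane cubics over `ℂ`: transport along coordinate changes, the
automorphisms of the Hesse cubic permuting its nine flexes transitively.
-/
import Mathlib
import Groth.Agent.Lib.Helper72.CubicPlaneE
import Groth.Agent.S18404

set_option autoImplicit false
set_option linter.unusedSectionVars false

open MvPolynomial Finset

namespace Groth.Agent.Lib.Helper72.CubicForm

/-- `v` is a flex of the plane curve of `g`. -/
def IsFlexP {K : Type*} [Field K] (g : MvPolynomial (Fin 3) K) (v : Fin 3 → K) : Prop :=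
  v ≠ 0 ∧ eval v g = 0 ∧
    ∃ w : Fin 3 → K, LinearIndependent K ![v, w] ∧ ∀ t : K, eval (v + t • w) g = t ^ 3 * eval w g

/-- flexes are carried to flexes by an invertible linear change of coordinates. -/
lemma IsFlexP.map {K : Type*} [Field K] {f g : MvPolynomial (Fin 3) K}
    {M : Matrix (Fin 3) (Fin 3) K} (hM : M.det ≠ 0) {c : K}
    (h : ∀ x, eval (M.mulVec x) f = c * eval x g) {u : Fin 3 → K} (hu : IsFlexP g u) :
    IsFlexP f (M.mulVec u) := by
  obtain ⟨hu0, hgu, w, hli, hw⟩ := hu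
  refine ⟨?_, ?_, M.mulVec w, ?_, ?_⟩
  · intro h0
    exact hu0 (Matrix.eq_zero_of_mulVec_eq_zero hM h0)
  · rw [h, hgu, mul_zero]
  · have hker : LinearMap.ker M.mulVecLin = ⊥ := by
      rw [LinearMap.ker_eq_bot']
      intro x hx
      exact Matrix.eq_zero_of_mulVec_eq_zero hM hx
    have := hli.map' M.mulVecLin hker
    have h2 : (M.mulVecLin ∘ ![u, w]) = ![M.mulVec u, M.mulVec w] := by
      funext i
      fin_cases i <;> rfl
    rw [← h2]
    exact this
  · intro t
    rw [← Matrix.mulVec_smul, ← Matrix.mulVec_add, h, hw, h]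
    ring

/-- the Hesse cubic as a function. -/
def hesseFn (k : ℂ) (u : Fin 3 → ℂ) : ℂ :=
  u 0 ^ 3 + u 1 ^ 3 + u 2 ^ 3 - 3 * k * u 0 * u 1 * u 2

lemma eval_hesse (k : ℂ) (u : Fin 3 → ℂ) : eval u (HesseCubic.form k) = hesseFn k u := by
  simp only [HesseCubic.form, hesseFn, map_mul, map_sub, map_add, map_pow, eval_C, eval_X]
  ring

/-- every flex of the Hesse cubic is carried to the flex `(0, 1, -1)` by an automorphism. -/
lemma hesse_to_base (k : ℂ) {γ c₁ : ℂ} (hγ : γ ^ 3 = 1) {u : Fin 3 → ℂ}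
    (hu : u = c₁ • ![0, 1, -γ] ∨ u = c₁ • ![-γ, 0, 1] ∨ u = c₁ • ![1, -γ, 0]) :
    ∃ B : Matrix (Fin 3) (Fin 3) ℂ, B.det ≠ 0 ∧ (∀ x, hesseFn k (B.mulVec x) = hesseFn k x) ∧
      B.mulVec u = (c₁ * γ ^ 2) • ![0, 1, -1] := by
  have hγ' : γ ^ 3 - 1 = 0 := by rw [hγ]; ring
  rcases hu with rfl | rfl | rfl
  · refine ⟨!![1, 0, 0; 0, γ ^ 2, 0; 0, 0, γ], ?_, ?_, ?_⟩
    · rw [Matrix.det_fin_three]
      simp
      intro h
      rw [h] at hγ
      norm_num at hγ
    · intro x
      simp only [hesseFn, Matrix.mulVec, dotProduct, Fin.sum_univ_three, Matrix.of_apply,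
        Matrix.cons_val', Matrix.cons_val_zero, Matrix.cons_val_one, Matrix.cons_val_two,
        Matrix.empty_val', Matrix.cons_val_fin_one, Matrix.tail_cons, Matrix.vecHead]
      linear_combination (-3 * k * x 0 * x 1 * x 2 + x 1 ^ 3 + x 1 ^ 3 * γ ^ 3 + x 2 ^ 3) * hγ'
    · funext i
      fin_cases i
      · simp [Matrix.mulVec, dotProduct, Fin.sum_univ_three]
      · simp [Matrix.mulVec, dotProduct, Fin.sum_univ_three]; ring
      · simp [Matrix.mulVec, dotProduct, Fin.sum_univ_three]; ring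
  · refine ⟨!![0, 1, 0; 0, 0, γ ^ 2; γ, 0, 0], ?_, ?_, ?_⟩
    · rw [Matrix.det_fin_three]
      simp
      intro h
      rw [h] at hγ
      norm_num at hγ
    · intro x
      simp only [hesseFn, Matrix.mulVec, dotProduct, Fin.sum_univ_three, Matrix.of_apply,
        Matrix.cons_val', Matrix.cons_val_zero, Matrix.cons_val_one, Matrix.cons_val_two,
        Matrix.empty_val', Matrix.cons_val_fin_one, Matrix.tail_cons, Matrix.vecHead]
      linear_combination (-3 * k * x 0 * x 1 * x 2 + x 0 ^ 3 + x 2 ^ 3 + x 2 ^ 3 * γ ^ 3) * hγ'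
    · funext i
      fin_cases i
      · simp [Matrix.mulVec, dotProduct, Fin.sum_univ_three]
      · simp [Matrix.mulVec, dotProduct, Fin.sum_univ_three]; ring
      · simp [Matrix.mulVec, dotProduct, Fin.sum_univ_three]; ring
  · refine ⟨!![0, 0, 1; γ ^ 2, 0, 0; 0, γ, 0], ?_, ?_, ?_⟩
    · rw [Matrix.det_fin_three]
      simp
      intro h
      rw [h] at hγ
      norm_num at hγ
    · intro x
      simp only [hesseFn, Matrix.mulVec, dotProduct, Fin.sum_univ_three, Matrix.of_apply,
        Matrix.cons_val', Matrix.cons_val_zero, Matrix.cons_val_one, Matrix.cons_val_two,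
        Matrix.empty_val', Matrix.cons_val_fin_one, Matrix.tail_cons, Matrix.vecHead]
      linear_combination (-3 * k * x 0 * x 1 * x 2 + x 0 ^ 3 + x 0 ^ 3 * γ ^ 3 + x 1 ^ 3) * hγ'
    · funext i
      fin_cases i
      · simp [Matrix.mulVec, dotProduct, Fin.sum_univ_three]
      · simp [Matrix.mulVec, dotProduct, Fin.sum_univ_three]; ring
      · simp [Matrix.mulVec, dotProduct, Fin.sum_univ_three]; ring

end Groth.Agent.Lib.Helper72.CubicForm
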