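/-
Helper72: the stabiliser of the flex `(0, 1, -1)` in the group of linear automorphisms of a general
Hesse cubic.
-/
import Mathlib
import Groth.Agent.Lib.Helper72.CubicHesseA
import Groth.Agent.Lib.Helper72.CubicPlaneF

set_option autoImplicit false
set_option linter.unusedSectionVars false

open MvPolynomial Finset

namespace Groth.Agent.Lib.Helper72.CubicForm

/-- Weierstrass coordinates of the Hesse cubic at its flex `(0, 1, -1)`. -/
def hesseE (k : ℂ) : Matrix (Fin 3) (Fin 3) ℂ :=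
  !![-2, 0, 6 * k ^ 2; k, 1, k ^ 3 - 4; k, -1, k ^ 3 - 4]

lemma hesseE_mulVec (k : ℂ) (v : Fin 3 → ℂ) :
    (hesseE k).mulVec v = ![-2 * v 0 + 6 * k ^ 2 * v 2, k * v 0 + v 1 + (k ^ 3 - 4) * v 2,
      k * v 0 - v 1 + (k ^ 3 - 4) * v 2] := by
  funext i
  fin_cases i
  · simp [hesseE, Matrix.mulVec, dotProduct, Fin.sum_univ_three]
  · simp [hesseE, Matrix.mulVec, dotProduct, Fin.sum_univ_three]
  · simp [hesseE, Matrix.mulVec, dotProduct, Fin.sum_univ_three]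
    ring

lemma hesseE_det (k : ℂ) : (hesseE k).det = 16 * (1 - k ^ 3) := by
  rw [hesseE, Matrix.det_fin_three]
  simp
  ring

lemma hesseFn_hesseE (k : ℂ) (v : Fin 3 → ℂ) :
    hesseFn k ((hesseE k).mulVec v) =
      Gw (8 * (k ^ 3 - 1)) (24 * (k ^ 3 - 1)) (-24 * k * (k ^ 3 - 1) * (k ^ 3 + 8))
        (-16 * (k ^ 3 - 1) * (k ^ 6 - 20 * k ^ 3 - 8)) (v 0) (v 1) (v 2) := by
  rw [hesseE_mulVec]
  simp only [hesseFn, Gw, Matrix.cons_val_zero, Matrix.cons_val_one, Matrix.cons_val_two,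
    Matrix.head_cons, Matrix.tail_cons]
  ring

/-- the harmonic homology at the flex `(0, 1, -1)`, normalised to determinant one. -/
def hesseN : Matrix (Fin 3) (Fin 3) ℂ := !![-1, 0, 0; 0, 0, -1; 0, -1, 0]

/-- the stabiliser of the flex `(0, 1, -1)`. -/
theorem hesse_stab {k : ℂ} (hk0 : k ≠ 0) (hk1 : k ^ 3 ≠ 1) (hk8 : k ^ 3 + 8 ≠ 0)
    (hk6 : k ^ 6 - 20 * k ^ 3 - 8 ≠ 0) (A' : Matrix (Fin 3) (Fin 3) ℂ) (hdet : A'.det ≠ 0)
    {c d : ℂ} (hfix : A'.mulVec ![0, 1, -1] = d • ![0, 1, -1])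
    (hA' : ∀ x, hesseFn k (A'.mulVec x) = c * hesseFn k x) :
    ∃ a : ℂ, A' = a • (1 : Matrix (Fin 3) (Fin 3) ℂ) ∨ A' = a • hesseN := by
  have hs : k ^ 3 - 1 ≠ 0 := sub_ne_zero.2 hk1
  have hEdet : (hesseE k).det ≠ 0 := by
    rw [hesseE_det]
    refine mul_ne_zero (by norm_num) ?_
    intro h
    apply hs
    linear_combination -h
  set E := hesseE k with hE
  have hEi : E * E⁻¹ = 1 := Matrix.mul_nonsing_inv E (isUnit_iff_ne_zero.2 hEdet)
  have hEi' : E⁻¹ * E = 1 := Matrix.nonsing_inv_mul E (isUnit_iff_ne_zero.2 hEdet)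
  set M : Matrix (Fin 3) (Fin 3) ℂ := E⁻¹ * A' * E with hM
  have hMdet : M.det ≠ 0 := by
    rw [hM, Matrix.det_mul, Matrix.det_mul]
    have : E⁻¹.det ≠ 0 := by
      intro h
      have := congrArg Matrix.det hEi
      rw [Matrix.det_mul, h, mul_zero, Matrix.det_one] at this
      exact zero_ne_one this
    exact mul_ne_zero (mul_ne_zero this hdet) hEdet
  have hEM : E * M = A' * E := by
    rw [hM, ← Matrix.mul_assoc, ← Matrix.mul_assoc, hEi, Matrix.one_mul]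
  -- `M` fixes `(0, 1, 0)`
  have hEe1 : E.mulVec ![0, 1, 0] = ![0, 1, -1] := by
    rw [hE, hesseE_mulVec]
    funext i
    fin_cases i <;> simp
  have hMe1 : M.mulVec ![0, 1, 0] = d • ![0, 1, 0] := by
    rw [hM, ← Matrix.mulVec_mulVec, ← Matrix.mulVec_mulVec, hEe1, hfix, Matrix.mulVec_smul,
      ← hEe1, Matrix.mulVec_mulVec, hEi', Matrix.one_mulVec]
  have hM01 : M 0 1 = 0 := by
    have := congrFun hMe1 0
    simpa [Matrix.mulVec, dotProduct, Fin.sum_univ_three] using this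
  have hM21 : M 2 1 = 0 := by
    have := congrFun hMe1 2
    simpa [Matrix.mulVec, dotProduct, Fin.sum_univ_three] using this
  -- `M` preserves the Weierstrass cubic
  have hG : ∀ x y z : ℂ, Gw (8 * (k ^ 3 - 1)) (24 * (k ^ 3 - 1))
      (-24 * k * (k ^ 3 - 1) * (k ^ 3 + 8)) (-16 * (k ^ 3 - 1) * (k ^ 6 - 20 * k ^ 3 - 8))
      (M 0 0 * x + M 0 2 * z) (M 1 0 * x + M 1 1 * y + M 1 2 * z) (M 2 0 * x + M 2 2 * z) =
      c * Gw (8 * (k ^ 3 - 1)) (24 * (k ^ 3 - 1))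
      (-24 * k * (k ^ 3 - 1) * (k ^ 3 + 8)) (-16 * (k ^ 3 - 1) * (k ^ 6 - 20 * k ^ 3 - 8))
      x y z := by
    intro x y z
    have h1 := hesseFn_hesseE k (M.mulVec ![x, y, z])
    rw [Matrix.mulVec_mulVec, hEM, ← Matrix.mulVec_mulVec, hA', hesseFn_hesseE] at h1
    have e0 : M.mulVec ![x, y, z] 0 = M 0 0 * x + M 0 2 * z := by
      simp [Matrix.mulVec, dotProduct, Fin.sum_univ_three, hM01]
    have e1 : M.mulVec ![x, y, z] 1 = M 1 0 * x + M 1 1 * y + M 1 2 * z := by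
      simp [Matrix.mulVec, dotProduct, Fin.sum_univ_three]
    have e2 : M.mulVec ![x, y, z] 2 = M 2 0 * x + M 2 2 * z := by
      simp [Matrix.mulVec, dotProduct, Fin.sum_univ_three, hM21]
    rw [e0, e1, e2] at h1
    simpa using h1.symm
  have hdet3 : M 0 0 * M 1 1 * M 2 2 - M 0 2 * M 1 1 * M 2 0 ≠ 0 := by
    intro h0
    apply hMdet
    rw [Matrix.det_fin_three, hM01, hM21]
    linear_combination h0
  obtain ⟨h02, h10, h12, h20, h00, h11⟩ := weier_stab (mul_ne_zero (by norm_num) hs)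
    (mul_ne_zero (by norm_num) hs)
    (mul_ne_zero (mul_ne_zero (mul_ne_zero (by norm_num) hk0) hs) hk8)
    (mul_ne_zero (mul_ne_zero (by norm_num) hs) hk6) hdet3 hG
  -- back to `A'`
  have hA'E : A' = E * M * E⁻¹ := by
    rw [hEM, Matrix.mul_assoc, hEi, Matrix.mul_one]
  rcases h11 with h11 | h11
  · obtain ⟨a, ha⟩ : ∃ a, M 2 2 = a := ⟨_, rfl⟩
    refine ⟨a, Or.inl ?_⟩
    have hMs : M = a • (1 : Matrix (Fin 3) (Fin 3) ℂ) := by
      ext i j
      fin_cases i <;> fin_cases j <;> simp [h02, h10, h12, h20, h00, h11, hM01, hM21, ha]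
    rw [hA'E, hMs, Matrix.mul_smul, Matrix.mul_one, Matrix.smul_mul, hEi]
  · obtain ⟨a, ha⟩ : ∃ a, M 2 2 = a := ⟨_, rfl⟩
    refine ⟨-a, Or.inr ?_⟩
    have hMs : E * M = (-a) • (hesseN * E) := by
      ext i j
      fin_cases i <;> fin_cases j <;>
        simp [Matrix.mul_apply, Fin.sum_univ_three, hE, hesseE, hesseN, h02, h10, h12, h20, h00,
          h11, hM01, hM21, ha] <;> ring
    rw [hA'E, hMs, Matrix.smul_mul, Matrix.mul_assoc, hEi, Matrix.mul_one]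

end Groth.Agent.Lib.Helper72.CubicForm
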