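/-
Helper72: the 54 linear automorphisms of determinant one of a general Hesse cubic: the explicit
family and its basic properties.
-/
import Mathlib
import Groth.Agent.Lib.Helper72.CubicHesseB

set_option autoImplicit false
set_option linter.unusedSectionVars false

open MvPolynomial Finset

namespace Groth.Agent.Lib.Helper72.CubicForm

/-- the diagonal automorphism `diag(1, u, u²)`. -/
def hesseT (u : ℂ) : Matrix (Fin 3) (Fin 3) ℂ := !![1, 0, 0; 0, u, 0; 0, 0, u ^ 2]

/-- the cyclic permutations of the coordinates. -/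
def hesseS : Fin 3 → Matrix (Fin 3) (Fin 3) ℂ
  | 0 => 1
  | 1 => !![0, 0, 1; 1, 0, 0; 0, 1, 0]
  | 2 => !![0, 1, 0; 0, 0, 1; 1, 0, 0]

/-- the powers of the normalised harmonic homology. -/
def hesseNpow : Fin 2 → Matrix (Fin 3) (Fin 3) ℂ
  | 0 => 1
  | 1 => hesseN

/-- the family of 54 matrices. -/
def hessePhi (ω : ℂ) (p : Fin 3 × Fin 3 × Fin 3 × Fin 2) : Matrix (Fin 3) (Fin 3) ℂ :=
  (ω ^ (p.1 : ℕ)) • (hesseT (ω ^ (p.2.1 : ℕ)) * hesseS p.2.2.1 * hesseNpow p.2.2.2)

lemma hesseT_mulVec (u : ℂ) (x : Fin 3 → ℂ) :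
    (hesseT u).mulVec x = ![x 0, u * x 1, u ^ 2 * x 2] := by
  funext i
  fin_cases i <;> simp [hesseT, Matrix.mulVec, dotProduct, Fin.sum_univ_three]

lemma hesseS_mulVec (c : Fin 3) (x : Fin 3 → ℂ) :
    (hesseS c).mulVec x =
      if c = 0 then x else if c = 1 then ![x 2, x 0, x 1] else ![x 1, x 2, x 0] := by
  fin_cases c
  · simp [hesseS]
  · funext i
    fin_cases i <;> simp [hesseS, Matrix.mulVec, dotProduct, Fin.sum_univ_three]
  · funext i
    fin_cases i <;> simp [hesseS, Matrix.mulVec, dotProduct, Fin.sum_univ_three]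

lemma hesseN_mulVec (x : Fin 3 → ℂ) : hesseN.mulVec x = ![-x 0, -x 2, -x 1] := by
  funext i
  fin_cases i <;> simp [hesseN, Matrix.mulVec, dotProduct, Fin.sum_univ_three]

lemma hesseT_det {u : ℂ} (hu : u ^ 3 = 1) : (hesseT u).det = 1 := by
  rw [hesseT, Matrix.det_fin_three]
  simp
  linear_combination hu

lemma hesseS_det (c : Fin 3) : (hesseS c).det = 1 := by
  fin_cases c
  · simp [hesseS]
  · simp [hesseS, Matrix.det_fin_three]
  · simp [hesseS, Matrix.det_fin_three]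

lemma hesseN_det : hesseN.det = 1 := by
  simp [hesseN, Matrix.det_fin_three]

lemma hesseNpow_det (e : Fin 2) : (hesseNpow e).det = 1 := by
  fin_cases e
  · simp [hesseNpow]
  · exact hesseN_det

lemma hesseFn_T (k : ℂ) {u : ℂ} (hu : u ^ 3 = 1) (x : Fin 3 → ℂ) :
    hesseFn k ((hesseT u).mulVec x) = hesseFn k x := by
  rw [hesseT_mulVec]
  simp only [hesseFn, Matrix.cons_val_zero, Matrix.cons_val_one, Matrix.cons_val_two,
    Matrix.head_cons, Matrix.tail_cons]
  linear_combination (x 1 ^ 3 + (u ^ 3 + 1) * x 2 ^ 3 - 3 * k * x 0 * x 1 * x 2) * hu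

lemma hesseFn_S (k : ℂ) (c : Fin 3) (x : Fin 3 → ℂ) :
    hesseFn k ((hesseS c).mulVec x) = hesseFn k x := by
  rw [hesseS_mulVec]
  fin_cases c
  · simp
  · simp only [hesseFn]
    simp
    ring
  · simp only [hesseFn]
    simp
    ring

lemma hesseFn_N (k : ℂ) (x : Fin 3 → ℂ) :
    hesseFn k (hesseN.mulVec x) = -hesseFn k x := by
  rw [hesseN_mulVec]
  simp only [hesseFn, Matrix.cons_val_zero, Matrix.cons_val_one, Matrix.cons_val_two,
    Matrix.head_cons, Matrix.tail_cons]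
  ring

lemma hesseFn_Npow (k : ℂ) (e : Fin 2) (x : Fin 3 → ℂ) :
    hesseFn k ((hesseNpow e).mulVec x) = (-1) ^ (e : ℕ) * hesseFn k x := by
  fin_cases e
  · simp [hesseNpow]
  · simp [hesseNpow, hesseFn_N]

lemma hesseFn_smul (k a : ℂ) (x : Fin 3 → ℂ) : hesseFn k (a • x) = a ^ 3 * hesseFn k x := by
  simp only [hesseFn, Pi.smul_apply, smul_eq_mul]
  ring

/-- the members of the family have determinant one. -/
lemma hessePhi_det {ω : ℂ} (hω3 : ω ^ 3 = 1) (p : Fin 3 × Fin 3 × Fin 3 × Fin 2) :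
    (hessePhi ω p).det = 1 := by
  unfold hessePhi
  rw [Matrix.det_smul, Matrix.det_mul, Matrix.det_mul, hesseS_det, hesseNpow_det,
    hesseT_det (by rw [← pow_mul, mul_comm, pow_mul, hω3, one_pow])]
  simp only [Fintype.card_fin, mul_one]
  rw [← pow_mul, mul_comm, pow_mul, hω3, one_pow]

/-- the members of the family are automorphisms of every Hesse cubic. -/
lemma hessePhi_aut {ω : ℂ} (hω3 : ω ^ 3 = 1) (k : ℂ) (p : Fin 3 × Fin 3 × Fin 3 × Fin 2)
    (x : Fin 3 → ℂ) :
    hesseFn k ((hessePhi ω p).mulVec x) = (-1) ^ (p.2.2.2 : ℕ) * hesseFn k x := by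
  unfold hessePhi
  rw [Matrix.smul_mulVec, hesseFn_smul, ← Matrix.mulVec_mulVec, ← Matrix.mulVec_mulVec,
    hesseFn_T k (by rw [← pow_mul, mul_comm, pow_mul, hω3, one_pow]), hesseFn_S, hesseFn_Npow,
    ← pow_mul, mul_comm (p.1 : ℕ), pow_mul, hω3, one_pow, one_mul]

/-- the image of the base flex `(0, 1, -1)`. -/
lemma hesseTS_base (u : ℂ) (c : Fin 3) :
    (hesseT u * hesseS c).mulVec ![0, 1, -1] =
      if c = 0 then ![0, u, -u ^ 2] else if c = 1 then ![-1, 0, u ^ 2] else ![1, -u, 0] := by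
  rw [← Matrix.mulVec_mulVec, hesseS_mulVec, hesseT_mulVec]
  fin_cases c
  · funext i; fin_cases i <;> simp
  · funext i; fin_cases i <;> simp
  · funext i; fin_cases i <;> simp

lemma hesseNpow_base (e : Fin 2) : (hesseNpow e).mulVec ![0, 1, -1] = ![0, 1, -1] := by
  fin_cases e
  · simp [hesseNpow]
  · simp only [hesseNpow]
    rw [hesseN_mulVec]
    funext i; fin_cases i <;> simp

end Groth.Agent.Lib.Helper72.CubicForm
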