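/-
Helper72: the projective automorphisms of a smooth plane cubic over `ℂ` act transitively and
faithfully on its flexes.
-/
import Mathlib
import Groth.Agent.Lib.Helper72.CubicPlaneF

set_option autoImplicit false
set_option linter.unusedSectionVars false

open MvPolynomial Finset

namespace Groth.Agent.Lib.Helper72.CubicForm

lemma smul_vec_ne_zero {c : ℂ} {P u : Fin 3 → ℂ} (hu : u ≠ 0) (h : u = c • P) : c ≠ 0 := by
  intro h0
  apply hu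
  rw [h, h0, zero_smul]

lemma cube_root_ne_zero {γ : ℂ} (hγ : γ ^ 3 = 1) : γ ≠ 0 := by
  intro h
  rw [h] at hγ
  norm_num at hγ

/-- Hesse coordinates of a smooth plane cubic, packaged with the inverse matrix. -/
lemma exists_hesse_coords {f : MvPolynomial (Fin 3) ℂ} (hf : f.IsHomogeneous 3)
    (hsm : SmoothP f) :
    ∃ (k c : ℂ) (E : Matrix (Fin 3) (Fin 3) ℂ), k ^ 3 ≠ 1 ∧ c ≠ 0 ∧ E.det ≠ 0 ∧ E⁻¹.det ≠ 0 ∧
      E * E⁻¹ = 1 ∧ E⁻¹ * E = 1 ∧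
      (∀ u, eval (E.mulVec u) f = c * eval u (HesseCubic.form k)) ∧
      (∀ y, eval (E⁻¹.mulVec y) (HesseCubic.form k) = c⁻¹ * eval y f) := by
  obtain ⟨k, c, hk, hc, E, hE, hrep⟩ := rep_hesse hf hsm
  have hEi : E * E⁻¹ = 1 := Matrix.mul_nonsing_inv E (isUnit_iff_ne_zero.2 hE)
  have hEi' : E⁻¹ * E = 1 := Matrix.nonsing_inv_mul E (isUnit_iff_ne_zero.2 hE)
  have hEidet : E⁻¹.det ≠ 0 := by
    intro h
    have := congrArg Matrix.det hEi
    rw [Matrix.det_mul, h, mul_zero, Matrix.det_one] at this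
    exact zero_ne_one this
  have hrep' : ∀ u, eval (E.mulVec u) f = c * eval u (HesseCubic.form k) := by
    intro u
    rw [hrep, eval_hesse]
    rfl
  refine ⟨k, c, E, hk, hc, hE, hEidet, hEi, hEi', hrep', fun y => ?_⟩
  have := hrep' (E⁻¹.mulVec y)
  rw [Matrix.mulVec_mulVec, hEi, Matrix.one_mulVec] at this
  rw [this]
  field_simp

/-- transitivity of the automorphism group on the flexes. -/
theorem flex_transitive {f : MvPolynomial (Fin 3) ℂ} (hf : f.IsHomogeneous 3) (hsm : SmoothP f)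
    {v v' : Fin 3 → ℂ} (hv : IsFlexP f v) (hv' : IsFlexP f v') :
    ∃ A : Matrix (Fin 3) (Fin 3) ℂ, A.det ≠ 0 ∧ (∀ x, eval (A.mulVec x) f = eval x f) ∧
      ∃ d : ℂ, A.mulVec v = d • v' := by
  obtain ⟨k, c, E, hk, hc, hE, hEidet, hEi, hEi', hrep, hinv⟩ := exists_hesse_coords hf hsm
  have hu := hv.map hEidet hinv
  have hu' := hv'.map hEidet hinv
  obtain ⟨γ, c₁, hγ, hcase⟩ := (Groth.Agent.S18404.result k hk _ hu.1 hu.2.1).1 hu.2.2
  obtain ⟨γ', c₂, hγ', hcase'⟩ := (Groth.Agent.S18404.result k hk _ hu'.1 hu'.2.1).1 hu'.2.2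
  obtain ⟨B₁, hB₁det, hB₁inv, hB₁u⟩ := hesse_to_base k hγ hcase
  obtain ⟨B₂, hB₂det, hB₂inv, hB₂u⟩ := hesse_to_base k hγ' hcase'
  have hc₂ : c₂ ≠ 0 := by
    rcases hcase' with h | h | h
    · exact smul_vec_ne_zero hu'.1 h
    · exact smul_vec_ne_zero hu'.1 h
    · exact smul_vec_ne_zero hu'.1 h
  have hd₂ : c₂ * γ' ^ 2 ≠ 0 := mul_ne_zero hc₂ (pow_ne_zero 2 (cube_root_ne_zero hγ'))
  have hB₂i : B₂ * B₂⁻¹ = 1 := Matrix.mul_nonsing_inv B₂ (isUnit_iff_ne_zero.2 hB₂det)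
  have hB₂i' : B₂⁻¹ * B₂ = 1 := Matrix.nonsing_inv_mul B₂ (isUnit_iff_ne_zero.2 hB₂det)
  have hB₂idet : B₂⁻¹.det ≠ 0 := by
    intro h
    have := congrArg Matrix.det hB₂i
    rw [Matrix.det_mul, h, mul_zero, Matrix.det_one] at this
    exact zero_ne_one this
  refine ⟨E * (B₂⁻¹ * B₁) * E⁻¹, ?_, ?_, (c₁ * γ ^ 2) * (c₂ * γ' ^ 2)⁻¹, ?_⟩
  · rw [Matrix.det_mul, Matrix.det_mul, Matrix.det_mul]
    exact mul_ne_zero (mul_ne_zero hE (mul_ne_zero hB₂idet hB₁det)) hEidet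
  · intro x
    have e1 : (E * (B₂⁻¹ * B₁) * E⁻¹).mulVec x =
        E.mulVec (B₂⁻¹.mulVec (B₁.mulVec (E⁻¹.mulVec x))) := by
      simp only [Matrix.mulVec_mulVec, Matrix.mul_assoc]
    rw [e1, hrep, eval_hesse, ← hB₂inv, Matrix.mulVec_mulVec, hB₂i, Matrix.one_mulVec, hB₁inv,
      ← eval_hesse, hinv]
    field_simp
  · have e1 : (E * (B₂⁻¹ * B₁) * E⁻¹).mulVec v =
        E.mulVec (B₂⁻¹.mulVec (B₁.mulVec (E⁻¹.mulVec v))) := by
      simp only [Matrix.mulVec_mulVec, Matrix.mul_assoc]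
    have e2 : B₂⁻¹.mulVec ![0, 1, -1] = (c₂ * γ' ^ 2)⁻¹ • E⁻¹.mulVec v' := by
      have : ![0, 1, -1] = (c₂ * γ' ^ 2)⁻¹ • B₂.mulVec (E⁻¹.mulVec v') := by
        rw [hB₂u, smul_smul, inv_mul_cancel₀ hd₂, one_smul]
      rw [this, Matrix.mulVec_smul, Matrix.mulVec_mulVec, hB₂i', Matrix.one_mulVec]
    rw [e1, hB₁u, Matrix.mulVec_smul, e2, Matrix.mulVec_smul, Matrix.mulVec_smul,
      Matrix.mulVec_mulVec, hEi, Matrix.one_mulVec, smul_smul]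

end Groth.Agent.Lib.Helper72.CubicForm
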