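/-
Helper72: a projective automorphism of a smooth plane cubic over `ℂ` fixing every flex is trivial.
-/
import Mathlib
import Groth.Agent.Lib.Helper72.CubicPlaneG

set_option autoImplicit false
set_option linter.unusedSectionVars false

open MvPolynomial Finset

namespace Groth.Agent.Lib.Helper72.CubicForm

/-- the nine special points are flexes of the Hesse cubic. -/
lemma isFlexP_hesse {k : ℂ} (hk : k ^ 3 ≠ 1) {γ : ℂ} (hγ : γ ^ 3 = 1) {u : Fin 3 → ℂ}
    (hu0 : u ≠ 0) (hu : u = ![0, 1, -γ] ∨ u = ![-γ, 0, 1] ∨ u = ![1, -γ, 0]) :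
    IsFlexP (HesseCubic.form k) u := by
  have hγ' : γ ^ 3 - 1 = 0 := by rw [hγ]; ring
  have h0 : eval u (HesseCubic.form k) = 0 := by
    rw [eval_hesse]
    rcases hu with rfl | rfl | rfl
    · simp [hesseFn]; linear_combination (-1 : ℂ) * hγ'
    · simp [hesseFn]; linear_combination (-1 : ℂ) * hγ'
    · simp [hesseFn]; linear_combination (-1 : ℂ) * hγ'
  refine ⟨hu0, h0, (Groth.Agent.S18404.result k hk u hu0 h0).2 ⟨γ, 1, hγ, ?_⟩⟩
  rcases hu with rfl | rfl | rfl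
  · left; rw [one_smul]
  · right; left; rw [one_smul]
  · right; right; rw [one_smul]

theorem aut_fix_flexes_scalar {f : MvPolynomial (Fin 3) ℂ} (hf : f.IsHomogeneous 3)
    (hsm : SmoothP f) (A : Matrix (Fin 3) (Fin 3) ℂ)
    (hfix : ∀ v, IsFlexP f v → ∃ d : ℂ, A.mulVec v = d • v) :
    ∃ c : ℂ, A = c • (1 : Matrix (Fin 3) (Fin 3) ℂ) := by
  obtain ⟨k, c, E, hk, hc, hE, hEidet, hEi, hEi', hrep, hinv⟩ := exists_hesse_coords hf hsm
  obtain ⟨ω, hω⟩ := exists_omega (K := ℂ)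
  have hω3 : ω ^ 3 = 1 := by linear_combination (ω - 1) * hω
  have hω1 : 1 - ω ≠ 0 := by
    intro h
    have : ω = 1 := by linear_combination -h
    rw [this] at hω
    norm_num at hω
  have hω0 : ω ≠ 0 := cube_root_ne_zero hω3
  set A' : Matrix (Fin 3) (Fin 3) ℂ := E⁻¹ * A * E with hA'
  -- eigenvectors of `A'`
  have heig : ∀ u : Fin 3 → ℂ, IsFlexP (HesseCubic.form k) u → ∃ d : ℂ, A'.mulVec u = d • u := by
    intro u hu
    obtain ⟨d, hd⟩ := hfix _ (hu.map hE hrep)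
    refine ⟨d, ?_⟩
    rw [hA', ← Matrix.mulVec_mulVec, ← Matrix.mulVec_mulVec, hd, Matrix.mulVec_smul,
      Matrix.mulVec_mulVec, hEi', Matrix.one_mulVec]
  have hne : ∀ a b c : ℂ, (a ≠ 0 ∨ b ≠ 0 ∨ c ≠ 0) → (![a, b, c] : Fin 3 → ℂ) ≠ 0 := by
    intro a b c h h0
    rcases h with h | h | h
    · exact h (by simpa using congrFun h0 0)
    · exact h (by simpa using congrFun h0 1)
    · exact h (by simpa using congrFun h0 2)
  obtain ⟨d₁, h₁⟩ := heig ![0, 1, -1] (isFlexP_hesse hk (by norm_num : (1 : ℂ) ^ 3 = 1)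
    (hne _ _ _ (Or.inr (Or.inl one_ne_zero))) (Or.inl rfl))
  obtain ⟨d₂, h₂⟩ := heig ![0, 1, -ω] (isFlexP_hesse hk hω3
    (hne _ _ _ (Or.inr (Or.inl one_ne_zero))) (Or.inl rfl))
  obtain ⟨d₃, h₃⟩ := heig ![-1, 0, 1] (isFlexP_hesse hk (by norm_num : (1 : ℂ) ^ 3 = 1)
    (hne _ _ _ (Or.inr (Or.inr one_ne_zero))) (Or.inr (Or.inl rfl)))
  obtain ⟨d₄, h₄⟩ := heig ![1, -ω, 0] (isFlexP_hesse hk hω3
    (hne _ _ _ (Or.inl one_ne_zero)) (Or.inr (Or.inr rfl)))
  -- the fourth point in terms of the first three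
  have hP₄ : (![1, -ω, 0] : Fin 3 → ℂ) =
      (ω ^ 2) • ![0, 1, -1] + (1 : ℂ) • ![0, 1, -ω] + (-1 : ℂ) • ![-1, 0, 1] := by
    funext i
    fin_cases i
    · simp
    · simp; linear_combination (-1 : ℂ) * hω
    · simp; linear_combination hω
  have hrel := h₄
  rw [hP₄, Matrix.mulVec_add, Matrix.mulVec_add, Matrix.mulVec_smul, Matrix.mulVec_smul,
    Matrix.mulVec_smul, h₁, h₂, h₃] at hrel
  have c0 := congrFun hrel 0
  have c1 := congrFun hrel 1
  have c2 := congrFun hrel 2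
  simp at c0 c1 c2
  have e3 : d₃ = d₄ := by linear_combination c0
  have e2 : d₂ = d₄ := by
    have : (1 - ω) * (d₂ - d₄) = 0 := by linear_combination c1 + c2 + e3
    have := (mul_eq_zero.1 this).resolve_left hω1
    linear_combination this
  have e1 : d₁ = d₄ := by
    have : ω ^ 2 * (d₁ - d₄) = 0 := by linear_combination c1 - e2
    have := (mul_eq_zero.1 this).resolve_left (pow_ne_zero 2 hω0)
    linear_combination this
  -- `A'` is scalar
  have hA'scal : A' = d₄ • (1 : Matrix (Fin 3) (Fin 3) ℂ) := by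
    rw [Matrix.ext_iff_mulVec]
    intro x
    have hx : x = (x 1 - (x 0 + x 1 + x 2) / (1 - ω)) • ![0, 1, -1] +
        ((x 0 + x 1 + x 2) / (1 - ω)) • ![0, 1, -ω] + (-x 0) • ![-1, 0, 1] := by
      funext i
      fin_cases i
      · simp
      · simp
      · simp
        field_simp
        ring
    rw [Matrix.smul_mulVec, Matrix.one_mulVec]
    conv_lhs => rw [hx]
    conv_rhs => rw [hx]
    rw [Matrix.mulVec_add, Matrix.mulVec_add, Matrix.mulVec_smul, Matrix.mulVec_smul,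
      Matrix.mulVec_smul, h₁, h₂, h₃, e1, e2, e3]
    simp only [smul_add, smul_smul]
    congr 2 <;> ring_nf
  refine ⟨d₄, ?_⟩
  have : A = E * A' * E⁻¹ := by
    rw [hA', Matrix.mul_assoc, Matrix.mul_assoc, hEi, Matrix.mul_one, ← Matrix.mul_assoc, hEi,
      Matrix.one_mul]
  rw [this, hA'scal, Matrix.mul_smul, Matrix.mul_one, Matrix.smul_mul, hEi]

end Groth.Agent.Lib.Helper72.CubicForm
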