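/-
Helper72: the 54 linear automorphisms of determinant one of a general Hesse cubic: the family is
injective and exhausts the automorphisms.
-/
import Mathlib
import Groth.Agent.Lib.Helper72.CubicHesseC
import Groth.Agent.Lib.Helper72.CubicPlaneH

set_option autoImplicit false
set_option linter.unusedSectionVars false

open MvPolynomial Finset

namespace Groth.Agent.Lib.Helper72.CubicForm

lemma omega_cube {ω : ℂ} (hω : ω ^ 2 + ω + 1 = 0) : ω ^ 3 = 1 := by
  linear_combination (ω - 1) * hω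

lemma omega_ne_one {ω : ℂ} (hω : ω ^ 2 + ω + 1 = 0) : ω ≠ 1 := by
  intro h
  rw [h] at hω
  norm_num at hω

lemma omega_sq_ne_one {ω : ℂ} (hω : ω ^ 2 + ω + 1 = 0) : ω ^ 2 ≠ 1 := by
  intro h
  have h2 : ω = -2 := by linear_combination hω - h
  rw [h2] at h
  norm_num at h

lemma omega_sq_ne {ω : ℂ} (hω : ω ^ 2 + ω + 1 = 0) : ω ^ 2 ≠ ω := by
  intro h
  have h3 := omega_cube hω
  have h2 : ω = 1 := by linear_combination h3 - (ω + 1) * h
  exact omega_ne_one hω h2

/-- the cube roots of unity are the powers of `ω`. -/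
lemma cube_root_eq_pow {ω : ℂ} (hω : ω ^ 2 + ω + 1 = 0) {γ : ℂ} (hγ : γ ^ 3 = 1) :
    ∃ b : Fin 3, γ = ω ^ (b : ℕ) := by
  have h : (γ - 1) * ((γ - ω) * (γ - ω ^ 2)) = 0 := by
    linear_combination hγ + (γ * ω - γ ^ 2 + 1 - ω) * hω
  rcases mul_eq_zero.1 h with h | h
  · exact ⟨0, by simpa using sub_eq_zero.1 h⟩
  · rcases mul_eq_zero.1 h with h | h
    · exact ⟨1, by simpa using sub_eq_zero.1 h⟩
    · exact ⟨2, by simpa using sub_eq_zero.1 h⟩

lemma omega_pow_inj {ω : ℂ} (hω : ω ^ 2 + ω + 1 = 0) {a b : Fin 3}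
    (h : ω ^ (a : ℕ) = ω ^ (b : ℕ)) : a = b := by
  have h1 := omega_ne_one hω
  have h2 := omega_sq_ne_one hω
  have h3 := omega_sq_ne hω
  fin_cases a <;> fin_cases b <;>
    simp only [pow_zero, pow_one] at h <;> first | rfl | exfalso
  · exact h1 h.symm
  · exact h2 h.symm
  · exact h1 h
  · exact h3 h.symm
  · exact h2 h
  · exact h3 h

lemma omega_pow_cube {ω : ℂ} (hω3 : ω ^ 3 = 1) (n : ℕ) : (ω ^ n) ^ 3 = 1 := by
  rw [← pow_mul, mul_comm, pow_mul, hω3, one_pow]

/-- the image of the base flex under a member of the family. -/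
lemma hessePhi_base (ω : ℂ) (p : Fin 3 × Fin 3 × Fin 3 × Fin 2) :
    (hessePhi ω p).mulVec ![0, 1, -1] = (ω ^ (p.1 : ℕ)) •
      (if p.2.2.1 = 0 then ![0, ω ^ (p.2.1 : ℕ), -(ω ^ (p.2.1 : ℕ)) ^ 2]
        else if p.2.2.1 = 1 then ![-1, 0, (ω ^ (p.2.1 : ℕ)) ^ 2]
        else ![1, -ω ^ (p.2.1 : ℕ), 0]) := by
  unfold hessePhi
  rw [Matrix.smul_mulVec, ← Matrix.mulVec_mulVec, hesseNpow_base, hesseTS_base]


lemma vec3_eq {a b c a' b' c' : ℂ} (h : (![a, b, c] : Fin 3 → ℂ) = ![a', b', c']) :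
    a = a' ∧ b = b' ∧ c = c' :=
  ⟨by simpa using congrFun h 0, by simpa using congrFun h 1, by simpa using congrFun h 2⟩

/-- the zero coordinate of the image of the base flex detects the permutation. -/
lemma hessePhi_base_zero_iff {ω : ℂ} (hω0 : ω ≠ 0) (p : Fin 3 × Fin 3 × Fin 3 × Fin 2)
    (i : Fin 3) : ((hessePhi ω p).mulVec ![0, 1, -1]) i = 0 ↔ i = p.2.2.1 := by
  rw [hessePhi_base]
  obtain ⟨a, b, c, e⟩ := p
  fin_cases c <;> fin_cases i <;> simp [hω0]

/-- the family is injective. -/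
theorem hessePhi_injective {ω : ℂ} (hω : ω ^ 2 + ω + 1 = 0) :
    Function.Injective (hessePhi ω) := by
  have hω3 := omega_cube hω
  have hω0 : ω ≠ 0 := cube_root_ne_zero hω3
  rintro ⟨a, b, c, e⟩ ⟨a', b', c', e'⟩ h
  have hc : c = c' := by
    have h1 := (hessePhi_base_zero_iff hω0 (a, b, c, e) c).2 rfl
    rw [h] at h1
    exact (hessePhi_base_zero_iff hω0 (a', b', c', e') c).1 h1
  subst hc
  have hb := congrArg (fun M : Matrix (Fin 3) (Fin 3) ℂ => M.mulVec ![0, 1, -1]) h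
  simp only [hessePhi_base] at hb
  have hα0 : ω ^ (a : ℕ) ≠ 0 := pow_ne_zero _ hω0
  have hα0' : ω ^ (a' : ℕ) ≠ 0 := pow_ne_zero _ hω0
  have hu0 : ω ^ (b : ℕ) ≠ 0 := pow_ne_zero _ hω0
  have hu3 : (ω ^ (b : ℕ)) ^ 3 = 1 := omega_pow_cube hω3 _
  have hu3' : (ω ^ (b' : ℕ)) ^ 3 = 1 := omega_pow_cube hω3 _
  have hab : ω ^ (a : ℕ) = ω ^ (a' : ℕ) ∧ ω ^ (b : ℕ) = ω ^ (b' : ℕ) := by
    obtain ⟨α, hα⟩ : ∃ α, ω ^ (a : ℕ) = α := ⟨_, rfl⟩
    obtain ⟨α', hα'⟩ : ∃ α, ω ^ (a' : ℕ) = α := ⟨_, rfl⟩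
    obtain ⟨u, hu⟩ : ∃ α, ω ^ (b : ℕ) = α := ⟨_, rfl⟩
    obtain ⟨u', hu'⟩ : ∃ α, ω ^ (b' : ℕ) = α := ⟨_, rfl⟩
    rw [hα, hα', hu, hu'] at hb ⊢
    rw [hα] at hα0
    rw [hα'] at hα0'
    rw [hu] at hu0 hu3
    rw [hu'] at hu3'
    fin_cases c
    · simp only [Fin.zero_eta, if_true] at hb
      have h1 := congrFun hb 1
      have h2 := congrFun hb 2
      simp at h1 h2
      have hαα : α = α' := by
        have h3 : (α - α') * (α * u ^ 2) = 0 := by
          linear_combination (α * u + α' * u') * h1 - α' * h2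
        rcases mul_eq_zero.1 h3 with h3 | h3
        · exact sub_eq_zero.1 h3
        · exact absurd h3 (mul_ne_zero hα0 (pow_ne_zero _ hu0))
      subst hαα
      exact ⟨rfl, mul_left_cancel₀ hα0 h1⟩
    · simp only [Fin.mk_one, if_true, one_ne_zero, if_false] at hb
      have h0 := congrFun hb 0
      have h2 := congrFun hb 2
      simp at h0 h2
      subst h0
      have h3 : u ^ 2 = u' ^ 2 := mul_left_cancel₀ hα0 h2
      refine ⟨rfl, ?_⟩
      linear_combination (-u) * hu3 + u' * hu3' + (u ^ 2 + u' ^ 2) * h3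
    · have h20 : (2 : Fin 3) ≠ 0 := by decide
      have h21 : (2 : Fin 3) ≠ 1 := by decide
      simp only [Fin.reduceFinMk, h20, h21, if_false] at hb
      have h0 := congrFun hb 0
      have h1 := congrFun hb 1
      simp at h0 h1
      subst h0
      exact ⟨rfl, mul_left_cancel₀ hα0 h1⟩
  obtain ⟨ha, hb'⟩ := hab
  have ha' : a = a' := omega_pow_inj hω ha
  have hb'' : b = b' := omega_pow_inj hω hb'
  subst ha' hb''
  have he : e = e' := by
    unfold hessePhi at h
    have h1 := smul_right_injective (Matrix (Fin 3) (Fin 3) ℂ) hα0 h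
    have hmdet : (hesseT (ω ^ (b : ℕ)) * hesseS c).det = 1 := by
      rw [Matrix.det_mul, hesseT_det hu3, hesseS_det, mul_one]
    have h2 : hesseNpow e = hesseNpow e' := by
      have h3 := congrArg (fun M => (hesseT (ω ^ (b : ℕ)) * hesseS c)⁻¹ * M) h1
      simp only at h3
      rwa [Matrix.nonsing_inv_mul_cancel_left _ _ (by rw [hmdet]; exact isUnit_one),
        Matrix.nonsing_inv_mul_cancel_left _ _ (by rw [hmdet]; exact isUnit_one)] at h3
    fin_cases e <;> fin_cases e'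
    · rfl
    · exfalso
      have := congrFun (congrFun h2 0) 0
      simp [hesseNpow, hesseN] at this
      norm_num at this
    · exfalso
      have := congrFun (congrFun h2 0) 0
      simp [hesseNpow, hesseN] at this
      norm_num at this
    · rfl
  subst he
  rfl


/-- the family exhausts the automorphisms of determinant one of a general Hesse cubic. -/
theorem hessePhi_surjective {ω : ℂ} (hω : ω ^ 2 + ω + 1 = 0) {k : ℂ} (hk0 : k ≠ 0)
    (hk1 : k ^ 3 ≠ 1) (hk8 : k ^ 3 + 8 ≠ 0) (hk6 : k ^ 6 - 20 * k ^ 3 - 8 ≠ 0)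
    (A : Matrix (Fin 3) (Fin 3) ℂ) (hdet : A.det = 1) {c : ℂ}
    (hA : ∀ x, hesseFn k (A.mulVec x) = c * hesseFn k x) :
    ∃ p, hessePhi ω p = A := by
  have hω3 := omega_cube hω
  have hω0 : ω ≠ 0 := cube_root_ne_zero hω3
  have hP0ne : (![0, 1, -1] : Fin 3 → ℂ) ≠ 0 := by
    intro h
    have := congrFun h 1
    simp at this
  have hP0 : IsFlexP (HesseCubic.form k) ![0, 1, -1] :=
    isFlexP_hesse hk1 (by norm_num : (1 : ℂ) ^ 3 = 1) hP0ne (Or.inl rfl)
  have hflex : IsFlexP (HesseCubic.form k) (A.mulVec ![0, 1, -1]) :=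
    IsFlexP.map (f := HesseCubic.form k) (g := HesseCubic.form k) (M := A)
      (by rw [hdet]; exact one_ne_zero) (c := c)
      (fun x => by rw [eval_hesse, eval_hesse]; exact hA x) hP0
  obtain ⟨hne, hzero, hw⟩ := hflex
  obtain ⟨γ, c₁, hγ, hfam⟩ := (Groth.Agent.S18404.result k hk1 _ hne hzero).1 hw
  have hγ' : γ ^ 3 - 1 = 0 := by rw [hγ]; ring
  obtain ⟨b, hb⟩ := cube_root_eq_pow hω hγ
  -- the translation part
  have hex : ∃ (cc : Fin 3) (d : ℂ), A.mulVec ![0, 1, -1] =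
      d • (hesseT γ * hesseS cc).mulVec ![0, 1, -1] := by
    rcases hfam with h | h | h
    · refine ⟨0, c₁ * γ ^ 2, ?_⟩
      rw [h, hesseTS_base]
      funext i
      fin_cases i
      · simp
      · simp
        linear_combination (-c₁) * hγ'
      · simp
        linear_combination (-c₁ * γ) * hγ'
    · refine ⟨1, c₁ * γ, ?_⟩
      rw [h, hesseTS_base]
      funext i
      fin_cases i
      · simp
      · simp
      · simp
        linear_combination (-c₁) * hγ'
    · refine ⟨2, c₁, ?_⟩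
      rw [h, hesseTS_base]
      have h20 : (2 : Fin 3) ≠ 0 := by decide
      have h21 : (2 : Fin 3) ≠ 1 := by decide
      simp only [h20, h21, if_false]
  obtain ⟨cc, d, hd⟩ := hex
  obtain ⟨m, hm⟩ : ∃ m, hesseT γ * hesseS cc = m := ⟨_, rfl⟩
  rw [hm] at hd
  have hmdet : m.det = 1 := by
    rw [← hm, Matrix.det_mul, hesseT_det hγ, hesseS_det, mul_one]
  have hmu : IsUnit m.det := by rw [hmdet]; exact isUnit_one
  have hmaut : ∀ x, hesseFn k (m.mulVec x) = hesseFn k x := by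
    intro x
    rw [← hm, ← Matrix.mulVec_mulVec, hesseFn_T k hγ, hesseFn_S]
  have hmi : m * m⁻¹ = 1 := Matrix.mul_nonsing_inv m hmu
  have hmi' : m⁻¹ * m = 1 := Matrix.nonsing_inv_mul m hmu
  obtain ⟨A', hA'def⟩ : ∃ A', m⁻¹ * A = A' := ⟨_, rfl⟩
  have hAm : A = m * A' := by
    rw [← hA'def, ← Matrix.mul_assoc, hmi, Matrix.one_mul]
  have hA'fix : A'.mulVec ![0, 1, -1] = d • ![0, 1, -1] := by
    rw [← hA'def, ← Matrix.mulVec_mulVec, hd, Matrix.mulVec_smul, Matrix.mulVec_mulVec, hmi',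
      Matrix.one_mulVec]
  have hA'aut : ∀ x, hesseFn k (A'.mulVec x) = c * hesseFn k x := by
    intro x
    rw [← hmaut (A'.mulVec x), Matrix.mulVec_mulVec, ← hAm]
    exact hA x
  have hA'det : A'.det ≠ 0 := by
    intro h0
    have := congrArg Matrix.det hAm
    rw [Matrix.det_mul, h0, mul_zero, hdet] at this
    exact one_ne_zero this
  obtain ⟨a, ha | ha⟩ := hesse_stab hk0 hk1 hk8 hk6 A' hA'det hA'fix hA'aut
  · have hAa : A = a • m := by
      rw [hAm, ha, Matrix.mul_smul, Matrix.mul_one]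
    have ha3 : a ^ 3 = 1 := by
      have := congrArg Matrix.det hAa
      rw [Matrix.det_smul, hmdet, hdet] at this
      simpa using this.symm
    obtain ⟨a', ha'⟩ := cube_root_eq_pow hω ha3
    refine ⟨(a', b, cc, 0), ?_⟩
    unfold hessePhi
    simp only [hesseNpow, Matrix.mul_one]
    rw [← ha', ← hb, hm, hAa]
  · have hAa : A = a • (m * hesseN) := by
      rw [hAm, ha, Matrix.mul_smul]
    have ha3 : a ^ 3 = 1 := by
      have := congrArg Matrix.det hAa
      rw [Matrix.det_smul, Matrix.det_mul, hmdet, hesseN_det, hdet] at this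
      simpa using this.symm
    obtain ⟨a', ha'⟩ := cube_root_eq_pow hω ha3
    refine ⟨(a', b, cc, 1), ?_⟩
    unfold hessePhi
    simp only [hesseNpow]
    rw [← ha', ← hb, hm, hAa]

end Groth.Agent.Lib.Helper72.CubicForm
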