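/-
Helper72: the first polar of a smooth point of a cubic surface which is not a T-point cuts the
tangent plane in two lines.
-/
import Mathlib
import Groth.Agent.Lib.Helper72.CubicPolarA

set_option autoImplicit false
set_option linter.unusedSectionVars false

open MvPolynomial Finset

namespace Groth.Agent.Lib.Helper72.CubicForm

variable {K : Type*} [Field K] [CharZero K]

/-- the linear form of a functional. -/
noncomputable def linPoly {n : ℕ} (φ : (Fin n → K) →ₗ[K] K) : MvPolynomial (Fin n) K :=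
  ∑ i, C (φ (Pi.single i 1)) * X i

lemma eval_linPoly {n : ℕ} (φ : (Fin n → K) →ₗ[K] K) (x : Fin n → K) :
    eval x (linPoly φ) = φ x := by
  unfold linPoly
  rw [map_sum]
  simp only [map_mul, eval_C, eval_X]
  have hx : x = ∑ i, x i • (Pi.single i 1 : Fin n → K) := by
    conv_lhs => rw [← Finset.univ_sum_single x]
    refine Finset.sum_congr rfl fun i _ => ?_
    rw [← Pi.single_smul, smul_eq_mul, mul_one]
  conv_rhs => rw [hx]
  rw [map_sum]
  refine Finset.sum_congr rfl fun i _ => ?_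
  rw [map_smul, smul_eq_mul, mul_comm]

lemma linPoly_isHomogeneous {n : ℕ} (φ : (Fin n → K) →ₗ[K] K) :
    (linPoly φ).IsHomogeneous 1 := by
  unfold linPoly
  refine IsHomogeneous.sum _ _ _ fun i _ => ?_
  have := (isHomogeneous_C (Fin n) (φ (Pi.single i 1))).mul (isHomogeneous_X K i)
  simpa using this

lemma D_eq_sum (F : MvPolynomial (Fin 4) K) (a x : Fin 4 → K) :
    D F a x = ∑ i, eval a (pderiv i F) * x i := by
  unfold D
  exact Finset.sum_congr rfl fun i _ => mul_comm _ _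

/-- the polar quadric on the tangent plane in coordinates. -/
theorem polar_two_lines [IsAlgClosed K] {F : MvPolynomial (Fin 4) K} (hF : F.IsHomogeneous 3)
    {a : Fin 4 → K} (ha : a ≠ 0) (hFa : eval a F = 0)
    (hsm : ∃ i : Fin 4, eval a (pderiv i F) ≠ 0)
    (hT : ¬ ∃ L₁ L₂ L₃ : MvPolynomial (Fin 4) K, L₁.IsHomogeneous 1 ∧ L₂.IsHomogeneous 1 ∧
      L₃.IsHomogeneous 1 ∧
      F - L₁ * L₂ * L₃ ∈ Ideal.span {∑ i : Fin 4, C (eval a (pderiv i F)) * X i}) :
    ∃ m₁ m₂ : (Fin 4 → K) →ₗ[K] K, m₁ a = 0 ∧ m₂ a = 0 ∧ (∃ x, D F a x = 0 ∧ m₁ x ≠ 0) ∧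
      (∃ x, D F a x = 0 ∧ m₂ x ≠ 0) ∧ ∀ x, D F a x = 0 → D F x a = m₁ x * m₂ x := by
  have hDaa : D F a a = 0 := by rw [D_self hF, hFa, mul_zero]
  obtain ⟨j, hj⟩ := hsm
  obtain ⟨u, v, σ, τ, ρ, hlu, hlv, hσa, hτa, hρa, hτu, hτv, hρu, hρv, hdec⟩ :=
    exists_coords ha (Dlin F a) hDaa ⟨Pi.single j 1, by rw [Dlin_apply, D_single]; exact hj⟩
  rw [Dlin_apply] at hlu hlv
  simp only [Dlin_apply] at hdec
  obtain ⟨α, hα⟩ : ∃ α, α = D F u a := ⟨_, rfl⟩
  obtain ⟨β, hβ⟩ : ∃ β, β = T F u v a := ⟨_, rfl⟩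
  obtain ⟨γ, hγ⟩ : ∃ γ, γ = D F v a := ⟨_, rfl⟩
  have hDaw : ∀ t r : K, D F a (t • u + r • v) = 0 := by
    intro t r
    rw [D_add_right, D_smul_right, D_smul_right, hlu, hlv, mul_zero, mul_zero, add_zero]
  have hq : ∀ t r : K, D F (t • u + r • v) a = α * t ^ 2 + β * t * r + γ * r ^ 2 := by
    intro t r
    rw [D_add_left hF, D_smul_left hF, D_smul_left hF, T_smul_left, T_smul_mid, hα, hβ, hγ]
    ring
  have hkey : ∀ x, D F a x = 0 → D F x a = α * τ x ^ 2 + β * τ x * ρ x + γ * ρ x ^ 2 := by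
    intro x hx
    have h1 := hdec x hx
    rw [add_assoc] at h1
    conv_lhs => rw [h1]
    rw [D_add_left hF, D_smul_left hF, hDaa, mul_zero, zero_add, hq, T_smul_left, T_swap23,
      ← two_D hF, hDaw, mul_zero, mul_zero, add_zero]
  by_cases hzero : α = 0 ∧ β = 0 ∧ γ = 0
  · exfalso
    apply hT
    obtain ⟨hα0, hβ0, hγ0⟩ := hzero
    obtain ⟨l₁, m₁, l₂, m₂, l₃, m₃, hfac⟩ :=
      binary_cubic_factor (eval u F) (D F u v) (D F v u) (eval v F)
    refine ⟨linPoly (l₁ • τ + m₁ • ρ), linPoly (l₂ • τ + m₂ • ρ), linPoly (l₃ • τ + m₃ • ρ),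
      linPoly_isHomogeneous _, linPoly_isHomogeneous _, linPoly_isHomogeneous _, ?_⟩
    apply mem_span_of_vanish (fun i => eval a (pderiv i F)) hj
    intro x hx
    rw [← D_eq_sum] at hx
    have h1 := hdec x hx
    rw [add_assoc] at h1
    have h2 : eval x F = eval (τ x • u + ρ x • v) F := by
      conv_lhs => rw [h1]
      have h3 := expand hF (σ x) 1 a (τ x • u + ρ x • v)
      rw [one_smul] at h3
      rw [h3, hFa, hDaw, hq, hα0, hβ0, hγ0]
      ring
    rw [map_sub, map_mul, map_mul, eval_linPoly, eval_linPoly, eval_linPoly, h2, expand hF]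
    simp only [LinearMap.add_apply, LinearMap.smul_apply, smul_eq_mul]
    linear_combination hfac (τ x) (ρ x)
  · obtain ⟨l₁, m₁, l₂, m₂, hne, hfac⟩ := binary_quadratic_factor α β γ
    have hne' : (l₁ ≠ 0 ∨ m₁ ≠ 0) ∧ (l₂ ≠ 0 ∨ m₂ ≠ 0) := by
      apply hne
      by_contra hcon
      push Not at hcon
      exact hzero hcon
    have hex : ∀ l m : K, (l ≠ 0 ∨ m ≠ 0) → ∃ x, D F a x = 0 ∧ (l • τ + m • ρ) x ≠ 0 := by
      intro l m hlm
      rcases hlm with h | h
      · refine ⟨u, hlu, ?_⟩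
        simp only [LinearMap.add_apply, LinearMap.smul_apply, smul_eq_mul, hτu, hρu]
        simpa using h
      · refine ⟨v, hlv, ?_⟩
        simp only [LinearMap.add_apply, LinearMap.smul_apply, smul_eq_mul, hτv, hρv]
        simpa using h
    refine ⟨l₁ • τ + m₁ • ρ, l₂ • τ + m₂ • ρ, ?_, ?_, hex _ _ hne'.1, hex _ _ hne'.2, ?_⟩
    · simp [hτa, hρa]
    · simp [hτa, hρa]
    · intro x hx
      rw [hkey x hx, hfac]
      simp only [LinearMap.add_apply, LinearMap.smul_apply, smul_eq_mul]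

end Groth.Agent.Lib.Helper72.CubicForm
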