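import Mathlib.Algebra.BigOperators.Fin
import Mathlib.Data.Fintype.Powerset
import Mathlib.Algebra.Ring.Int.Defs
import Mathlib.Algebra.Group.Basic
import Mathlib.Algebra.BigOperators.Ring.Finset
import Mathlib.Algebra.BigOperators.Group.Finset.Powerset
import Mathlib.Algebra.Module.NatInt
import Mathlib.Tactic.Module
import Mathlib.Tactic.Abel

/-!
Deviations of a map between abelian groups (helper72).
-/

set_option autoImplicit false

namespace Groth.Agent.Lib.Helper72.Deviation

universe u v w

variable {A : Type u} {G : Type v} [AddCommGroup A] [AddCommGroup G] {ι : Type w} [DecidableEq ι]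

/-- The full alternating sum over all subsets (including the empty one) vanishes if one of the
entries is zero. -/
theorem sum_powerset_eq_zero (f : A → G) (s : Finset ι) (m : ℕ) (x : ι → A) (i : ι) (hi : i ∈ s)
    (hx : x i = 0) :
    ∑ I ∈ s.powerset, ((-1 : ℤ) ^ (m + I.card)) • f (∑ j ∈ I, x j) = 0 := by
  have hs : s = insert i (s.erase i) := (Finset.insert_erase hi).symm
  rw [hs, Finset.sum_powerset_insert (Finset.notMem_erase i s), ← Finset.sum_add_distrib]
  refine Finset.sum_eq_zero fun t ht => ?_
  have hit : i ∉ t := fun h => Finset.notMem_erase i s (Finset.mem_powerset.mp ht h)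
  rw [Finset.sum_insert hit, hx, zero_add, Finset.card_insert_of_notMem hit, ← add_assoc, pow_succ]
  module

/-- The alternating sum over nonempty subsets, when one entry is zero. -/
theorem sum_powerset_erase_empty (f : A → G) (s : Finset ι) (m : ℕ) (x : ι → A) (i : ι)
    (hi : i ∈ s) (hx : x i = 0) :
    ∑ I ∈ s.powerset.erase ∅, ((-1 : ℤ) ^ (m + I.card)) • f (∑ j ∈ I, x j) =
      ((-1 : ℤ) ^ (m + 1)) • f 0 := by
  have h := sum_powerset_eq_zero f s m x i hi hx
  rw [← Finset.add_sum_erase _ _ (Finset.empty_mem_powerset s)] at h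
  simp only [Finset.card_empty, add_zero, Finset.sum_empty] at h
  rw [pow_succ]
  have : ∑ I ∈ s.powerset.erase ∅, ((-1 : ℤ) ^ (m + I.card)) • f (∑ j ∈ I, x j) =
      - (((-1 : ℤ) ^ m) • f 0) := by
    rw [eq_neg_iff_add_eq_zero, add_comm]; exact h
  rw [this]; module

section R

variable {κ : Type*} [DecidableEq κ]

/-- Alternating sum over all subsets of `s` of `f (∑_t x + v)`. -/
def R (f : A → G) (s : Finset ι) (c : ℕ) (x : ι → A) (v : A) : G :=
  ∑ t ∈ s.powerset, ((-1 : ℤ) ^ (c + t.card)) • f (∑ j ∈ t, x j + v)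

theorem R_succ (f : A → G) (s : Finset ι) (c : ℕ) (x : ι → A) (v : A) :
    R f s (c + 1) x v = - R f s c x v := by
  unfold R
  rw [← Finset.sum_neg_distrib]
  refine Finset.sum_congr rfl fun t _ => ?_
  rw [add_right_comm, pow_succ]; module

theorem R_insert (f : A → G) (s : Finset ι) (c : ℕ) (x : ι → A) (v : A) (k : ι) (hk : k ∉ s) :
    R f (insert k s) c x v = R f s c x v - R f s c x (x k + v) := by
  unfold R
  rw [Finset.sum_powerset_insert hk, sub_eq_add_neg, ← Finset.sum_neg_distrib]
  congr 1
  refine Finset.sum_congr rfl fun t ht => ?_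
  have hkt : k ∉ t := fun h => hk (Finset.mem_powerset.mp ht h)
  rw [Finset.sum_insert hkt, Finset.card_insert_of_notMem hkt, ← add_assoc, pow_succ]
  have : x k + ∑ j ∈ t, x j + v = ∑ j ∈ t, x j + (x k + v) := by abel
  rw [this]; module

theorem R_erase (f : A → G) (s : Finset ι) (c : ℕ) (x : ι → A) (v : A) (j : ι) (hj : j ∈ s) :
    R f s c x v = R f (s.erase j) c x v - R f (s.erase j) c x (x j + v) := by
  conv_lhs => rw [← Finset.insert_erase hj]
  exact R_insert f (s.erase j) c x v j (Finset.notMem_erase j s)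

theorem R_congr (f : A → G) (s : Finset ι) (c : ℕ) (x x' : ι → A) (v : A)
    (h : ∀ i ∈ s, x i = x' i) : R f s c x v = R f s c x' v := by
  unfold R
  refine Finset.sum_congr rfl fun t ht => ?_
  rw [Finset.sum_congr rfl fun i hi => h i (Finset.mem_powerset.mp ht hi)]

theorem R_image (f : A → G) (s : Finset κ) (c : ℕ) (e : κ → ι) (he : Function.Injective e)
    (x : ι → A) (v : A) : R f (s.image e) c x v = R f s c (x ∘ e) v := by
  unfold R
  rw [Finset.powerset_image, Finset.sum_image]
  · refine Finset.sum_congr rfl fun t _ => ?_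
    rw [Finset.card_image_of_injective _ he, Finset.sum_image (fun a _ b _ h => he h)]
    rfl
  · intro a _ b _ h
    exact Finset.image_injective he h

/-- The key identity relating the alternating sums for `insert k s` and for `s`. -/
theorem R_key (f : A → G) (s : Finset ι) (c : ℕ) (x : ι → A) (k j : ι) (hk : k ∉ s) (hj : j ∈ s) :
    R f (insert k s) (c + 1) x 0 =
      - R f s c x 0 + R f s c (Function.update x j (x j + x k)) 0
        - R f s c (Function.update x j (x k)) 0 := by
  have hupd : ∀ w : A, R f s c (Function.update x j w) 0 =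
      R f (s.erase j) c x 0 - R f (s.erase j) c x w := by
    intro w
    rw [R_erase f s c _ 0 j hj, Function.update_self, add_zero]
    have hc : ∀ i ∈ s.erase j, Function.update x j w i = x i := fun i hi =>
      Function.update_of_ne (Finset.ne_of_mem_erase hi) _ _
    rw [R_congr f (s.erase j) c _ x 0 hc, R_congr f (s.erase j) c _ x w hc]
  rw [R_insert f s (c + 1) x 0 k hk, R_succ, R_succ, add_zero, hupd, hupd,
    R_erase f s c x (x k) j hj]
  abel

theorem sum_erase_empty_eq (f : A → G) (s : Finset ι) (c : ℕ) (x : ι → A) :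
    ∑ I ∈ s.powerset.erase ∅, ((-1 : ℤ) ^ (c + I.card)) • f (∑ j ∈ I, x j) =
      R f s c x 0 - ((-1 : ℤ) ^ c) • f 0 := by
  unfold R
  rw [← Finset.add_sum_erase _ _ (Finset.empty_mem_powerset s)]
  simp only [Finset.card_empty, add_zero, Finset.sum_empty, zero_add]
  abel

end R

end Groth.Agent.Lib.Helper72.Deviation
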