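import Mathlib
import Groth.Agent.Lib.Helper72.A2dA

/-!
# Two-generator monomial modules `M = ⟨1, X^p⟩` over a monomial ring `A = k⟦Γ⟧`: basics
-/

universe u

open PowerSeries

namespace Groth.Agent.Lib.Helper72.M2

open Groth.Agent.Lib.Helper72.CubExt (sh coeff_sh sh_X_pow_mul X_pow_mul_sh)
open Groth.Agent.Lib.Helper72.A2d (coeff_mul_eq_zero_of coeff_mul_eq_single smulA)

variable {k : Type u} [Field k] {A : Subalgebra k (PowerSeries k)}

/-- the combinatorial data: the semigroup `G`, the exponent `p` of the second generator and the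
least exponent `c0` of `I = (A : X^p) ∩ A` -/
structure Dat where
  G : ℕ → Prop
  p : ℕ
  c0 : ℕ

namespace Dat

variable (D : Dat)

/-- exponents of `M` -/
def DD (e : ℕ) : Prop := D.G e ∨ (D.p ≤ e ∧ D.G (e - D.p))

/-- exponents of `I` -/
def SI (e : ℕ) : Prop := D.G e ∧ D.G (e + D.p)

/-- exponents of `X^(-c0) I` -/
def J (s : ℕ) : Prop := D.SI (s + D.c0)

/-- exponents of `X^c0 M + X^(c0+p) M` -/
def EIm (e : ℕ) : Prop :=
  (D.c0 ≤ e ∧ D.DD (e - D.c0)) ∨ (D.c0 + D.p ≤ e ∧ D.DD (e - D.c0 - D.p))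

/-- the hypotheses on the data -/
structure Ok : Prop where
  g0 : D.G 0
  gadd : ∀ a b, D.G a → D.G b → D.G (a + b)
  c0SI : D.SI D.c0
  c0min : ∀ e, e < D.c0 → ¬ D.SI e

variable {D}

lemma Ok.DD_add (ok : D.Ok) {g e : ℕ} (hg : D.G g) (he : D.DD e) : D.DD (e + g) := by
  rcases he with he | ⟨h1, h2⟩
  · left; exact ok.gadd _ _ he hg
  · right
    refine ⟨by omega, ?_⟩
    have : e + g - D.p = (e - D.p) + g := by omega
    rw [this]
    exact ok.gadd _ _ h2 hg

lemma Ok.EIm_add (ok : D.Ok) {g e : ℕ} (hg : D.G g) (he : D.EIm e) : D.EIm (e + g) := by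
  rcases he with ⟨h1, h2⟩ | ⟨h1, h2⟩
  · left
    refine ⟨by omega, ?_⟩
    have : e + g - D.c0 = (e - D.c0) + g := by omega
    rw [this]
    exact ok.DD_add hg h2
  · right
    refine ⟨by omega, ?_⟩
    have : e + g - D.c0 - D.p = (e - D.c0 - D.p) + g := by omega
    rw [this]
    exact ok.DD_add hg h2

lemma Ok.J0 (ok : D.Ok) : D.J 0 := by
  unfold Dat.J
  rw [zero_add]
  exact ok.c0SI

end Dat

variable (D : Dat)

/-- the monomial condition defining `A` -/
def MonoG (A : Subalgebra k (PowerSeries k)) : Prop :=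
  ∀ f : PowerSeries k, f ∈ A ↔ ∀ e, ¬ D.G e → coeff e f = 0

/-- the module `M = ⟨1, X^p⟩` -/
noncomputable def Mod (A : Subalgebra k (PowerSeries k)) : Submodule A (PowerSeries k) :=
  Submodule.span A ({1, (X : PowerSeries k) ^ D.p} : Set (PowerSeries k))

/-- the monomial description of `M` -/
def InM (f : PowerSeries k) : Prop := ∀ e, ¬ D.DD e → coeff e f = 0

variable {D}

lemma MonoG.supp (h : MonoG D A) {a : PowerSeries k} (ha : a ∈ A) {g : ℕ}
    (hg : coeff g a ≠ 0) : D.G g := by
  by_contra hcon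
  exact hg ((h a).1 ha g hcon)

lemma MonoG.X_pow_mem (h : MonoG D A) {x : ℕ} (hx : D.G x) : (X : PowerSeries k) ^ x ∈ A := by
  rw [h]
  intro e he
  rw [coeff_X_pow, if_neg]
  rintro rfl
  exact he hx

open Classical in
lemma MonoG.decomp (h : MonoG D A) {f : PowerSeries k} (hf : InM D f) :
    ∃ a0 a1 : A, f = (a0 : PowerSeries k) + (a1 : PowerSeries k) * X ^ D.p := by
  obtain ⟨a1, ha1⟩ : ∃ a1 : PowerSeries k, a1 = PowerSeries.mk (fun e' =>
      if ¬ D.G (e' + D.p) ∧ D.G e' then coeff (e' + D.p) f else 0) := ⟨_, rfl⟩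
  have hc : ∀ e', coeff e' a1 = if ¬ D.G (e' + D.p) ∧ D.G e' then coeff (e' + D.p) f else 0 := by
    intro e'
    rw [ha1, coeff_mk]
  have h1 : a1 ∈ A := by
    rw [h]
    intro e he
    rw [hc, if_neg (fun hh => he hh.2)]
  have h0 : f - a1 * X ^ D.p ∈ A := by
    rw [h]
    intro e he
    rw [map_sub, coeff_mul_X_pow']
    by_cases hpe : D.p ≤ e
    · rw [if_pos hpe, hc]
      have h2 : e - D.p + D.p = e := by omega
      rw [h2]
      by_cases hg : D.G (e - D.p)
      · rw [if_pos ⟨he, hg⟩, sub_self]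
      · rw [if_neg (fun hh => hg hh.2), sub_zero]
        apply hf
        rintro (h3 | ⟨_, h3⟩)
        · exact he h3
        · exact hg h3
    · rw [if_neg hpe, sub_zero]
      apply hf
      rintro (h3 | ⟨h3, _⟩)
      · exact he h3
      · exact hpe h3
  exact ⟨⟨_, h0⟩, ⟨a1, h1⟩, by simp⟩

lemma MonoG.mem_Mod_iff (h : MonoG D A) (ok : D.Ok) (f : PowerSeries k) :
    f ∈ Mod D A ↔ InM D f := by
  constructor
  · intro hf
    unfold Mod at hf
    induction hf using Submodule.span_induction with
    | mem x hx =>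
      rcases hx with rfl | hx
      · intro e he
        rw [coeff_one, if_neg]
        rintro rfl
        exact he (Or.inl ok.g0)
      · rw [Set.mem_singleton_iff] at hx
        subst hx
        intro e he
        rw [coeff_X_pow, if_neg]
        rintro rfl
        apply he
        right
        refine ⟨le_rfl, ?_⟩
        rw [Nat.sub_self]
        exact ok.g0
    | zero => intro e _; simp
    | add x y _ _ hx hy =>
      intro e he
      rw [map_add, hx e he, hy e he, add_zero]
    | smul a x _ hx =>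
      intro e he
      rw [smulA]
      apply coeff_mul_eq_zero_of
      intro g q hgq
      by_cases hg : coeff g (a : PowerSeries k) = 0
      · left; exact hg
      · right
        apply hx
        intro hq
        apply he
        rw [← hgq, add_comm]
        exact ok.DD_add (h.supp a.2 hg) hq
  · intro hf
    obtain ⟨a0, a1, rfl⟩ := h.decomp hf
    have h1 : (1 : PowerSeries k) ∈ Mod D A := Submodule.subset_span (by simp)
    have h2 : (X : PowerSeries k) ^ D.p ∈ Mod D A := Submodule.subset_span (by simp)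
    have h3 := Submodule.add_mem _ (Submodule.smul_mem _ a0 h1) (Submodule.smul_mem _ a1 h2)
    rw [smulA, smulA, mul_one] at h3
    exact h3

end Groth.Agent.Lib.Helper72.M2
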