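import Mathlib
import Groth.Agent.Lib.Helper72.M2A
import Groth.Agent.Lib.Helper72.CubGenB

/-!
# Two-generator monomial modules: presentation and kernel
-/

universe u

open PowerSeries

namespace Groth.Agent.Lib.Helper72.M2

open Groth.Agent.Lib.Helper72.CubExt (sh coeff_sh sh_X_pow_mul X_pow_mul_sh)
open Groth.Agent.Lib.Helper72.A2d (coeff_mul_eq_zero_of coeff_mul_eq_single smulA)

variable {k : Type u} [Field k] {A : Subalgebra k (PowerSeries k)} {D : Dat}

/-- first generator -/
noncomputable def gen0 (D : Dat) (A : Subalgebra k (PowerSeries k)) : Mod D A :=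
  ⟨1, Submodule.subset_span (by simp)⟩

/-- second generator -/
noncomputable def gen1 (D : Dat) (A : Subalgebra k (PowerSeries k)) : Mod D A :=
  ⟨X ^ D.p, Submodule.subset_span (by simp)⟩

/-- the presentation `A² → M` -/
noncomputable def pres (D : Dat) (A : Subalgebra k (PowerSeries k)) :
    (Fin 2 → A) →ₗ[A] Mod D A :=
  Fintype.linearCombination A ![gen0 D A, gen1 D A]

lemma coe_pres (a : Fin 2 → A) : ((pres D A a : Mod D A) : PowerSeries k)
    = (a 0 : PowerSeries k) + (a 1 : PowerSeries k) * X ^ D.p := by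
  rw [pres, Fintype.linearCombination_apply, Fin.sum_univ_two]
  simp only [Matrix.cons_val_zero, Matrix.cons_val_one, Submodule.coe_add, Submodule.coe_smul]
  rw [smulA, smulA]
  simp [gen0, gen1]

/-- instance shortcut -/
noncomputable instance (priority := 10000) instModuleKerM :
    Module A (LinearMap.ker (pres D A)) := Submodule.module _

/-- instance shortcut -/
noncomputable instance (priority := 10000) instSMulKerM :
    SMul A (LinearMap.ker (pres D A)) :=
  (instModuleKerM (D := D) (A := A)).toDistribMulAction.toMulAction.toSMul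

lemma ker_eq (a : LinearMap.ker (pres D A)) :
    (a.1 0 : PowerSeries k) = - ((a.1 1 : PowerSeries k) * X ^ D.p) := by
  have ha : pres D A a.1 = 0 := a.2
  have h2 := congrArg (fun x : Mod D A => (x : PowerSeries k)) ha
  simp only [coe_pres, ZeroMemClass.coe_zero] at h2
  exact eq_neg_of_add_eq_zero_left h2

section

variable (h : MonoG D A) (ok : D.Ok)
include h ok

lemma pres_surjective : Function.Surjective (pres D A) := by
  rintro ⟨f, hf⟩
  obtain ⟨a0, a1, hf'⟩ := h.decomp ((h.mem_Mod_iff ok f).1 hf)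
  refine ⟨![a0, a1], Subtype.ext ?_⟩
  rw [coe_pres]
  simp only [Matrix.cons_val_zero, Matrix.cons_val_one]
  exact hf'.symm

/-- support of the second component of an element of the kernel -/
lemma ker_supp (a : LinearMap.ker (pres D A)) {e : ℕ}
    (he : coeff e (a.1 1 : PowerSeries k) ≠ 0) : D.SI e := by
  refine ⟨h.supp (a.1 1).2 he, ?_⟩
  apply h.supp (a.1 0).2 (g := e + D.p)
  rw [ker_eq a, map_neg, coeff_mul_X_pow, neg_ne_zero]
  exact he

lemma ker_low (a : LinearMap.ker (pres D A)) {e : ℕ} (he : e < D.c0) :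
    coeff e (a.1 1 : PowerSeries k) = 0 := by
  by_contra hne
  exact ok.c0min e he (ker_supp h ok a hne)

lemma ker_sh (a : LinearMap.ker (pres D A)) :
    (X : PowerSeries k) ^ D.c0 * sh D.c0 (a.1 1 : PowerSeries k) = (a.1 1 : PowerSeries k) :=
  X_pow_mul_sh _ _ (fun _ he => ker_low h ok a he)

lemma ker_sh_supp (a : LinearMap.ker (pres D A)) {s : ℕ}
    (hs : coeff s (sh D.c0 (a.1 1 : PowerSeries k)) ≠ 0) : D.J s := by
  rw [coeff_sh] at hs
  exact ker_supp h ok a hs

lemma sh_smul (c : A) (a : LinearMap.ker (pres D A)) :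
    sh D.c0 ((c : PowerSeries k) * (a.1 1 : PowerSeries k))
      = (c : PowerSeries k) * sh D.c0 (a.1 1 : PowerSeries k) := by
  conv_lhs => rw [← ker_sh h ok a]
  rw [mul_left_comm, sh_X_pow_mul]

omit ok in
/-- powers of `X` with exponent in `G`, as elements of `A` -/
noncomputable def xg {x : ℕ} (hx : D.G x) : A := ⟨X ^ x, h.X_pow_mem hx⟩

omit ok in
@[simp] lemma coe_xg {x : ℕ} (hx : D.G x) : ((xg h hx : A) : PowerSeries k) = X ^ x := rfl

omit ok in
/-- the syzygies `u_s = (-X^(c0+s+p), X^(c0+s))` for `s ∈ J` -/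
noncomputable def us {s : ℕ} (hs : D.J s) : LinearMap.ker (pres D A) :=
  ⟨![- xg h hs.2, xg h hs.1], by
    rw [LinearMap.mem_ker]
    apply Subtype.ext
    rw [coe_pres]
    simp only [Matrix.cons_val_zero, Matrix.cons_val_one, ZeroMemClass.coe_zero]
    push_cast
    simp only [coe_xg]
    rw [← pow_add, neg_add_cancel]⟩

omit ok in
lemma us_val_one {s : ℕ} (hs : D.J s) :
    (((us h hs).1 1 : A) : PowerSeries k) = X ^ (s + D.c0) := by
  simp only [us, Matrix.cons_val_one, Matrix.cons_val_fin_one, coe_xg]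

/-- the basic syzygy -/
noncomputable def u0 : LinearMap.ker (pres D A) := us h ok.J0

/-- key relation: `X^c0 • a = a₁ • u₀` -/
lemma xc0_smul_eq (a : LinearMap.ker (pres D A)) :
    (xg h ok.c0SI.1 • a : LinearMap.ker (pres D A)) = (a.1 1) • u0 h ok := by
  apply Subtype.ext
  rw [Submodule.coe_smul, Submodule.coe_smul]
  funext l
  simp only [Pi.smul_apply, smul_eq_mul]
  apply Subtype.ext
  fin_cases l
  · simp only [u0, us, Fin.zero_eta, Matrix.cons_val_zero]
    push_cast
    rw [ker_eq a]
    simp only [coe_xg]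
    rw [Nat.zero_add D.c0, pow_add]
    ring
  · simp only [u0, us, Fin.mk_one, Matrix.cons_val_one, Matrix.cons_val_fin_one]
    push_cast
    simp only [coe_xg]
    rw [Nat.zero_add D.c0]
    ring

/-- values of a linear map on the kernel are determined by the value on `u₀` -/
lemma apply_eq {N : Submodule A (PowerSeries k)} (φ : LinearMap.ker (pres D A) →ₗ[A] N)
    (a : LinearMap.ker (pres D A)) :
    (φ a : PowerSeries k) = sh D.c0 (a.1 1 : PowerSeries k) * (φ (u0 h ok) : PowerSeries k) := by
  have h1 : φ ((xg h ok.c0SI.1 • a : LinearMap.ker (pres D A))) = xg h ok.c0SI.1 • φ a :=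
    map_smul _ _ _
  rw [xc0_smul_eq h ok, map_smul] at h1
  have h2 := congrArg (fun x : N => (x : PowerSeries k)) h1
  simp only [Submodule.coe_smul, smulA, coe_xg] at h2
  apply Groth.Agent.Lib.Helper72.CubExt.X_pow_mul_cancel D.c0
  rw [← h2, ← mul_assoc, ker_sh h ok a]

end

end Groth.Agent.Lib.Helper72.M2
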