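import Mathlib
import Groth.Agent.Lib.Helper72.M2B

/-!
# Two-generator monomial modules: linear maps from the syzygy module to `M`
-/

universe u

open PowerSeries

namespace Groth.Agent.Lib.Helper72.M2

open Groth.Agent.Lib.Helper72.CubExt (sh coeff_sh sh_X_pow_mul X_pow_mul_sh)
open Groth.Agent.Lib.Helper72.A2d (coeff_mul_eq_zero_of coeff_mul_eq_single smulA)

variable {k : Type u} [Field k] {A : Subalgebra k (PowerSeries k)} {D : Dat}

lemma sh_X_pow_add (s n : ℕ) : sh n ((X : PowerSeries k) ^ (s + n)) = X ^ s := by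
  rw [add_comm, pow_add, sh_X_pow_mul]

/-- the condition on `y = φ u₀` -/
def HC (D : Dat) (y : PowerSeries k) : Prop :=
  ∀ s e, D.J s → ¬ D.DD (e + s) → coeff e y = 0

/-- products land in `M` -/
lemma mul_inM {m y : PowerSeries k} (hm : ∀ s, coeff s m ≠ 0 → D.J s) (hy : HC D y) :
    InM D (m * y) := by
  intro e he
  apply coeff_mul_eq_zero_of
  intro s q hsq
  by_cases hs : coeff s m = 0
  · left; exact hs
  · right
    apply hy s q (hm s hs)
    rw [add_comm, hsq]
    exact he

section

variable (h : MonoG D A) (ok : D.Ok)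
include h ok

lemma apply_u0_HC (φ : LinearMap.ker (pres D A) →ₗ[A] Mod D A) :
    HC D (φ (u0 h ok) : PowerSeries k) := by
  intro s e hs he
  have h1 := apply_eq h ok φ (us h hs)
  rw [us_val_one, sh_X_pow_add] at h1
  have h3 := (h.mem_Mod_iff ok _).1 (φ (us h hs)).2 (e + s) he
  rw [h1, coeff_X_pow_mul] at h3
  exact h3

/-- the linear map on the kernel with prescribed value on `u₀` -/
noncomputable def phiOf (y : PowerSeries k) (hy : HC D y) :
    LinearMap.ker (pres D A) →ₗ[A] Mod D A where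
  toFun a := ⟨sh D.c0 (a.1 1 : PowerSeries k) * y,
    (h.mem_Mod_iff ok _).2 (mul_inM (fun _ hs => ker_sh_supp h ok a hs) hy)⟩
  map_add' a b := by
    apply Subtype.ext
    simp only [Submodule.coe_add, Pi.add_apply, Subalgebra.coe_add, map_add, add_mul]
  map_smul' c a := by
    apply Subtype.ext
    simp only [RingHom.id_apply, Submodule.coe_smul, Pi.smul_apply, smul_eq_mul,
      Subalgebra.coe_mul]
    rw [smulA, sh_smul h ok c a, mul_assoc]

lemma coe_phiOf_u0 (y : PowerSeries k) (hy : HC D y) :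
    ((phiOf h ok y hy (u0 h ok) : Mod D A) : PowerSeries k) = y := by
  show sh D.c0 (((u0 h ok).1 1 : A) : PowerSeries k) * y = y
  rw [u0, us_val_one, sh_X_pow_add, pow_zero, one_mul]

lemma u0_val_eq : (u0 h ok).1 = (- xg h ok.J0.2) • Pi.single 0 (1 : A)
    + xg h ok.J0.1 • Pi.single 1 (1 : A) := by
  funext l
  fin_cases l
  · simp [u0, us]
  · simp [u0, us]

/-- extension criterion -/
lemma exists_ext_iff (φ : LinearMap.ker (pres D A) →ₗ[A] Mod D A) :
    (∃ ψ : (Fin 2 → A) →ₗ[A] Mod D A, ψ ∘ₗ (LinearMap.ker (pres D A)).subtype = φ) ↔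
    ∃ β0 β1 : Mod D A, (φ (u0 h ok) : PowerSeries k)
      = X ^ D.c0 * (β1 : PowerSeries k) - X ^ (D.c0 + D.p) * (β0 : PowerSeries k) := by
  constructor
  · rintro ⟨ψ, rfl⟩
    refine ⟨ψ (Pi.single 0 1), ψ (Pi.single 1 1), ?_⟩
    show ((ψ (u0 h ok).1 : Mod D A) : PowerSeries k) = _
    rw [u0_val_eq h ok, map_add, map_smul, map_smul]
    simp only [Submodule.coe_add, Submodule.coe_smul, smulA]
    push_cast
    simp only [coe_xg]
    rw [Nat.zero_add D.c0]
    ring
  · rintro ⟨β0, β1, hβ⟩
    refine ⟨(LinearMap.proj (R := A) (φ := fun _ : Fin 2 => A) 0).smulRight β0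
      + (LinearMap.proj (R := A) (φ := fun _ : Fin 2 => A) 1).smulRight β1, ?_⟩
    apply LinearMap.ext
    intro a
    apply Subtype.ext
    rw [apply_eq h ok φ a, hβ]
    simp only [LinearMap.coe_comp, Function.comp_apply, Submodule.coe_subtype,
      LinearMap.add_apply, LinearMap.smulRight_apply, LinearMap.proj_apply,
      Submodule.coe_add, Submodule.coe_smul, smulA]
    rw [ker_eq a]
    conv_lhs => rw [← ker_sh h ok a]
    rw [pow_add]
    ring

end

end Groth.Agent.Lib.Helper72.M2
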