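import Mathlib
import Groth.Agent.Lib.Helper72.M2C
import Groth.Agent.Lib.Helper72.A2dD
import Groth.Agent.Lib.Helper72.ExtTri

/-!
# Two-generator monomial modules: the length of `Ext¹_A(M, M)`
-/

universe u

open PowerSeries CategoryTheory

namespace Groth.Agent.Lib.Helper72.M2

open Groth.Agent.Lib.Helper72.CubExt (sh coeff_sh sh_X_pow_mul X_pow_mul_sh cc cc_apply
  cc_surjective coeff_sum_C_mul_X_pow)
open Groth.Agent.Lib.Helper72.A2d (coeff_mul_eq_zero_of coeff_mul_eq_single smulA coeff_sum_of_ne)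

variable {k : Type u} [Field k] {A : Subalgebra k (PowerSeries k)} {D : Dat}

set_option synthInstance.maxHeartbeats 400000 in
/-- instance shortcut -/
noncomputable instance (priority := 10000) instModuleHomM :
    Module A (LinearMap.ker (pres D A) →ₗ[A] Mod D A) := LinearMap.module

/-- instance shortcut -/
noncomputable instance (priority := 10000) instSMulHomM :
    SMul A (LinearMap.ker (pres D A) →ₗ[A] Mod D A) :=
  (instModuleHomM (D := D) (A := A)).toDistribMulAction.toMulAction.toSMul

/-- the relevant exponents -/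
structure Coords (D : Dat) (d : ℕ) (r : Fin d → ℕ) : Prop where
  mono : StrictMono r
  eh : ∀ t s, D.J s → D.DD (r t + s)
  nim : ∀ t, ¬ D.EIm (r t)
  complete : ∀ e, (∀ s, D.J s → D.DD (e + s)) → ¬ D.EIm e → ∃ t, r t = e

section

variable (h : MonoG D A) (ok : D.Ok) {d : ℕ} {r : Fin d → ℕ} (cd : Coords D d r)
include h ok cd

omit cd in
/-- the coordinate functionals -/
noncomputable def ell (r : Fin d → ℕ) :
    (LinearMap.ker (pres D A) →ₗ[A] Mod D A) →+ (Fin d → k) where
  toFun φ := fun t => coeff (r t) (φ (u0 h ok) : PowerSeries k)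
  map_zero' := by funext t; simp
  map_add' φ ψ := by funext t; simp

omit cd in
lemma ell_apply (φ : LinearMap.ker (pres D A) →ₗ[A] Mod D A) (t : Fin d) :
    ell h ok r φ t = coeff (r t) (φ (u0 h ok) : PowerSeries k) := rfl

lemma ell_surjective : Function.Surjective (ell h ok r) := by
  intro q
  have hy : HC D (∑ t : Fin d, C (q t) * (X : PowerSeries k) ^ (r t)) := by
    intro s e hs he
    apply coeff_sum_of_ne
    intro t hrt
    apply he
    rw [← hrt]
    exact cd.eh t s hs
  refine ⟨phiOf h ok _ hy, ?_⟩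
  funext t
  rw [ell_apply, coe_phiOf_u0, coeff_sum_C_mul_X_pow _ cd.mono.injective]

open Classical in
lemma ell_eq_zero_iff (φ : LinearMap.ker (pres D A) →ₗ[A] Mod D A) :
    ell h ok r φ = 0 ↔ ∃ β0 β1 : Mod D A, (φ (u0 h ok) : PowerSeries k)
      = X ^ D.c0 * (β1 : PowerSeries k) - X ^ (D.c0 + D.p) * (β0 : PowerSeries k) := by
  constructor
  · intro h0
    obtain ⟨y0, hy0⟩ : ∃ y0 : PowerSeries k, y0 = (φ (u0 h ok) : PowerSeries k) := ⟨_, rfl⟩
    have hHC : HC D y0 := by rw [hy0]; exact apply_u0_HC h ok φ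
    have hzero : ∀ t, coeff (r t) y0 = 0 := by
      intro t
      have := congrFun h0 t
      rw [ell_apply] at this
      rw [hy0]; exact this
    have hsupp : ∀ e, coeff e y0 ≠ 0 → D.EIm e := by
      intro e hne
      by_contra hn
      have hEH : ∀ s, D.J s → D.DD (e + s) := by
        intro s hs
        by_contra hd
        exact hne (hHC s e hs hd)
      obtain ⟨t, rfl⟩ := cd.complete e hEH hn
      exact hne (hzero t)
    obtain ⟨β1, hβ1def⟩ : ∃ β1 : PowerSeries k, β1 = PowerSeries.mk (fun e' =>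
        if D.DD e' then coeff (e' + D.c0) y0 else 0) := ⟨_, rfl⟩
    have hβ1c : ∀ e', coeff e' β1 = if D.DD e' then coeff (e' + D.c0) y0 else 0 := by
      intro e'; rw [hβ1def, coeff_mk]
    have hβ1mem : β1 ∈ Mod D A := by
      rw [h.mem_Mod_iff ok]
      intro e he
      rw [hβ1c, if_neg he]
    have hz : ∀ e, coeff e (y0 - X ^ D.c0 * β1)
        = if D.c0 ≤ e ∧ D.DD (e - D.c0) then 0 else coeff e y0 := by
      intro e
      rw [map_sub, coeff_X_pow_mul']
      by_cases h1 : D.c0 ≤ e
      · rw [if_pos h1, hβ1c]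
        by_cases h2 : D.DD (e - D.c0)
        · rw [if_pos h2, if_pos ⟨h1, h2⟩]
          have : e - D.c0 + D.c0 = e := by omega
          rw [this, sub_self]
        · rw [if_neg h2, if_neg (fun hh => h2 hh.2), sub_zero]
      · rw [if_neg h1, if_neg (fun hh => h1 hh.1), sub_zero]
    have hzsupp : ∀ e, coeff e (y0 - X ^ D.c0 * β1) ≠ 0 →
        D.c0 + D.p ≤ e ∧ D.DD (e - D.c0 - D.p) := by
      intro e hne
      rw [hz] at hne
      split_ifs at hne with hc
      · exact absurd rfl hne
      · rcases hsupp e hne with h1 | h1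
        · exact absurd h1 hc
        · exact h1
    have hzlow : ∀ e, e < D.c0 + D.p → coeff e (y0 - X ^ D.c0 * β1) = 0 := by
      intro e he
      by_contra hne
      have := (hzsupp e hne).1
      omega
    have hβ0mem : sh (D.c0 + D.p) (y0 - X ^ D.c0 * β1) ∈ Mod D A := by
      rw [h.mem_Mod_iff ok]
      intro e he
      rw [coeff_sh]
      by_contra hne
      have := (hzsupp _ hne).2
      have h2 : e + (D.c0 + D.p) - D.c0 - D.p = e := by omega
      rw [h2] at this
      exact he this
    refine ⟨⟨- sh (D.c0 + D.p) (y0 - X ^ D.c0 * β1), Submodule.neg_mem _ hβ0mem⟩,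
      ⟨β1, hβ1mem⟩, ?_⟩
    rw [← hy0]
    show y0 = X ^ D.c0 * β1 - X ^ (D.c0 + D.p) * (- sh (D.c0 + D.p) (y0 - X ^ D.c0 * β1))
    rw [mul_neg, sub_neg_eq_add, X_pow_mul_sh _ _ hzlow]
    ring
  · rintro ⟨β0, β1, hβ⟩
    funext t
    rw [ell_apply, hβ, map_sub, coeff_X_pow_mul', coeff_X_pow_mul']
    show _ = (0 : k)
    have hβ0 := (h.mem_Mod_iff ok _).1 β0.2
    have hβ1 := (h.mem_Mod_iff ok _).1 β1.2
    have hnim := cd.nim t
    have e1 : (if D.c0 ≤ r t then coeff (r t - D.c0) (β1 : PowerSeries k) else 0) = 0 := by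
      split_ifs with hc
      · apply hβ1
        intro hd
        exact hnim (Or.inl ⟨hc, hd⟩)
      · rfl
    have e2 : (if D.c0 + D.p ≤ r t then coeff (r t - (D.c0 + D.p)) (β0 : PowerSeries k) else 0)
        = 0 := by
      split_ifs with hc
      · apply hβ0
        intro hd
        apply hnim
        right
        refine ⟨hc, ?_⟩
        have : r t - D.c0 - D.p = r t - (D.c0 + D.p) := by omega
        rw [this]
        exact hd
      · rfl
    rw [e1, e2, sub_zero]

/-- triangularity of the coordinates -/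
lemma ell_tri (t : Fin d) (φ : LinearMap.ker (pres D A) →ₗ[A] Mod D A)
    (hlow : ∀ s : Fin d, s < t → ell h ok r φ s = 0) (a : A) :
    ell h ok r (a • φ) t = cc A a * ell h ok r φ t := by
  rw [ell_apply, ell_apply, cc_apply]
  simp only [LinearMap.smul_apply, Submodule.coe_smul, smulA]
  have hHC : HC D (φ (u0 h ok) : PowerSeries k) := apply_u0_HC h ok φ
  apply coeff_mul_eq_single
  intro g q hgq hg0
  by_cases hg : coeff g (a : PowerSeries k) = 0
  · left; exact hg
  · right
    by_contra hne
    have hG := h.supp a.2 hg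
    have hEH : ∀ s, D.J s → D.DD (q + s) := by
      intro s hs
      by_contra hd
      exact hne (hHC s q hs hd)
    by_cases hIm : D.EIm q
    · have := ok.EIm_add hG hIm
      rw [add_comm, hgq] at this
      exact cd.nim t this
    · obtain ⟨s, hs⟩ := cd.complete q hEH hIm
      have hst : s < t := by
        rw [← cd.mono.lt_iff_lt, hs]
        omega
      have := hlow s hst
      rw [ell_apply, hs] at this
      exact hne this

end

set_option maxHeartbeats 1000000 in
/-- **The length of `Ext¹_A(M, M)`** is the number of relevant exponents. -/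
theorem length_ext (h : MonoG D A) (ok : D.Ok) {d : ℕ} {r : Fin d → ℕ} (cd : Coords D d r) :
    Module.length A (Abelian.Ext (ModuleCat.of A (Mod D A)) (ModuleCat.of A (Mod D A)) 1)
      = ((d : ℕ) : ℕ∞) := by
  have h1 := ExtTri.length_ext_tri (A := A) (k := k) (cc A) (P := Fin 2 → A) (M := Mod D A)
    (N := Mod D A) cc_surjective (pres D A) (pres_surjective h ok) d
  have h2 := h1 (ell h ok r) (ell_surjective h ok cd)
  have h3 : ∀ φ : LinearMap.ker (pres D A) →ₗ[A] Mod D A,
      ell h ok r φ = 0 ↔ ∃ ψ : (Fin 2 → A) →ₗ[A] Mod D A,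
        ψ ∘ₗ (LinearMap.ker (pres D A)).subtype = φ := by
    intro φ
    rw [ell_eq_zero_iff h ok cd φ]
    exact (exists_ext_iff h ok φ).symm
  have h4 := h2 h3
  have h5 := h4 (fun t φ hlow a => ell_tri h ok cd t φ hlow a)
  exact h5

end Groth.Agent.Lib.Helper72.M2
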