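import Mathlib
import Groth.Agent.Lib.Helper72.M2D

/-!
# The `E₆` ring `k⟦t³, t⁴⟧`: the two-generator modules
-/

universe u

open PowerSeries CategoryTheory

namespace Groth.Agent.Lib.Helper72.E6

open Groth.Agent.Lib.Helper72.M2

variable {k : Type u} [Field k] {A : Subalgebra k (PowerSeries k)}

/-- the semigroup generated by `3` and `4` -/
def G34 (e : ℕ) : Prop := e = 0 ∨ e = 3 ∨ e = 4 ∨ 6 ≤ e

lemma mem_closure_iff34 (e : ℕ) :
    e ∈ AddSubmonoid.closure ({3, 4} : Set ℕ) ↔ G34 e := by
  unfold G34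
  constructor
  · intro h
    induction h using AddSubmonoid.closure_induction with
    | mem x hx =>
      rcases hx with rfl | hx
      · right; left; rfl
      · right; right; left
        rw [Set.mem_singleton_iff] at hx
        exact hx
    | zero => left; rfl
    | add x y _ _ hx hy => omega
  · intro h
    have h3 : (3 : ℕ) ∈ AddSubmonoid.closure ({3, 4} : Set ℕ) :=
      AddSubmonoid.subset_closure (by simp)
    have h4 : (4 : ℕ) ∈ AddSubmonoid.closure ({3, 4} : Set ℕ) :=
      AddSubmonoid.subset_closure (by simp)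
    by_cases he0 : e % 3 = 0
    · have : e = (e / 3) • 3 := by
        rw [smul_eq_mul]; omega
      rw [this]
      exact AddSubmonoid.nsmul_mem _ h3 _
    · by_cases he1 : e % 3 = 1
      · have : e = 4 + ((e - 4) / 3) • 3 := by
          rw [smul_eq_mul]; omega
        rw [this]
        exact add_mem h4 (AddSubmonoid.nsmul_mem _ h3 _)
      · have : e = (4 + 4) + ((e - 8) / 3) • 3 := by
          rw [smul_eq_mul]; omega
        rw [this]
        exact add_mem (add_mem h4 h4) (AddSubmonoid.nsmul_mem _ h3 _)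

/-- the monomial hypothesis of the statement -/
def Mono34 (A : Subalgebra k (PowerSeries k)) : Prop :=
  ∀ f : PowerSeries k, f ∈ A ↔
    ∀ n : ℕ, coeff n f ≠ 0 → n ∈ AddSubmonoid.closure ({3, 4} : Set ℕ)

/-- the data for `M₁ = ⟨1, X^5⟩` -/
def D5 : Dat := ⟨G34, 5, 3⟩
/-- the data for `M₁* = ⟨1, X⟩` -/
def D1 : Dat := ⟨G34, 1, 3⟩
/-- the data for `M₂ = ⟨1, X^2⟩` -/
def D2 : Dat := ⟨G34, 2, 4⟩

lemma Mono34.monoG (h : Mono34 A) (D : Dat) (hD : D.G = G34) : MonoG D A := by
  intro f
  rw [h f, hD]
  constructor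
  · intro hf e he
    by_contra hne
    exact he ((mem_closure_iff34 e).1 (hf e hne))
  · intro hf e hne
    rw [mem_closure_iff34]
    by_contra hcon
    exact hne (hf e hcon)

lemma ok5 : D5.Ok where
  g0 := Or.inl rfl
  gadd := by intro a b ha hb; simp only [D5, G34] at *; omega
  c0SI := by simp only [Dat.SI, D5, G34]; decide
  c0min := by intro e he; simp only [Dat.SI, D5, G34] at *; omega

lemma ok1 : D1.Ok where
  g0 := Or.inl rfl
  gadd := by intro a b ha hb; simp only [D1, G34] at *; omega
  c0SI := by simp only [Dat.SI, D1, G34]; decide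
  c0min := by intro e he; simp only [Dat.SI, D1, G34] at *; omega

lemma ok2 : D2.Ok where
  g0 := Or.inl rfl
  gadd := by intro a b ha hb; simp only [D2, G34] at *; omega
  c0SI := by simp only [Dat.SI, D2, G34]; decide
  c0min := by intro e he; simp only [Dat.SI, D2, G34] at *; omega

/-- the coordinate exponents for `M₁` -/
def r5 (t : Fin 2) : ℕ := (t : ℕ) + 4
/-- the coordinate exponents for `M₁*` -/
def r1 (t : Fin 2) : ℕ := (t : ℕ)
/-- the coordinate exponents for `M₂` -/
def r2 (t : Fin 4) : ℕ := if (t : ℕ) = 0 then 0 else if (t : ℕ) = 3 then 5 else (t : ℕ) + 1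

lemma cd5 : Coords D5 2 r5 where
  mono := by
    intro a b hab
    have : (a : ℕ) < b := hab
    simp only [r5]; omega
  eh := by
    intro t s hs
    have := t.isLt
    simp only [Dat.J, Dat.SI, Dat.DD, D5, G34, r5] at *
    omega
  nim := by
    intro t
    have := t.isLt
    simp only [Dat.EIm, Dat.DD, D5, G34, r5] at *
    omega
  complete := by
    intro e h1 h2
    simp only [Dat.J, Dat.SI, Dat.EIm, Dat.DD, D5, G34] at h1 h2
    have h10 := h1 0
    have h11 := h1 1
    rcases (by omega : e = 4 ∨ e = 5) with rfl | rfl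
    · exact ⟨0, rfl⟩
    · exact ⟨1, rfl⟩

lemma cd1 : Coords D1 2 r1 where
  mono := by
    intro a b hab
    have : (a : ℕ) < b := hab
    simp only [r1]; omega
  eh := by
    intro t s hs
    have := t.isLt
    simp only [Dat.J, Dat.SI, Dat.DD, D1, G34, r1] at *
    omega
  nim := by
    intro t
    have := t.isLt
    simp only [Dat.EIm, Dat.DD, D1, G34, r1] at *
    omega
  complete := by
    intro e h1 h2
    simp only [Dat.J, Dat.SI, Dat.EIm, Dat.DD, D1, G34] at h1 h2
    have h10 := h1 0
    rcases (by omega : e = 0 ∨ e = 1) with rfl | rfl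
    · exact ⟨0, rfl⟩
    · exact ⟨1, rfl⟩

lemma cd2 : Coords D2 4 r2 where
  mono := by
    intro a b hab
    have : (a : ℕ) < b := hab
    have := b.isLt
    simp only [r2]
    split_ifs <;> omega
  eh := by
    intro t s hs
    have hr : r2 t = 0 ∨ r2 t = 2 ∨ r2 t = 3 ∨ r2 t = 5 := by
      have := t.isLt
      unfold r2; split_ifs <;> omega
    generalize r2 t = x at hr ⊢
    simp only [Dat.J, Dat.SI, Dat.DD, D2, G34] at *
    omega
  nim := by
    intro t
    have hr : r2 t = 0 ∨ r2 t = 2 ∨ r2 t = 3 ∨ r2 t = 5 := by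
      have := t.isLt
      unfold r2; split_ifs <;> omega
    generalize r2 t = x at hr ⊢
    simp only [Dat.EIm, Dat.DD, D2, G34] at *
    omega
  complete := by
    intro e h1 h2
    simp only [Dat.J, Dat.SI, Dat.EIm, Dat.DD, D2, G34] at h1 h2
    have h10 := h1 0
    rcases (by omega : e = 0 ∨ e = 2 ∨ e = 3 ∨ e = 5) with rfl | rfl | rfl | rfl
    · exact ⟨0, rfl⟩
    · exact ⟨1, rfl⟩
    · exact ⟨2, rfl⟩
    · exact ⟨3, rfl⟩

theorem length_ext5 (h : Mono34 A) :
    Module.length A (Abelian.Ext
      (ModuleCat.of A (Submodule.span A ({1, (X : PowerSeries k) ^ 5} : Set (PowerSeries k))))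
      (ModuleCat.of A (Submodule.span A ({1, (X : PowerSeries k) ^ 5} : Set (PowerSeries k))))
      1) = 2 := by
  have h1 := M2.length_ext (A := A) (D := D5) (h.monoG D5 rfl) ok5 cd5
  exact h1

theorem length_ext2 (h : Mono34 A) :
    Module.length A (Abelian.Ext
      (ModuleCat.of A (Submodule.span A ({1, (X : PowerSeries k) ^ 2} : Set (PowerSeries k))))
      (ModuleCat.of A (Submodule.span A ({1, (X : PowerSeries k) ^ 2} : Set (PowerSeries k))))
      1) = 4 := by
  have h1 := M2.length_ext (A := A) (D := D2) (h.monoG D2 rfl) ok2 cd2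
  exact h1

theorem length_ext1 (h : Mono34 A) :
    Module.length A (Abelian.Ext
      (ModuleCat.of A (Submodule.span A ({1, (X : PowerSeries k)} : Set (PowerSeries k))))
      (ModuleCat.of A (Submodule.span A ({1, (X : PowerSeries k)} : Set (PowerSeries k))))
      1) = 2 := by
  have h1 := M2.length_ext (A := A) (D := D1) (h.monoG D1 rfl) ok1 cd1
  have h2 : M2.Mod D1 A = Submodule.span A ({1, (X : PowerSeries k)} : Set (PowerSeries k)) := by
    unfold M2.Mod
    have : (X : PowerSeries k) ^ D1.p = X := pow_one _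
    rw [this]
  rw [h2] at h1
  exact h1

end Groth.Agent.Lib.Helper72.E6
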