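import Mathlib
import Groth.Agent.Lib.Helper72.E6A

/-!
# The `E₆` ring `k⟦t³, t⁴⟧`: the module `M₃ = ⟨1, X, X²⟩ = k⟦X⟧`, presentation and kernel
-/

universe u

open PowerSeries CategoryTheory

namespace Groth.Agent.Lib.Helper72.E6

open Groth.Agent.Lib.Helper72.CubExt (sh coeff_sh sh_X_pow_mul X_pow_mul_sh cc cc_apply
  cc_surjective X_pow_mul_cancel)
open Groth.Agent.Lib.Helper72.A2d (coeff_mul_eq_zero_of coeff_mul_eq_single smulA)

variable {k : Type u} [Field k] {A : Subalgebra k (PowerSeries k)}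

lemma Mono34.mem_iff (h : Mono34 A) (f : PowerSeries k) :
    f ∈ A ↔ coeff 1 f = 0 ∧ coeff 2 f = 0 ∧ coeff 5 f = 0 := by
  rw [h f]
  constructor
  · intro hf
    refine ⟨?_, ?_, ?_⟩
    · by_contra hne
      have := (mem_closure_iff34 1).1 (hf 1 hne)
      unfold G34 at this; omega
    · by_contra hne
      have := (mem_closure_iff34 2).1 (hf 2 hne)
      unfold G34 at this; omega
    · by_contra hne
      have := (mem_closure_iff34 5).1 (hf 5 hne)
      unfold G34 at this; omega
  · intro hf e hne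
    rw [mem_closure_iff34]
    unfold G34
    by_contra hcon
    have : e = 1 ∨ e = 2 ∨ e = 5 := by omega
    rcases this with rfl | rfl | rfl
    · exact hne hf.1
    · exact hne hf.2.1
    · exact hne hf.2.2

lemma Mono34.X_pow_mem (h : Mono34 A) {x : ℕ} (hx : x ≠ 1 ∧ x ≠ 2 ∧ x ≠ 5) :
    (X : PowerSeries k) ^ x ∈ A := by
  rw [h.mem_iff]
  refine ⟨?_, ?_, ?_⟩
  · rw [coeff_X_pow, if_neg]; omega
  · rw [coeff_X_pow, if_neg]; omega
  · rw [coeff_X_pow, if_neg]; omega

/-- `X³` as an element of `A` -/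
noncomputable def x3 (h : Mono34 A) : A := ⟨X ^ 3, h.X_pow_mem (by omega)⟩
/-- `X⁴` as an element of `A` -/
noncomputable def x4 (h : Mono34 A) : A := ⟨X ^ 4, h.X_pow_mem (by omega)⟩

@[simp] lemma coe_x3 (h : Mono34 A) : ((x3 h : A) : PowerSeries k) = X ^ 3 := rfl
@[simp] lemma coe_x4 (h : Mono34 A) : ((x4 h : A) : PowerSeries k) = X ^ 4 := rfl

/-- the module `M₃ = ⟨1, X, X²⟩` -/
noncomputable def M3 (A : Subalgebra k (PowerSeries k)) : Submodule A (PowerSeries k) :=
  Submodule.span A ({1, X, X ^ 2} : Set (PowerSeries k))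

lemma coeff_poly3 (a b c : k) (e : ℕ) :
    coeff e (C a + C b * X ^ 1 + C c * X ^ 2 : PowerSeries k)
      = if e = 0 then a else if e = 1 then b else if e = 2 then c else 0 := by
  rw [map_add, map_add, coeff_C_mul_X_pow, coeff_C_mul_X_pow, coeff_C]
  rcases e with _ | _ | _ | e
  · simp
  · simp
  · simp
  · simp

lemma Mono34.decomp3 (h : Mono34 A) (f : PowerSeries k) :
    ∃ a0 a1 a2 : A, f = (a0 : PowerSeries k) + (a1 : PowerSeries k) * X ^ 1
      + (a2 : PowerSeries k) * X ^ 2 := by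
  have h2 : (C (coeff 2 f) : PowerSeries k) ∈ A := by
    rw [h.mem_iff]
    refine ⟨?_, ?_, ?_⟩ <;> simp [coeff_C]
  have h1 : (C (coeff 1 f) + C (coeff 5 f) * X ^ 4 : PowerSeries k) ∈ A := by
    rw [h.mem_iff]
    refine ⟨?_, ?_, ?_⟩ <;> simp [coeff_C, coeff_C_mul_X_pow]
  have h0 : f - (C (coeff 1 f) + C (coeff 5 f) * X ^ 4) * X ^ 1 - C (coeff 2 f) * X ^ 2 ∈ A := by
    rw [h.mem_iff]
    refine ⟨?_, ?_, ?_⟩
    · rw [map_sub, map_sub, coeff_mul_X_pow', coeff_C_mul_X_pow]
      simp [coeff_C, coeff_C_mul_X_pow]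
    · rw [map_sub, map_sub, coeff_mul_X_pow', coeff_C_mul_X_pow]
      simp [coeff_C, coeff_C_mul_X_pow]
    · rw [map_sub, map_sub, coeff_mul_X_pow', coeff_C_mul_X_pow]
      simp [coeff_C, coeff_C_mul_X_pow]
  exact ⟨⟨_, h0⟩, ⟨_, h1⟩, ⟨_, h2⟩, by dsimp only; ring⟩

lemma Mono34.mem_M3 (h : Mono34 A) (f : PowerSeries k) : f ∈ M3 A := by
  obtain ⟨a0, a1, a2, rfl⟩ := h.decomp3 f
  have h1 : (1 : PowerSeries k) ∈ M3 A := Submodule.subset_span (by simp)
  have h2 : (X : PowerSeries k) ∈ M3 A := Submodule.subset_span (by simp)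
  have h3 : (X : PowerSeries k) ^ 2 ∈ M3 A := Submodule.subset_span (by simp)
  have h4 := Submodule.add_mem _ (Submodule.add_mem _ (Submodule.smul_mem _ a0 h1)
    (Submodule.smul_mem _ a1 h2)) (Submodule.smul_mem _ a2 h3)
  rw [smulA, smulA, smulA, mul_one] at h4
  rw [pow_one]
  exact h4

/-- first generator -/
noncomputable def g0 (A : Subalgebra k (PowerSeries k)) : M3 A :=
  ⟨1, Submodule.subset_span (by simp)⟩
/-- second generator -/
noncomputable def g1 (A : Subalgebra k (PowerSeries k)) : M3 A :=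
  ⟨X, Submodule.subset_span (by simp)⟩
/-- third generator -/
noncomputable def g2 (A : Subalgebra k (PowerSeries k)) : M3 A :=
  ⟨X ^ 2, Submodule.subset_span (by simp)⟩

/-- the presentation `A³ → M₃` -/
noncomputable def pres3 (A : Subalgebra k (PowerSeries k)) : (Fin 3 → A) →ₗ[A] M3 A :=
  Fintype.linearCombination A ![g0 A, g1 A, g2 A]

lemma coe_pres3 (a : Fin 3 → A) : ((pres3 A a : M3 A) : PowerSeries k)
    = (a 0 : PowerSeries k) + (a 1 : PowerSeries k) * X ^ 1 + (a 2 : PowerSeries k) * X ^ 2 := by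
  rw [pres3, Fintype.linearCombination_apply, Fin.sum_univ_three]
  simp only [Matrix.cons_val_zero, Matrix.cons_val_one, Matrix.cons_val_two, Submodule.coe_add,
    Submodule.coe_smul]
  rw [smulA, smulA, smulA]
  simp [g0, g1, g2]

/-- instance shortcut -/
noncomputable instance (priority := 10000) instModuleKer3 :
    Module A (LinearMap.ker (pres3 A)) := Submodule.module _

/-- instance shortcut -/
noncomputable instance (priority := 10000) instSMulKer3 :
    SMul A (LinearMap.ker (pres3 A)) :=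
  (instModuleKer3 (A := A)).toDistribMulAction.toMulAction.toSMul

lemma ker_rel (a : LinearMap.ker (pres3 A)) :
    (a.1 0 : PowerSeries k) + (a.1 1 : PowerSeries k) * X ^ 1
      + (a.1 2 : PowerSeries k) * X ^ 2 = 0 := by
  have ha : pres3 A a.1 = 0 := a.2
  have h2 := congrArg (fun x : M3 A => (x : PowerSeries k)) ha
  simp only [coe_pres3, ZeroMemClass.coe_zero] at h2
  exact h2

lemma ker_eq0 (a : LinearMap.ker (pres3 A)) :
    (a.1 0 : PowerSeries k) = - ((a.1 1 : PowerSeries k) * X + (a.1 2 : PowerSeries k) * X ^ 2) := by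
  have := ker_rel a
  rw [pow_one] at this
  linear_combination this

lemma ker_coeff (a : LinearMap.ker (pres3 A)) (e : ℕ) :
    coeff e (a.1 0 : PowerSeries k)
      + (if 1 ≤ e then coeff (e - 1) (a.1 1 : PowerSeries k) else 0)
      + (if 2 ≤ e then coeff (e - 2) (a.1 2 : PowerSeries k) else 0) = 0 := by
  have := congrArg (coeff e) (ker_rel a)
  rw [map_add, map_add, coeff_mul_X_pow', coeff_mul_X_pow', map_zero] at this
  exact this

section

variable (h : Mono34 A)
include h

lemma pres3_surjective : Function.Surjective (pres3 A) := by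
  rintro ⟨f, hf⟩
  obtain ⟨a0, a1, a2, hf'⟩ := h.decomp3 f
  refine ⟨![a0, a1, a2], Subtype.ext ?_⟩
  rw [coe_pres3]
  simp only [Matrix.cons_val_zero, Matrix.cons_val_one, Matrix.cons_val_two,
    Matrix.tail_cons, Matrix.head_cons]
  exact hf'.symm

lemma ker_low1 (a : LinearMap.ker (pres3 A)) {e : ℕ} (he : e < 3) :
    coeff e (a.1 1 : PowerSeries k) = 0 := by
  have hA := (h.mem_iff _).1 (a.1 1).2
  have hA0 := (h.mem_iff _).1 (a.1 0).2
  interval_cases e
  · have := ker_coeff a 1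
    rw [if_pos le_rfl, if_neg (by omega), hA0.1] at this
    simpa using this
  · exact hA.1
  · exact hA.2.1

lemma ker_low2 (a : LinearMap.ker (pres3 A)) {e : ℕ} (he : e < 3) :
    coeff e (a.1 2 : PowerSeries k) = 0 := by
  have hA := (h.mem_iff _).1 (a.1 2).2
  have hA0 := (h.mem_iff _).1 (a.1 0).2
  have hA1 := (h.mem_iff _).1 (a.1 1).2
  interval_cases e
  · have := ker_coeff a 2
    rw [if_pos (by omega), if_pos le_rfl, hA0.2.1] at this
    simp only [Nat.sub_self] at this
    have h1 : coeff (2 - 1) (a.1 1 : PowerSeries k) = 0 := hA1.1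
    rw [h1] at this
    simpa using this
  · exact hA.1
  · exact hA.2.1

lemma ker_sh1 (a : LinearMap.ker (pres3 A)) :
    (X : PowerSeries k) ^ 3 * sh 3 (a.1 1 : PowerSeries k) = (a.1 1 : PowerSeries k) :=
  X_pow_mul_sh _ _ (fun _ he => ker_low1 h a he)

lemma ker_sh2 (a : LinearMap.ker (pres3 A)) :
    (X : PowerSeries k) ^ 3 * sh 3 (a.1 2 : PowerSeries k) = (a.1 2 : PowerSeries k) :=
  X_pow_mul_sh _ _ (fun _ he => ker_low2 h a he)

lemma sh_smul1 (c : A) (a : LinearMap.ker (pres3 A)) :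
    sh 3 ((c : PowerSeries k) * (a.1 1 : PowerSeries k))
      = (c : PowerSeries k) * sh 3 (a.1 1 : PowerSeries k) := by
  conv_lhs => rw [← ker_sh1 h a]
  rw [mul_left_comm, sh_X_pow_mul]

lemma sh_smul2 (c : A) (a : LinearMap.ker (pres3 A)) :
    sh 3 ((c : PowerSeries k) * (a.1 2 : PowerSeries k))
      = (c : PowerSeries k) * sh 3 (a.1 2 : PowerSeries k) := by
  conv_lhs => rw [← ker_sh2 h a]
  rw [mul_left_comm, sh_X_pow_mul]

/-- the syzygy `(-X⁴, X³, 0)` -/
noncomputable def v1 : LinearMap.ker (pres3 A) :=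
  ⟨![- x4 h, x3 h, 0], by
    rw [LinearMap.mem_ker]
    apply Subtype.ext
    rw [coe_pres3]
    simp only [Matrix.cons_val_zero, Matrix.cons_val_one, Matrix.cons_val_two,
      Matrix.tail_cons, Matrix.head_cons, ZeroMemClass.coe_zero]
    push_cast
    simp only [coe_x3, coe_x4]
    ring⟩

/-- the syzygy `(0, -X⁴, X³)` -/
noncomputable def v2 : LinearMap.ker (pres3 A) :=
  ⟨![0, - x4 h, x3 h], by
    rw [LinearMap.mem_ker]
    apply Subtype.ext
    rw [coe_pres3]
    simp only [Matrix.cons_val_zero, Matrix.cons_val_one, Matrix.cons_val_two,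
      Matrix.tail_cons, Matrix.head_cons, ZeroMemClass.coe_zero]
    push_cast
    simp only [coe_x3, coe_x4]
    ring⟩

lemma v1_val_eq : (v1 h).1 = (- x4 h) • Pi.single 0 (1 : A) + x3 h • Pi.single 1 (1 : A) := by
  funext l
  fin_cases l
  · simp [v1]
  · simp [v1]
  · simp [v1]

lemma v2_val_eq : (v2 h).1 = (- x4 h) • Pi.single 1 (1 : A) + x3 h • Pi.single 2 (1 : A) := by
  funext l
  fin_cases l
  · simp [v2]
  · simp [v2]
  · simp [v2]

/-- key relation: `X⁶ • a = (X³a₁ + X⁴a₂) • v₁ + (X³a₂) • v₂` -/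
lemma x6_smul_eq (a : LinearMap.ker (pres3 A)) :
    ((x3 h * x3 h) • a : LinearMap.ker (pres3 A))
      = (x3 h * a.1 1 + x4 h * a.1 2) • v1 h + (x3 h * a.1 2) • v2 h := by
  apply Subtype.ext
  rw [Submodule.coe_smul, Submodule.coe_add, Submodule.coe_smul, Submodule.coe_smul]
  funext l
  simp only [Pi.smul_apply, Pi.add_apply, smul_eq_mul]
  apply Subtype.ext
  fin_cases l
  · simp only [v1, v2, Fin.zero_eta, Matrix.cons_val_zero]
    push_cast
    rw [ker_eq0 a]
    simp only [coe_x3, coe_x4]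
    ring
  · simp only [v1, v2, Fin.mk_one, Matrix.cons_val_one, Matrix.cons_val_zero]
    push_cast
    simp only [coe_x3, coe_x4]
    ring
  · simp only [v1, v2, Fin.reduceFinMk, Matrix.cons_val_two, Matrix.tail_cons, Matrix.head_cons,
      Matrix.cons_val]
    push_cast
    simp only [coe_x3, coe_x4]
    ring

/-- values of a linear map on the kernel are determined by the values on `v₁`, `v₂` -/
lemma apply_eq3 {N : Submodule A (PowerSeries k)} (φ : LinearMap.ker (pres3 A) →ₗ[A] N)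
    (a : LinearMap.ker (pres3 A)) :
    (φ a : PowerSeries k)
      = (sh 3 (a.1 1 : PowerSeries k) + X * sh 3 (a.1 2 : PowerSeries k))
          * (φ (v1 h) : PowerSeries k)
        + sh 3 (a.1 2 : PowerSeries k) * (φ (v2 h) : PowerSeries k) := by
  have h1 : φ (((x3 h * x3 h) • a : LinearMap.ker (pres3 A))) = (x3 h * x3 h) • φ a :=
    map_smul _ _ _
  rw [x6_smul_eq h, map_add, map_smul, map_smul] at h1
  have h2 := congrArg (fun x : N => (x : PowerSeries k)) h1
  simp only [Submodule.coe_add, Submodule.coe_smul, smulA] at h2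
  push_cast at h2
  simp only [coe_x3, coe_x4] at h2
  rw [← ker_sh1 h a, ← ker_sh2 h a] at h2
  apply X_pow_mul_cancel 6
  linear_combination -h2

end

end Groth.Agent.Lib.Helper72.E6
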