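import Mathlib
import Groth.Agent.Lib.Helper72.E6B

/-!
# The `E₆` ring `k⟦t³, t⁴⟧`: `Ext¹_A(M₃, M₃)` has length `6`
-/

universe u

open PowerSeries CategoryTheory

namespace Groth.Agent.Lib.Helper72.E6

open Groth.Agent.Lib.Helper72.CubExt (sh coeff_sh sh_X_pow_mul X_pow_mul_sh cc cc_apply
  cc_surjective X_pow_mul_cancel)
open Groth.Agent.Lib.Helper72.A2d (coeff_mul_eq_zero_of coeff_mul_eq_single smulA)

variable {k : Type u} [Field k] {A : Subalgebra k (PowerSeries k)}

set_option synthInstance.maxHeartbeats 400000 in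
/-- instance shortcut -/
noncomputable instance (priority := 10000) instModuleHom3 :
    Module A (LinearMap.ker (pres3 A) →ₗ[A] M3 A) := LinearMap.module

/-- instance shortcut -/
noncomputable instance (priority := 10000) instSMulHom3 :
    SMul A (LinearMap.ker (pres3 A) →ₗ[A] M3 A) :=
  (instModuleHom3 (A := A)).toDistribMulAction.toMulAction.toSMul

lemma sh3_X3 : sh 3 ((X : PowerSeries k) ^ 3) = 1 := by
  have := sh_X_pow_mul 3 (1 : PowerSeries k)
  rwa [mul_one] at this

lemma sh3_X4 : sh 3 ((X : PowerSeries k) ^ 4) = X := by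
  have := sh_X_pow_mul 3 (X : PowerSeries k)
  rw [← pow_succ] at this
  exact this

lemma sh3_neg_X4 : sh 3 (-(X : PowerSeries k) ^ 4) = -X := by
  rw [map_neg, sh3_X4]

section

variable (h : Mono34 A)
include h

/-- the linear map on the kernel with prescribed values on `v₁`, `v₂` -/
noncomputable def phiOf3 (y1 y2 : PowerSeries k) : LinearMap.ker (pres3 A) →ₗ[A] M3 A where
  toFun a := ⟨(sh 3 (a.1 1 : PowerSeries k) + X * sh 3 (a.1 2 : PowerSeries k)) * y1
    + sh 3 (a.1 2 : PowerSeries k) * y2, h.mem_M3 _⟩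
  map_add' a b := by
    apply Subtype.ext
    simp only [Submodule.coe_add, Pi.add_apply, Subalgebra.coe_add, map_add]
    ring
  map_smul' c a := by
    apply Subtype.ext
    simp only [RingHom.id_apply, Submodule.coe_smul, Pi.smul_apply, smul_eq_mul,
      Subalgebra.coe_mul]
    rw [smulA, sh_smul1 h c a, sh_smul2 h c a]
    ring

lemma coe_phiOf3_v1 (y1 y2 : PowerSeries k) :
    ((phiOf3 h y1 y2 (v1 h) : M3 A) : PowerSeries k) = y1 := by
  show (sh 3 (((v1 h).1 1 : A) : PowerSeries k) + X * sh 3 (((v1 h).1 2 : A) : PowerSeries k)) * y1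
    + sh 3 (((v1 h).1 2 : A) : PowerSeries k) * y2 = y1
  have e1 : (((v1 h).1 1 : A) : PowerSeries k) = X ^ 3 := by simp [v1]
  have e2 : (((v1 h).1 2 : A) : PowerSeries k) = 0 := by simp [v1]
  rw [e1, e2, sh3_X3, map_zero]
  ring

lemma coe_phiOf3_v2 (y1 y2 : PowerSeries k) :
    ((phiOf3 h y1 y2 (v2 h) : M3 A) : PowerSeries k) = y2 := by
  show (sh 3 (((v2 h).1 1 : A) : PowerSeries k) + X * sh 3 (((v2 h).1 2 : A) : PowerSeries k)) * y1
    + sh 3 (((v2 h).1 2 : A) : PowerSeries k) * y2 = y2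
  have e1 : (((v2 h).1 1 : A) : PowerSeries k) = - X ^ 4 := by simp [v2]
  have e2 : (((v2 h).1 2 : A) : PowerSeries k) = X ^ 3 := by simp [v2]
  rw [e1, e2, sh3_X3, sh3_neg_X4]
  ring

/-- the coordinate functionals -/
noncomputable def ell3 : (LinearMap.ker (pres3 A) →ₗ[A] M3 A) →+ (Fin 6 → k) where
  toFun φ := fun t => if t.val < 3 then coeff t.val (φ (v1 h) : PowerSeries k)
    else coeff (t.val - 3) (φ (v2 h) : PowerSeries k)
  map_zero' := by funext t; simp
  map_add' φ ψ := by
    funext t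
    by_cases ht : t.val < 3
    · simp [ht]
    · simp [ht]

lemma ell3_apply (φ : LinearMap.ker (pres3 A) →ₗ[A] M3 A) (t : Fin 6) :
    ell3 h φ t = if t.val < 3 then coeff t.val (φ (v1 h) : PowerSeries k)
      else coeff (t.val - 3) (φ (v2 h) : PowerSeries k) := rfl

lemma ell3_surjective : Function.Surjective (ell3 h) := by
  intro q
  refine ⟨phiOf3 h (C (q 0) + C (q 1) * X ^ 1 + C (q 2) * X ^ 2)
    (C (q 3) + C (q 4) * X ^ 1 + C (q 5) * X ^ 2), ?_⟩
  funext t
  rw [ell3_apply, coe_phiOf3_v1, coe_phiOf3_v2, coeff_poly3, coeff_poly3]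
  fin_cases t <;> simp

lemma ell3_eq_zero_iff (φ : LinearMap.ker (pres3 A) →ₗ[A] M3 A) :
    ell3 h φ = 0 ↔ ∃ ψ : (Fin 3 → A) →ₗ[A] M3 A,
      ψ ∘ₗ (LinearMap.ker (pres3 A)).subtype = φ := by
  constructor
  · intro h0
    have hl1 : ∀ e, e < 3 → coeff e (φ (v1 h) : PowerSeries k) = 0 := by
      intro e he
      have := congrFun h0 ⟨e, by omega⟩
      rw [ell3_apply, if_pos he] at this
      exact this
    have hl2 : ∀ e, e < 3 → coeff e (φ (v2 h) : PowerSeries k) = 0 := by
      intro e he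
      have := congrFun h0 ⟨e + 3, by omega⟩
      rw [ell3_apply, if_neg (by simp)] at this
      simpa using this
    obtain ⟨z1, hz1⟩ : ∃ z1 : PowerSeries k, X ^ 3 * z1 = (φ (v1 h) : PowerSeries k) :=
      ⟨_, X_pow_mul_sh _ _ hl1⟩
    obtain ⟨z2, hz2⟩ : ∃ z2 : PowerSeries k, X ^ 3 * z2 = (φ (v2 h) : PowerSeries k) :=
      ⟨_, X_pow_mul_sh _ _ hl2⟩
    refine ⟨(LinearMap.proj (R := A) (φ := fun _ : Fin 3 => A) 1).smulRight
        (⟨z1, h.mem_M3 _⟩ : M3 A)
      + (LinearMap.proj (R := A) (φ := fun _ : Fin 3 => A) 2).smulRight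
        (⟨z2 + X * z1, h.mem_M3 _⟩ : M3 A), ?_⟩
    apply LinearMap.ext
    intro a
    apply Subtype.ext
    rw [apply_eq3 h φ a, ← hz1, ← hz2]
    simp only [LinearMap.coe_comp, Function.comp_apply, Submodule.coe_subtype,
      LinearMap.add_apply, LinearMap.smulRight_apply, LinearMap.proj_apply,
      Submodule.coe_add, Submodule.coe_smul, smulA]
    conv_lhs => rw [← ker_sh1 h a, ← ker_sh2 h a]
    ring
  · rintro ⟨ψ, rfl⟩
    funext t
    rw [ell3_apply]
    show _ = (0 : k)
    split_ifs with ht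
    · show coeff t.val ((ψ (v1 h).1 : M3 A) : PowerSeries k) = 0
      rw [v1_val_eq h, map_add, map_smul, map_smul]
      simp only [Submodule.coe_add, Submodule.coe_smul, smulA]
      push_cast
      simp only [coe_x3, coe_x4]
      rw [map_add, neg_mul, map_neg, coeff_X_pow_mul', coeff_X_pow_mul', if_neg (by omega),
        if_neg (by omega)]
      simp
    · show coeff (t.val - 3) ((ψ (v2 h).1 : M3 A) : PowerSeries k) = 0
      have := t.isLt
      rw [v2_val_eq h, map_add, map_smul, map_smul]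
      simp only [Submodule.coe_add, Submodule.coe_smul, smulA]
      push_cast
      simp only [coe_x3, coe_x4]
      rw [map_add, neg_mul, map_neg, coeff_X_pow_mul', coeff_X_pow_mul', if_neg (by omega),
        if_neg (by omega)]
      simp

lemma coeff_low_mul (a : A) (y : PowerSeries k) {e : ℕ} (he : e < 3) :
    coeff e ((a : PowerSeries k) * y) = coeff 0 (a : PowerSeries k) * coeff e y := by
  apply coeff_mul_eq_single
  intro g q hgq hg0
  left
  have hA := (h.mem_iff _).1 a.2
  rcases (by omega : g = 1 ∨ g = 2) with rfl | rfl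
  · exact hA.1
  · exact hA.2.1

lemma ell3_smul (t : Fin 6) (φ : LinearMap.ker (pres3 A) →ₗ[A] M3 A) (a : A) :
    ell3 h (a • φ) t = cc A a * ell3 h φ t := by
  rw [ell3_apply, ell3_apply, cc_apply]
  have := t.isLt
  split_ifs with ht
  · simp only [LinearMap.smul_apply, Submodule.coe_smul, smulA]
    exact coeff_low_mul h a _ ht
  · simp only [LinearMap.smul_apply, Submodule.coe_smul, smulA]
    exact coeff_low_mul h a _ (by omega)

end

set_option maxHeartbeats 1000000 in
/-- **`Ext¹_A(M₃, M₃)` has length `6`.** -/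
theorem length_ext3 (h : Mono34 A) :
    Module.length A (Abelian.Ext
      (ModuleCat.of A (Submodule.span A
        ({1, (X : PowerSeries k), (X : PowerSeries k) ^ 2} : Set (PowerSeries k))))
      (ModuleCat.of A (Submodule.span A
        ({1, (X : PowerSeries k), (X : PowerSeries k) ^ 2} : Set (PowerSeries k))))
      1) = 6 := by
  have h1 := ExtTri.length_ext_tri (A := A) (k := k) (cc A) (P := Fin 3 → A) (M := M3 A)
    (N := M3 A) cc_surjective (pres3 A) (pres3_surjective h) 6
  have h2 := h1 (ell3 h) (ell3_surjective h)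
  have h4 := h2 (ell3_eq_zero_iff h)
  have h5 := h4 (fun t φ _ a => ell3_smul h t φ a)
  exact h5

end Groth.Agent.Lib.Helper72.E6
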