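import Mathlib

set_option autoImplicit false
universe u v

namespace Groth.Agent.Lib.Helper72.ExtFour

open ExteriorAlgebra

variable {R : Type u} [CommRing R] {M : Type v} [AddCommGroup M] [Module R M]

/-- family of alternating maps concentrated in degree 4 -/
noncomputable def fam (g : M →ₗ[R] (Fin 4 → R)) : ∀ i, M [⋀^Fin i]→ₗ[R] R
  | 4 => Matrix.detRowAlternating.compLinearMap g
  | _ => 0

lemma phi_exists (g : M →ₗ[R] (Fin 4 → R)) :
    ∃ Φ : ExteriorAlgebra R M →ₗ[R] R, ∀ a b c d : M,
      Φ (ι R a * ι R b * ι R c * ι R d) = Matrix.det (Matrix.of ![g a, g b, g c, g d]) := by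
  refine ⟨liftAlternating (fam g), ?_⟩
  intro a b c d
  have h1 : ι R a * ι R b * ι R c * ι R d = ιMulti R 4 ![a, b, c, d] := by
    rw [ιMulti_apply]
    simp [List.ofFn_succ, mul_assoc]
  rw [h1, liftAlternating_apply_ιMulti]
  show Matrix.detRowAlternating (fun i => g (![a, b, c, d] i)) = _
  show Matrix.det (Matrix.of fun i => g (![a, b, c, d] i)) = _
  congr 2
  funext i
  fin_cases i <;> rfl

lemma det_block (p q u w : R) :
    Matrix.det (Matrix.of ![![p, q, 0, 0], ![0, 0, p, q], ![u, w, 0, 0], ![0, 0, u, w]]) =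
      -(p * w - q * u) ^ 2 := by
  rw [Matrix.det_succ_row_zero]
  simp [Fin.sum_univ_succ, Matrix.det_fin_three, Fin.succAbove]
  ring

lemma anticomm (x y : M) : ι R x * ι R y = -(ι R y * ι R x) :=
  eq_neg_of_add_eq_zero_left (ι_add_mul_swap x y)

lemma reorder (a b c d : M) :
    ι R c * ι R d * ι R a * ι R b = ι R a * ι R b * ι R c * ι R d := by
  have hda := anticomm (R := R) d a
  have hca := anticomm (R := R) c a
  have hdb := anticomm (R := R) d b
  have hcb := anticomm (R := R) c b
  calc ι R c * ι R d * ι R a * ι R b = ι R c * (ι R d * ι R a) * ι R b := by noncomm_ring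
    _ = -(ι R c * ι R a * (ι R d * ι R b)) := by rw [hda]; noncomm_ring
    _ = -(ι R a * (ι R c * ι R b) * ι R d) := by rw [hca, hdb]; noncomm_ring
    _ = ι R a * ι R b * ι R c * ι R d := by rw [hcb]; noncomm_ring

end Groth.Agent.Lib.Helper72.ExtFour
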