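/-
Helper72: the total blow-up graph of a labelled multigraph: the multidegree operator along the
inserted paths.
-/
import Mathlib
import Groth.Agent.Lib.Helper72.GraphCycB

set_option autoImplicit false
set_option linter.unusedSectionVars false
universe u
open Finset

namespace Groth.Agent.Lib.Helper72.GraphCyc

open LabGraph

variable {V E : Type u} [Fintype V] [Fintype E] [DecidableEq V] [DecidableEq E]

section path
variable (ends : E → V × V) (l : E → ℕ)

lemma pathVert_zero (e : E) : pathVert ends l e 0 = Sum.inl (ends e).1 := by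
  simp [pathVert]

lemma pathVert_mid (e : E) (k : ℕ) (h0 : k ≠ 0) (hk : k < l e) :
    pathVert ends l e k = Sum.inr ⟨e, ⟨k - 1, by omega⟩⟩ := by
  simp [pathVert, h0, hk]

lemma pathVert_last (e : E) (k : ℕ) (h0 : k ≠ 0) (hk : ¬ k < l e) :
    pathVert ends l e k = Sum.inl (ends e).2 := by
  simp [pathVert, h0, hk]

lemma pathVert_eq_inr_iff (e' e : E) (k : ℕ) (j : Fin (l e - 1)) :
    pathVert ends l e' k = Sum.inr ⟨e, j⟩ ↔ e' = e ∧ k = j.val + 1 := by
  have hj := j.2
  by_cases h0 : k = 0
  · subst h0
    rw [pathVert_zero]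
    constructor
    · intro h; exact absurd h (by simp)
    · rintro ⟨_, h⟩; omega
  · by_cases hk : k < l e'
    · rw [pathVert_mid ends l e' k h0 hk]
      constructor
      · intro h
        have h1 := Sum.inr.inj h
        obtain ⟨h2, h3⟩ := Sigma.mk.inj_iff.1 h1
        subst h2
        have h4 := eq_of_heq h3
        have h5 := congrArg Fin.val h4
        simp only at h5
        exact ⟨rfl, by omega⟩
      · rintro ⟨rfl, h2⟩
        congr 2
        apply Fin.ext
        simp only
        omega
    · rw [pathVert_last ends l e' k h0 hk]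
      constructor
      · intro h; exact absurd h (by simp)
      · rintro ⟨rfl, h2⟩; omega

lemma pathVert_eq_inl_iff (e : E) (k : ℕ) (hk : k ≤ l e) (hl : 0 < l e) (v : V) :
    pathVert ends l e k = Sum.inl v ↔
      (k = 0 ∧ (ends e).1 = v) ∨ (k = l e ∧ (ends e).2 = v) := by
  by_cases h0 : k = 0
  · subst h0
    rw [pathVert_zero]
    constructor
    · intro h; exact Or.inl ⟨rfl, Sum.inl.inj h⟩
    · rintro (⟨_, h⟩ | ⟨h, _⟩)
      · rw [h]
      · omega
  · by_cases hk' : k < l e
    · rw [pathVert_mid ends l e k h0 hk']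
      constructor
      · intro h; exact absurd h (by simp)
      · rintro (⟨h, _⟩ | ⟨h, _⟩) <;> omega
    · rw [pathVert_last ends l e k h0 hk']
      constructor
      · intro h; exact Or.inr ⟨by omega, Sum.inl.inj h⟩
      · rintro (⟨h, _⟩ | ⟨_, h⟩)
        · omega
        · rw [h]

/-- the multidegree operator of the blow-up graph, path by path. -/
lemma mdeg_bl (ψ : BlVert V E l → ℤ) (w : BlVert V E l) :
    mdeg (blEnds ends l) (fun _ => 1) ψ w =
      ∑ e, ∑ k : Fin (l e),
        ((if pathVert ends l e k = w then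
            ψ (pathVert ends l e (k + 1)) - ψ (pathVert ends l e k) else 0) +
         (if pathVert ends l e (k + 1) = w then
            ψ (pathVert ends l e k) - ψ (pathVert ends l e (k + 1)) else 0)) := by
  simp only [mdeg, blEnds, Nat.cast_one, Int.ediv_one]
  rw [Fintype.sum_sigma]

/-- at a new vertex the multidegree is the second difference along the path. -/
lemma mdeg_bl_inr (ψ : BlVert V E l → ℤ) (e : E) (j : Fin (l e - 1)) :
    mdeg (blEnds ends l) (fun _ => 1) ψ (Sum.inr ⟨e, j⟩) =
      ψ (pathVert ends l e j) + ψ (pathVert ends l e (j + 2)) -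
        2 * ψ (pathVert ends l e (j + 1)) := by
  have hj := j.2
  have hj1 : j.val + 1 < l e := by omega
  have hj0 : j.val < l e := by omega
  rw [mdeg_bl]
  simp only [pathVert_eq_inr_iff]
  rw [Finset.sum_eq_single e]
  · simp only [true_and, Finset.sum_add_distrib]
    rw [Finset.sum_eq_single_of_mem (⟨j.val + 1, hj1⟩ : Fin (l e)) (Finset.mem_univ _)
      (fun k _ hne => if_neg (fun h => hne (Fin.ext h)))]
    rw [Finset.sum_eq_single_of_mem (⟨j.val, hj0⟩ : Fin (l e)) (Finset.mem_univ _)
      (fun k _ hne => if_neg (fun h => hne (Fin.ext (by simpa using h))))]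
    simp only [if_true]
    ring_nf
  · intro e' _ hne
    simp [hne]
  · intro h; exact absurd (Finset.mem_univ e) h

/-- at an old vertex the multidegree is the sum over the edge ends of the first differences. -/
lemma mdeg_bl_inl (hl : ∀ e, 0 < l e) (ψ : BlVert V E l → ℤ) (v : V) :
    mdeg (blEnds ends l) (fun _ => 1) ψ (Sum.inl v) =
      ∑ e, ((if (ends e).1 = v then ψ (pathVert ends l e 1) - ψ (Sum.inl (ends e).1) else 0) +
            (if (ends e).2 = v then
              ψ (pathVert ends l e (l e - 1)) - ψ (Sum.inl (ends e).2) else 0)) := by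
  rw [mdeg_bl]
  refine Finset.sum_congr rfl fun e _ => ?_
  have hle := hl e
  rw [Finset.sum_add_distrib]
  congr 1
  · by_cases hv : (ends e).1 = v
    · rw [if_pos hv]
      rw [Finset.sum_eq_single_of_mem (⟨0, hle⟩ : Fin (l e)) (Finset.mem_univ _)]
      · simp only [zero_add]
        rw [if_pos ((pathVert_eq_inl_iff ends l e 0 (Nat.zero_le _) hle v).2 (Or.inl ⟨rfl, hv⟩)),
          pathVert_zero]
      · intro k _ hne
        refine if_neg fun h => ?_
        rcases (pathVert_eq_inl_iff ends l e k k.2.le hle v).1 h with ⟨h1, _⟩ | ⟨h1, _⟩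
        · exact hne (Fin.ext h1)
        · have := k.2; omega
    · rw [if_neg hv]
      refine Finset.sum_eq_zero fun k _ => if_neg fun h => ?_
      rcases (pathVert_eq_inl_iff ends l e k k.2.le hle v).1 h with ⟨_, h1⟩ | ⟨h1, _⟩
      · exact hv h1
      · have := k.2; omega
  · by_cases hv : (ends e).2 = v
    · rw [if_pos hv]
      rw [Finset.sum_eq_single_of_mem (⟨l e - 1, by omega⟩ : Fin (l e)) (Finset.mem_univ _)]
      · simp only
        have h1 : l e - 1 + 1 = l e := by omega
        rw [h1, if_pos ((pathVert_eq_inl_iff ends l e (l e) le_rfl hle v).2 (Or.inr ⟨rfl, hv⟩)),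
          pathVert_last ends l e (l e) (by omega) (lt_irrefl _)]
      · intro k _ hne
        refine if_neg fun h => ?_
        have hk := k.2
        rcases (pathVert_eq_inl_iff ends l e (k + 1) (by omega) hle v).1 h with ⟨h1, _⟩ | ⟨h1, _⟩
        · omega
        · exact hne (Fin.ext (by simp only; omega))
    · rw [if_neg hv]
      refine Finset.sum_eq_zero fun k _ => if_neg fun h => ?_
      have hk := k.2
      rcases (pathVert_eq_inl_iff ends l e (k + 1) (by omega) hle v).1 h with ⟨h1, _⟩ | ⟨_, h1⟩
      · omega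
      · exact hv h1

end path

/-! ### sequences and second differences -/

/-- second difference of an integer sequence. -/
def d2 (u : ℕ → ℤ) (j : ℕ) : ℤ := u j + u (j + 2) - 2 * u (j + 1)

lemma seq_diff (u : ℕ → ℤ) (n : ℕ) :
    u (n + 1) - u n = (u 1 - u 0) + ∑ j ∈ range n, d2 u j := by
  induction n with
  | zero => simp
  | succ n ih =>
    rw [Finset.sum_range_succ]
    simp only [d2] at ih ⊢
    linarith

lemma seq_total (u : ℕ → ℤ) (n : ℕ) :
    u (n + 1) - u 0 = ((n : ℤ) + 1) * (u 1 - u 0) + ∑ j ∈ range n, ((n : ℤ) - j) * d2 u j := by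
  induction n with
  | zero => simp
  | succ n ih =>
    have h1 := seq_diff u (n + 1)
    rw [Finset.sum_range_succ] at h1 ⊢
    have h2 : ∑ j ∈ range n, (((n + 1 : ℕ) : ℤ) - j) * d2 u j =
        ∑ j ∈ range n, ((n : ℤ) - j) * d2 u j + ∑ j ∈ range n, d2 u j := by
      rw [← Finset.sum_add_distrib]
      refine Finset.sum_congr rfl fun j _ => ?_
      push_cast; ring
    rw [h2]
    push_cast
    linarith

/-- the double sum solving `second difference = d`. -/
def dsum (d : ℕ → ℤ) (k : ℕ) : ℤ := ∑ j ∈ range k, ((k : ℤ) - 1 - j) * d j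

lemma dsum_zero (d : ℕ → ℤ) : dsum d 0 = 0 := by simp [dsum]

lemma dsum_d2 (d : ℕ → ℤ) (k : ℕ) : dsum d k + dsum d (k + 2) - 2 * dsum d (k + 1) = d k := by
  have h2 : dsum d (k + 2) = ∑ j ∈ range k, ((k : ℤ) + 1 - j) * d j + d k := by
    simp only [dsum, Finset.sum_range_succ]
    push_cast
    have : ∑ x ∈ range k, ((k : ℤ) + 2 - 1 - x) * d x = ∑ j ∈ range k, ((k : ℤ) + 1 - j) * d j :=
      Finset.sum_congr rfl fun j _ => by ring
    rw [this]; ring
  have h1 : dsum d (k + 1) = ∑ j ∈ range k, ((k : ℤ) - j) * d j := by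
    simp only [dsum, Finset.sum_range_succ]
    push_cast
    have : ∑ x ∈ range k, ((k : ℤ) + 1 - 1 - x) * d x = ∑ j ∈ range k, ((k : ℤ) - j) * d j :=
      Finset.sum_congr rfl fun j _ => by ring
    rw [this]; ring
  have h3 : ∑ j ∈ range k, ((k : ℤ) + 1 - j) * d j + ∑ j ∈ range k, ((k : ℤ) - 1 - j) * d j =
      2 * ∑ j ∈ range k, ((k : ℤ) - j) * d j := by
    rw [← Finset.sum_add_distrib, Finset.mul_sum]
    refine Finset.sum_congr rfl fun j _ => by ring
  rw [h2, h1]
  simp only [dsum] at h3 ⊢
  linarith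

end Groth.Agent.Lib.Helper72.GraphCyc
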