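/-
Helper72: decomposition of a vertex function along an edge colouring that is constant on circuits.
-/
import Mathlib
import Groth.Agent.Lib.Helper72.GraphCycD

set_option autoImplicit false
set_option linter.unusedSectionVars false
universe u v
open Finset

namespace Groth.Agent.Lib.Helper72.GraphCyc

open LabGraph

variable {V E : Type u} [Fintype V] [Fintype E] [DecidableEq V] [DecidableEq E]

/-- on a connected multigraph a function with zero coboundary is constant. -/
lemma const_of_cob_zero (ends : E → V × V) (hconn : Connected ends) (g : V → ℤ)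
    (h : ∀ e, cob ends g e = 0) (v w : V) : g v = g w := by
  have hr : Relation.ReflTransGen (AdjIn ends univ) v w :=
    Relation.ReflTransGen.mono (fun a b ⟨e, he⟩ => ⟨e, Finset.mem_univ _, he⟩) _ _ (hconn.2 v w)
  have := walk_integral ends univ (0 : V → ℤ) g 0 (fun e _ => by rw [h e]; simp) hr
  simp at this
  linarith

/-- the `lam`-coloured part of a vertex function, when the colouring is constant on circuits. -/
lemma exists_component {L : Type v} [DecidableEq L] (ends : E → V × V) (hconn : Connected ends)
    (lab : E → L)
    (hcirc : ∀ C : Finset E, IsCircuit ends C → ∀ e ∈ C, ∀ e' ∈ C, lab e = lab e')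
    (f : V → ℤ) (v₀ : V) (lam : L) :
    ∃ g : V → ℤ, g v₀ = 0 ∧ ∀ e, cob ends g e = if lab e = lam then cob ends f e else 0 := by
  classical
  obtain ⟨T, -, -, hT, hmax⟩ := exists_maximal_circFree ends ∅ univ
    (fun C hC hcirc => by
      have := hcirc.1
      rw [Finset.subset_empty.1 hC] at this
      exact Finset.not_nonempty_empty this)
    (Finset.empty_subset _)
  obtain ⟨g₀, hg₀⟩ := exists_potential ends T hT (fun e => if lab e = lam then cob ends f e else 0)
  refine ⟨fun v => g₀ v - g₀ v₀, by simp, ?_⟩
  have hcob : ∀ e, cob ends (fun v => g₀ v - g₀ v₀) e = cob ends g₀ e := by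
    intro e; simp only [cob]; ring
  intro e
  rw [hcob]
  by_cases heT : e ∈ T
  · exact hg₀ e heT
  · have h1 := hmax e (Finset.mem_univ _) heT
    simp only [CircFree, not_forall, not_not] at h1
    obtain ⟨C, hC, hCc⟩ := h1
    have heC : e ∈ C := by
      by_contra hne
      refine hT C (fun x hx => ?_) hCc
      rcases Finset.mem_insert.1 (hC hx) with rfl | h
      · exact absurd hx hne
      · exact h
    have hr := reach_of_even ends C hCc.2.1 e heC
    have hk := walk_integral ends (C.erase e) f g₀ (if lab e = lam then 1 else 0) (by
      intro e' he'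
      have he'' := Finset.mem_erase.1 he'
      have he'T : e' ∈ T := by
        rcases Finset.mem_insert.1 (hC he''.2) with h | h
        · exact absurd h he''.1
        · exact h
      rw [hg₀ e' he'T, hcirc C hCc e' he''.2 e heC]
      split_ifs <;> ring) hr
    simp only [cob]
    rw [hk]
    split_ifs <;> ring

/-- decomposition of a vertex function into its coloured parts. -/
lemma exists_decomposition {L : Type v} [DecidableEq L] (ends : E → V × V) (hconn : Connected ends)
    (lab : E → L)
    (hcirc : ∀ C : Finset E, IsCircuit ends C → ∀ e ∈ C, ∀ e' ∈ C, lab e = lab e')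
    (f : V → ℤ) (v₀ : V) :
    ∃ (Λ : Finset L) (F : L → V → ℤ),
      (∀ lam, F lam v₀ = 0) ∧
      (∀ lam e, cob ends (F lam) e = if lab e = lam then cob ends f e else 0) ∧
      f = (∑ lam ∈ Λ, F lam) + fun _ => f v₀ := by
  classical
  have key := fun lam => exists_component ends hconn lab hcirc f v₀ lam
  choose F hF0 hF using key
  refine ⟨univ.image lab, F, hF0, hF, ?_⟩
  have hz : ∀ e, cob ends (f - ∑ lam ∈ univ.image lab, F lam) e = 0 := by
    intro e
    have h1 : cob ends (f - ∑ lam ∈ univ.image lab, F lam) e =
        cob ends f e - cob ends (∑ lam ∈ univ.image lab, F lam) e := by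
      simp only [cob, Pi.sub_apply]; ring
    rw [h1, cob_sum]
    simp only [hF]
    rw [Finset.sum_ite_eq, if_pos (Finset.mem_image_of_mem _ (Finset.mem_univ _))]
    ring
  funext v
  have := const_of_cob_zero ends hconn _ hz v v₀
  simp only [Pi.sub_apply, Finset.sum_apply, hF0, Finset.sum_const_zero, sub_zero] at this
  simp only [Pi.add_apply, Finset.sum_apply]
  linarith

end Groth.Agent.Lib.Helper72.GraphCyc
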