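/-
Helper72: the weighted matrix-tree theorem for finite multigraphs.
-/
import Mathlib
import Groth.Agent.Lib.Helper72.GraphTreeA

set_option autoImplicit false
set_option linter.unusedSectionVars false
universe u
open Finset

namespace Groth.Agent.Lib.Helper72.GraphCyc

open LabGraph

variable {V E : Type u} [Fintype V] [Fintype E] [DecidableEq V] [DecidableEq E]

/-- the incidence vector of an edge. -/
def bvec (ends : E → V × V) (e : E) : V → ℤ := Pi.single (ends e).1 1 - Pi.single (ends e).2 1

/-- the weighted Laplacian `Σ_e c_e b_e b_eᵀ`. -/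
def lap (ends : E → V × V) (c : E → ℤ) : Matrix V V ℤ :=
  Matrix.of fun v w => ∑ e, c e * bvec ends e v * bvec ends e w

lemma bvec_mul {ends : E → V × V} {e : E} {v : V} (h : Inc ends e v) (w : V) :
    bvec ends e v * bvec ends e w =
      (Pi.single v 1 - Pi.single (other ends e v) 1 : V → ℤ) w := by
  have hne := other_ne h
  rcases ends_of_inc h with h1 | h1
  · simp only [bvec, h1, Pi.sub_apply, Pi.single_eq_same, Pi.single_eq_of_ne hne.symm]
    ring
  · simp only [bvec, h1, Pi.sub_apply, Pi.single_eq_same, Pi.single_eq_of_ne hne.symm]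
    ring

lemma bvec_eq_zero {ends : E → V × V} {e : E} {v : V} (h : ¬ Inc ends e v) :
    bvec ends e v = 0 := by
  simp only [Inc, not_and_or, not_or, not_not] at h
  rcases h with ⟨h1, h2⟩ | h1
  · simp [bvec, Pi.single_apply, Ne.symm h1, Ne.symm h2]
  · simp [bvec, h1]

/-- the row summands of the reduced Laplacian. -/
def rowTerm (ends : E → V × V) (c : E → ℤ) (v : V) : Option E → (V → ℤ)
  | none => Pi.single v 1
  | some e => (c e * bvec ends e v) • bvec ends e

/-- the admissible choices at a vertex. -/
def choices (v₀ v : V) : Finset (Option E) :=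
  if v = v₀ then {none} else univ.map ⟨some, Option.some_injective E⟩

lemma mem_choices_root {v₀ : V} {o : Option E} : o ∈ choices (E := E) v₀ v₀ ↔ o = none := by
  simp [choices]

lemma mem_choices_ne {v₀ v : V} (hv : v ≠ v₀) {o : Option E} :
    o ∈ choices (E := E) v₀ v ↔ ∃ e, o = some e := by
  simp only [choices, if_neg hv, Finset.mem_map, Finset.mem_univ, true_and,
    Function.Embedding.coeFn_mk]
  constructor
  · rintro ⟨e, he⟩; exact ⟨e, he.symm⟩
  · rintro ⟨e, he⟩; exact ⟨e, he.symm⟩

lemma red_row (ends : E → V × V) (c : E → ℤ) (v₀ v : V) :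
    ((lap ends c).updateRow v₀ (Pi.single v₀ 1)) v =
      ∑ o ∈ choices v₀ v, rowTerm ends c v o := by
  by_cases hv : v = v₀
  · subst hv
    simp [choices, rowTerm]
  · rw [Matrix.updateRow_ne hv]
    simp only [choices, if_neg hv, Finset.sum_map, Function.Embedding.coeFn_mk, rowTerm]
    funext w
    simp only [lap, Matrix.of_apply, Finset.sum_apply, Pi.smul_apply, smul_eq_mul]

lemma det_red_expand (ends : E → V × V) (c : E → ℤ) (v₀ : V) :
    ((lap ends c).updateRow v₀ (Pi.single v₀ 1)).det =
      ∑ r ∈ Fintype.piFinset (fun v => choices (E := E) v₀ v),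
        Matrix.det (fun v => rowTerm ends c v (r v)) := by
  have h1 : ((lap ends c).updateRow v₀ (Pi.single v₀ 1)) =
      fun v => ∑ o ∈ choices v₀ v, rowTerm ends c v o := funext (red_row ends c v₀)
  rw [h1]
  exact MultilinearMap.map_sum_finset
    (Matrix.detRowAlternating : (V → ℤ) [⋀^V]→ₗ[ℤ] ℤ).toMultilinearMap
    (rowTerm ends c) (fun v => choices v₀ v)

/-- the weight of a parent-edge function. -/
def wt (c : E → ℤ) (r : V → Option E) : ℤ :=
  ∏ v, (match r v with | none => 1 | some e => c e)

/-- the unweighted matrix attached to a parent-edge function. -/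
def treeMat (ends : E → V × V) (r : V → Option E) : Matrix V V ℤ := fun v =>
  match r v with
  | none => Pi.single v 1
  | some e => Pi.single v 1 - Pi.single (other ends e v) 1

lemma treeMat_apply (ends : E → V × V) (r : V → Option E) (v w : V) :
    treeMat ends r v w = (if w = v then 1 else 0) -
      (if r v ≠ none ∧ w = par ends r v then 1 else 0) := by
  unfold treeMat
  cases h : r v with
  | none => simp [Pi.single_apply]
  | some e => simp [Pi.single_apply, par_some h]

lemma treeMat_mulVec (ends : E → V × V) (r : V → Option E) (x : V → ℤ) (v : V) :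
    (treeMat ends r).mulVec x v = x v - (if r v ≠ none then x (par ends r v) else 0) := by
  simp only [Matrix.mulVec, dotProduct, treeMat_apply, sub_mul, Finset.sum_sub_distrib, ite_mul,
    one_mul, zero_mul, Finset.sum_ite_eq', Finset.mem_univ, if_true]
  congr 1
  by_cases h : r v ≠ none
  · simp [h]
  · simp [h]

/-- a valid parent-edge function which is not rooted has a singular matrix. -/
lemma det_treeMat_of_not_rooted (ends : E → V × V) (v₀ : V) (r : V → Option E)
    (h0 : r v₀ = none) (hval : ∀ v, v ≠ v₀ → ∃ e, r v = some e)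
    (hnr : ∃ v, ∀ k, (par ends r)^[k] v ≠ v₀) : (treeMat ends r).det = 0 := by
  classical
  rw [← Matrix.exists_mulVec_eq_zero_iff]
  obtain ⟨v₁, hv₁⟩ := hnr
  refine ⟨fun w => if (∀ k, (par ends r)^[k] w ≠ v₀) then 1 else 0, ?_, ?_⟩
  · intro h
    have := congrFun h v₁
    simp only [Pi.zero_apply] at this
    rw [if_pos hv₁] at this
    exact one_ne_zero this
  · funext v
    rw [treeMat_mulVec]
    by_cases hv : v = v₀
    · subst hv
      have : ¬ (∀ k, (par ends r)^[k] v ≠ v) := fun h => h 0 rfl
      simp [h0, this]
    · obtain ⟨e, he⟩ := hval v hv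
      have hne : r v ≠ none := by rw [he]; simp
      rw [if_pos hne]
      have hiff : (∀ k, (par ends r)^[k] v ≠ v₀) ↔ (∀ k, (par ends r)^[k] (par ends r v) ≠ v₀) := by
        constructor
        · intro h k
          have := h (k + 1)
          rwa [Function.iterate_succ_apply] at this
        · intro h k
          cases k with
          | zero => exact hv
          | succ k =>
            rw [Function.iterate_succ_apply]
            exact h k
      by_cases h1 : ∀ k, (par ends r)^[k] v ≠ v₀
      · rw [if_pos h1, if_pos (hiff.1 h1)]; simp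
      · rw [if_neg h1, if_neg (fun h => h1 (hiff.2 h))]; simp

/-- the matrix of a rooted parent-edge function has determinant one. -/
lemma det_treeMat_of_rooted (ends : E → V × V) (v₀ : V) (r : V → Option E)
    (hr : Rooted ends v₀ r) : (treeMat ends r).det = 1 := by
  classical
  have hM : Matrix.BlockTriangular (treeMat ends r) (OrderDual.toDual ∘ hr.depth) := by
    intro i j hij
    simp only [Function.comp_apply, OrderDual.toDual_lt_toDual] at hij
    rw [treeMat_apply]
    have h1 : j ≠ i := fun h => by rw [h] at hij; exact lt_irrefl _ hij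
    rw [if_neg h1]
    by_cases h2 : r i ≠ none ∧ j = par ends r i
    · exfalso
      have hi0 : i ≠ v₀ := fun h => h2.1 (by rw [h]; exact hr.1)
      have := hr.depth_par i hi0
      rw [← h2.2] at this
      omega
    · rw [if_neg h2]; ring
  rw [hM.det]
  refine Finset.prod_eq_one fun a _ => ?_
  have : (treeMat ends r).toSquareBlock (OrderDual.toDual ∘ hr.depth) a = 1 := by
    ext i j
    simp only [Matrix.toSquareBlock_def, Matrix.of_apply, treeMat_apply, Matrix.one_apply]
    have hd : hr.depth i.1 = hr.depth j.1 := by
      have h1 := i.2; have h2 := j.2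
      simp only [Function.comp_apply] at h1 h2
      exact OrderDual.toDual.injective (h1.trans h2.symm)
    have h2 : ¬ (r i.1 ≠ none ∧ j.1 = par ends r i.1) := by
      rintro ⟨h3, h4⟩
      have hi0 : i.1 ≠ v₀ := fun h => h3 (by rw [h]; exact hr.1)
      have := hr.depth_par i.1 hi0
      rw [← h4] at this
      omega
    rw [if_neg h2]
    by_cases hij : i = j
    · subst hij; simp
    · have : j.1 ≠ i.1 := fun h => hij (Subtype.ext h.symm)
      simp [this, hij]
  rw [this, Matrix.det_one]

lemma wt_eq_prod_edgesOf (ends : E → V × V) (v₀ : V) (c : E → ℤ) (r : V → Option E)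
    (hr : Rooted ends v₀ r) : wt c r = ∏ e ∈ edgesOf r, c e := by
  classical
  have h1 : ∀ e ∈ edgesOf r, c e = ∏ v, (if r v = some e then c e else 1) := by
    intro e he
    obtain ⟨v, hv⟩ := mem_edgesOf.1 he
    rw [Finset.prod_eq_single_of_mem v (Finset.mem_univ _)]
    · rw [if_pos hv]
    · intro v' _ hne
      rw [if_neg]
      intro hv'
      exact hne (hr.injective hv' hv)
  rw [Finset.prod_congr rfl h1, Finset.prod_comm]
  unfold wt
  refine Finset.prod_congr rfl fun v _ => ?_
  cases h : r v with
  | none => simp
  | some e =>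
    simp only [Option.some.injEq]
    rw [Finset.prod_ite_eq, if_pos (mem_edgesOf.2 ⟨v, h⟩)]

/-- the determinant of one term of the expansion. -/
lemma det_term (ends : E → V × V) (c : E → ℤ) (v₀ : V) (r : V → Option E)
    (hr : r ∈ Fintype.piFinset (fun v => choices (E := E) v₀ v)) :
    Matrix.det (fun v => rowTerm ends c v (r v)) =
      @ite _ (Rooted ends v₀ r) (Classical.propDecidable _) (wt c r) 0 := by
  classical
  rw [Fintype.mem_piFinset] at hr
  have h0 : r v₀ = none := mem_choices_root.1 (hr v₀)
  have hval : ∀ v, v ≠ v₀ → ∃ e, r v = some e := fun v hv => (mem_choices_ne hv).1 (hr v)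
  by_cases hinc : ∀ v e, r v = some e → Inc ends e v
  · -- all chosen edges are incident: factor out the weights
    have hrow : (fun v => rowTerm ends c v (r v)) =
        Matrix.of fun v w => (match r v with | none => 1 | some e => c e) * treeMat ends r v w := by
      funext v w
      simp only [Matrix.of_apply]
      cases h : r v with
      | none => simp [rowTerm, treeMat, h]
      | some e =>
        simp only [rowTerm, treeMat, h, Pi.smul_apply, smul_eq_mul]
        rw [mul_assoc, bvec_mul (hinc v e h)]
    rw [hrow, Matrix.det_mul_column]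
    by_cases hroot : Rooted ends v₀ r
    · rw [if_pos hroot, det_treeMat_of_rooted ends v₀ r hroot, mul_one]
      rfl
    · rw [if_neg hroot]
      have hnr : ∃ v, ∀ k, (par ends r)^[k] v ≠ v₀ := by
        by_contra hcon
        push Not at hcon
        refine hroot ⟨h0, fun v hv => ?_, hcon⟩
        obtain ⟨e, he⟩ := hval v hv
        exact ⟨e, he, hinc v e he⟩
      rw [det_treeMat_of_not_rooted ends v₀ r h0 hval hnr, mul_zero]
  · -- some chosen edge is not incident: a zero row
    push Not at hinc
    obtain ⟨v, e, he, hne⟩ := hinc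
    have hroot : ¬ Rooted ends v₀ r := by
      intro hroot
      have hv0 : v ≠ v₀ := fun h => by rw [h, h0] at he; cases he
      obtain ⟨e', he', hinc'⟩ := hroot.2.1 v hv0
      rw [he] at he'
      rw [Option.some.inj he'] at hne
      exact hne hinc'
    rw [if_neg hroot]
    refine Matrix.det_eq_zero_of_row_eq_zero v fun w => ?_
    simp only [he, rowTerm, Pi.smul_apply, smul_eq_mul, bvec_eq_zero hne, mul_zero, zero_mul]

/-- **Weighted matrix-tree theorem** for finite multigraphs: the principal cofactor of the
weighted Laplacian is the sum over the spanning trees of the products of the edge weights. -/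
theorem matrix_tree (ends : E → V × V) (c : E → ℤ) (v₀ : V)
    [DecidablePred fun T : Finset E => IsSpanningTree ends T] :
    ((lap ends c).updateRow v₀ (Pi.single v₀ 1)).det =
      ∑ T ∈ univ.powerset.filter (fun T : Finset E => IsSpanningTree ends T), ∏ e ∈ T, c e := by
  classical
  rw [det_red_expand]
  rw [Finset.sum_congr rfl (fun r hr => det_term ends c v₀ r hr)]
  rw [← Finset.sum_filter]
  symm
  refine Finset.sum_bij' (fun T hT => Classical.choose (exists_rooted ends T v₀
      ((isSpanningTree_iff ends T).1 (Finset.mem_filter.1 hT).2).1.2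
      ((isSpanningTree_iff ends T).1 (Finset.mem_filter.1 hT).2).2))
    (fun r _ => edgesOf r) ?_ ?_ ?_ ?_ ?_
  · intro T hT
    have hspec := Classical.choose_spec (exists_rooted ends T v₀
      ((isSpanningTree_iff ends T).1 (Finset.mem_filter.1 hT).2).1.2
      ((isSpanningTree_iff ends T).1 (Finset.mem_filter.1 hT).2).2)
    refine Finset.mem_filter.2 ⟨?_, hspec.1⟩
    rw [Fintype.mem_piFinset]
    intro v
    by_cases hv : v = v₀
    · subst hv; exact mem_choices_root.2 hspec.1.1
    · obtain ⟨e, he, _⟩ := hspec.1.2.1 v hv
      exact (mem_choices_ne hv).2 ⟨e, he⟩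
  · intro r hr
    have hroot := (Finset.mem_filter.1 hr).2
    refine Finset.mem_filter.2 ⟨Finset.mem_powerset.2 (Finset.subset_univ _), ?_⟩
    exact (isSpanningTree_iff ends _).2 hroot.isTree
  · intro T hT
    exact (Classical.choose_spec (exists_rooted ends T v₀
      ((isSpanningTree_iff ends T).1 (Finset.mem_filter.1 hT).2).1.2
      ((isSpanningTree_iff ends T).1 (Finset.mem_filter.1 hT).2).2)).2
  · intro r hr
    have hroot := (Finset.mem_filter.1 hr).2
    have hT : edgesOf r ∈ univ.powerset.filter (fun T : Finset E => IsSpanningTree ends T) :=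
      Finset.mem_filter.2 ⟨Finset.mem_powerset.2 (Finset.subset_univ _),
        (isSpanningTree_iff ends _).2 hroot.isTree⟩
    have hspec := Classical.choose_spec (exists_rooted ends (edgesOf r) v₀
      ((isSpanningTree_iff ends _).1 (Finset.mem_filter.1 hT).2).1.2
      ((isSpanningTree_iff ends _).1 (Finset.mem_filter.1 hT).2).2)
    exact Rooted.ext hspec.1 hroot hspec.2
  · intro T hT
    have hspec := Classical.choose_spec (exists_rooted ends T v₀
      ((isSpanningTree_iff ends T).1 (Finset.mem_filter.1 hT).2).1.2
      ((isSpanningTree_iff ends T).1 (Finset.mem_filter.1 hT).2).2)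
    rw [wt_eq_prod_edgesOf ends v₀ c _ hspec.1, hspec.2]

end Groth.Agent.Lib.Helper72.GraphCyc
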