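/-
Helper72: multigraphs with a multiplicity function: the matrix `mfMatrix` as an edge sum.
-/
import Mathlib
import Groth.Prelude.Def_W4c2conddiscmodels

set_option autoImplicit false
set_option linter.unusedSectionVars false
universe u
open Finset

namespace Groth.Agent.Lib.Helper72.LabGraphLib

open LabGraph

variable {V E : Type u} [Fintype V] [Fintype E] [DecidableEq V] [DecidableEq E]

/-- the antisymmetric edge form `β(e₁) y(e₂) - β(e₂) y(e₁)`. -/
def om (ends : E → V × V) (β y : V → ℤ) (e : E) : ℤ :=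
  β (ends e).1 * y (ends e).2 - β (ends e).2 * y (ends e).1

/-- the contribution of the edge `e` at the vertex `v`. -/
def tm (ends : E → V × V) (β y : V → ℤ) (e : E) (v : V) : ℤ :=
  (if (ends e).1 = v then om ends β y e else 0) - (if (ends e).2 = v then om ends β y e else 0)

lemma om_sub (ends : E → V × V) (β y y' : V → ℤ) (e : E) :
    om ends β (y - y') e = om ends β y e - om ends β y' e := by
  simp only [om, Pi.sub_apply]; ring

lemma om_add (ends : E → V × V) (β y y' : V → ℤ) (e : E) :
    om ends β (y + y') e = om ends β y e + om ends β y' e := by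
  simp only [om, Pi.add_apply]; ring

lemma om_smul (ends : E → V × V) (β y : V → ℤ) (c : ℤ) (e : E) :
    om ends β (c • y) e = c * om ends β y e := by
  simp only [om, Pi.smul_apply, smul_eq_mul]; ring

lemma om_self (ends : E → V × V) (β : V → ℤ) (e : E) : om ends β β e = 0 := by
  simp only [om]; ring

lemma tm_sub (ends : E → V × V) (β y y' : V → ℤ) (e : E) (v : V) :
    tm ends β (y - y') e v = tm ends β y e v - tm ends β y' e v := by
  simp only [tm, om_sub]; split_ifs <;> ring

lemma tm_add (ends : E → V × V) (β y y' : V → ℤ) (e : E) (v : V) :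
    tm ends β (y + y') e v = tm ends β y e v + tm ends β y' e v := by
  simp only [tm, om_add]; split_ifs <;> ring

lemma tm_smul (ends : E → V × V) (β y : V → ℤ) (c : ℤ) (e : E) (v : V) :
    tm ends β (c • y) e v = c * tm ends β y e v := by
  simp only [tm, om_smul]; split_ifs <;> ring

/-- sums against `edgeMult` as sums over edges. -/
lemma sum_edgeMult_mul (ends : E → V × V) (v : V) (F : V → ℤ) :
    ∑ w ∈ univ.erase v, (edgeMult ends v w : ℤ) * F w =
      ∑ e : E, ((if (ends e).1 = v ∧ (ends e).2 ≠ v then F (ends e).2 else 0) +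
        (if (ends e).2 = v ∧ (ends e).1 ≠ v then F (ends e).1 else 0)) := by
  unfold edgeMult
  simp only [Finset.card_filter, Nat.cast_sum, Finset.sum_mul]
  rw [Finset.sum_comm]
  refine Finset.sum_congr rfl fun e _ => ?_
  rcases hab : ends e with ⟨a, b⟩
  simp only [Prod.mk.injEq]
  by_cases ha : a = v
  · by_cases hb : b = v
    · have e1 : ¬ (a = v ∧ b ≠ v) := by rintro ⟨-, h⟩; exact h hb
      have e2 : ¬ (b = v ∧ a ≠ v) := by rintro ⟨-, h⟩; exact h ha
      rw [if_neg e1, if_neg e2, add_zero]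
      apply Finset.sum_eq_zero
      intro w hw
      have hw' : w ≠ v := (Finset.mem_erase.mp hw).1
      have : ¬ ((a = v ∧ b = w) ∨ (a = w ∧ b = v)) := by
        rintro (⟨-, h⟩ | ⟨h, -⟩)
        · exact hw' (h.symm.trans hb)
        · exact hw' (h.symm.trans ha)
      rw [if_neg this, Nat.cast_zero, zero_mul]
    · have hb' : b ∈ univ.erase v := Finset.mem_erase.mpr ⟨hb, Finset.mem_univ _⟩
      have e2 : ¬ (b = v ∧ a ≠ v) := by rintro ⟨h, -⟩; exact hb h
      rw [Finset.sum_eq_single_of_mem b hb']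
      · rw [if_pos (Or.inl ⟨ha, rfl⟩), Nat.cast_one, one_mul, if_pos ⟨ha, hb⟩, if_neg e2, add_zero]
      · intro w hw hwb
        have hw' : w ≠ v := (Finset.mem_erase.mp hw).1
        have : ¬ ((a = v ∧ b = w) ∨ (a = w ∧ b = v)) := by
          rintro (⟨-, h⟩ | ⟨-, h⟩)
          · exact hwb h.symm
          · exact hb h
        rw [if_neg this, Nat.cast_zero, zero_mul]
  · by_cases hb : b = v
    · have ha' : a ∈ univ.erase v := Finset.mem_erase.mpr ⟨ha, Finset.mem_univ _⟩
      have e1 : ¬ (a = v ∧ b ≠ v) := by rintro ⟨h, -⟩; exact ha h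
      rw [Finset.sum_eq_single_of_mem a ha']
      · rw [if_pos (Or.inr ⟨rfl, hb⟩), Nat.cast_one, one_mul, if_neg e1, if_pos ⟨hb, ha⟩, zero_add]
      · intro w hw hwa
        have : ¬ ((a = v ∧ b = w) ∨ (a = w ∧ b = v)) := by
          rintro (⟨h, -⟩ | ⟨h, -⟩)
          · exact ha h
          · exact hwa h.symm
        rw [if_neg this, Nat.cast_zero, zero_mul]
    · have e1 : ¬ (a = v ∧ b ≠ v) := by rintro ⟨h, -⟩; exact ha h
      have e2 : ¬ (b = v ∧ a ≠ v) := by rintro ⟨h, -⟩; exact hb h
      rw [if_neg e1, if_neg e2, add_zero]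
      apply Finset.sum_eq_zero
      intro w hw
      have : ¬ ((a = v ∧ b = w) ∨ (a = w ∧ b = v)) := by
        rintro (⟨h, -⟩ | ⟨-, h⟩)
        · exact ha h
        · exact hb h
      rw [if_neg this, Nat.cast_zero, zero_mul]

/-- the weighted sum of neighbouring multiplicities. -/
def nbSum (ends : E → V × V) (β : V → ℤ) (v : V) : ℤ :=
  ∑ u ∈ univ.erase v, β u * (edgeMult ends v u : ℤ)

lemma mfMatrix_diag (ends : E → V × V) (β : V → ℤ) (hβ : IsMultFn ends β) (v : V) :
    β v * mfMatrix ends β v v = - nbSum ends β v := by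
  unfold mfMatrix nbSum
  rw [if_pos rfl]
  obtain ⟨hpos, hdvd⟩ := hβ v
  rw [Int.mul_ediv_cancel' (dvd_neg.mpr hdvd)]

/-- the matrix of a multiplicity function as a sum over edges. -/
theorem beta_mul_mulVec (ends : E → V × V) (β : V → ℤ) (hβ : IsMultFn ends β) (y : V → ℤ)
    (v : V) :
    β v * (mfMatrix ends β).mulVec y v = ∑ e : E, tm ends β y e v := by
  have h1 : (mfMatrix ends β).mulVec y v =
      mfMatrix ends β v v * y v + ∑ w ∈ univ.erase v, (edgeMult ends v w : ℤ) * y w := by
    rw [Matrix.mulVec, dotProduct, ← Finset.add_sum_erase _ _ (Finset.mem_univ v)]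
    congr 1
    refine Finset.sum_congr rfl fun w hw => ?_
    have hw' : w ≠ v := (Finset.mem_erase.mp hw).1
    unfold mfMatrix
    rw [if_neg (Ne.symm hw')]
  have h2 : β v * (mfMatrix ends β).mulVec y v =
      ∑ w ∈ univ.erase v, (edgeMult ends v w : ℤ) * (β v * y w - β w * y v) := by
    rw [h1, mul_add, ← mul_assoc, mfMatrix_diag ends β hβ, nbSum, Finset.mul_sum, neg_mul,
      Finset.sum_mul, ← Finset.sum_neg_distrib, ← Finset.sum_add_distrib]
    refine Finset.sum_congr rfl fun w _ => ?_
    ring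
  rw [h2, sum_edgeMult_mul]
  refine Finset.sum_congr rfl fun e _ => ?_
  unfold tm om
  by_cases ha : (ends e).1 = v
  · by_cases hb : (ends e).2 = v
    · rw [if_neg (by rintro ⟨-, h⟩; exact h hb), if_neg (by rintro ⟨-, h⟩; exact h ha), if_pos ha,
        if_pos hb]
      ring
    · rw [if_pos ⟨ha, hb⟩, if_neg (by rintro ⟨h, -⟩; exact hb h), if_pos ha, if_neg hb, ha]
      ring
  · by_cases hb : (ends e).2 = v
    · rw [if_neg (by rintro ⟨h, -⟩; exact ha h), if_pos ⟨hb, ha⟩, if_neg ha, if_pos hb, hb]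
      ring
    · rw [if_neg (by rintro ⟨h, -⟩; exact ha h), if_neg (by rintro ⟨h, -⟩; exact hb h), if_neg ha,
        if_neg hb]
      ring

end Groth.Agent.Lib.Helper72.LabGraphLib
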