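/-
Helper72: contraction of a chain in a multigraph with a multiplicity function:
structure of the quotient, push-forward of the matrix, the contraction is again a multiplicity
function.
-/
import Mathlib
import Groth.Agent.Lib.Helper72.LabGraphA

set_option autoImplicit false
set_option linter.unusedSectionVars false
universe u
open Finset

namespace Groth.Agent.Lib.Helper72.LabGraphLib

open LabGraph DualGr

variable {V E : Type u} [Fintype V] [Fintype E] [DecidableEq V] [DecidableEq E]

section chain

variable {ends : E → V × V} {k : ℕ} {f : Fin (k + 1) → V} {e : Fin k → E}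

lemma chain_ends_mem (hC : IsChain ends f e) (i : Fin k) :
    (ends (e i)).1 ∈ Set.range f ∧ (ends (e i)).2 ∈ Set.range f := by
  rcases hC.2.2 i with h | h <;> rw [h] <;> exact ⟨⟨_, rfl⟩, ⟨_, rfl⟩⟩

lemma ctrRel_mem_range (hC : IsChain ends f e) {x y : V}
    (h : CtrRel ends (univ.image e) x y) : x ∈ Set.range f ∧ y ∈ Set.range f := by
  obtain ⟨e', he', hxy⟩ := h
  obtain ⟨i, -, rfl⟩ := Finset.mem_image.mp he'
  have := chain_ends_mem hC i
  rw [hxy] at this
  exact this

lemma ctrMk_chain (hC : IsChain ends f e) (i : Fin (k + 1)) :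
    ctrMk ends (univ.image e) (f i) = ctrMk ends (univ.image e) (f 0) := by
  induction i using Fin.induction with
  | zero => rfl
  | succ j ih =>
    rw [← ih]
    have hmem : e j ∈ univ.image e := Finset.mem_image.mpr ⟨j, Finset.mem_univ _, rfl⟩
    have h := ctrMk_fst_eq_ctrMk_snd ends (univ.image e) hmem
    rcases hC.2.2 j with h' | h' <;> rw [h'] at h
    · exact h.symm
    · exact h

/-- the classes of the contraction of a chain. -/
theorem ctrMk_eq_iff (hC : IsChain ends f e) (x y : V) :
    ctrMk ends (univ.image e) x = ctrMk ends (univ.image e) y ↔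
      x = y ∨ (x ∈ Set.range f ∧ y ∈ Set.range f) := by
  constructor
  · intro h
    have h' : Relation.EqvGen (CtrRel ends (univ.image e)) x y := Quotient.exact h
    induction h' with
    | rel a b hab => exact Or.inr (ctrRel_mem_range hC hab)
    | refl a => exact Or.inl rfl
    | symm a b _ ih =>
      rcases ih h.symm with h1 | h1
      · exact Or.inl h1.symm
      · exact Or.inr ⟨h1.2, h1.1⟩
    | trans a b c hab hbc ih1 ih2 =>
      have e1 : ctrMk ends (univ.image e) a = ctrMk ends (univ.image e) b := Quotient.sound hab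
      have e2 : ctrMk ends (univ.image e) b = ctrMk ends (univ.image e) c := Quotient.sound hbc
      rcases ih1 e1 with h1 | h1
      · rw [h1]; exact ih2 e2
      · rcases ih2 e2 with h2 | h2
        · rw [← h2]; exact Or.inr h1
        · exact Or.inr ⟨h1.1, h2.2⟩
  · rintro (rfl | ⟨⟨i, rfl⟩, ⟨j, rfl⟩⟩)
    · rfl
    · rw [ctrMk_chain hC i, ctrMk_chain hC j]

lemma ctrMk_out (c : CtrVert ends (univ.image e)) :
    ctrMk ends (univ.image e) (Quotient.out (s := ctrSetoid ends (univ.image e)) c) = c :=
  Quotient.out_eq (s := ctrSetoid ends (univ.image e)) c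

/-- the transported multiplicity function, when constant on the chain. -/
theorem ctrFn_ctrMk (hC : IsChain ends f e) (β : V → ℤ) (hconst : ∀ i j, β (f i) = β (f j))
    (v : V) : ctrFn ends (univ.image e) β (ctrMk ends (univ.image e) v) = β v := by
  unfold ctrFn
  have h := ctrMk_out (ends := ends) (e := e) (ctrMk ends (univ.image e) v)
  rcases (ctrMk_eq_iff hC _ _).mp h with h1 | ⟨⟨i, hi⟩, ⟨j, hj⟩⟩
  · rw [h1]
  · rw [← hi, ← hj]; exact hconst i j

lemma filter_ctrMk_of_not_mem (hC : IsChain ends f e) {u : V} (hu : u ∉ Set.range f) :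
    univ.filter (fun v => ctrMk ends (univ.image e) v = ctrMk ends (univ.image e) u) = {u} := by
  ext v
  rw [Finset.mem_filter, Finset.mem_singleton, ctrMk_eq_iff hC]
  constructor
  · rintro ⟨-, h | ⟨-, h⟩⟩
    · exact h
    · exact absurd h hu
  · intro h; exact ⟨Finset.mem_univ _, Or.inl h⟩

lemma filter_ctrMk_chain (hC : IsChain ends f e) :
    univ.filter (fun v => ctrMk ends (univ.image e) v = ctrMk ends (univ.image e) (f 0)) =
      univ.image f := by
  ext v
  rw [Finset.mem_filter, Finset.mem_image, ctrMk_eq_iff hC]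
  constructor
  · rintro ⟨-, h | ⟨⟨i, hi⟩, -⟩⟩
    · exact ⟨0, Finset.mem_univ _, h.symm⟩
    · exact ⟨i, Finset.mem_univ _, hi⟩
  · rintro ⟨i, -, hi⟩
    exact ⟨Finset.mem_univ _, Or.inr ⟨⟨i, hi⟩, ⟨0, rfl⟩⟩⟩

end chain

section push

variable (ends : E → V × V) (D : Finset E) (β : V → ℤ)

/-- sums over the edges of a contraction as sums over all edges. -/
lemma sum_ctrEdge (g : E → ℤ) (hg : ∀ e' ∈ D, g e' = 0) :
    ∑ e' : CtrEdge D, g e'.1 = ∑ e' : E, g e' := by
  rw [← Finset.sum_subtype (univ.filter (fun e' => e' ∉ D)) (by simp) g, Finset.sum_filter]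
  refine Finset.sum_congr rfl fun e' _ => ?_
  by_cases h : e' ∈ D
  · rw [if_neg (not_not.mpr h), hg e' h]
  · rw [if_pos h]

/-- the edge form of the contraction. -/
lemma om_ctr (hβπ : ∀ v, ctrFn ends D β (ctrMk ends D v) = β v)
    (y' : CtrVert ends D → ℤ) (e' : CtrEdge D) :
    om (ctrEnds ends D) (ctrFn ends D β) y' e' = om ends β (fun v => y' (ctrMk ends D v)) e'.1 := by
  unfold om ctrEnds
  simp only [hβπ]

/-- push-forward of the matrix along a contraction. -/
theorem beta_mul_mulVec_ctr (hβ : IsMultFn ends β)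
    (hβ' : IsMultFn (ctrEnds ends D) (ctrFn ends D β))
    (hβπ : ∀ v, ctrFn ends D β (ctrMk ends D v) = β v)
    (y' : CtrVert ends D → ℤ) (c : CtrVert ends D) :
    ctrFn ends D β c * (mfMatrix (ctrEnds ends D) (ctrFn ends D β)).mulVec y' c =
      ∑ v ∈ univ.filter (fun v => ctrMk ends D v = c),
        β v * (mfMatrix ends β).mulVec (fun v => y' (ctrMk ends D v)) v := by
  rw [beta_mul_mulVec _ _ hβ']
  have h1 : ∀ v, β v * (mfMatrix ends β).mulVec (fun v => y' (ctrMk ends D v)) v =
      ∑ e' : E, tm ends β (fun v => y' (ctrMk ends D v)) e' v :=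
    fun v => beta_mul_mulVec ends β hβ _ v
  simp only [h1]
  rw [Finset.sum_comm]
  have h2 : ∀ e' : E, ∑ v ∈ univ.filter (fun v => ctrMk ends D v = c),
      tm ends β (fun v => y' (ctrMk ends D v)) e' v =
      (if ctrMk ends D (ends e').1 = c then om ends β (fun v => y' (ctrMk ends D v)) e' else 0) -
      (if ctrMk ends D (ends e').2 = c then om ends β (fun v => y' (ctrMk ends D v)) e' else 0) := by
    intro e'
    unfold tm
    rw [Finset.sum_sub_distrib, Finset.sum_ite_eq, Finset.sum_ite_eq]
    simp only [Finset.mem_filter, Finset.mem_univ, true_and]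
  simp only [h2]
  rw [← sum_ctrEdge D (fun e' =>
    (if ctrMk ends D (ends e').1 = c then om ends β (fun v => y' (ctrMk ends D v)) e' else 0) -
      (if ctrMk ends D (ends e').2 = c then om ends β (fun v => y' (ctrMk ends D v)) e' else 0))]
  · refine Finset.sum_congr rfl fun e' _ => ?_
    unfold tm
    rw [om_ctr ends D β hβπ]
    rfl
  · intro e' he'
    rw [ctrMk_fst_eq_ctrMk_snd ends D he', sub_self]

end push

end Groth.Agent.Lib.Helper72.LabGraphLib
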