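/-
Helper72: the contraction of a chain with constant multiplicity is again a multigraph with a
multiplicity function.
-/
import Mathlib
import Groth.Agent.Lib.Helper72.LabGraphB

set_option autoImplicit false
set_option linter.unusedSectionVars false
universe u
open Finset

namespace Groth.Agent.Lib.Helper72.LabGraphLib

open LabGraph DualGr

variable {V E : Type u} [Fintype V] [Fintype E] [DecidableEq V] [DecidableEq E]

/-- the summand of `nbSum` attached to an edge. -/
def nbTerm (ends : E → V × V) (β : V → ℤ) (v : V) (e' : E) : ℤ :=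
  (if (ends e').1 = v ∧ (ends e').2 ≠ v then β (ends e').2 else 0) +
    (if (ends e').2 = v ∧ (ends e').1 ≠ v then β (ends e').1 else 0)

lemma nbSum_eq (ends : E → V × V) (β : V → ℤ) (v : V) :
    nbSum ends β v = ∑ e' : E, nbTerm ends β v e' := by
  unfold nbSum nbTerm
  rw [← sum_edgeMult_mul]
  refine Finset.sum_congr rfl fun w _ => ?_
  ring

lemma nbTerm_nonneg (ends : E → V × V) (β : V → ℤ) (hpos : ∀ v, 0 < β v) (v : V) (e' : E) :
    0 ≤ nbTerm ends β v e' := by
  unfold nbTerm
  split_ifs <;> linarith [hpos (ends e').1, hpos (ends e').2]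

/-- `nbSum` of a contraction as a sum over all the edges. -/
lemma nbSum_ctr (ends : E → V × V) (D : Finset E) (β : V → ℤ)
    (hβπ : ∀ v, ctrFn ends D β (ctrMk ends D v) = β v) (c : CtrVert ends D) :
    nbSum (ctrEnds ends D) (ctrFn ends D β) c =
      ∑ e' : E, ((if ctrMk ends D (ends e').1 = c ∧ ctrMk ends D (ends e').2 ≠ c
          then β (ends e').2 else 0) +
        (if ctrMk ends D (ends e').2 = c ∧ ctrMk ends D (ends e').1 ≠ c
          then β (ends e').1 else 0)) := by
  rw [nbSum_eq, ← sum_ctrEdge D]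
  · refine Finset.sum_congr rfl fun e' _ => ?_
    unfold nbTerm ctrEnds
    simp only [hβπ]
  · intro e' he'
    have h := ctrMk_fst_eq_ctrMk_snd ends D he'
    rw [if_neg (by rintro ⟨h1, h2⟩; exact h2 (h ▸ h1)), if_neg (by rintro ⟨h1, h2⟩; exact h2 (h ▸ h1)),
      add_zero]

variable {ends : E → V × V} {k : ℕ} {f : Fin (k + 1) → V} {e : Fin k → E}

lemma sum_ite_chain (hC : IsChain ends f e) (a : Fin (k + 1)) (p : Fin (k + 1) → Prop)
    [DecidablePred p] (c : ℤ) :
    ∑ i : Fin (k + 1), (if f a = f i ∧ p i then c else 0) = if p a then c else 0 := by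
  rw [Finset.sum_eq_single a]
  · by_cases h : p a
    · rw [if_pos ⟨rfl, h⟩, if_pos h]
    · rw [if_neg (by rintro ⟨-, h'⟩; exact h h'), if_neg h]
  · intro i _ hia
    rw [if_neg]
    rintro ⟨h, -⟩
    exact hia (hC.1 h).symm
  · intro h; exact absurd (Finset.mem_univ a) h

lemma sum_ite_not_chain (x : V) (hx : x ∉ Set.range f) (p : Fin (k + 1) → Prop)
    [DecidablePred p] (c : ℤ) :
    ∑ i : Fin (k + 1), (if x = f i ∧ p i then c else 0) = 0 := by
  apply Finset.sum_eq_zero
  intro i _
  rw [if_neg]
  rintro ⟨h, -⟩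
  exact hx ⟨i, h.symm⟩

/-- the contraction of a chain with constant multiplicity is again a multigraph with a
multiplicity function. -/
theorem isMultFn_ctr {β : V → ℤ} (hβ : IsMultFn ends β) (hC : IsChain ends f e)
    (hconst : ∀ i j, β (f i) = β (f j)) :
    IsMultFn (ctrEnds ends (univ.image e)) (ctrFn ends (univ.image e) β) := by
  have hβπ := ctrFn_ctrMk hC β hconst
  intro c
  obtain ⟨v, rfl⟩ := ctrMk_surjective ends (univ.image e) c
  refine ⟨by rw [hβπ]; exact (hβ v).1, ?_⟩
  change _ ∣ nbSum (ctrEnds ends (univ.image e)) (ctrFn ends (univ.image e) β) _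
  rw [nbSum_ctr ends (univ.image e) β hβπ, hβπ]
  by_cases hv : v ∈ Set.range f
  · obtain ⟨i₀, rfl⟩ := hv
    have hcls : ∀ x : V, ctrMk ends (univ.image e) x = ctrMk ends (univ.image e) (f i₀) ↔
        x ∈ Set.range f := by
      intro x
      rw [ctrMk_eq_iff hC]
      constructor
      · rintro (rfl | ⟨h, -⟩)
        · exact ⟨i₀, rfl⟩
        · exact h
      · intro h; exact Or.inr ⟨h, ⟨i₀, rfl⟩⟩
    have hcls_ne : ∀ x : V, ctrMk ends (univ.image e) x ≠ ctrMk ends (univ.image e) (f i₀) ↔
        x ∉ Set.range f := fun x => not_congr (hcls x)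
    have key : ∑ e' : E, ((if ctrMk ends (univ.image e) (ends e').1 = ctrMk ends (univ.image e) (f i₀) ∧
          ctrMk ends (univ.image e) (ends e').2 ≠ ctrMk ends (univ.image e) (f i₀)
          then β (ends e').2 else 0) +
        (if ctrMk ends (univ.image e) (ends e').2 = ctrMk ends (univ.image e) (f i₀) ∧
          ctrMk ends (univ.image e) (ends e').1 ≠ ctrMk ends (univ.image e) (f i₀)
          then β (ends e').1 else 0)) +
        ∑ e' : E, (if (ends e').1 ∈ Set.range f ∧ (ends e').2 ∈ Set.range f ∧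
          (ends e').1 ≠ (ends e').2 then β (ends e').2 + β (ends e').1 else 0) =
        ∑ i : Fin (k + 1), nbSum ends β (f i) := by
      simp only [nbSum_eq, nbTerm]
      rw [Finset.sum_comm, ← Finset.sum_add_distrib]
      refine Finset.sum_congr rfl fun e' _ => ?_
      simp only [hcls, hcls_ne]
      rw [Finset.sum_add_distrib]
      by_cases h1 : (ends e').1 ∈ Set.range f
      · by_cases h2 : (ends e').2 ∈ Set.range f
        · obtain ⟨a, ha⟩ := h1
          obtain ⟨b, hb⟩ := h2
          rw [← ha, ← hb]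
          rw [sum_ite_chain hC a (fun i => f b ≠ f i), sum_ite_chain hC b (fun i => f a ≠ f i)]
          rw [if_neg (by rintro ⟨-, h⟩; exact h ⟨b, rfl⟩), if_neg (by rintro ⟨-, h⟩; exact h ⟨a, rfl⟩)]
          by_cases hab : f a = f b
          · rw [if_neg (by rintro ⟨-, -, h⟩; exact h hab), if_neg (by intro h; exact h hab.symm),
              if_neg (by intro h; exact h hab)]
            ring
          · rw [if_pos ⟨⟨a, rfl⟩, ⟨b, rfl⟩, hab⟩, if_pos (Ne.symm hab), if_pos hab]
            ring
        · obtain ⟨a, ha⟩ := h1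
          rw [← ha]
          rw [sum_ite_chain hC a (fun i => (ends e').2 ≠ f i),
            sum_ite_not_chain (ends e').2 h2 (fun i => f a ≠ f i)]
          rw [if_pos ⟨⟨a, rfl⟩, h2⟩, if_neg (by rintro ⟨h, -⟩; exact h2 h),
            if_neg (by rintro ⟨-, h, -⟩; exact h2 h),
            if_pos (by intro h; exact h2 ⟨a, h.symm⟩)]
          ring
      · by_cases h2 : (ends e').2 ∈ Set.range f
        · obtain ⟨b, hb⟩ := h2
          rw [← hb]
          rw [sum_ite_not_chain (ends e').1 h1 (fun i => f b ≠ f i),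
            sum_ite_chain hC b (fun i => (ends e').1 ≠ f i)]
          rw [if_neg (by rintro ⟨h, -⟩; exact h1 h), if_pos ⟨⟨b, rfl⟩, h1⟩,
            if_neg (by rintro ⟨h, -⟩; exact h1 h),
            if_pos (by intro h; exact h1 ⟨b, h.symm⟩)]
          ring
        · rw [sum_ite_not_chain (ends e').1 h1 (fun i => (ends e').2 ≠ f i),
            sum_ite_not_chain (ends e').2 h2 (fun i => (ends e').1 ≠ f i)]
          rw [if_neg (by rintro ⟨h, -⟩; exact h1 h), if_neg (by rintro ⟨h, -⟩; exact h2 h),
            if_neg (by rintro ⟨h, -⟩; exact h1 h)]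
          ring
    have d1 : β (f i₀) ∣ ∑ i : Fin (k + 1), nbSum ends β (f i) := by
      apply Finset.dvd_sum
      intro i _
      rw [hconst i₀ i]
      exact (hβ (f i)).2
    have d2 : β (f i₀) ∣ ∑ e' : E, (if (ends e').1 ∈ Set.range f ∧ (ends e').2 ∈ Set.range f ∧
          (ends e').1 ≠ (ends e').2 then β (ends e').2 + β (ends e').1 else 0) := by
      apply Finset.dvd_sum
      intro e' _
      split_ifs with h
      · obtain ⟨⟨a, ha⟩, ⟨b, hb⟩, -⟩ := h
        rw [← ha, ← hb, hconst b i₀, hconst a i₀]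
        exact dvd_add (dvd_refl _) (dvd_refl _)
      · exact dvd_zero _
    rw [← key] at d1
    exact (dvd_add_left d2).mp d1
  · have hcls : ∀ x : V, ctrMk ends (univ.image e) x = ctrMk ends (univ.image e) v ↔ x = v := by
      intro x
      rw [ctrMk_eq_iff hC]
      constructor
      · rintro (h | ⟨-, h⟩)
        · exact h
        · exact absurd h hv
      · intro h; exact Or.inl h
    have hcls_ne : ∀ x : V, ctrMk ends (univ.image e) x ≠ ctrMk ends (univ.image e) v ↔ x ≠ v :=
      fun x => not_congr (hcls x)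
    simp only [hcls, hcls_ne]
    have := (hβ v).2
    change _ ∣ nbSum ends β v at this
    rw [nbSum_eq] at this
    unfold nbTerm at this
    exact this

end Groth.Agent.Lib.Helper72.LabGraphLib
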