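/-
Helper72: structure of a connecting chain with multiplicity `m` and self-intersection `-2`.
-/
import Mathlib
import Groth.Agent.Lib.Helper72.LabGraphC

set_option autoImplicit false
set_option linter.unusedSectionVars false
universe u
open Finset

namespace Groth.Agent.Lib.Helper72.LabGraphLib

open LabGraph DualGr

variable {V E : Type u} [Fintype V] [Fintype E] [DecidableEq V] [DecidableEq E]

/-- `e'` is an edge at `v` which is not a loop. -/
def AtNL (ends : E → V × V) (e' : E) (v : V) : Prop :=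
  ((ends e').1 = v ∧ (ends e').2 ≠ v) ∨ ((ends e').2 = v ∧ (ends e').1 ≠ v)

lemma tm_eq_zero_of_not_atNL (ends : E → V × V) (β y : V → ℤ) (e' : E) (v : V)
    (h : ¬ AtNL ends e' v) : tm ends β y e' v = 0 := by
  unfold AtNL at h
  push Not at h
  unfold tm
  by_cases h1 : (ends e').1 = v
  · have h2 := h.1 h1
    rw [if_pos h1, if_pos h2, sub_self]
  · by_cases h2 : (ends e').2 = v
    · exact absurd (h.2 h2) h1
    · rw [if_neg h1, if_neg h2, sub_self]

lemma nbTerm_pos_of_atNL (ends : E → V × V) (β : V → ℤ) (hpos : ∀ v, 0 < β v) (e' : E) (v : V)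
    (h : AtNL ends e' v) : 0 < nbTerm ends β v e' := by
  unfold nbTerm
  rcases h with ⟨h1, h2⟩ | ⟨h1, h2⟩
  · rw [if_pos ⟨h1, h2⟩, if_neg (by rintro ⟨h, -⟩; exact h2 h), add_zero]
    exact hpos _
  · rw [if_neg (by rintro ⟨h, -⟩; exact h2 h), if_pos ⟨h1, h2⟩, zero_add]
    exact hpos _

lemma sum_castSucc_sub_succ {m : ℕ} (g : Fin (m + 1) → ℤ) :
    ∑ k : Fin m, (g k.castSucc - g k.succ) = g 0 - g (Fin.last m) := by
  have h1 := Fin.sum_univ_castSucc g
  have h2 := Fin.sum_univ_succ g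
  rw [Finset.sum_sub_distrib]
  linarith

section chain

variable {ends : E → V × V} {β : V → ℤ} {m : ℕ} {f : Fin (m + 1) → V} {e : Fin m → E}

lemma chain_ne (hC : IsChain ends f e) (k : Fin m) : f k.castSucc ≠ f k.succ := by
  intro h
  exact (Fin.castSucc_lt_succ (i := k)).ne (hC.1 h)

/-- the contribution of a chain edge. -/
lemma tm_chain (hC : IsChain ends f e) (hβm : ∀ i, β (f i) = m) (y : V → ℤ) (k : Fin m) (v : V) :
    tm ends β y (e k) v =
      ((if f k.castSucc = v then 1 else 0) - (if f k.succ = v then 1 else 0)) *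
        ((m : ℤ) * (y (f k.succ) - y (f k.castSucc))) := by
  unfold tm om
  rcases hC.2.2 k with h | h <;> rw [h] <;> simp only [hβm] <;> split_ifs <;> ring

lemma nbTerm_chain_left (hC : IsChain ends f e) (hβm : ∀ i, β (f i) = m) (k : Fin m) :
    nbTerm ends β (f k.castSucc) (e k) = m := by
  unfold nbTerm
  have hne := chain_ne hC k
  rcases hC.2.2 k with h | h <;> rw [h]
  · rw [if_pos ⟨rfl, hne.symm⟩, if_neg (by rintro ⟨h', -⟩; exact hne h'.symm), add_zero, hβm]
  · rw [if_neg (by rintro ⟨h', -⟩; exact hne h'.symm), if_pos ⟨rfl, hne.symm⟩, zero_add, hβm]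

lemma nbTerm_chain_right (hC : IsChain ends f e) (hβm : ∀ i, β (f i) = m) (k : Fin m) :
    nbTerm ends β (f k.succ) (e k) = m := by
  unfold nbTerm
  have hne := chain_ne hC k
  rcases hC.2.2 k with h | h <;> rw [h]
  · rw [if_neg (by rintro ⟨h', -⟩; exact hne h'), if_pos ⟨rfl, hne⟩, zero_add, hβm]
  · rw [if_pos ⟨rfl, hne⟩, if_neg (by rintro ⟨h', -⟩; exact hne h'), add_zero, hβm]

lemma m_pos (hβ : IsMultFn ends β) (hβm : ∀ i, β (f i) = m) : 0 < m := by
  have := (hβ (f 0)).1
  rw [hβm] at this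
  exact_mod_cast this

lemma nbSum_chain (hβ : IsMultFn ends β) (hβm : ∀ i, β (f i) = m)
    (hα : ∀ i, mfMatrix ends β (f i) (f i) = -2) (i : Fin (m + 1)) :
    nbSum ends β (f i) = 2 * m := by
  have := mfMatrix_diag ends β hβ (f i)
  rw [hα, hβm] at this
  linarith

/-- the only edges at an interior vertex of the chain which are not loops are the two chain
edges. -/
theorem interior_edges (hβ : IsMultFn ends β) (hC : IsChain ends f e) (hβm : ∀ i, β (f i) = m)
    (hα : ∀ i, mfMatrix ends β (f i) (f i) = -2) {k₁ k₂ : Fin m} (h : k₁.succ = k₂.castSucc)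
    {e' : E} (he' : AtNL ends e' (f k₁.succ)) : e' = e k₁ ∨ e' = e k₂ := by
  by_contra hcon
  push Not at hcon
  have hpos : ∀ v, 0 < β v := fun v => (hβ v).1
  have hk : k₁ ≠ k₂ := by
    intro hk
    rw [hk] at h
    exact (Fin.castSucc_lt_succ (i := k₂)).ne h.symm
  have hek : e k₁ ≠ e k₂ := fun h' => hk (hC.2.1 h')
  have hsum := nbSum_chain hβ hβm hα k₁.succ
  rw [nbSum_eq] at hsum
  have hle : ∑ x ∈ ({e k₁, e k₂, e'} : Finset E), nbTerm ends β (f k₁.succ) x ≤
      ∑ x : E, nbTerm ends β (f k₁.succ) x :=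
    Finset.sum_le_univ_sum_of_nonneg (fun x => nbTerm_nonneg ends β hpos _ x)
  rw [Finset.sum_insert (by
      rw [Finset.mem_insert, Finset.mem_singleton]
      rintro (h' | h')
      · exact hek h'
      · exact hcon.1 h'.symm),
    Finset.sum_pair hcon.2.symm, nbTerm_chain_right hC hβm k₁] at hle
  have h2 : nbTerm ends β (f k₁.succ) (e k₂) = m := by
    rw [h]; exact nbTerm_chain_left hC hβm k₂
  have h3 := nbTerm_pos_of_atNL ends β hpos e' _ he'
  rw [h2] at hle
  linarith

/-- a cut for the first edge of the chain. -/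
lemma exists_cut (hconn : ∀ i, IsConnecting ends (e i)) (hm : 0 < m) :
    ∃ A : Finset V, f 0 ∈ A ∧
      ∀ e' : E, (((ends e').1 ∈ A ↔ (ends e').2 ∉ A) ↔ e' = e ⟨0, hm⟩) := by
  obtain ⟨S, hS⟩ := hconn ⟨0, hm⟩
  by_cases h0 : f 0 ∈ S
  · exact ⟨S, h0, hS⟩
  · refine ⟨Sᶜ, Finset.mem_compl.mpr h0, fun e' => ?_⟩
    rw [← hS e']
    simp only [Finset.mem_compl]
    tauto

lemma tail_not_mem (hC : IsChain ends f e) (hm : 0 < m) {A : Finset V} (h0 : f 0 ∈ A)
    (hA : ∀ e' : E, (((ends e').1 ∈ A ↔ (ends e').2 ∉ A) ↔ e' = e ⟨0, hm⟩)) :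
    ∀ k : Fin m, f k.succ ∉ A := by
  have key : ∀ (n : ℕ) (h : n < m), f (⟨n, h⟩ : Fin m).succ ∉ A := by
    intro n
    induction n with
    | zero =>
      intro h
      have hcross := (hA (e ⟨0, hm⟩)).mpr rfl
      have hcs : f (⟨0, hm⟩ : Fin m).castSucc = f 0 := rfl
      rcases hC.2.2 ⟨0, hm⟩ with h' | h' <;> rw [h'] at hcross <;> simp only [hcs] at hcross
      · exact hcross.mp h0
      · intro hmem
        exact (hcross.mp hmem) h0
    | succ n ih =>
      intro h
      have hprev := ih (by omega)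
      have hne : e ⟨n + 1, h⟩ ≠ e ⟨0, hm⟩ := by
        intro h'
        have := hC.2.1 h'
        simp at this
      have hnc := (not_congr (hA (e ⟨n + 1, h⟩))).mpr hne
      have hcs : f (⟨n + 1, h⟩ : Fin m).castSucc = f (⟨n, by omega⟩ : Fin m).succ := rfl
      rcases hC.2.2 ⟨n + 1, h⟩ with h' | h' <;> rw [h'] at hnc <;> simp only [hcs] at hnc
      · intro hmem
        apply hnc
        constructor
        · intro h1; exact absurd h1 hprev
        · intro h1; exact absurd hmem h1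
      · intro hmem
        apply hnc
        constructor
        · intro _; exact hprev
        · intro _; exact hmem
  intro k
  exact key k.1 k.2

lemma not_mem_of_ne_zero (hC : IsChain ends f e) (hm : 0 < m) {A : Finset V} (h0 : f 0 ∈ A)
    (hA : ∀ e' : E, (((ends e').1 ∈ A ↔ (ends e').2 ∉ A) ↔ e' = e ⟨0, hm⟩))
    {i : Fin (m + 1)} (hi : i ≠ 0) : f i ∉ A := by
  obtain ⟨k, rfl⟩ := Fin.exists_succ_eq.mpr hi
  exact tail_not_mem hC hm h0 hA k

lemma same_side {hm : 0 < m} {A : Finset V}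
    (hA : ∀ e' : E, (((ends e').1 ∈ A ↔ (ends e').2 ∉ A) ↔ e' = e ⟨0, hm⟩))
    {e' : E} (he' : e' ∉ univ.image e) : (ends e').1 ∈ A ↔ (ends e').2 ∈ A := by
  have hne : e' ≠ e ⟨0, hm⟩ := by
    intro h
    exact he' (Finset.mem_image.mpr ⟨_, Finset.mem_univ _, h.symm⟩)
  have := (not_congr (hA e')).mpr hne
  tauto

lemma exists_pred_succ {i : Fin (m + 1)} (h0 : i ≠ 0) (hl : i ≠ Fin.last m) :
    ∃ k₁ k₂ : Fin m, k₁.succ = i ∧ k₂.castSucc = i := by
  obtain ⟨k₁, hk₁⟩ := Fin.exists_succ_eq.mpr h0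
  obtain ⟨k₂, hk₂⟩ := Fin.exists_castSucc_eq.mpr hl
  exact ⟨k₁, k₂, hk₁, hk₂⟩

/-- an edge which is not a loop and has both end points on the chain is a chain edge. -/
theorem internal_edge (hβ : IsMultFn ends β) (hC : IsChain ends f e) (hβm : ∀ i, β (f i) = m)
    (hα : ∀ i, mfMatrix ends β (f i) (f i) = -2) {hm : 0 < m} {A : Finset V} (h0 : f 0 ∈ A)
    (hA : ∀ e' : E, (((ends e').1 ∈ A ↔ (ends e').2 ∉ A) ↔ e' = e ⟨0, hm⟩))
    {e' : E} {i j : Fin (m + 1)} (h1 : (ends e').1 = f i) (h2 : (ends e').2 = f j) (hij : i ≠ j) :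
    e' ∈ univ.image e := by
  have hfij : f i ≠ f j := fun h => hij (hC.1 h)
  by_cases hi : i ≠ 0 ∧ i ≠ Fin.last m
  · obtain ⟨k₁, k₂, hk₁, hk₂⟩ := exists_pred_succ hi.1 hi.2
    have hat : AtNL ends e' (f k₁.succ) := by
      rw [hk₁]; exact Or.inl ⟨h1, by rw [h2]; exact hfij.symm⟩
    rcases interior_edges hβ hC hβm hα (hk₁.trans hk₂.symm) hat with h | h <;> rw [h] <;>
      exact Finset.mem_image.mpr ⟨_, Finset.mem_univ _, rfl⟩
  · by_cases hj : j ≠ 0 ∧ j ≠ Fin.last m
    · obtain ⟨k₁, k₂, hk₁, hk₂⟩ := exists_pred_succ hj.1 hj.2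
      have hat : AtNL ends e' (f k₁.succ) := by
        rw [hk₁]; exact Or.inr ⟨h2, by rw [h1]; exact hfij⟩
      rcases interior_edges hβ hC hβm hα (hk₁.trans hk₂.symm) hat with h | h <;> rw [h] <;>
        exact Finset.mem_image.mpr ⟨_, Finset.mem_univ _, rfl⟩
    · have hcross : (ends e').1 ∈ A ↔ (ends e').2 ∉ A := by
        rw [h1, h2]
        by_cases hi0 : i = 0
        · have hj0 : j ≠ 0 := fun h => hij (hi0.trans h.symm)
          rw [hi0]
          exact ⟨fun _ => not_mem_of_ne_zero hC hm h0 hA hj0, fun _ => h0⟩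
        · have hj0 : j = 0 := by
            by_contra hj0
            have hil : i = Fin.last m := by
              by_contra hil; exact hi ⟨hi0, hil⟩
            have hjl : j = Fin.last m := by
              by_contra hjl; exact hj ⟨hj0, hjl⟩
            exact hij (hil.trans hjl.symm)
          rw [hj0]
          exact ⟨fun h => absurd h (not_mem_of_ne_zero hC hm h0 hA hi0), fun h => absurd h0 h⟩
      rw [(hA e').mp hcross]
      exact Finset.mem_image.mpr ⟨_, Finset.mem_univ _, rfl⟩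

/-- an edge outside the chain meets the chain only at its two ends. -/
lemma outer_edge_index (hβ : IsMultFn ends β) (hC : IsChain ends f e) (hβm : ∀ i, β (f i) = m)
    (hα : ∀ i, mfMatrix ends β (f i) (f i) = -2) {e' : E} (he' : e' ∉ univ.image e)
    {i : Fin (m + 1)} (hat : AtNL ends e' (f i)) : i = 0 ∨ i = Fin.last m := by
  by_contra hcon
  push Not at hcon
  obtain ⟨k₁, k₂, hk₁, hk₂⟩ := exists_pred_succ hcon.1 hcon.2
  rw [← hk₁] at hat
  rcases interior_edges hβ hC hβm hα (hk₁.trans hk₂.symm) hat with h | h <;>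
    exact he' (Finset.mem_image.mpr ⟨_, Finset.mem_univ _, h.symm⟩)

end chain

end Groth.Agent.Lib.Helper72.LabGraphLib
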