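/-
Helper72: contraction of a connecting `(-2)`-chain of multiplicity `m`: injectivity on component
groups.
-/
import Mathlib
import Groth.Agent.Lib.Helper72.LabGraphD

set_option autoImplicit false
set_option linter.unusedSectionVars false
universe u
open Finset

namespace Groth.Agent.Lib.Helper72.LabGraphLib

open LabGraph DualGr

variable {V E : Type u} [Fintype V] [Fintype E] [DecidableEq V] [DecidableEq E]

section chain

variable {ends : E → V × V} {β : V → ℤ} {m : ℕ} {f : Fin (m + 1) → V} {e : Fin m → E}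

lemma sum_tm_split (hC : IsChain ends f e) (y : V → ℤ) (v : V) :
    ∑ e' : E, tm ends β y e' v = ∑ k : Fin m, tm ends β y (e k) v +
      ∑ e' ∈ univ.filter (fun e' => e' ∉ univ.image e), tm ends β y e' v := by
  rw [← Finset.sum_filter_add_sum_filter_not univ (fun e' => e' ∈ univ.image e)]
  congr 1
  rw [Finset.filter_mem_eq_inter, Finset.univ_inter, Finset.sum_image (fun a _ b _ h => hC.2.1 h)]

/-- the vector `w`: the index along the chain, `0` on the side of the first vertex, `β` on the
other side. -/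
noncomputable def wfun (f : Fin (m + 1) → V) (A : Finset V) (β : V → ℤ) (v : V) : ℤ :=
  if h : ∃ i, f i = v then ((h.choose : Fin (m + 1)) : ℕ) else if v ∈ A then 0 else β v

lemma wfun_chain (hinj : Function.Injective f) (A : Finset V) (β : V → ℤ) (i : Fin (m + 1)) :
    wfun f A β (f i) = ((i : ℕ) : ℤ) := by
  unfold wfun
  have h : ∃ j, f j = f i := ⟨i, rfl⟩
  rw [dif_pos h]
  have := hinj h.choose_spec
  rw [this]

lemma wfun_not_chain {A : Finset V} {v : V} (hv : v ∉ Set.range f) :
    wfun f A β v = if v ∈ A then 0 else β v := by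
  unfold wfun
  rw [dif_neg]
  rintro ⟨i, hi⟩
  exact hv ⟨i, hi⟩

lemma om_w_outer (hβ : IsMultFn ends β) (hC : IsChain ends f e) (hβm : ∀ i, β (f i) = m)
    (hα : ∀ i, mfMatrix ends β (f i) (f i) = -2) {hm : 0 < m} {A : Finset V} (h0 : f 0 ∈ A)
    (hA : ∀ e' : E, (((ends e').1 ∈ A ↔ (ends e').2 ∉ A) ↔ e' = e ⟨0, hm⟩))
    {e' : E} (he' : e' ∉ univ.image e) : om ends β (wfun f A β) e' = 0 := by
  by_cases hloop : (ends e').1 = (ends e').2
  · unfold om; rw [hloop]; ring
  have hside := same_side hA he'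
  have hl : Fin.last m ≠ 0 := by
    intro h
    have := congrArg Fin.val h
    simp at this
    omega
  by_cases h1 : (ends e').1 ∈ Set.range f
  · obtain ⟨i, hi⟩ := h1
    by_cases h2 : (ends e').2 ∈ Set.range f
    · obtain ⟨j, hj⟩ := h2
      have hij : i ≠ j := by
        rintro rfl
        exact hloop (hi.symm.trans hj)
      exact absurd (internal_edge hβ hC hβm hα h0 hA hi.symm hj.symm hij) he'
    · have hat : AtNL ends e' (f i) := Or.inl ⟨hi.symm, fun h => h2 ⟨i, h.symm⟩⟩
      unfold om
      rw [wfun_not_chain h2, ← hi, wfun_chain hC.1, hβm]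
      rcases outer_edge_index hβ hC hβm hα he' hat with h | h
      · subst h
        have hmem : (ends e').2 ∈ A := hside.mp (by rw [← hi]; exact h0)
        rw [if_pos hmem]
        simp
      · subst h
        have hmem : (ends e').2 ∉ A := fun h =>
          not_mem_of_ne_zero hC hm h0 hA hl (by rw [hi]; exact hside.mpr h)
        rw [if_neg hmem, Fin.val_last]
        ring
  · by_cases h2 : (ends e').2 ∈ Set.range f
    · obtain ⟨j, hj⟩ := h2
      have hat : AtNL ends e' (f j) := Or.inr ⟨hj.symm, fun h => h1 ⟨j, h.symm⟩⟩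
      unfold om
      rw [wfun_not_chain h1, ← hj, wfun_chain hC.1, hβm]
      rcases outer_edge_index hβ hC hβm hα he' hat with h | h
      · subst h
        have hmem : (ends e').1 ∈ A := hside.mpr (by rw [← hj]; exact h0)
        rw [if_pos hmem]
        simp
      · subst h
        have hmem : (ends e').1 ∉ A := fun h =>
          not_mem_of_ne_zero hC hm h0 hA hl (by rw [hj]; exact hside.mp h)
        rw [if_neg hmem, Fin.val_last]
        ring
    · unfold om
      rw [wfun_not_chain h1, wfun_not_chain h2]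
      by_cases ha : (ends e').1 ∈ A
      · rw [if_pos ha, if_pos (hside.mp ha)]; ring
      · rw [if_neg ha, if_neg (fun h => ha (hside.mpr h))]; ring

/-- the image of `w` under the matrix, weighted by `β`. -/
theorem sum_tm_w (hβ : IsMultFn ends β) (hC : IsChain ends f e) (hβm : ∀ i, β (f i) = m)
    (hα : ∀ i, mfMatrix ends β (f i) (f i) = -2) {hm : 0 < m} {A : Finset V} (h0 : f 0 ∈ A)
    (hA : ∀ e' : E, (((ends e').1 ∈ A ↔ (ends e').2 ∉ A) ↔ e' = e ⟨0, hm⟩)) (v : V) :
    ∑ e' : E, tm ends β (wfun f A β) e' v =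
      (if f 0 = v then (m : ℤ) else 0) - (if f (Fin.last m) = v then (m : ℤ) else 0) := by
  rw [sum_tm_split hC]
  have hout : ∑ e' ∈ univ.filter (fun e' => e' ∉ univ.image e), tm ends β (wfun f A β) e' v = 0 := by
    apply Finset.sum_eq_zero
    intro e' he'
    have he'' := (Finset.mem_filter.mp he').2
    unfold tm
    rw [om_w_outer hβ hC hβm hα h0 hA he'']
    simp
  rw [hout, add_zero]
  have hin : ∀ k : Fin m, tm ends β (wfun f A β) (e k) v =
      (m : ℤ) * ((if f k.castSucc = v then 1 else 0) - (if f k.succ = v then 1 else 0)) := by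
    intro k
    rw [tm_chain hC hβm, wfun_chain hC.1, wfun_chain hC.1, Fin.val_succ, Fin.val_castSucc]
    push_cast
    ring
  simp only [hin]
  rw [← Finset.mul_sum, sum_castSucc_sub_succ (fun i => if f i = v then (1 : ℤ) else 0)]
  split_ifs <;> ring

/-- the second difference along the chain at an interior vertex. -/
lemma interior_sum (hβ : IsMultFn ends β) (hC : IsChain ends f e) (hβm : ∀ i, β (f i) = m)
    (hα : ∀ i, mfMatrix ends β (f i) (f i) = -2) (y : V → ℤ) {k₁ k₂ : Fin m}
    (h : k₁.succ = k₂.castSucc) :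
    ∑ e' : E, tm ends β y e' (f k₁.succ) =
      (m : ℤ) * ((y (f k₂.succ) - y (f k₂.castSucc)) - (y (f k₁.succ) - y (f k₁.castSucc))) := by
  rw [sum_tm_split hC]
  have hout : ∑ e' ∈ univ.filter (fun e' => e' ∉ univ.image e), tm ends β y e' (f k₁.succ) = 0 := by
    apply Finset.sum_eq_zero
    intro e' he'
    have he'' := (Finset.mem_filter.mp he').2
    apply tm_eq_zero_of_not_atNL
    intro hat
    rcases outer_edge_index hβ hC hβm hα he'' hat with h' | h'
    · exact Fin.succ_ne_zero _ h'
    · rw [h] at h'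
      exact (Fin.castSucc_lt_last k₂).ne h'
  rw [hout, add_zero]
  simp only [tm_chain hC hβm, sub_mul]
  rw [Finset.sum_sub_distrib, Finset.sum_eq_single k₂, Finset.sum_eq_single k₁]
  · rw [if_pos (by rw [h]), if_pos rfl]
    ring
  · intro k _ hk
    rw [if_neg, zero_mul]
    intro h'
    exact hk (Fin.succ_injective _ (hC.1 h'))
  · intro h'; exact absurd (Finset.mem_univ _) h'
  · intro k _ hk
    rw [if_neg, zero_mul]
    intro h'
    rw [h] at h'
    exact hk (Fin.castSucc_injective _ (hC.1 h'))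
  · intro h'; exact absurd (Finset.mem_univ _) h'

/-- a vector whose image vanishes at the interior vertices is affine along the chain. -/
lemma chain_values (hβ : IsMultFn ends β) (hC : IsChain ends f e) (hβm : ∀ i, β (f i) = m)
    (hα : ∀ i, mfMatrix ends β (f i) (f i) = -2) (hm : 0 < m) (y : V → ℤ)
    (hy : ∀ i : Fin (m + 1), i ≠ 0 → i ≠ Fin.last m → (mfMatrix ends β).mulVec y (f i) = 0)
    (i : Fin (m + 1)) :
    y (f i) = y (f 0) + ((i : ℕ) : ℤ) * (y (f (⟨0, hm⟩ : Fin m).succ) - y (f 0)) := by
  have hm0 : (m : ℤ) ≠ 0 := by exact_mod_cast hm.ne'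
  have key : ∀ (n : ℕ) (h : n < m), y (f (⟨n, h⟩ : Fin m).succ) - y (f (⟨n, h⟩ : Fin m).castSucc) =
      y (f (⟨0, hm⟩ : Fin m).succ) - y (f 0) := by
    intro n
    induction n with
    | zero => intro h; rfl
    | succ n ih =>
      intro h
      have hprev := ih (by omega)
      have hk : (⟨n, by omega⟩ : Fin m).succ = (⟨n + 1, h⟩ : Fin m).castSucc := rfl
      have h1 := interior_sum hβ hC hβm hα y hk
      rw [← beta_mul_mulVec ends β hβ, hy _ (Fin.succ_ne_zero _)
        (by rw [hk]; exact (Fin.castSucc_lt_last _).ne), mul_zero] at h1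
      have h2 := (mul_eq_zero.mp h1.symm).resolve_left hm0
      rw [← hprev]
      linarith
  induction i using Fin.induction with
  | zero => simp
  | succ k ih =>
    have := key k.1 k.2
    rw [Fin.val_succ]
    push_cast
    have e1 : (⟨k.1, k.2⟩ : Fin m) = k := rfl
    rw [e1] at this
    rw [Fin.val_castSucc] at ih
    linarith

/-- the sum over a class of the lift of a vector. -/
lemma sum_class_liftAt (hC : IsChain ends f e) (hconst : ∀ i j, β (f i) = β (f j))
    (x : CtrVert ends (univ.image e) → ℤ) (c : CtrVert ends (univ.image e)) :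
    ∑ v ∈ univ.filter (fun v => ctrMk ends (univ.image e) v = c),
      β v * liftAt ends (univ.image e) (f 0) x v = ctrFn ends (univ.image e) β c * x c := by
  have hβπ := ctrFn_ctrMk hC β hconst
  obtain ⟨u, rfl⟩ := ctrMk_surjective ends (univ.image e) c
  by_cases hu : u ∈ Set.range f
  · have hc : ctrMk ends (univ.image e) u = ctrMk ends (univ.image e) (f 0) :=
      (ctrMk_eq_iff hC _ _).mpr (Or.inr ⟨hu, ⟨0, rfl⟩⟩)
    rw [hc, filter_ctrMk_chain hC, Finset.sum_image (fun a _ b _ h => hC.1 h),
      Finset.sum_eq_single 0]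
    · unfold liftAt
      rw [if_neg (by rintro ⟨-, h⟩; exact h rfl), hβπ]
    · intro i _ hi
      unfold liftAt
      rw [if_pos ⟨ctrMk_chain hC i, fun h => hi (hC.1 h)⟩, mul_zero]
    · intro h; exact absurd (Finset.mem_univ _) h
  · rw [filter_ctrMk_of_not_mem hC hu, Finset.sum_singleton, hβπ]
    unfold liftAt
    rw [if_neg]
    rintro ⟨h, -⟩
    rcases (ctrMk_eq_iff hC _ _).mp h with h' | ⟨h', -⟩
    · exact hu ⟨0, h'.symm⟩
    · exact hu h'

/-- injectivity of the map induced on component groups by the contraction of a connecting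
`(-2)`-chain of multiplicity `m`. -/
theorem ctr_injective (hβ : IsMultFn ends β) (hC : IsChain ends f e)
    (hconn : ∀ i, IsConnecting ends (e i)) (hβm : ∀ i, β (f i) = m)
    (hα : ∀ i, mfMatrix ends β (f i) (f i) = -2)
    (x : CtrVert ends (univ.image e) → ℤ)
    (hfx : liftAt ends (univ.image e) (f 0) x ∈
      LinearMap.range (Matrix.mulVecLin (mfMatrix ends β))) :
    x ∈ LinearMap.range (Matrix.mulVecLin
      (mfMatrix (ctrEnds ends (univ.image e)) (ctrFn ends (univ.image e) β))) := by
  obtain ⟨y, hy⟩ := hfx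
  rw [Matrix.mulVecLin_apply] at hy
  have hm := m_pos hβ hβm
  obtain ⟨A, h0, hA⟩ := exists_cut (f := f) hconn hm
  have hconst : ∀ i j, β (f i) = β (f j) := by intro i j; rw [hβm, hβm]
  have hβπ := ctrFn_ctrMk hC β hconst
  have hβ' := isMultFn_ctr hβ hC hconst
  have hz : ∀ v, (mfMatrix ends β).mulVec y v = liftAt ends (univ.image e) (f 0) x v :=
    fun v => congrFun hy v
  have hz_tail : ∀ i : Fin (m + 1), i ≠ 0 → (mfMatrix ends β).mulVec y (f i) = 0 := by
    intro i hi
    rw [hz]
    unfold liftAt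
    rw [if_pos ⟨ctrMk_chain hC i, fun h => hi (hC.1 h)⟩]
  have hval := chain_values hβ hC hβm hα hm y (fun i hi _ => hz_tail i hi)
  set δ := y (f (⟨0, hm⟩ : Fin m).succ) - y (f 0) with hδ
  have hy₂ : ∀ i, (y - δ • wfun f A β) (f i) = y (f 0) := by
    intro i
    rw [Pi.sub_apply, Pi.smul_apply, wfun_chain hC.1, hval i, smul_eq_mul]
    ring
  have hy' : ∀ v, (y - δ • wfun f A β)
      (Quotient.out (s := ctrSetoid ends (univ.image e)) (ctrMk ends (univ.image e) v)) =
      (y - δ • wfun f A β) v := by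
    intro v
    have h := ctrMk_out (ends := ends) (e := e) (ctrMk ends (univ.image e) v)
    rcases (ctrMk_eq_iff hC _ _).mp h with h1 | ⟨⟨i, hi⟩, ⟨j, hj⟩⟩
    · rw [h1]
    · rw [← hi, ← hj, hy₂, hy₂]
  refine ⟨fun c => (y - δ • wfun f A β) (Quotient.out (s := ctrSetoid ends (univ.image e)) c), ?_⟩
  rw [Matrix.mulVecLin_apply]
  funext c
  have hpos : 0 < ctrFn ends (univ.image e) β c := (hβ' c).1
  apply mul_left_cancel₀ hpos.ne'
  rw [beta_mul_mulVec_ctr ends (univ.image e) β hβ hβ' hβπ]
  have hfun : (fun v => (y - δ • wfun f A β)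
      (Quotient.out (s := ctrSetoid ends (univ.image e)) (ctrMk ends (univ.image e) v))) =
      y - δ • wfun f A β := funext hy'
  rw [hfun]
  have h3 : ∀ v, β v * (mfMatrix ends β).mulVec (y - δ • wfun f A β) v =
      β v * liftAt ends (univ.image e) (f 0) x v -
        δ * ((if f 0 = v then (m : ℤ) else 0) - (if f (Fin.last m) = v then (m : ℤ) else 0)) := by
    intro v
    rw [beta_mul_mulVec ends β hβ]
    simp only [tm_sub, tm_smul]
    rw [Finset.sum_sub_distrib, ← Finset.mul_sum, sum_tm_w hβ hC hβm hα h0 hA,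
      ← beta_mul_mulVec ends β hβ y v, hz]
  simp only [h3]
  rw [Finset.sum_sub_distrib, ← Finset.mul_sum]
  have h4 : ∑ v ∈ univ.filter (fun v => ctrMk ends (univ.image e) v = c),
      ((if f 0 = v then (m : ℤ) else 0) - (if f (Fin.last m) = v then (m : ℤ) else 0)) = 0 := by
    rw [Finset.sum_sub_distrib, Finset.sum_ite_eq, Finset.sum_ite_eq]
    simp only [Finset.mem_filter, Finset.mem_univ, true_and]
    rw [ctrMk_chain hC (Fin.last m)]
    exact sub_self _
  rw [h4, mul_zero, sub_zero]
  exact sum_class_liftAt hC hconst x c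

end chain

end Groth.Agent.Lib.Helper72.LabGraphLib
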