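/-
Helper72: contraction of a connecting `(-2)`-chain of multiplicity `m`: the lift of vectors is
compatible with the images of the matrices, and every vector can be cleared along the chain.
-/
import Mathlib
import Groth.Agent.Lib.Helper72.LabGraphE

set_option autoImplicit false
set_option linter.unusedSectionVars false
universe u
open Finset

namespace Groth.Agent.Lib.Helper72.LabGraphLib

open LabGraph DualGr

variable {V E : Type u} [Fintype V] [Fintype E] [DecidableEq V] [DecidableEq E]

section chain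

variable {ends : E → V × V} {β : V → ℤ} {m : ℕ} {f : Fin (m + 1) → V} {e : Fin m → E}

lemma last_ne_zero (hm : 0 < m) : Fin.last m ≠ 0 := by
  intro h
  have := congrArg Fin.val h
  simp at this
  omega

/-- a vector which is constant along the chain is killed at the interior vertices. -/
lemma interior_mulVec_const (hβ : IsMultFn ends β) (hC : IsChain ends f e)
    (hβm : ∀ i, β (f i) = m) (hα : ∀ i, mfMatrix ends β (f i) (f i) = -2) (hm : 0 < m)
    (y : V → ℤ) (hy : ∀ i, y (f i) = y (f 0)) {i : Fin (m + 1)} (h0 : i ≠ 0)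
    (hl : i ≠ Fin.last m) : (mfMatrix ends β).mulVec y (f i) = 0 := by
  have hm0 : (m : ℤ) ≠ 0 := by exact_mod_cast hm.ne'
  obtain ⟨k₁, k₂, hk₁, hk₂⟩ := exists_pred_succ h0 hl
  have h1 := interior_sum hβ hC hβm hα y (hk₁.trans hk₂.symm)
  rw [← beta_mul_mulVec ends β hβ, hβm, hy k₂.succ, hy k₂.castSucc, hy k₁.succ, hy k₁.castSucc,
    hk₁] at h1
  have h2 : (m : ℤ) * (mfMatrix ends β).mulVec y (f i) = 0 := by rw [h1]; ring
  exact (mul_eq_zero.mp h2).resolve_left hm0

/-- the lift of the image of the contracted matrix lies in the image of the matrix. -/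
theorem liftAt_mulVec_mem (hβ : IsMultFn ends β) (hC : IsChain ends f e)
    (hconn : ∀ i, IsConnecting ends (e i)) (hβm : ∀ i, β (f i) = m)
    (hα : ∀ i, mfMatrix ends β (f i) (f i) = -2) (y' : CtrVert ends (univ.image e) → ℤ) :
    ∃ y : V → ℤ, (mfMatrix ends β).mulVec y =
      liftAt ends (univ.image e) (f 0)
        ((mfMatrix (ctrEnds ends (univ.image e)) (ctrFn ends (univ.image e) β)).mulVec y') := by
  have hm := m_pos hβ hβm
  have hm0 : (m : ℤ) ≠ 0 := by exact_mod_cast hm.ne'
  obtain ⟨A, h0, hA⟩ := exists_cut (f := f) hconn hm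
  have hconst : ∀ i j, β (f i) = β (f j) := by intro i j; rw [hβm, hβm]
  have hβπ := ctrFn_ctrMk hC β hconst
  have hβ' := isMultFn_ctr hβ hC hconst
  have hl := last_ne_zero hm
  have hfl : f (Fin.last m) ≠ f 0 := fun h => hl (hC.1 h)
  set yt : V → ℤ := fun v => y' (ctrMk ends (univ.image e) v) with hyt
  have hytc : ∀ i, yt (f i) = yt (f 0) := by
    intro i
    rw [hyt]
    simp only
    rw [ctrMk_chain hC i]
  set t := (mfMatrix ends β).mulVec yt (f (Fin.last m)) with ht
  refine ⟨yt + t • wfun f A β, ?_⟩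
  funext v
  have hpos : 0 < β v := (hβ v).1
  apply mul_left_cancel₀ hpos.ne'
  have hB := beta_mul_mulVec_ctr ends (univ.image e) β hβ hβ' hβπ y'
  have h1 : β v * (mfMatrix ends β).mulVec (yt + t • wfun f A β) v =
      β v * (mfMatrix ends β).mulVec yt v +
        t * ((if f 0 = v then (m : ℤ) else 0) - (if f (Fin.last m) = v then (m : ℤ) else 0)) := by
    rw [beta_mul_mulVec ends β hβ]
    simp only [tm_add, tm_smul]
    rw [Finset.sum_add_distrib, ← Finset.mul_sum, sum_tm_w hβ hC hβm hα h0 hA,
      ← beta_mul_mulVec ends β hβ yt v]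
  rw [h1]
  by_cases hv : v ∈ Set.range f
  · obtain ⟨i, rfl⟩ := hv
    by_cases hi0 : i = 0
    · subst hi0
      rw [if_pos rfl, if_neg hfl]
      unfold liftAt
      rw [if_neg (by rintro ⟨-, h⟩; exact h rfl)]
      have hBc := hB (ctrMk ends (univ.image e) (f 0))
      rw [hβπ, filter_ctrMk_chain hC, Finset.sum_image (fun a _ b _ h => hC.1 h),
        Finset.sum_eq_add (0 : Fin (m + 1)) (Fin.last m) hl.symm] at hBc
      · rw [hBc, hβm, hβm, ht]
        ring
      · rintro c - ⟨hc0, hcl⟩
        rw [interior_mulVec_const hβ hC hβm hα hm yt hytc hc0 hcl, mul_zero]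
      · intro h; exact absurd (Finset.mem_univ _) h
      · intro h; exact absurd (Finset.mem_univ _) h
    · have hfi : f i ≠ f 0 := fun h => hi0 (hC.1 h)
      have hlift : liftAt ends (univ.image e) (f 0)
          ((mfMatrix (ctrEnds ends (univ.image e)) (ctrFn ends (univ.image e) β)).mulVec y')
          (f i) = 0 := by
        unfold liftAt
        rw [if_pos ⟨ctrMk_chain hC i, hfi⟩]
      rw [hlift, mul_zero, if_neg (Ne.symm hfi)]
      by_cases hil : i = Fin.last m
      · subst hil
        rw [if_pos rfl, hβm, ht]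
        ring
      · rw [if_neg (fun h => hil (hC.1 h).symm),
          interior_mulVec_const hβ hC hβm hα hm yt hytc hi0 hil]
        ring
  · have hne0 : f 0 ≠ v := fun h => hv ⟨0, h⟩
    have hnel : f (Fin.last m) ≠ v := fun h => hv ⟨_, h⟩
    rw [if_neg hne0, if_neg hnel, sub_zero, mul_zero, add_zero]
    have hBc := hB (ctrMk ends (univ.image e) v)
    rw [hβπ, filter_ctrMk_of_not_mem hC hv, Finset.sum_singleton] at hBc
    rw [← hBc]
    unfold liftAt
    rw [if_neg]
    rintro ⟨h, -⟩
    rcases (ctrMk_eq_iff hC _ _).mp h with h' | ⟨h', -⟩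
    · exact hv ⟨0, h'.symm⟩
    · exact hv h'

/-- the two end points of a chain edge. -/
lemma chain_edge_pair (hC : IsChain ends f e) {k : Fin m} {a b : Fin (m + 1)}
    (h : ends (e k) = (f a, f b) ∨ ends (e k) = (f b, f a)) :
    (a = k.castSucc ∧ b = k.succ) ∨ (a = k.succ ∧ b = k.castSucc) := by
  rcases hC.2.2 k with h' | h' <;> rcases h with h | h <;> rw [h'] at h <;>
    simp only [Prod.mk.injEq] at h
  · exact Or.inl ⟨(hC.1 h.1).symm, (hC.1 h.2).symm⟩
  · exact Or.inr ⟨(hC.1 h.2).symm, (hC.1 h.1).symm⟩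
  · exact Or.inr ⟨(hC.1 h.1).symm, (hC.1 h.2).symm⟩
  · exact Or.inl ⟨(hC.1 h.2).symm, (hC.1 h.1).symm⟩

lemma mem_image_of_joins (hβ : IsMultFn ends β) (hC : IsChain ends f e) (hβm : ∀ i, β (f i) = m)
    (hα : ∀ i, mfMatrix ends β (f i) (f i) = -2) {hm : 0 < m} {A : Finset V} (h0 : f 0 ∈ A)
    (hA : ∀ e' : E, (((ends e').1 ∈ A ↔ (ends e').2 ∉ A) ↔ e' = e ⟨0, hm⟩))
    {e' : E} {a b : Fin (m + 1)} (hab : a ≠ b)
    (h : ends e' = (f a, f b) ∨ ends e' = (f b, f a)) : e' ∈ univ.image e := by
  rcases h with h | h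
  · exact internal_edge hβ hC hβm hα h0 hA (by rw [h]) (by rw [h]) hab
  · exact internal_edge hβ hC hβm hα h0 hA (by rw [h]) (by rw [h]) hab.symm

/-- consecutive vertices of the chain are joined by exactly one edge. -/
lemma edgeMult_chain_adj (hβ : IsMultFn ends β) (hC : IsChain ends f e) (hβm : ∀ i, β (f i) = m)
    (hα : ∀ i, mfMatrix ends β (f i) (f i) = -2) {hm : 0 < m} {A : Finset V} (h0 : f 0 ∈ A)
    (hA : ∀ e' : E, (((ends e').1 ∈ A ↔ (ends e').2 ∉ A) ↔ e' = e ⟨0, hm⟩)) (k : Fin m) :
    edgeMult ends (f k.succ) (f k.castSucc) = 1 := by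
  unfold edgeMult
  rw [Finset.card_eq_one]
  refine ⟨e k, ?_⟩
  ext e'
  rw [Finset.mem_filter, Finset.mem_singleton]
  constructor
  · rintro ⟨-, h⟩
    have hne : k.succ ≠ k.castSucc := (Fin.castSucc_lt_succ (i := k)).ne'
    obtain ⟨k', -, rfl⟩ := Finset.mem_image.mp (mem_image_of_joins hβ hC hβm hα h0 hA hne h)
    have := chain_edge_pair hC h
    congr 1
    rcases this with ⟨h1, h2⟩ | ⟨h1, h2⟩
    · exfalso
      have e1 := congrArg Fin.val h1
      have e2 := congrArg Fin.val h2
      simp at e1 e2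
      omega
    · exact (Fin.succ_injective _ h1).symm
  · rintro rfl
    refine ⟨Finset.mem_univ _, ?_⟩
    rcases hC.2.2 k with h | h
    · exact Or.inr h
    · exact Or.inl h

/-- distant vertices of the chain are not joined by an edge. -/
lemma edgeMult_chain_far (hβ : IsMultFn ends β) (hC : IsChain ends f e) (hβm : ∀ i, β (f i) = m)
    (hα : ∀ i, mfMatrix ends β (f i) (f i) = -2) {hm : 0 < m} {A : Finset V} (h0 : f 0 ∈ A)
    (hA : ∀ e' : E, (((ends e').1 ∈ A ↔ (ends e').2 ∉ A) ↔ e' = e ⟨0, hm⟩)) (k : Fin m)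
    (i : Fin (m + 1)) (hi : (k : ℕ) + 1 < (i : ℕ)) :
    edgeMult ends (f i) (f k.castSucc) = 0 := by
  unfold edgeMult
  rw [Finset.card_eq_zero, Finset.filter_eq_empty_iff]
  intro e' _ h
  have hne : i ≠ k.castSucc := by
    intro h'
    have := congrArg Fin.val h'
    simp at this
    omega
  obtain ⟨k', -, rfl⟩ := Finset.mem_image.mp (mem_image_of_joins hβ hC hβm hα h0 hA hne h)
  rcases chain_edge_pair hC h with ⟨h1, h2⟩ | ⟨h1, h2⟩
  · have e1 := congrArg Fin.val h1
    have e2 := congrArg Fin.val h2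
    simp at e1 e2
    omega
  · have e1 := congrArg Fin.val h1
    have e2 := congrArg Fin.val h2
    simp at e1 e2
    omega

/-- every vector is congruent modulo the image of the matrix to one vanishing on the tail of the
chain. -/
theorem exists_kill_tail (hβ : IsMultFn ends β) (hC : IsChain ends f e)
    (hconn : ∀ i, IsConnecting ends (e i)) (hβm : ∀ i, β (f i) = m)
    (hα : ∀ i, mfMatrix ends β (f i) (f i) = -2) (y : V → ℤ) :
    ∃ t : V → ℤ, ∀ i : Fin (m + 1), i ≠ 0 → (y - (mfMatrix ends β).mulVec t) (f i) = 0 := by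
  have hm := m_pos hβ hβm
  obtain ⟨A, h0, hA⟩ := exists_cut (f := f) hconn hm
  have key : ∀ (n : ℕ) (y : V → ℤ), (∀ i : Fin (m + 1), n < (i : ℕ) → y (f i) = 0) →
      ∃ t : V → ℤ, ∀ i : Fin (m + 1), i ≠ 0 → (y - (mfMatrix ends β).mulVec t) (f i) = 0 := by
    intro n
    induction n with
    | zero =>
      intro y hy
      refine ⟨0, fun i hi => ?_⟩
      rw [Matrix.mulVec_zero, sub_zero]
      exact hy i (Nat.pos_of_ne_zero (fun h => hi (Fin.ext h)))
    | succ n ih =>
      intro y hy
      by_cases hn : n < m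
      · set k : Fin m := ⟨n, hn⟩ with hk
        set r := y (f k.succ) with hr
        have hstep : ∀ i : Fin (m + 1), n < (i : ℕ) →
            (y - (mfMatrix ends β).mulVec (r • Pi.single (f k.castSucc) 1)) (f i) = 0 := by
          intro i hi
          rw [Pi.sub_apply, Matrix.mulVec_smul, Pi.smul_apply, Matrix.mulVec_single_one,
            Matrix.col_apply, smul_eq_mul]
          have hne : f i ≠ f k.castSucc := by
            intro h
            have := congrArg Fin.val (hC.1 h)
            simp [hk] at this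
            omega
          unfold mfMatrix
          rw [if_neg hne]
          by_cases hi' : (i : ℕ) = n + 1
          · have : i = k.succ := Fin.ext (by simp [hk, hi'])
            rw [this, edgeMult_chain_adj hβ hC hβm hα h0 hA k, hr]
            simp
          · rw [edgeMult_chain_far hβ hC hβm hα h0 hA k i (by simp [hk]; omega), hy i (by omega)]
            simp
        obtain ⟨t₂, ht₂⟩ := ih _ hstep
        refine ⟨t₂ + r • Pi.single (f k.castSucc) 1, fun i hi => ?_⟩
        have := ht₂ i hi
        rw [Matrix.mulVec_add]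
        simp only [Pi.sub_apply, Pi.add_apply] at this ⊢
        linarith
      · apply ih y
        intro i hi
        exfalso
        have := i.2
        omega
  exact key m y (fun i hi => by exfalso; have := i.2; omega)

end chain

end Groth.Agent.Lib.Helper72.LabGraphLib
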