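/-
Helper72: contraction of a connecting `(-2)`-chain of multiplicity `m`: the induced surjection of
component groups.
-/
import Mathlib
import Groth.Agent.Lib.Helper72.LabGraphF

set_option autoImplicit false
set_option linter.unusedSectionVars false
universe u
open Finset

namespace Groth.Agent.Lib.Helper72.LabGraphLib

open LabGraph DualGr

variable {V E : Type u} [Fintype V] [Fintype E] [DecidableEq V] [DecidableEq E]

lemma liftAt_add (ends : E → V × V) (D : Finset E) (v₀ : V) (x x' : CtrVert ends D → ℤ) :
    liftAt ends D v₀ (x + x') = liftAt ends D v₀ x + liftAt ends D v₀ x' := by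
  funext v
  unfold liftAt
  simp only [Pi.add_apply]
  split_ifs <;> simp

lemma liftAt_smul (ends : E → V × V) (D : Finset E) (v₀ : V) (c : ℤ) (x : CtrVert ends D → ℤ) :
    liftAt ends D v₀ (c • x) = c • liftAt ends D v₀ x := by
  funext v
  unfold liftAt
  simp only [Pi.smul_apply]
  split_ifs <;> simp

lemma betaHom_mulVec (ends : E → V × V) (β : V → ℤ) (hβ : IsMultFn ends β) (t : V → ℤ) :
    betaHom β ((mfMatrix ends β).mulVec t) = 0 := by
  unfold betaHom
  rw [Fintype.linearCombination_apply]
  simp only [smul_eq_mul]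
  have h : ∀ v, (mfMatrix ends β).mulVec t v * β v = ∑ e' : E, tm ends β t e' v := fun v => by
    rw [mul_comm, beta_mul_mulVec ends β hβ]
  simp only [h]
  rw [Finset.sum_comm]
  apply Finset.sum_eq_zero
  intro e' _
  unfold tm
  rw [Finset.sum_sub_distrib, Finset.sum_ite_eq, Finset.sum_ite_eq]
  simp

section chain

variable {ends : E → V × V} {β : V → ℤ} {m : ℕ} {f : Fin (m + 1) → V} {e : Fin m → E}

lemma betaHom_liftAt (hC : IsChain ends f e) (hconst : ∀ i j, β (f i) = β (f j))
    (x : CtrVert ends (univ.image e) → ℤ) :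
    betaHom β (liftAt ends (univ.image e) (f 0) x) =
      betaHom (ctrFn ends (univ.image e) β) x := by
  unfold betaHom
  rw [Fintype.linearCombination_apply, Fintype.linearCombination_apply]
  simp only [smul_eq_mul]
  rw [← Finset.sum_fiberwise univ (ctrMk ends (univ.image e))
    (fun v => liftAt ends (univ.image e) (f 0) x v * β v)]
  refine Finset.sum_congr rfl fun c _ => ?_
  have := sum_class_liftAt hC hconst x c
  rw [mul_comm (x c), ← this]
  exact Finset.sum_congr rfl fun v _ => mul_comm _ _

/-- the contraction of a connecting `(-2)`-chain of multiplicity `m` induces a surjection of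
component groups. -/
theorem ctr_surjective (hβ : IsMultFn ends β) (hC : IsChain ends f e)
    (hconn : ∀ i, IsConnecting ends (e i)) (hβm : ∀ i, β (f i) = m)
    (hα : ∀ i, mfMatrix ends β (f i) (f i) = -2) :
    ∃ φ : CompGrp (ctrEnds ends (univ.image e)) (ctrFn ends (univ.image e) β) →+ CompGrp ends β,
      Function.Surjective φ ∧
      ∀ (x : LinearMap.ker (betaHom (ctrFn ends (univ.image e) β)))
        (y : LinearMap.ker (betaHom β)),
        (y : V → ℤ) = liftAt ends (univ.image e) (f 0) (x : CtrVert ends (univ.image e) → ℤ) →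
        φ (Submodule.Quotient.mk x) = Submodule.Quotient.mk y := by
  have hconst : ∀ i j, β (f i) = β (f j) := by intro i j; rw [hβm, hβm]
  let L : LinearMap.ker (betaHom (ctrFn ends (univ.image e) β)) →ₗ[ℤ] LinearMap.ker (betaHom β) :=
    { toFun := fun x => ⟨liftAt ends (univ.image e) (f 0) x.1, by
        rw [LinearMap.mem_ker, betaHom_liftAt hC hconst]
        exact LinearMap.mem_ker.mp x.2⟩
      map_add' := fun x x' => Subtype.ext (liftAt_add _ _ _ _ _)
      map_smul' := fun c x => Subtype.ext (liftAt_smul _ _ _ _ _) }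
  have hL : ∀ x, ((L x : LinearMap.ker (betaHom β)) : V → ℤ) =
      liftAt ends (univ.image e) (f 0) x.1 := fun x => rfl
  have hle : (LinearMap.range (Matrix.mulVecLin (mfMatrix (ctrEnds ends (univ.image e))
        (ctrFn ends (univ.image e) β)))).comap
        (LinearMap.ker (betaHom (ctrFn ends (univ.image e) β))).subtype ≤
      ((LinearMap.range (Matrix.mulVecLin (mfMatrix ends β))).comap
        (LinearMap.ker (betaHom β)).subtype).comap L := by
    intro x hx
    rw [Submodule.mem_comap] at hx
    rw [Submodule.mem_comap, Submodule.mem_comap]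
    obtain ⟨y', hy'⟩ := hx
    rw [Matrix.mulVecLin_apply] at hy'
    obtain ⟨y, hy⟩ := liftAt_mulVec_mem hβ hC hconn hβm hα y'
    refine ⟨y, ?_⟩
    rw [Matrix.mulVecLin_apply, hy, hy']
    rfl
  refine ⟨(Submodule.mapQ _ _ L hle).toAddMonoidHom, ?_, ?_⟩
  · intro q
    obtain ⟨y, rfl⟩ := Submodule.Quotient.mk_surjective _ q
    obtain ⟨t, ht⟩ := exists_kill_tail hβ hC hconn hβm hα (y : V → ℤ)
    set z : V → ℤ := (y : V → ℤ) - (mfMatrix ends β).mulVec t with hz
    have hzker : betaHom β z = 0 := by
      rw [hz, map_sub, betaHom_mulVec ends β hβ, sub_zero]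
      exact LinearMap.mem_ker.mp y.2
    set x : CtrVert ends (univ.image e) → ℤ := fun c =>
      z (if c = ctrMk ends (univ.image e) (f 0) then f 0
        else Quotient.out (s := ctrSetoid ends (univ.image e)) c) with hx
    have hlift : liftAt ends (univ.image e) (f 0) x = z := by
      funext v
      unfold liftAt
      by_cases h : ctrMk ends (univ.image e) v = ctrMk ends (univ.image e) (f 0) ∧ v ≠ f 0
      · rw [if_pos h]
        rcases (ctrMk_eq_iff hC _ _).mp h.1 with h' | ⟨⟨i, rfl⟩, -⟩
        · exact absurd h' h.2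
        · have hi : i ≠ 0 := by
            rintro rfl
            exact h.2 rfl
          exact (ht i hi).symm
      · rw [if_neg h, hx]
        simp only
        by_cases h1 : ctrMk ends (univ.image e) v = ctrMk ends (univ.image e) (f 0)
        · rw [if_pos h1]
          have : v = f 0 := by
            by_contra h2
            exact h ⟨h1, h2⟩
          rw [this]
        · rw [if_neg h1]
          have h2 := ctrMk_out (ends := ends) (e := e) (ctrMk ends (univ.image e) v)
          rcases (ctrMk_eq_iff hC _ _).mp h2 with h3 | ⟨-, h3⟩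
          · rw [h3]
          · exfalso
            apply h1
            exact (ctrMk_eq_iff hC _ _).mpr (Or.inr ⟨h3, ⟨0, rfl⟩⟩)
    have hxker : x ∈ LinearMap.ker (betaHom (ctrFn ends (univ.image e) β)) := by
      rw [LinearMap.mem_ker, ← betaHom_liftAt hC hconst, hlift]
      exact hzker
    refine ⟨Submodule.Quotient.mk ⟨x, hxker⟩, ?_⟩
    rw [LinearMap.toAddMonoidHom_coe, Submodule.mapQ_apply, Submodule.Quotient.eq,
      Submodule.mem_comap]
    refine ⟨-t, ?_⟩
    rw [Matrix.mulVecLin_apply, Matrix.mulVec_neg]
    change _ = liftAt ends (univ.image e) (f 0) x - (y : V → ℤ)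
    rw [hlift, hz]
    abel
  · intro x y hxy
    rw [LinearMap.toAddMonoidHom_coe, Submodule.mapQ_apply]
    congr 1
    exact Subtype.ext hxy.symm

end chain

end Groth.Agent.Lib.Helper72.LabGraphLib
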