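/-
Helper72: rank-one updates of determinants, the adjugate of a weighted Laplacian, and the matrix of
a multiplicity function as a rescaled Laplacian.
-/
import Mathlib
import Groth.Agent.Lib.Helper72.GraphTreeB
import Groth.Agent.Lib.Helper72.LabGraphG

set_option autoImplicit false
set_option linter.unusedSectionVars false
universe u
open Finset

namespace Groth.Agent.Lib.Helper72.GraphCyc

open LabGraph Groth.Agent.Lib.Helper72.LabGraphLib

section general

variable {n : Type*} [Fintype n] [DecidableEq n] {R : Type*} [CommRing R]

lemma det_add_vecMulVec_aux (u w : n → R) (s : Finset n) : ∀ A : Matrix n n R,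
    (A + Matrix.vecMulVec (fun i => if i ∈ s then u i else 0) w).det =
      A.det + ∑ i ∈ s, u i * (A.updateRow i w).det := by
  induction s using Finset.induction_on with
  | empty =>
    intro A
    have : Matrix.vecMulVec (fun i : n => if i ∈ (∅ : Finset n) then u i else 0) w = 0 := by
      ext i j; simp [Matrix.vecMulVec_apply]
    rw [this]; simp
  | insert a s ha ih =>
    intro A
    have hM : A + Matrix.vecMulVec (fun i => if i ∈ insert a s then u i else 0) w =
        (A + Matrix.vecMulVec (fun i => if i ∈ s then u i else 0) w).updateRow a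
          (A a + u a • w) := by
      ext i j
      by_cases hi : i = a
      · subst hi
        simp [Matrix.vecMulVec_apply, Matrix.updateRow_self]
      · simp [Matrix.vecMulVec_apply, Finset.mem_insert, hi]
    have h1 : (A + Matrix.vecMulVec (fun i => if i ∈ s then u i else 0) w).updateRow a (A a) =
        A + Matrix.vecMulVec (fun i => if i ∈ s then u i else 0) w := by
      ext i j
      by_cases hi : i = a
      · subst hi
        simp [Matrix.vecMulVec_apply, Matrix.updateRow_self, ha]
      · simp [Matrix.updateRow_ne hi]
    have h2 : (A + Matrix.vecMulVec (fun i => if i ∈ s then u i else 0) w).updateRow a w =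
        A.updateRow a w + Matrix.vecMulVec (fun i => if i ∈ s then u i else 0) w := by
      ext i j
      by_cases hi : i = a
      · subst hi
        simp [Matrix.vecMulVec_apply, Matrix.updateRow_self, ha]
      · simp [Matrix.updateRow_ne hi]
    rw [hM, Matrix.det_updateRow_add, Matrix.det_updateRow_smul, h1, h2, ih A,
      ih (A.updateRow a w), Finset.sum_insert ha]
    have h3 : ∀ i ∈ s, ((A.updateRow a w).updateRow i w).det = 0 := by
      intro i hi
      have hia : i ≠ a := fun h => ha (h ▸ hi)
      refine Matrix.det_zero_of_row_eq hia ?_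
      rw [Matrix.updateRow_self, Matrix.updateRow_ne hia.symm, Matrix.updateRow_self]
    have h4 : ∑ i ∈ s, u i * ((A.updateRow a w).updateRow i w).det = 0 :=
      Finset.sum_eq_zero (fun i hi => by rw [h3 i hi, mul_zero])
    rw [h4]
    ring

/-- the determinant of a rank-one update, expanded along rows. -/
lemma det_add_vecMulVec (A : Matrix n n R) (u w : n → R) :
    (A + Matrix.vecMulVec u w).det = A.det + ∑ i, u i * (A.updateRow i w).det := by
  have := det_add_vecMulVec_aux u w Finset.univ A
  simpa using this

lemma det_updateRow_eq_sum_adjugate (A : Matrix n n R) (i : n) (w : n → R) :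
    (A.updateRow i w).det = ∑ j, A.adjugate j i * w j := by
  rw [← Matrix.cramer_transpose_apply, Matrix.cramer_eq_adjugate_mulVec, Matrix.mulVec,
    dotProduct]
  refine Finset.sum_congr rfl fun j _ => ?_
  rw [← Matrix.adjugate_transpose, Matrix.transpose_apply]

/-- **matrix determinant lemma**, adjugate form. -/
lemma det_add_vecMulVec' (A : Matrix n n R) (u w : n → R) :
    (A + Matrix.vecMulVec u w).det = A.det + ∑ i, ∑ j, u i * w j * A.adjugate j i := by
  rw [det_add_vecMulVec]
  congr 1
  refine Finset.sum_congr rfl fun i _ => ?_
  rw [det_updateRow_eq_sum_adjugate, Finset.mul_sum]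
  refine Finset.sum_congr rfl fun j _ => ?_
  ring

/-- if all the row sums of `A` vanish, the rows of its adjugate are all equal. -/
lemma adjugate_row_indep [IsDomain R] (A : Matrix n n R) (hA : A.mulVec 1 = 0) (i i' j : n) :
    A.adjugate i j = A.adjugate i' j := by
  rw [Matrix.adjugate_apply, Matrix.adjugate_apply]
  have hsplit : (Pi.single i 1 : n → R) = (Pi.single i 1 - Pi.single i' 1) + Pi.single i' 1 := by
    abel
  rw [hsplit, Matrix.det_updateRow_add]
  suffices h : (A.updateRow j (Pi.single i 1 - Pi.single i' 1)).det = 0 by rw [h, zero_add]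
  rw [← Matrix.exists_mulVec_eq_zero_iff]
  refine ⟨1, ?_, ?_⟩
  · intro h
    have := congrFun h j
    simp at this
  · funext k
    by_cases hk : k = j
    · subst hk
      simp [Matrix.mulVec, dotProduct, Matrix.updateRow_self, Finset.sum_sub_distrib]
    · have := congrFun hA k
      simp only [Matrix.mulVec, dotProduct, Pi.zero_apply] at this ⊢
      rw [← this]
      refine Finset.sum_congr rfl fun l _ => ?_
      rw [Matrix.updateRow_ne hk]

end general

variable {V E : Type u} [Fintype V] [Fintype E] [DecidableEq V] [DecidableEq E]

lemma lap_symm (ends : E → V × V) (c : E → ℤ) : (lap ends c).transpose = lap ends c := by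
  ext v w
  simp only [lap, Matrix.transpose_apply, Matrix.of_apply]
  refine Finset.sum_congr rfl fun e _ => ?_
  ring

lemma sum_bvec (ends : E → V × V) (e : E) : ∑ w, bvec ends e w = 0 := by
  simp [bvec, Finset.sum_sub_distrib]

lemma lap_mulVec_one (ends : E → V × V) (c : E → ℤ) : (lap ends c).mulVec 1 = 0 := by
  funext v
  simp only [Matrix.mulVec, dotProduct, lap, Matrix.of_apply, Pi.one_apply, mul_one,
    Pi.zero_apply]
  rw [Finset.sum_comm]
  refine Finset.sum_eq_zero fun e _ => ?_
  rw [← Finset.mul_sum, sum_bvec, mul_zero]

/-- all entries of the adjugate of the weighted Laplacian are equal to the weighted number of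
spanning trees. -/
theorem adjugate_lap (ends : E → V × V) (c : E → ℤ)
    [DecidablePred fun T : Finset E => IsSpanningTree ends T] (i j : V) :
    (lap ends c).adjugate i j =
      ∑ T ∈ univ.powerset.filter (fun T : Finset E => IsSpanningTree ends T), ∏ e ∈ T, c e := by
  have h1 : (lap ends c).adjugate i j = (lap ends c).adjugate j j :=
    adjugate_row_indep _ (lap_mulVec_one ends c) i j j
  rw [h1, Matrix.adjugate_apply, matrix_tree]

/-- the matrix of a multiplicity function, rescaled by `β` on both sides, is minus the Laplacian
with edge weights `β(e₁) β(e₂)`. -/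
theorem diag_mfMatrix_diag (ends : E → V × V) (β : V → ℤ) (hβ : IsMultFn ends β) :
    Matrix.diagonal β * mfMatrix ends β * Matrix.diagonal β =
      -(lap ends fun e => β (ends e).1 * β (ends e).2) := by
  rw [Matrix.ext_iff_mulVec]
  intro z
  funext v
  rw [← Matrix.mulVec_mulVec, ← Matrix.mulVec_mulVec, Matrix.mulVec_diagonal,
    beta_mul_mulVec ends β hβ, Matrix.neg_mulVec, Pi.neg_apply]
  simp only [Matrix.mulVec, dotProduct, lap, Matrix.of_apply]
  simp only [Finset.sum_mul]
  rw [Finset.sum_comm, ← Finset.sum_neg_distrib]
  refine Finset.sum_congr rfl fun e _ => ?_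
  have hz : ∑ w, bvec ends e w * z w = z (ends e).1 - z (ends e).2 := by
    simp [bvec, sub_mul, Finset.sum_sub_distrib, Pi.single_apply]
  have : ∑ w, (β (ends e).1 * β (ends e).2) * bvec ends e v * bvec ends e w * z w =
      (β (ends e).1 * β (ends e).2) * bvec ends e v * (z (ends e).1 - z (ends e).2) := by
    rw [← hz, Finset.mul_sum]
    refine Finset.sum_congr rfl fun w _ => ?_
    ring
  rw [this]
  have hom : om ends β ((Matrix.diagonal β).mulVec z) e =
      -(β (ends e).1 * β (ends e).2 * (z (ends e).1 - z (ends e).2)) := by
    simp only [om, Matrix.mulVec_diagonal]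
    ring
  have hb : bvec ends e v =
      (if (ends e).1 = v then 1 else 0) - (if (ends e).2 = v then 1 else 0) := by
    simp only [bvec, Pi.sub_apply, Pi.single_apply, eq_comm]
  rw [hb]
  simp only [tm, hom]
  split_ifs <;> ring

end Groth.Agent.Lib.Helper72.GraphCyc
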