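/-
Helper72: the order of the component group `ker β / im α` of a multigraph with a multiplicity
function, as a determinant, and via the weighted matrix-tree theorem.
-/
import Mathlib
import Groth.Agent.Lib.Helper72.GraphTreeC

set_option autoImplicit false
set_option linter.unusedSectionVars false
universe u
open Finset

namespace Groth.Agent.Lib.Helper72.GraphCyc

open LabGraph Groth.Agent.Lib.Helper72.LabGraphLib

variable {V E : Type u} [Fintype V] [Fintype E] [DecidableEq V] [DecidableEq E]

lemma mfMatrix_mulVec_self (ends : E → V × V) (β : V → ℤ) (hβ : IsMultFn ends β) :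
    (mfMatrix ends β).mulVec β = 0 := by
  funext v
  have h := beta_mul_mulVec ends β hβ β v
  have h0 : ∑ e : E, tm ends β β e v = 0 :=
    Finset.sum_eq_zero fun e _ => by simp [tm, om_self]
  rw [h0] at h
  exact (mul_eq_zero.1 h).resolve_left (hβ v).1.ne'

lemma det_mfMatrix [Nonempty V] (ends : E → V × V) (β : V → ℤ) (hβ : IsMultFn ends β) :
    (mfMatrix ends β).det = 0 := by
  rw [← Matrix.exists_mulVec_eq_zero_iff]
  refine ⟨β, ?_, mfMatrix_mulVec_self ends β hβ⟩
  intro h
  obtain ⟨v⟩ := ‹Nonempty V›
  have := (hβ v).1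
  rw [h] at this
  simp at this

/-- the adjugate of the matrix of a multiplicity function. -/
theorem adjugate_mfMatrix (ends : E → V × V) (β : V → ℤ) (hβ : IsMultFn ends β)
    [DecidablePred fun T : Finset E => IsSpanningTree ends T] (v v' : V) :
    (∏ w, β w) ^ 2 * (mfMatrix ends β).adjugate v v' =
      (-1) ^ (Fintype.card V - 1) *
        (∑ T ∈ univ.powerset.filter (fun T : Finset E => IsSpanningTree ends T),
          ∏ e ∈ T, (β (ends e).1 * β (ends e).2)) * β v * β v' := by
  have h := congrArg Matrix.adjugate (diag_mfMatrix_diag ends β hβ)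
  rw [Matrix.adjugate_mul_distrib, Matrix.adjugate_mul_distrib, Matrix.adjugate_diagonal] at h
  have hneg : -(lap ends fun e => β (ends e).1 * β (ends e).2) =
      (-1 : ℤ) • lap ends fun e => β (ends e).1 * β (ends e).2 := by simp
  rw [hneg, Matrix.adjugate_smul] at h
  have h2 := congrFun (congrFun h v) v'
  rw [Matrix.diagonal_mul, Matrix.mul_diagonal, Matrix.smul_apply, adjugate_lap] at h2
  have hv := Finset.mul_prod_erase univ β (mem_univ v)
  have hv' := Finset.mul_prod_erase univ β (mem_univ v')
  calc (∏ w, β w) ^ 2 * (mfMatrix ends β).adjugate v v'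
      = (β v * ∏ j ∈ univ.erase v, β j) * (β v' * ∏ j ∈ univ.erase v', β j) *
          (mfMatrix ends β).adjugate v v' := by rw [hv, hv']; ring
    _ = β v * β v' * ((∏ j ∈ univ.erase v, β j) *
          ((mfMatrix ends β).adjugate v v' * ∏ j ∈ univ.erase v', β j)) := by ring
    _ = _ := by rw [h2, smul_eq_mul]; ring

/-- the determinant of the rank-one modification `α + u uᵀ`. -/
theorem det_mfMatrix_add [Nonempty V] (ends : E → V × V) (β : V → ℤ) (hβ : IsMultFn ends β)
    [DecidablePred fun T : Finset E => IsSpanningTree ends T] (u : V → ℤ) :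
    (∏ w, β w) ^ 2 * (mfMatrix ends β + Matrix.vecMulVec u u).det =
      (-1) ^ (Fintype.card V - 1) *
        (∑ T ∈ univ.powerset.filter (fun T : Finset E => IsSpanningTree ends T),
          ∏ e ∈ T, (β (ends e).1 * β (ends e).2)) * (∑ v, u v * β v) ^ 2 := by
  rw [det_add_vecMulVec', det_mfMatrix ends β hβ, zero_add]
  have : ∀ i j : V, (∏ w, β w) ^ 2 * (u i * u j * (mfMatrix ends β).adjugate j i) =
      (-1) ^ (Fintype.card V - 1) *
        (∑ T ∈ univ.powerset.filter (fun T : Finset E => IsSpanningTree ends T),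
          ∏ e ∈ T, (β (ends e).1 * β (ends e).2)) * ((u i * β i) * (u j * β j)) := by
    intro i j
    calc _ = u i * u j * ((∏ w, β w) ^ 2 * (mfMatrix ends β).adjugate j i) := by ring
      _ = _ := by rw [adjugate_mfMatrix ends β hβ]; ring
  have hfin : ∀ K : ℤ, ∑ i, ∑ j, K * ((u i * β i) * (u j * β j)) =
      K * (∑ v, u v * β v) ^ 2 := by
    intro K
    rw [pow_two, Finset.sum_mul_sum, Finset.mul_sum]
    refine Finset.sum_congr rfl fun i _ => ?_
    rw [Finset.mul_sum]
  rw [← hfin, Finset.mul_sum]
  refine Finset.sum_congr rfl fun i _ => ?_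
  rw [Finset.mul_sum]
  refine Finset.sum_congr rfl fun j _ => ?_
  exact this i j

lemma exists_isSpanningTree (ends : E → V × V) (hG : Connected ends) :
    ∃ T : Finset E, IsSpanningTree ends T := by
  obtain ⟨T, -, -, hcf, hmax⟩ := exists_maximal_circFree ends ∅ univ
    (fun C hC hcirc => by
      have : C = ∅ := Finset.subset_empty.1 hC
      rw [this] at hcirc
      exact Finset.not_nonempty_empty hcirc.1) (Finset.empty_subset _)
  exact ⟨T, (isSpanningTree_iff ends T).2 ⟨⟨hG.1, reach_all ends hG T
    (fun e => reach_of_maximal ends T univ hcf hmax e (mem_univ e))⟩, hcf⟩⟩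

lemma treeSum_pos (ends : E → V × V) (β : V → ℤ) (hβ : IsMultFn ends β) (hG : Connected ends)
    [DecidablePred fun T : Finset E => IsSpanningTree ends T] :
    0 < ∑ T ∈ univ.powerset.filter (fun T : Finset E => IsSpanningTree ends T),
          ∏ e ∈ T, (β (ends e).1 * β (ends e).2) := by
  obtain ⟨T, hT⟩ := exists_isSpanningTree ends hG
  refine Finset.sum_pos (fun T _ => Finset.prod_pos fun e _ =>
    mul_pos (hβ _).1 (hβ _).1) ⟨T, ?_⟩
  exact Finset.mem_filter.2 ⟨Finset.mem_powerset.2 (Finset.subset_univ _), hT⟩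

end Groth.Agent.Lib.Helper72.GraphCyc
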