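/-
Helper72: the component group `ker β / im α` as the cokernel of the nonsingular matrix `α + u uᵀ`.
-/
import Mathlib
import Groth.Agent.Lib.Helper72.GraphTreeD

set_option autoImplicit false
set_option linter.unusedSectionVars false
universe u
open Finset

namespace Groth.Agent.Lib.Helper72.GraphCyc

open LabGraph Groth.Agent.Lib.Helper72.LabGraphLib

variable {V E : Type u} [Fintype V] [Fintype E] [DecidableEq V] [DecidableEq E]

lemma betaHom_apply' (β y : V → ℤ) : betaHom β y = ∑ v, y v * β v := by
  unfold betaHom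
  rw [Fintype.linearCombination_apply]
  simp only [smul_eq_mul]

lemma vecMulVec_mulVec' (u z : V → ℤ) :
    (Matrix.vecMulVec u u).mulVec z = (∑ w, u w * z w) • u := by
  funext v
  simp only [Matrix.mulVec, dotProduct, Matrix.vecMulVec_apply, Pi.smul_apply, smul_eq_mul]
  rw [Finset.sum_mul]
  refine Finset.sum_congr rfl fun w _ => ?_
  ring

/-- the cardinality of the cokernel of a nonsingular integer matrix. -/
lemma card_quotient_range_mulVecLin (M : Matrix V V ℤ) (hM : M.det ≠ 0) :
    Nat.card ((V → ℤ) ⧸ LinearMap.range M.mulVecLin) = M.det.natAbs := by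
  have hinj : Function.Injective M.mulVecLin := by
    rw [injective_iff_map_eq_zero]
    intro x hx
    exact Matrix.eq_zero_of_mulVec_eq_zero hM hx
  have key := Submodule.natAbs_det_equiv (LinearMap.range M.mulVecLin)
    (LinearEquiv.ofInjective M.mulVecLin hinj)
  rw [← key]
  congr 1
  rw [← LinearMap.det_toLin' M, Matrix.toLin'_apply']
  congr 1

/-- the component group is the cokernel of `α + u uᵀ` when `u` pairs to `1` with the primitive
multiplicity vector `β' = β / m`. -/
theorem card_compGrp_eq_card_quotient (ends : E → V × V) (β : V → ℤ) (hβ : IsMultFn ends β)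
    (m : ℤ) (β' u : V → ℤ) (hm : m ≠ 0) (hβ' : ∀ v, β v = m * β' v)
    (hu : ∑ v, u v * β' v = 1) :
    Nat.card (CompGrp ends β) =
      Nat.card ((V → ℤ) ⧸
        LinearMap.range (mfMatrix ends β + Matrix.vecMulVec u u).mulVecLin) := by
  set α := mfMatrix ends β with hα
  -- basic facts
  have ha : ∀ y, betaHom β y = m * betaHom β' y := by
    intro y
    rw [betaHom_apply', betaHom_apply', Finset.mul_sum]
    refine Finset.sum_congr rfl fun v _ => ?_
    rw [hβ' v]; ring
  have hb : ∀ t, betaHom β' (α.mulVec t) = 0 := by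
    intro t
    have := betaHom_mulVec ends β hβ t
    rw [ha] at this
    exact (mul_eq_zero.1 this).resolve_left hm
  have hc : α.mulVec β' = 0 := by
    have h1 : α.mulVec β = 0 := mfMatrix_mulVec_self ends β hβ
    have h2 : α.mulVec β = m • α.mulVec β' := by
      rw [← Matrix.mulVec_smul]
      congr 1
      funext v
      simp [hβ' v]
    rw [h2] at h1
    exact (smul_eq_zero.1 h1).resolve_left hm
  have hd : betaHom β' u = 1 := by rw [betaHom_apply']; exact hu
  have he : ∀ z, (α + Matrix.vecMulVec u u).mulVec z = α.mulVec z + (∑ w, u w * z w) • u := by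
    intro z
    rw [Matrix.add_mulVec, vecMulVec_mulVec']
  -- the projection onto the kernel
  let f0 : (V → ℤ) →ₗ[ℤ] (V → ℤ) := LinearMap.id - (betaHom β').smulRight u
  have hf0 : ∀ y, f0 y = y - betaHom β' y • u := fun y => rfl
  have hf0mem : ∀ y, f0 y ∈ LinearMap.ker (betaHom β) := by
    intro y
    rw [LinearMap.mem_ker, ha, hf0, map_sub, map_smul, hd, smul_eq_mul, mul_one, sub_self,
      mul_zero]
  let f : (V → ℤ) →ₗ[ℤ] LinearMap.ker (betaHom β) := f0.codRestrict _ hf0mem
  let g : (V → ℤ) →ₗ[ℤ] CompGrp ends β := (Submodule.mkQ _).comp f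
  have hsurj : Function.Surjective g := by
    intro q
    obtain ⟨k, rfl⟩ := Submodule.mkQ_surjective _ q
    refine ⟨k.1, ?_⟩
    show Submodule.mkQ _ (f k.1) = Submodule.mkQ _ k
    congr 1
    apply Subtype.ext
    show f0 k.1 = k.1
    have hk : betaHom β' k.1 = 0 := by
      have := k.2
      rw [LinearMap.mem_ker, ha] at this
      exact (mul_eq_zero.1 this).resolve_left hm
    rw [hf0, hk, zero_smul, sub_zero]
  have hker : LinearMap.ker g = LinearMap.range (α + Matrix.vecMulVec u u).mulVecLin := by
    ext y
    rw [LinearMap.mem_ker]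
    show Submodule.mkQ _ (f y) = 0 ↔ _
    rw [Submodule.mkQ_apply, Submodule.Quotient.mk_eq_zero, Submodule.mem_comap,
      LinearMap.mem_range, LinearMap.mem_range]
    show (∃ z, α.mulVecLin z = f0 y) ↔ _
    simp only [Matrix.mulVecLin_apply, hf0, he]
    constructor
    · rintro ⟨z, hz⟩
      refine ⟨z + (betaHom β' y - ∑ w, u w * z w) • β', ?_⟩
      rw [Matrix.mulVec_add, Matrix.mulVec_smul, hc, smul_zero, add_zero, hz]
      have : ∑ w, u w * (z + (betaHom β' y - ∑ w, u w * z w) • β') w =
          betaHom β' y := by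
        simp only [Pi.add_apply, Pi.smul_apply, smul_eq_mul, mul_add, Finset.sum_add_distrib]
        have h3 : ∑ x, u x * ((betaHom β' y - ∑ w, u w * z w) * β' x) =
            (betaHom β' y - ∑ w, u w * z w) * ∑ x, u x * β' x := by
          rw [Finset.mul_sum]
          refine Finset.sum_congr rfl fun x _ => ?_
          ring
        rw [h3, hu]; ring
      rw [this]
      abel
    · rintro ⟨z, hz⟩
      refine ⟨z, ?_⟩
      have h4 : betaHom β' y = ∑ w, u w * z w := by
        rw [← hz, map_add, hb, zero_add, map_smul, hd, smul_eq_mul, mul_one]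
      rw [h4, ← hz]
      abel
  rw [← Nat.card_congr (g.quotKerEquivOfSurjective hsurj).toEquiv]
  exact Nat.card_congr (Submodule.quotEquivOfEq _ _ hker).toEquiv

end Groth.Agent.Lib.Helper72.GraphCyc
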