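/-
Helper72: the order of the component group of a multigraph with a multiplicity function in terms
of spanning trees (integral form), and degree counts in circuit-free edge sets.
-/
import Mathlib
import Groth.Agent.Lib.Helper72.GraphTreeE

set_option autoImplicit false
set_option linter.unusedSectionVars false
universe u
open Finset

namespace Groth.Agent.Lib.Helper72.GraphCyc

open LabGraph Groth.Agent.Lib.Helper72.LabGraphLib

variable {V E : Type u} [Fintype V] [Fintype E] [DecidableEq V] [DecidableEq E]

/-- **order of the component group**, integral form. -/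
theorem card_compGrp_mul (ends : E → V × V) (β : V → ℤ) (hβ : IsMultFn ends β)
    (hG : Connected ends) [DecidablePred fun T : Finset E => IsSpanningTree ends T] :
    (Nat.card (CompGrp ends β) : ℤ) * (∏ w, β w) ^ 2 =
      (univ.gcd β) ^ 2 *
        ∑ T ∈ univ.powerset.filter (fun T : Finset E => IsSpanningTree ends T),
          ∏ e ∈ T, (β (ends e).1 * β (ends e).2) := by
  have hne : Nonempty V := hG.1
  set m : ℤ := univ.gcd β with hm_def
  set κ : ℤ := ∑ T ∈ univ.powerset.filter (fun T : Finset E => IsSpanningTree ends T),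
          ∏ e ∈ T, (β (ends e).1 * β (ends e).2) with hκ_def
  have hκ : 0 < κ := treeSum_pos ends β hβ hG
  have hm : m ≠ 0 := by
    intro h
    rw [hm_def, Finset.gcd_eq_zero_iff] at h
    obtain ⟨v⟩ := hne
    have := (hβ v).1
    rw [h v (mem_univ v)] at this
    exact lt_irrefl _ this
  have hP : (∏ w, β w) ≠ 0 := Finset.prod_ne_zero_iff.2 fun v _ => (hβ v).1.ne'
  have hβ' : ∀ v, β v = m * (β v / m) := fun v =>
    (Int.mul_ediv_cancel' (Finset.gcd_dvd (mem_univ v))).symm
  obtain ⟨g, hg⟩ := Finset.gcd_eq_sum_mul univ β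
  have hg' : ∑ v, g v * β v = m := by
    rw [hm_def, hg]
    exact Finset.sum_congr rfl fun v _ => mul_comm _ _
  have hu : ∑ v, g v * (β v / m) = 1 := by
    have : m * ∑ v, g v * (β v / m) = m * 1 := by
      rw [mul_one, Finset.mul_sum]
      conv_rhs => rw [← hg']
      refine Finset.sum_congr rfl fun v _ => ?_
      conv_rhs => rw [hβ' v]
      ring
    exact mul_left_cancel₀ hm this
  have hdet := det_mfMatrix_add ends β hβ g
  rw [hg', ← hκ_def] at hdet
  have hdet0 : (mfMatrix ends β + Matrix.vecMulVec g g).det ≠ 0 := by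
    intro h
    rw [h, mul_zero] at hdet
    have : (-1 : ℤ) ^ (Fintype.card V - 1) * κ * m ^ 2 ≠ 0 :=
      mul_ne_zero (mul_ne_zero (pow_ne_zero _ (by norm_num)) hκ.ne') (pow_ne_zero _ hm)
    exact this hdet.symm
  rw [card_compGrp_eq_card_quotient ends β hβ m (fun v => β v / m) g hm hβ' hu,
    card_quotient_range_mulVecLin _ hdet0, Int.natCast_natAbs]
  have h1 : |(mfMatrix ends β + Matrix.vecMulVec g g).det| * (∏ w, β w) ^ 2 =
      |(∏ w, β w) ^ 2 * (mfMatrix ends β + Matrix.vecMulVec g g).det| := by
    rw [abs_mul, abs_of_nonneg (sq_nonneg (∏ w, β w)), mul_comm]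
  rw [h1, hdet, abs_mul, abs_mul, abs_pow, abs_neg, abs_one, one_pow, one_mul,
    abs_of_pos hκ, abs_of_nonneg (sq_nonneg m), mul_comm]

/-! ### degree counts in circuit-free edge sets -/

lemma circFree_no_loop {ends : E → V × V} {T : Finset E} (hT : CircFree ends T) {e : E}
    (he : e ∈ T) : (ends e).1 ≠ (ends e).2 := by
  intro hloop
  refine hT {e} (Finset.singleton_subset_iff.2 he) ⟨Finset.singleton_nonempty e, ?_, ?_⟩
  · intro v
    simp only [endCount, Finset.sum_singleton, ← hloop]
    by_cases h : (ends e).1 = v
    · simp [h]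
    · simp [h]
  · intro C' hC' hne
    rw [Finset.ssubset_singleton_iff] at hC'
    rw [hC'] at hne
    exact absurd hne Finset.not_nonempty_empty

lemma endCount_singleton_of_inc {ends : E → V × V} {e : E} {v : V} (h : Inc ends e v) :
    endCount ends {e} v = 1 := by
  simp only [endCount, Finset.sum_singleton]
  rcases h with ⟨h1 | h1, h2⟩
  · have : (ends e).2 ≠ v := fun h3 => h2 (h1.trans h3.symm)
    simp [h1, this]
  · have : (ends e).1 ≠ v := fun h3 => h2 (h3.trans h1.symm)
    simp [h1, this]

lemma circFree_no_parallel {ends : E → V × V} {T : Finset E} (hT : CircFree ends T) {e e' : E}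
    (he : e ∈ T) (he' : e' ∈ T) {v : V} (hv : Inc ends e v) (hv' : Inc ends e' v)
    (hoth : other ends e v = other ends e' v) : e = e' := by
  by_contra hne
  have hsub : ({e, e'} : Finset E) ⊆ T := by
    intro x hx
    rcases Finset.mem_insert.1 hx with rfl | hx
    · exact he
    · rw [Finset.mem_singleton.1 hx]; exact he'
  refine hT {e, e'} hsub ⟨⟨e, Finset.mem_insert_self _ _⟩, ?_, ?_⟩
  · intro x
    have hcount : ∀ e₀ : E, Inc ends e₀ v → ∀ w, other ends e₀ v = w →
        ((if (ends e₀).1 = x then 1 else 0) + (if (ends e₀).2 = x then 1 else 0) : ℕ) =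
          (if v = x then 1 else 0) + (if w = x then 1 else 0) := by
      intro e₀ h0 w hw
      rcases ends_of_inc h0 with h | h
      · rw [h, hw]
      · rw [h, hw]; exact add_comm _ _
    simp only [endCount]
    rw [Finset.sum_pair hne, hcount e hv _ rfl, hcount e' hv' _ hoth.symm]
    exact ⟨_, rfl⟩
  · intro C' hC' hne'
    obtain ⟨x, hx⟩ := hne'
    have hcard : C'.card < 2 := by
      have := Finset.card_lt_card hC'
      rwa [Finset.card_pair hne] at this
    have hC'eq : C' = {x} := by
      have h1 : C'.card = 1 := by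
        have : 0 < C'.card := Finset.card_pos.2 ⟨x, hx⟩
        omega
      obtain ⟨y, hy⟩ := Finset.card_eq_one.1 h1
      rw [hy] at hx ⊢
      rw [Finset.mem_singleton.1 hx]
    refine ⟨v, ?_⟩
    have hxinc : Inc ends x v := by
      rcases Finset.mem_insert.1 (hC'.subset hx) with rfl | h
      · exact hv
      · rw [Finset.mem_singleton.1 h]; exact hv'
    rw [hC'eq, endCount_singleton_of_inc hxinc]
    decide

/-- in a circuit-free edge set, the number of edge-ends at a vertex is its number of neighbours. -/
theorem endCount_eq_nbrCount {ends : E → V × V} {T : Finset E} (hT : CircFree ends T) (v : V) :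
    endCount ends T v = nbrCount ends T v := by
  classical
  have h1 : endCount ends T v = (T.filter fun e => Inc ends e v).card := by
    rw [Finset.card_filter]
    unfold endCount
    refine Finset.sum_congr rfl fun e he => ?_
    have hl := circFree_no_loop hT he
    by_cases hi : Inc ends e v
    · rw [if_pos hi]
      have := endCount_singleton_of_inc hi
      simpa [endCount] using this
    · rw [if_neg hi]
      have h1 : (ends e).1 ≠ v := fun h => hi ⟨Or.inl h, hl⟩
      have h2 : (ends e).2 ≠ v := fun h => hi ⟨Or.inr h, hl⟩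
      simp [h1, h2]
  rw [h1]
  unfold nbrCount
  refine Finset.card_bij (fun e _ => other ends e v) ?_ ?_ ?_
  · intro e he
    have he' := Finset.mem_filter.1 he
    refine Finset.mem_filter.2 ⟨Finset.mem_univ _, other_ne he'.2, e, he'.1, ends_of_inc he'.2⟩
  · intro e he e' he' h
    exact circFree_no_parallel hT (Finset.mem_filter.1 he).1 (Finset.mem_filter.1 he').1
      (Finset.mem_filter.1 he).2 (Finset.mem_filter.1 he').2 h
  · intro w hw
    obtain ⟨-, hwv, e, heT, hends⟩ := Finset.mem_filter.1 hw
    have hinc : Inc ends e v := by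
      rcases hends with h | h
      · exact ⟨Or.inl (by rw [h]), by rw [h]; exact hwv.symm⟩
      · exact ⟨Or.inr (by rw [h]), by rw [h]; exact hwv⟩
    refine ⟨e, Finset.mem_filter.2 ⟨heT, hinc⟩, ?_⟩
    unfold other
    rcases hends with h | h
    · rw [h, if_pos rfl]
    · rw [h, if_neg hwv]

/-- the product of the edge weights `β(e₁) β(e₂)` over an edge set, as a product over vertices. -/
lemma prod_edge_weights {R : Type*} [CommMonoid R] (ends : E → V × V) (β : V → R)
    (T : Finset E) :
    ∏ e ∈ T, (β (ends e).1 * β (ends e).2) = ∏ v, β v ^ endCount ends T v := by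
  unfold endCount
  simp only [← Finset.prod_pow_eq_pow_sum]
  rw [Finset.prod_comm]
  refine Finset.prod_congr rfl fun e _ => ?_
  simp only [pow_add, Finset.prod_mul_distrib, pow_ite, pow_one, pow_zero]
  rw [Finset.prod_ite_eq, Finset.prod_ite_eq, if_pos (mem_univ _), if_pos (mem_univ _)]

end Groth.Agent.Lib.Helper72.GraphCyc
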