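import Mathlib

/-! Functions supported on a finite set, and dot-product orthogonal complements. -/

namespace Groth.Agent.Lib.Helper72.GridDual

open Module

variable {k : Type*} [Field k] {α : Type*}

/-- Functions vanishing outside the finite set `A`. -/
def supp (A : Finset α) : Submodule k (α → k) where
  carrier := {φ | ∀ a, a ∉ A → φ a = 0}
  zero_mem' := fun _ _ => rfl
  add_mem' := by
    intro φ ψ hφ hψ a ha
    simp [hφ a ha, hψ a ha]
  smul_mem' := by
    intro c φ hφ a ha
    simp [hφ a ha]

lemma mem_supp {A : Finset α} {φ : α → k} : φ ∈ supp (k := k) A ↔ ∀ a, a ∉ A → φ a = 0 := Iff.rfl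

lemma supp_mono {A B : Finset α} (h : A ⊆ B) : supp (k := k) A ≤ supp B :=
  fun _ hφ a ha => hφ a (fun h' => ha (h h'))

/-- Restriction equivalence. -/
noncomputable def suppEquiv [DecidableEq α] (A : Finset α) : supp (k := k) A ≃ₗ[k] (↥A → k) where
  toFun φ := fun a => φ.1 a.1
  map_add' := fun _ _ => rfl
  map_smul' := fun _ _ => rfl
  invFun ψ := ⟨fun a => if h : a ∈ A then ψ ⟨a, h⟩ else 0, fun a ha => by simp [ha]⟩
  left_inv := by
    intro φ
    ext a
    by_cases h : a ∈ A
    · simp [h]
    · simp [h, φ.2 a h]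
  right_inv := by
    intro ψ
    funext a
    simp [a.2]

instance finiteDimensional_supp (A : Finset α) : FiniteDimensional k (supp (k := k) A) := by
  classical
  exact Module.Finite.equiv (suppEquiv A).symm

lemma finrank_supp (A : Finset α) : finrank k (supp (k := k) A) = A.card := by
  classical
  rw [(suppEquiv (k := k) A).finrank_eq, Module.finrank_fintype_fun_eq_card, Fintype.card_coe]

lemma single_mem_supp [DecidableEq α] {A : Finset α} {a : α} (ha : a ∈ A) (c : k) :
    (Pi.single a c : α → k) ∈ supp (k := k) A := by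
  intro b hb
  rw [Pi.single_eq_of_ne]
  rintro rfl
  exact hb ha

lemma eq_sum_single [DecidableEq α] {A : Finset α} {φ : α → k} (hφ : φ ∈ supp (k := k) A) :
    φ = ∑ a ∈ A, φ a • (Pi.single a (1 : k) : α → k) := by
  funext b
  rw [Finset.sum_apply]
  simp only [Pi.smul_apply, smul_eq_mul, Pi.single_apply, mul_ite, mul_one, mul_zero]
  rw [Finset.sum_ite_eq]
  split_ifs with h
  · rfl
  · exact hφ b h

/-- Dot-product orthogonal complement inside `supp A`. -/
def orth (A : Finset α) (R : Submodule k (α → k)) : Submodule k (α → k) where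
  carrier := {g | g ∈ supp (k := k) A ∧ ∀ r ∈ R, ∑ a ∈ A, g a * r a = 0}
  zero_mem' := ⟨Submodule.zero_mem _, fun r _ => by simp⟩
  add_mem' := by
    rintro g g' ⟨h1, h2⟩ ⟨h1', h2'⟩
    refine ⟨Submodule.add_mem _ h1 h1', fun r hr => ?_⟩
    simp only [Pi.add_apply, add_mul, Finset.sum_add_distrib, h2 r hr, h2' r hr, add_zero]
  smul_mem' := by
    rintro c g ⟨h1, h2⟩
    refine ⟨Submodule.smul_mem _ c h1, fun r hr => ?_⟩
    simp only [Pi.smul_apply, smul_eq_mul, mul_assoc, ← Finset.mul_sum, h2 r hr, mul_zero]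

lemma mem_orth {A : Finset α} {R : Submodule k (α → k)} {g : α → k} :
    g ∈ orth A R ↔ g ∈ supp (k := k) A ∧ ∀ r ∈ R, ∑ a ∈ A, g a * r a = 0 := Iff.rfl

/-- The dot product on `supp A`. -/
noncomputable def dotForm (A : Finset α) : LinearMap.BilinForm k (supp (k := k) A) :=
  LinearMap.mk₂ k (fun g τ => ∑ a ∈ A, g.1 a * τ.1 a)
    (by intro g g' τ; simp only [Submodule.coe_add, Pi.add_apply, add_mul, Finset.sum_add_distrib])
    (by intro c g τ; simp only [Submodule.coe_smul, Pi.smul_apply, smul_eq_mul, mul_assoc,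
      ← Finset.mul_sum])
    (by intro g τ τ'; simp only [Submodule.coe_add, Pi.add_apply, mul_add, Finset.sum_add_distrib])
    (by intro c g τ; simp only [Submodule.coe_smul, Pi.smul_apply, smul_eq_mul, Finset.mul_sum]
        refine Finset.sum_congr rfl fun a _ => ?_
        ring)

lemma dotForm_apply (A : Finset α) (g τ : supp (k := k) A) :
    dotForm A g τ = ∑ a ∈ A, g.1 a * τ.1 a := rfl

lemma dotForm_ker (A : Finset α) : LinearMap.ker (dotForm (k := k) A) = ⊥ := by
  classical
  rw [eq_bot_iff]
  intro g hg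
  rw [LinearMap.mem_ker] at hg
  rw [Submodule.mem_bot]
  ext a
  by_cases ha : a ∈ A
  · have := LinearMap.congr_fun hg ⟨Pi.single a 1, single_mem_supp ha 1⟩
    rw [dotForm_apply] at this
    simp only [Pi.single_apply, mul_ite, mul_one, mul_zero, Finset.sum_ite_eq', ha, if_true,
      LinearMap.zero_apply] at this
    simpa using this
  · simpa using g.2 a ha

theorem finrank_orth (A : Finset α) (R : Submodule k (α → k)) (hR : R ≤ supp A) :
    finrank k (orth A R) + finrank k R = A.card := by
  classical
  have h1 := LinearMap.BilinForm.finrank_add_finrank_orthogonal' (B := dotForm (k := k) A)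
    (R.comap (supp (k := k) A).subtype)
  rw [dotForm_ker, inf_bot_eq, finrank_bot, add_zero, finrank_supp] at h1
  have h2 : finrank k (R.comap (supp (k := k) A).subtype) = finrank k R :=
    (Submodule.comapSubtypeEquivOfLe hR).finrank_eq
  have h3 : orth A R =
      ((dotForm (k := k) A).orthogonal (R.comap (supp (k := k) A).subtype)).map
        (supp (k := k) A).subtype := by
    ext g
    rw [mem_orth, Submodule.mem_map]
    constructor
    · rintro ⟨hg, hgr⟩
      refine ⟨⟨g, hg⟩, ?_, rfl⟩
      rw [LinearMap.BilinForm.mem_orthogonal_iff]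
      intro n hn
      rw [dotForm_apply]
      have := hgr n.1 hn
      rw [← this]
      refine Finset.sum_congr rfl fun a _ => mul_comm _ _
    · rintro ⟨m, hm, rfl⟩
      refine ⟨m.2, fun r hr => ?_⟩
      rw [LinearMap.BilinForm.mem_orthogonal_iff] at hm
      have := hm ⟨r, hR hr⟩ hr
      rw [dotForm_apply] at this
      rw [← this]
      refine Finset.sum_congr rfl fun a _ => mul_comm _ _
  rw [h3, Submodule.finrank_map_subtype_eq, ← h2]
  omega

end Groth.Agent.Lib.Helper72.GridDual
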