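import Mathlib
import Groth.Agent.Lib.Helper72.GridDualA

/-! The half-open grid complex on a finite down-set of `ℕ × ℕ` and its exactness. -/

namespace Groth.Agent.Lib.Helper72.GridDual

open Module

variable {k : Type*} [Field k]

/-- Vertex functions. -/
abbrev T0 (k : Type*) := ℕ × ℕ → k
/-- Edge functions (`inl`: horizontal edge with the given base, `inr`: vertical edge). -/
abbrev T1 (k : Type*) := (ℕ × ℕ) ⊕ (ℕ × ℕ) → k

/-- Coboundary on vertex functions. -/
def D0 : T0 k →ₗ[k] T1 k where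
  toFun φ := Sum.elim (fun u => φ (u.1 + 1, u.2) - φ u) (fun u => φ (u.1, u.2 + 1) - φ u)
  map_add' := by
    intro φ ψ
    funext x
    rcases x with u | u <;> simp only [Sum.elim_inl, Sum.elim_inr, Pi.add_apply] <;> ring
  map_smul' := by
    intro c φ
    funext x
    rcases x with u | u <;>
      simp only [Sum.elim_inl, Sum.elim_inr, Pi.smul_apply, smul_eq_mul, RingHom.id_apply] <;> ring

/-- Coboundary on edge functions. -/
def D1 : T1 k →ₗ[k] T0 k where
  toFun ω := fun u => ω (Sum.inl u) - ω (Sum.inl (u.1, u.2 + 1)) + ω (Sum.inr (u.1 + 1, u.2)) -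
    ω (Sum.inr u)
  map_add' := by
    intro φ ψ
    funext u
    simp only [Pi.add_apply]; ring
  map_smul' := by
    intro c φ
    funext u
    simp only [Pi.smul_apply, smul_eq_mul, RingHom.id_apply]; ring

lemma D0_inl (φ : T0 k) (p q : ℕ) : D0 φ (Sum.inl (p, q)) = φ (p + 1, q) - φ (p, q) := rfl
lemma D0_inr (φ : T0 k) (p q : ℕ) : D0 φ (Sum.inr (p, q)) = φ (p, q + 1) - φ (p, q) := rfl
lemma D1_apply (ω : T1 k) (p q : ℕ) : D1 ω (p, q) =
    ω (Sum.inl (p, q)) - ω (Sum.inl (p, q + 1)) + ω (Sum.inr (p + 1, q)) - ω (Sum.inr (p, q)) := rfl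

lemma D1_D0 (φ : T0 k) : D1 (D0 φ) = 0 := by
  funext u
  obtain ⟨p, q⟩ := u
  rw [D1_apply, D0_inl, D0_inl, D0_inr, D0_inr]
  simp only [Pi.zero_apply]
  ring

/-- A finite down-set of `ℕ × ℕ`. -/
structure DownSet where
  U : Finset (ℕ × ℕ)
  down1 : ∀ p q, (p + 1, q) ∈ U → (p, q) ∈ U
  down2 : ∀ p q, (p, q + 1) ∈ U → (p, q) ∈ U

namespace DownSet

variable (S : DownSet)

lemma down1_add (p q n : ℕ) (h : (p + n, q) ∈ S.U) : (p, q) ∈ S.U := by
  induction n with
  | zero => simpa using h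
  | succ n ih => exact ih (S.down1 _ _ (by rwa [← add_assoc] at h))

lemma down2_add (p q n : ℕ) (h : (p, q + n) ∈ S.U) : (p, q) ∈ S.U := by
  induction n with
  | zero => simpa using h
  | succ n ih => exact ih (S.down2 _ _ (by rwa [← add_assoc] at h))

/-- A bound for the first coordinates. -/
def N1 : ℕ := S.U.sup (fun u => u.1) + 1
/-- A bound for the second coordinates. -/
def N2 : ℕ := S.U.sup (fun u => u.2) + 1

lemma notMem_of_le1 (p q : ℕ) (h : S.N1 ≤ p) : (p, q) ∉ S.U := by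
  intro hu
  have : p ≤ S.U.sup (fun u => u.1) := Finset.le_sup (f := fun u : ℕ × ℕ => u.1) hu
  simp only [N1] at h
  omega

lemma notMem_of_le2 (p q : ℕ) (h : S.N2 ≤ q) : (p, q) ∉ S.U := by
  intro hu
  have : q ≤ S.U.sup (fun u => u.2) := Finset.le_sup (f := fun u : ℕ × ℕ => u.2) hu
  simp only [N2] at h
  omega

/-- Edge functions supported on edges with base in `U`. -/
abbrev W1 : Submodule k (T1 k) := supp (S.U.disjSum S.U)

lemma D0_mem_W1 {φ : T0 k} (hφ : φ ∈ supp (k := k) S.U) : D0 φ ∈ S.W1 (k := k) := by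
  intro x hx
  rcases x with ⟨p, q⟩ | ⟨p, q⟩
  · have h1 : (p, q) ∉ S.U := fun h => hx (Finset.inl_mem_disjSum.mpr h)
    have h2 : (p + 1, q) ∉ S.U := fun h => h1 (S.down1 _ _ h)
    rw [D0_inl, hφ _ h1, hφ _ h2, sub_zero]
  · have h1 : (p, q) ∉ S.U := fun h => hx (Finset.inr_mem_disjSum.mpr h)
    have h2 : (p, q + 1) ∉ S.U := fun h => h1 (S.down2 _ _ h)
    rw [D0_inr, hφ _ h1, hφ _ h2, sub_zero]

lemma D1_mem_supp {ω : T1 k} (hω : ω ∈ S.W1 (k := k)) : D1 ω ∈ supp (k := k) S.U := by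
  rintro ⟨p, q⟩ hu
  have h1 : (p, q + 1) ∉ S.U := fun h => hu (S.down2 _ _ h)
  have h2 : (p + 1, q) ∉ S.U := fun h => hu (S.down1 _ _ h)
  rw [D1_apply, hω _ (fun h => hu (Finset.inl_mem_disjSum.mp h)),
    hω _ (fun h => h1 (Finset.inl_mem_disjSum.mp h)),
    hω _ (fun h => h2 (Finset.inr_mem_disjSum.mp h)),
    hω _ (fun h => hu (Finset.inr_mem_disjSum.mp h))]
  ring

lemma D0_injOn {φ : T0 k} (hφ : φ ∈ supp (k := k) S.U) (h0 : D0 φ = 0) : φ = 0 := by
  have h1 : ∀ p q, φ (p + 1, q) = φ (p, q) := by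
    intro p q
    have := congrFun h0 (Sum.inl (p, q))
    rw [D0_inl] at this
    exact sub_eq_zero.mp this
  have h2 : ∀ n p q, φ (p + n, q) = φ (p, q) := by
    intro n
    induction n with
    | zero => intro p q; rfl
    | succ n ih => intro p q; rw [← add_assoc, h1, ih]
  funext u
  obtain ⟨p, q⟩ := u
  rw [← h2 S.N1 p q]
  exact hφ _ (S.notMem_of_le1 _ _ (by omega))

lemma D1_surjOn {τ : T0 k} (hτ : τ ∈ supp (k := k) S.U) :
    ∃ ω ∈ S.W1 (k := k), D1 ω = τ := by
  refine ⟨Sum.elim (fun u => ∑ t ∈ Finset.range S.N2, τ (u.1, u.2 + t)) (fun _ => 0), ?_, ?_⟩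
  · intro x hx
    rcases x with ⟨p, q⟩ | ⟨p, q⟩
    · have h1 : (p, q) ∉ S.U := fun h => hx (Finset.inl_mem_disjSum.mpr h)
      simp only [Sum.elim_inl]
      refine Finset.sum_eq_zero fun t _ => hτ _ (fun h => h1 (S.down2_add _ _ _ h))
    · rfl
  · funext u
    obtain ⟨p, q⟩ := u
    rw [D1_apply]
    simp only [Sum.elim_inl, Sum.elim_inr, sub_zero, add_zero]
    have e1 : ∑ t ∈ Finset.range S.N2, τ (p, q + 1 + t) =
        ∑ t ∈ Finset.range S.N2, τ (p, q + (t + 1)) := by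
      refine Finset.sum_congr rfl fun t _ => ?_
      rw [add_assoc, add_comm 1 t]
    have e2 := Finset.sum_range_succ (fun t => τ (p, q + t)) S.N2
    have e3 := Finset.sum_range_succ' (fun t => τ (p, q + t)) S.N2
    have e4 : τ (p, q + S.N2) = 0 := hτ _ (S.notMem_of_le2 _ _ (by omega))
    rw [e1]
    rw [e2, e4, add_zero] at e3
    simp only [add_zero] at e3
    rw [e3]
    ring

/-- Exactness in the middle of the half-open grid complex. -/
theorem exact_mid {ω : T1 k} (hω : ω ∈ S.W1 (k := k)) (h1 : D1 ω = 0) :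
    ∃ φ ∈ supp (k := k) S.U, D0 φ = ω := by
  classical
  let d0 : supp (k := k) S.U →ₗ[k] S.W1 (k := k) :=
    D0.restrict (fun φ hφ => S.D0_mem_W1 hφ)
  let d1 : S.W1 (k := k) →ₗ[k] supp (k := k) S.U :=
    D1.restrict (fun ω hω => S.D1_mem_supp hω)
  have hd0 : Function.Injective d0 := by
    rw [injective_iff_map_eq_zero]
    intro φ hφ
    have : D0 φ.1 = 0 := congrArg Subtype.val hφ
    exact Subtype.ext (S.D0_injOn φ.2 this)
  have hd1 : Function.Surjective d1 := by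
    intro τ
    obtain ⟨ω, hω, h⟩ := S.D1_surjOn τ.2
    exact ⟨⟨ω, hω⟩, Subtype.ext h⟩
  have hle : LinearMap.range d0 ≤ LinearMap.ker d1 := by
    rintro _ ⟨φ, rfl⟩
    rw [LinearMap.mem_ker]
    exact Subtype.ext (D1_D0 φ.1)
  have hr0 : finrank k (LinearMap.range d0) = S.U.card := by
    rw [LinearMap.finrank_range_of_inj hd0, finrank_supp]
  have hr1 : finrank k (LinearMap.range d1) = S.U.card := by
    rw [LinearMap.range_eq_top.mpr hd1, finrank_top, finrank_supp]
  have hrn := LinearMap.finrank_range_add_finrank_ker d1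
  rw [hr1, finrank_supp, Finset.card_disjSum] at hrn
  have heq : LinearMap.range d0 = LinearMap.ker d1 :=
    Submodule.eq_of_le_of_finrank_eq hle (by omega)
  have hmem : (⟨ω, hω⟩ : S.W1 (k := k)) ∈ LinearMap.ker d1 := by
    rw [LinearMap.mem_ker]
    exact Subtype.ext h1
  rw [← heq] at hmem
  obtain ⟨φ, hφ⟩ := hmem
  exact ⟨φ.1, φ.2, congrArg Subtype.val hφ⟩

end DownSet

end Groth.Agent.Lib.Helper72.GridDual
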