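import Mathlib
import Groth.Agent.Lib.Helper72.GridDualB

/-! Planar duality as a dimension count: locally constant functions on the present part of a grid
complex versus locally constant functions on the missing squares. -/

namespace Groth.Agent.Lib.Helper72.GridDual

open Module

variable {k : Type*} [Field k]

/-- A subcomplex of the half-open grid complex on a finite down-set, given by its missing cells. -/
structure Cfg extends DownSet where
  Mv : Finset (ℕ × ℕ)
  Mh : Finset (ℕ × ℕ)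
  Mt : Finset (ℕ × ℕ)
  Ms : Finset (ℕ × ℕ)
  Mv_sub : Mv ⊆ U
  Mh_sub : Mh ⊆ U
  Mt_sub : Mt ⊆ U
  Ms_sub : Ms ⊆ U
  v_h : ∀ u ∈ Mv, u ∈ Mh
  v_t : ∀ u ∈ Mv, u ∈ Mt
  hv : ∀ p q, (p + 1, q) ∈ Mv → (p, q) ∈ Mh
  tv : ∀ p q, (p, q + 1) ∈ Mv → (p, q) ∈ Mt
  h_s : ∀ u ∈ Mh, u ∈ Ms
  t_s : ∀ u ∈ Mt, u ∈ Ms
  h_s' : ∀ p q, (p, q + 1) ∈ Mh → (p, q) ∈ Ms
  t_s' : ∀ p q, (p + 1, q) ∈ Mt → (p, q) ∈ Ms

namespace Cfg

variable (c : Cfg)

/-- Edge functions supported on missing edges. -/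
abbrev M1 : Submodule k (T1 k) := supp (c.Mh.disjSum c.Mt)

lemma M1_le_W1 : c.M1 (k := k) ≤ c.toDownSet.W1 := by
  apply supp_mono
  intro x hx
  rcases x with u | u
  · exact Finset.inl_mem_disjSum.mpr (c.Mh_sub (Finset.inl_mem_disjSum.mp hx))
  · exact Finset.inr_mem_disjSum.mpr (c.Mt_sub (Finset.inr_mem_disjSum.mp hx))

lemma D1_mem_supp_Ms {ω : T1 k} (hω : ω ∈ c.M1 (k := k)) : D1 ω ∈ supp (k := k) c.Ms := by
  rintro ⟨p, q⟩ hu
  rw [D1_apply, hω _ (fun h => hu (c.h_s _ (Finset.inl_mem_disjSum.mp h))),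
    hω _ (fun h => hu (c.h_s' _ _ (Finset.inl_mem_disjSum.mp h))),
    hω _ (fun h => hu (c.t_s' _ _ (Finset.inr_mem_disjSum.mp h))),
    hω _ (fun h => hu (c.t_s _ (Finset.inr_mem_disjSum.mp h)))]
  ring

lemma D0_mem_M1_of_supp_Mv {ψ : T0 k} (hψ : ψ ∈ supp (k := k) c.Mv) : D0 ψ ∈ c.M1 (k := k) := by
  intro x hx
  rcases x with ⟨p, q⟩ | ⟨p, q⟩
  · have h1 : (p, q) ∉ c.Mh := fun h => hx (Finset.inl_mem_disjSum.mpr h)
    rw [D0_inl, hψ _ (fun h => h1 (c.hv _ _ h)), hψ _ (fun h => h1 (c.v_h _ h)), sub_zero]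
  · have h1 : (p, q) ∉ c.Mt := fun h => hx (Finset.inr_mem_disjSum.mpr h)
    rw [D0_inr, hψ _ (fun h => h1 (c.tv _ _ h)), hψ _ (fun h => h1 (c.v_t _ h)), sub_zero]

/-- Vertex functions on `U` which are locally constant along present edges. -/
def Z : Submodule k (T0 k) := supp (k := k) c.U ⊓ (c.M1 (k := k)).comap D0

/-- Locally constant functions on the present vertices, vanishing when connected to the outside. -/
def ZB : Submodule k (T0 k) := supp (k := k) (c.U \ c.Mv) ⊓ (c.M1 (k := k)).comap D0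

/-- Functions on missing squares, constant across missing edges, zero next to missing frame
edges. -/
def Y : Submodule k (T0 k) := orth c.Ms ((c.M1 (k := k)).map D1)

lemma ZB_le_Z : c.ZB (k := k) ≤ c.Z :=
  inf_le_inf_right _ (supp_mono Finset.sdiff_subset)

lemma supp_Mv_le_Z : supp (k := k) c.Mv ≤ c.Z :=
  le_inf (supp_mono c.Mv_sub) (fun _ hψ => c.D0_mem_M1_of_supp_Mv hψ)

instance : FiniteDimensional k (c.Z (k := k)) :=
  Submodule.finiteDimensional_of_le (inf_le_left : c.Z (k := k) ≤ supp (k := k) c.U)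

lemma finrank_Z : finrank k (c.Z (k := k)) = c.Mv.card + finrank k (c.ZB (k := k)) := by
  classical
  have h1 : supp (k := k) c.Mv ⊓ c.ZB = ⊥ := by
    rw [eq_bot_iff]
    intro φ hφ
    rw [Submodule.mem_bot]
    funext u
    by_cases hu : u ∈ c.Mv
    · exact hφ.2.1 u (by simp [hu])
    · exact hφ.1 u hu
  have h2 : supp (k := k) c.Mv ⊔ c.ZB = c.Z := by
    apply le_antisymm (sup_le c.supp_Mv_le_Z c.ZB_le_Z)
    intro φ hφ
    rw [Submodule.mem_sup]
    let φ1 : T0 k := fun u => if u ∈ c.Mv then φ u else 0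
    have hφ1 : φ1 ∈ supp (k := k) c.Mv := fun u hu => by simp [φ1, hu]
    refine ⟨φ1, hφ1, φ - φ1, ⟨?_, ?_⟩, by abel⟩
    · intro u hu
      by_cases h : u ∈ c.Mv
      · simp [φ1, h]
      · have : u ∉ c.U := fun h' => hu (Finset.mem_sdiff.mpr ⟨h', h⟩)
        simp [φ1, h, hφ.1 u this]
    · change D0 (φ - φ1) ∈ c.M1 (k := k)
      rw [map_sub]
      exact Submodule.sub_mem _ hφ.2 (c.D0_mem_M1_of_supp_Mv hφ1)
  have hfd : FiniteDimensional k (c.ZB (k := k)) :=
    Submodule.finiteDimensional_of_le (inf_le_left : c.ZB (k := k) ≤ supp (k := k) (c.U \ c.Mv))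
  have := Submodule.finrank_sup_add_finrank_inf_eq (supp (k := k) c.Mv) (c.ZB (k := k))
  rw [h1, h2, finrank_bot, add_zero, finrank_supp] at this
  exact this

/-- The kernel of `D1` on `M1` is identified with `Z` via `D0`. -/
lemma finrank_ker_eq : finrank k (LinearMap.ker (D1.domRestrict (c.M1 (k := k)))) =
    finrank k (c.Z (k := k)) := by
  symm
  let f : c.Z (k := k) →ₗ[k] LinearMap.ker (D1.domRestrict (c.M1 (k := k))) :=
    { toFun := fun φ => ⟨⟨D0 φ.1, φ.2.2⟩, by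
        rw [LinearMap.mem_ker, LinearMap.domRestrict_apply]
        exact D1_D0 φ.1⟩
      map_add' := by
        intro φ ψ
        apply Subtype.ext; apply Subtype.ext
        simp
      map_smul' := by
        intro a φ
        apply Subtype.ext; apply Subtype.ext
        simp }
  have hf1 : Function.Injective f := by
    rw [injective_iff_map_eq_zero]
    intro φ hφ
    have h0 : D0 φ.1 = 0 := congrArg (fun x => x.1.1) hφ
    exact Subtype.ext (c.toDownSet.D0_injOn φ.2.1 h0)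
  have hf2 : Function.Surjective f := by
    rintro ⟨⟨ω, hω⟩, hk⟩
    rw [LinearMap.mem_ker, LinearMap.domRestrict_apply] at hk
    obtain ⟨φ, hφ, hφω⟩ := c.toDownSet.exact_mid (c.M1_le_W1 hω) hk
    refine ⟨⟨φ, hφ, ?_⟩, ?_⟩
    · change D0 φ ∈ c.M1 (k := k)
      rw [hφω]; exact hω
    · apply Subtype.ext; apply Subtype.ext
      exact hφω
  exact (LinearEquiv.ofBijective f ⟨hf1, hf2⟩).finrank_eq

/-- **Planar duality, dimension form.** -/
theorem finrank_ZB_add : finrank k (c.ZB (k := k)) + c.Mv.card + c.Ms.card =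
    finrank k (c.Y (k := k)) + c.Mh.card + c.Mt.card := by
  have h1 := LinearMap.finrank_range_add_finrank_ker (D1.domRestrict (c.M1 (k := k)))
  rw [LinearMap.range_domRestrict, finrank_supp, Finset.card_disjSum, c.finrank_ker_eq,
    c.finrank_Z] at h1
  have h2 := finrank_orth (k := k) c.Ms ((c.M1 (k := k)).map D1) (by
    rintro _ ⟨ω, hω, rfl⟩
    exact c.D1_mem_supp_Ms hω)
  have h3 : finrank k (c.Y (k := k)) = finrank k (orth c.Ms ((c.M1 (k := k)).map D1)) := rfl
  rw [h3]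
  generalize finrank k (orth c.Ms ((c.M1 (k := k)).map D1)) = y at *
  generalize finrank k ((c.M1 (k := k)).map D1) = r at *
  generalize finrank k (c.ZB (k := k)) = z at *
  omega

/-- Local description of `ZB`. -/
lemma mem_ZB {φ : T0 k} : φ ∈ c.ZB (k := k) ↔
    (∀ u, u ∉ c.U ∨ u ∈ c.Mv → φ u = 0) ∧
    (∀ p q, (p, q) ∈ c.U → (p, q) ∉ c.Mh → φ (p + 1, q) = φ (p, q)) ∧
    (∀ p q, (p, q) ∈ c.U → (p, q) ∉ c.Mt → φ (p, q + 1) = φ (p, q)) := by
  constructor
  · rintro ⟨h1, h2⟩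
    refine ⟨fun u hu => h1 u (by simpa [Finset.mem_sdiff, or_iff_not_imp_left] using hu),
      fun p q _ hq => ?_, fun p q _ hq => ?_⟩
    · have := h2 (Sum.inl (p, q)) (fun h => hq (Finset.inl_mem_disjSum.mp h))
      rw [D0_inl] at this
      exact sub_eq_zero.mp this
    · have := h2 (Sum.inr (p, q)) (fun h => hq (Finset.inr_mem_disjSum.mp h))
      rw [D0_inr] at this
      exact sub_eq_zero.mp this
  · rintro ⟨h1, h2, h3⟩
    have hs : φ ∈ supp (k := k) (c.U \ c.Mv) := by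
      intro u hu
      apply h1
      by_cases h : u ∈ c.U
      · right
        by_contra h'
        exact hu (Finset.mem_sdiff.mpr ⟨h, h'⟩)
      · left; exact h
    refine ⟨hs, ?_⟩
    intro x hx
    rcases x with ⟨p, q⟩ | ⟨p, q⟩
    · have hq : (p, q) ∉ c.Mh := fun h => hx (Finset.inl_mem_disjSum.mpr h)
      rw [D0_inl]
      by_cases hU : (p, q) ∈ c.U
      · rw [h2 p q hU hq, sub_self]
      · rw [h1 _ (Or.inl hU), h1 _ (Or.inl (fun h => hU (c.down1 _ _ h))), sub_zero]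
    · have hq : (p, q) ∉ c.Mt := fun h => hx (Finset.inr_mem_disjSum.mpr h)
      rw [D0_inr]
      by_cases hU : (p, q) ∈ c.U
      · rw [h3 p q hU hq, sub_self]
      · rw [h1 _ (Or.inl hU), h1 _ (Or.inl (fun h => hU (c.down2 _ _ h))), sub_zero]

end Cfg

end Groth.Agent.Lib.Helper72.GridDual

namespace Groth.Agent.Lib.Helper72.GridDual

open Module

variable {k : Type*} [Field k]

namespace Cfg

variable (c : Cfg)

/-- The pairing with `g`, as a linear functional. -/
noncomputable def pair (g : T0 k) : T0 k →ₗ[k] k :=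
  ∑ u ∈ c.Ms, g u • (LinearMap.proj u : T0 k →ₗ[k] k)

lemma pair_apply (g r : T0 k) : c.pair g r = ∑ u ∈ c.Ms, g u * r u := by
  unfold pair
  rw [LinearMap.sum_apply]
  rfl

lemma pair_inl {g : T0 k} (hg : g ∈ supp (k := k) c.Ms) (p q : ℕ) (h : (p, q) ∈ c.Mh) :
    c.pair g (D1 (Pi.single (Sum.inl (p, q)) 1)) =
      g (p, q) - (if q = 0 then 0 else g (p, q - 1)) := by
  classical
  rw [pair_apply]
  have e1 : ∀ u : ℕ × ℕ, D1 (Pi.single (Sum.inl (p, q)) (1 : k)) u =
      (if u = (p, q) then 1 else 0) - (if (u.1, u.2 + 1) = (p, q) then 1 else 0) := by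
    rintro ⟨a, b⟩
    rw [D1_apply]
    simp only [Pi.single_apply, Sum.inl.injEq, reduceCtorEq, if_false]
    ring
  simp only [e1, mul_sub, Finset.sum_sub_distrib, mul_ite, mul_one, mul_zero]
  congr 1
  · rw [Finset.sum_ite_eq' c.Ms (p, q) g, if_pos (c.h_s _ h)]
  · by_cases hq : q = 0
    · rw [if_pos hq]
      refine Finset.sum_eq_zero fun u _ => ?_
      rw [if_neg]
      intro h'
      have := congrArg Prod.snd h'
      simp only at this
      omega
    · rw [if_neg hq]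
      have e2 : ∀ u : ℕ × ℕ, ((u.1, u.2 + 1) = (p, q)) ↔ u = (p, q - 1) := by
        rintro ⟨a, b⟩
        simp only [Prod.mk.injEq]
        constructor
        · rintro ⟨rfl, rfl⟩; exact ⟨rfl, by omega⟩
        · rintro ⟨rfl, rfl⟩; exact ⟨rfl, by omega⟩
      simp only [e2]
      rw [Finset.sum_ite_eq' c.Ms (p, q - 1) g]
      split_ifs with h'
      · rfl
      · exact (hg _ h').symm

lemma pair_inr {g : T0 k} (hg : g ∈ supp (k := k) c.Ms) (p q : ℕ) (h : (p, q) ∈ c.Mt) :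
    c.pair g (D1 (Pi.single (Sum.inr (p, q)) 1)) =
      (if p = 0 then 0 else g (p - 1, q)) - g (p, q) := by
  classical
  rw [pair_apply]
  have e1 : ∀ u : ℕ × ℕ, D1 (Pi.single (Sum.inr (p, q)) (1 : k)) u =
      (if (u.1 + 1, u.2) = (p, q) then 1 else 0) - (if u = (p, q) then 1 else 0) := by
    rintro ⟨a, b⟩
    rw [D1_apply]
    simp only [Pi.single_apply, Sum.inr.injEq, reduceCtorEq, if_false]
    ring
  simp only [e1, mul_sub, Finset.sum_sub_distrib, mul_ite, mul_one, mul_zero]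
  congr 1
  · by_cases hp : p = 0
    · rw [if_pos hp]
      refine Finset.sum_eq_zero fun u _ => ?_
      rw [if_neg]
      intro h'
      have := congrArg Prod.fst h'
      simp only at this
      omega
    · rw [if_neg hp]
      have e2 : ∀ u : ℕ × ℕ, ((u.1 + 1, u.2) = (p, q)) ↔ u = (p - 1, q) := by
        rintro ⟨a, b⟩
        simp only [Prod.mk.injEq]
        constructor
        · rintro ⟨rfl, rfl⟩; exact ⟨by omega, rfl⟩
        · rintro ⟨rfl, rfl⟩; exact ⟨by omega, rfl⟩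
      simp only [e2]
      rw [Finset.sum_ite_eq' c.Ms (p - 1, q) g]
      split_ifs with h'
      · rfl
      · exact (hg _ h').symm
  · rw [Finset.sum_ite_eq' c.Ms (p, q) g, if_pos (c.t_s _ h)]

/-- Local description of `Y`. -/
lemma mem_Y {g : T0 k} : g ∈ c.Y (k := k) ↔
    g ∈ supp (k := k) c.Ms ∧
    (∀ p q, (p, q) ∈ c.Mh → g (p, q) = if q = 0 then 0 else g (p, q - 1)) ∧
    (∀ p q, (p, q) ∈ c.Mt → g (p, q) = if p = 0 then 0 else g (p - 1, q)) := by
  classical
  unfold Y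
  rw [mem_orth]
  constructor
  · rintro ⟨hg, h⟩
    refine ⟨hg, fun p q hpq => ?_, fun p q hpq => ?_⟩
    · have h1 := h (D1 (Pi.single (Sum.inl (p, q)) 1))
        ⟨_, single_mem_supp (Finset.inl_mem_disjSum.mpr hpq) 1, rfl⟩
      rw [← pair_apply, c.pair_inl hg p q hpq] at h1
      exact sub_eq_zero.mp h1
    · have h1 := h (D1 (Pi.single (Sum.inr (p, q)) 1))
        ⟨_, single_mem_supp (Finset.inr_mem_disjSum.mpr hpq) 1, rfl⟩
      rw [← pair_apply, c.pair_inr hg p q hpq] at h1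
      exact (sub_eq_zero.mp h1).symm
  · rintro ⟨hg, h1, h2⟩
    refine ⟨hg, ?_⟩
    rintro _ ⟨ω, hω, rfl⟩
    rw [← pair_apply, eq_sum_single hω, map_sum, map_sum]
    refine Finset.sum_eq_zero fun x hx => ?_
    rw [map_smul, map_smul]
    rcases x with ⟨p, q⟩ | ⟨p, q⟩
    · have hpq : (p, q) ∈ c.Mh := Finset.inl_mem_disjSum.mp hx
      rw [c.pair_inl hg p q hpq, ← h1 p q hpq, sub_self, smul_zero]
    · have hpq : (p, q) ∈ c.Mt := Finset.inr_mem_disjSum.mp hx
      rw [c.pair_inr hg p q hpq, ← h2 p q hpq, sub_self, smul_zero]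

end Cfg

end Groth.Agent.Lib.Helper72.GridDual
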