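import Mathlib
import Groth.Agent.Lib.Helper72.GridDualC

/-! The grid configuration attached to a staircase function, a shift and a level; the
Euler-characteristic sum. -/

namespace Groth.Agent.Lib.Helper72.GridDual

open Module

/-- Staircase data: an antitone function `ℕ → ℕ → ℕ` vanishing outside a box. -/
structure Stair where
  b : ℕ → ℕ → ℕ
  N : ℕ
  anti : ∀ {a a' c c' : ℕ}, a ≤ a' → c ≤ c' → b a' c' ≤ b a c
  van : ∀ {a c : ℕ}, N ≤ a ∨ N ≤ c → b a c = 0

namespace Stair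

variable (B : Stair) (i j s : ℕ)

/-- The configuration at level `s` for the shift `(i, j)`. -/
def cfg : Cfg where
  U := (Finset.range B.N ×ˢ Finset.range B.N).filter (fun u => s ≤ B.b u.1 u.2)
  down1 := by
    intro p q h
    simp only [Finset.mem_filter, Finset.mem_product, Finset.mem_range] at h ⊢
    exact ⟨⟨by omega, h.1.2⟩, h.2.trans (B.anti (Nat.le_succ p) le_rfl)⟩
  down2 := by
    intro p q h
    simp only [Finset.mem_filter, Finset.mem_product, Finset.mem_range] at h ⊢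
    exact ⟨⟨h.1.1, by omega⟩, h.2.trans (B.anti le_rfl (Nat.le_succ q))⟩
  Mv := (Finset.range B.N ×ˢ Finset.range B.N).filter
    (fun u => s ≤ B.b u.1 u.2 ∧ B.b (u.1 + i) (u.2 + j) + s ≤ B.b u.1 u.2)
  Mh := (Finset.range B.N ×ˢ Finset.range B.N).filter
    (fun u => s ≤ B.b u.1 u.2 ∧ B.b (u.1 + i + 1) (u.2 + j) + s ≤ B.b u.1 u.2)
  Mt := (Finset.range B.N ×ˢ Finset.range B.N).filter
    (fun u => s ≤ B.b u.1 u.2 ∧ B.b (u.1 + i) (u.2 + j + 1) + s ≤ B.b u.1 u.2)
  Ms := (Finset.range B.N ×ˢ Finset.range B.N).filter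
    (fun u => s ≤ B.b u.1 u.2 ∧ B.b (u.1 + i + 1) (u.2 + j + 1) + s ≤ B.b u.1 u.2)
  Mv_sub := by
    intro u hu
    simp only [Finset.mem_filter] at hu ⊢
    exact ⟨hu.1, hu.2.1⟩
  Mh_sub := by
    intro u hu
    simp only [Finset.mem_filter] at hu ⊢
    exact ⟨hu.1, hu.2.1⟩
  Mt_sub := by
    intro u hu
    simp only [Finset.mem_filter] at hu ⊢
    exact ⟨hu.1, hu.2.1⟩
  Ms_sub := by
    intro u hu
    simp only [Finset.mem_filter] at hu ⊢
    exact ⟨hu.1, hu.2.1⟩
  v_h := by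
    intro u hu
    simp only [Finset.mem_filter] at hu ⊢
    refine ⟨hu.1, hu.2.1, le_trans ?_ hu.2.2⟩
    exact Nat.add_le_add_right (B.anti (Nat.le_succ _) le_rfl) s
  v_t := by
    intro u hu
    simp only [Finset.mem_filter] at hu ⊢
    refine ⟨hu.1, hu.2.1, le_trans ?_ hu.2.2⟩
    exact Nat.add_le_add_right (B.anti le_rfl (Nat.le_succ _)) s
  hv := by
    intro p q hu
    simp only [Finset.mem_filter, Finset.mem_product, Finset.mem_range] at hu ⊢
    have h1 : B.b (p + 1) q ≤ B.b p q := B.anti (Nat.le_succ p) le_rfl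
    have h2 : B.b (p + i + 1) (q + j) = B.b (p + 1 + i) (q + j) := by
      rw [show p + i + 1 = p + 1 + i by omega]
    refine ⟨⟨by omega, hu.1.2⟩, by omega, by omega⟩
  tv := by
    intro p q hu
    simp only [Finset.mem_filter, Finset.mem_product, Finset.mem_range] at hu ⊢
    have h1 : B.b p (q + 1) ≤ B.b p q := B.anti le_rfl (Nat.le_succ q)
    have h2 : B.b (p + i) (q + j + 1) = B.b (p + i) (q + 1 + j) := by
      rw [show q + j + 1 = q + 1 + j by omega]
    refine ⟨⟨hu.1.1, by omega⟩, by omega, by omega⟩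
  h_s := by
    intro u hu
    simp only [Finset.mem_filter] at hu ⊢
    refine ⟨hu.1, hu.2.1, le_trans ?_ hu.2.2⟩
    exact Nat.add_le_add_right (B.anti le_rfl (Nat.le_succ _)) s
  t_s := by
    intro u hu
    simp only [Finset.mem_filter] at hu ⊢
    refine ⟨hu.1, hu.2.1, le_trans ?_ hu.2.2⟩
    exact Nat.add_le_add_right (B.anti (Nat.le_succ _) le_rfl) s
  h_s' := by
    intro p q hu
    simp only [Finset.mem_filter, Finset.mem_product, Finset.mem_range] at hu ⊢
    have h1 : B.b p (q + 1) ≤ B.b p q := B.anti le_rfl (Nat.le_succ q)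
    have h2 : B.b (p + i + 1) (q + j + 1) = B.b (p + i + 1) (q + 1 + j) := by
      rw [show q + j + 1 = q + 1 + j by omega]
    refine ⟨⟨hu.1.1, by omega⟩, by omega, by omega⟩
  t_s' := by
    intro p q hu
    simp only [Finset.mem_filter, Finset.mem_product, Finset.mem_range] at hu ⊢
    have h1 : B.b (p + 1) q ≤ B.b p q := B.anti (Nat.le_succ p) le_rfl
    have h2 : B.b (p + i + 1) (q + j + 1) = B.b (p + 1 + i) (q + j + 1) := by
      rw [show p + i + 1 = p + 1 + i by omega]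
    refine ⟨⟨by omega, hu.1.2⟩, by omega, by omega⟩

variable {i j s}

lemma lt_N_of_pos {p q : ℕ} (h : 0 < B.b p q) : p < B.N ∧ q < B.N := by
  by_contra hcon
  have : B.N ≤ p ∨ B.N ≤ q := by omega
  rw [B.van this] at h
  exact lt_irrefl _ h

lemma mem_U (hs : 1 ≤ s) {p q : ℕ} : (p, q) ∈ (B.cfg i j s).U ↔ s ≤ B.b p q := by
  simp only [cfg, Finset.mem_filter, Finset.mem_product, Finset.mem_range]
  constructor
  · exact fun h => h.2
  · intro h
    exact ⟨B.lt_N_of_pos (by omega), h⟩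

lemma mem_Mv (hs : 1 ≤ s) {p q : ℕ} :
    (p, q) ∈ (B.cfg i j s).Mv ↔ s ≤ B.b p q ∧ B.b (p + i) (q + j) + s ≤ B.b p q := by
  simp only [cfg, Finset.mem_filter, Finset.mem_product, Finset.mem_range]
  constructor
  · exact fun h => h.2
  · intro h
    exact ⟨B.lt_N_of_pos (by omega), h⟩

lemma mem_Mh (hs : 1 ≤ s) {p q : ℕ} :
    (p, q) ∈ (B.cfg i j s).Mh ↔ s ≤ B.b p q ∧ B.b (p + i + 1) (q + j) + s ≤ B.b p q := by
  simp only [cfg, Finset.mem_filter, Finset.mem_product, Finset.mem_range]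
  constructor
  · exact fun h => h.2
  · intro h
    exact ⟨B.lt_N_of_pos (by omega), h⟩

lemma mem_Mt (hs : 1 ≤ s) {p q : ℕ} :
    (p, q) ∈ (B.cfg i j s).Mt ↔ s ≤ B.b p q ∧ B.b (p + i) (q + j + 1) + s ≤ B.b p q := by
  simp only [cfg, Finset.mem_filter, Finset.mem_product, Finset.mem_range]
  constructor
  · exact fun h => h.2
  · intro h
    exact ⟨B.lt_N_of_pos (by omega), h⟩

lemma mem_Ms (hs : 1 ≤ s) {p q : ℕ} :
    (p, q) ∈ (B.cfg i j s).Ms ↔ s ≤ B.b p q ∧ B.b (p + i + 1) (q + j + 1) + s ≤ B.b p q := by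
  simp only [cfg, Finset.mem_filter, Finset.mem_product, Finset.mem_range]
  constructor
  · exact fun h => h.2
  · intro h
    exact ⟨B.lt_N_of_pos (by omega), h⟩

/-- The box. -/
abbrev box : Finset (ℕ × ℕ) := Finset.range B.N ×ˢ Finset.range B.N

lemma sum_card_filter (c : ℕ → ℕ → ℕ) (M : ℕ) (hM : ∀ p q, B.b p q ≤ M) :
    ∑ s ∈ Finset.Icc 1 M, (B.box.filter
      (fun u => s ≤ B.b u.1 u.2 ∧ c u.1 u.2 + s ≤ B.b u.1 u.2)).card =
    ∑ u ∈ B.box, (B.b u.1 u.2 - c u.1 u.2) := by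
  simp only [Finset.card_filter]
  rw [Finset.sum_comm]
  refine Finset.sum_congr rfl fun u _ => ?_
  rw [← Finset.card_filter]
  have : (Finset.Icc 1 M).filter (fun s => s ≤ B.b u.1 u.2 ∧ c u.1 u.2 + s ≤ B.b u.1 u.2) =
      Finset.Icc 1 (B.b u.1 u.2 - c u.1 u.2) := by
    ext s
    simp only [Finset.mem_filter, Finset.mem_Icc]
    have := hM u.1 u.2
    omega
  rw [this, Nat.card_Icc]
  omega

lemma sum_range_shift (g : ℕ → ℕ) (N : ℕ) (hg : g N = 0) :
    ∑ p ∈ Finset.range N, g p = ∑ p ∈ Finset.range N, g (p + 1) + g 0 := by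
  have e1 := Finset.sum_range_succ g N
  have e2 := Finset.sum_range_succ' g N
  omega

lemma tele (f : ℕ → ℕ → ℕ) (N : ℕ) (hf : ∀ p q, N ≤ p ∨ N ≤ q → f p q = 0) :
    ∑ u ∈ Finset.range N ×ˢ Finset.range N, f u.1 u.2 +
      ∑ u ∈ Finset.range N ×ˢ Finset.range N, f (u.1 + 1) (u.2 + 1) =
    ∑ u ∈ Finset.range N ×ˢ Finset.range N, f (u.1 + 1) u.2 +
      ∑ u ∈ Finset.range N ×ˢ Finset.range N, f u.1 (u.2 + 1) + f 0 0 := by
  simp only [Finset.sum_product_right]
  have h1 : ∀ q, ∑ p ∈ Finset.range N, f p q = ∑ p ∈ Finset.range N, f (p + 1) q + f 0 q :=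
    fun q => sum_range_shift (fun p => f p q) N (hf N q (Or.inl le_rfl))
  have h2 : ∑ q ∈ Finset.range N, f 0 q = ∑ q ∈ Finset.range N, f 0 (q + 1) + f 0 0 :=
    sum_range_shift (fun q => f 0 q) N (hf 0 N (Or.inr le_rfl))
  have e1 : ∑ q ∈ Finset.range N, ∑ p ∈ Finset.range N, f p q =
      ∑ q ∈ Finset.range N, ∑ p ∈ Finset.range N, f (p + 1) q + ∑ q ∈ Finset.range N, f 0 q := by
    rw [← Finset.sum_add_distrib]
    exact Finset.sum_congr rfl fun q _ => h1 q
  have e2 : ∑ q ∈ Finset.range N, ∑ p ∈ Finset.range N, f p (q + 1) =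
      ∑ q ∈ Finset.range N, ∑ p ∈ Finset.range N, f (p + 1) (q + 1) +
        ∑ q ∈ Finset.range N, f 0 (q + 1) := by
    rw [← Finset.sum_add_distrib]
    exact Finset.sum_congr rfl fun q _ => h1 (q + 1)
  omega

/-- The Euler characteristic sum. -/
theorem sum_cards (i j M : ℕ) (hM : ∀ p q, B.b p q ≤ M) :
    ∑ s ∈ Finset.Icc 1 M, ((B.cfg i j s).Mh.card + (B.cfg i j s).Mt.card) =
    ∑ s ∈ Finset.Icc 1 M, ((B.cfg i j s).Mv.card + (B.cfg i j s).Ms.card) + B.b i j := by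
  simp only [Finset.sum_add_distrib]
  have hv := B.sum_card_filter (fun p q => B.b (p + i) (q + j)) M hM
  have hh := B.sum_card_filter (fun p q => B.b (p + i + 1) (q + j)) M hM
  have ht := B.sum_card_filter (fun p q => B.b (p + i) (q + j + 1)) M hM
  have hs := B.sum_card_filter (fun p q => B.b (p + i + 1) (q + j + 1)) M hM
  change ∑ s ∈ Finset.Icc 1 M, (B.cfg i j s).Mv.card = _ at hv
  change ∑ s ∈ Finset.Icc 1 M, (B.cfg i j s).Mh.card = _ at hh
  change ∑ s ∈ Finset.Icc 1 M, (B.cfg i j s).Mt.card = _ at ht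
  change ∑ s ∈ Finset.Icc 1 M, (B.cfg i j s).Ms.card = _ at hs
  rw [hv, hh, ht, hs]
  have hsub : ∀ (c : ℕ → ℕ → ℕ), (∀ p q, c p q ≤ B.b p q) →
      ∑ u ∈ B.box, (B.b u.1 u.2 - c u.1 u.2) + ∑ u ∈ B.box, c u.1 u.2 =
        ∑ u ∈ B.box, B.b u.1 u.2 := by
    intro c hc
    rw [← Finset.sum_add_distrib]
    exact Finset.sum_congr rfl fun u _ => Nat.sub_add_cancel (hc _ _)
  have s1 := hsub (fun p q => B.b (p + i) (q + j)) (fun p q => B.anti (by omega) (by omega))
  have s2 := hsub (fun p q => B.b (p + i + 1) (q + j)) (fun p q => B.anti (by omega) (by omega))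
  have s3 := hsub (fun p q => B.b (p + i) (q + j + 1)) (fun p q => B.anti (by omega) (by omega))
  have s4 := hsub (fun p q => B.b (p + i + 1) (q + j + 1))
    (fun p q => B.anti (by omega) (by omega))
  have t := tele (fun p q => B.b (p + i) (q + j)) B.N (by
    intro p q h
    exact B.van (by omega))
  have r1 : ∑ u ∈ Finset.range B.N ×ˢ Finset.range B.N, B.b (u.1 + 1 + i) (u.2 + 1 + j) =
      ∑ u ∈ Finset.range B.N ×ˢ Finset.range B.N, B.b (u.1 + i + 1) (u.2 + j + 1) := by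
    refine Finset.sum_congr rfl fun u _ => ?_
    rw [show u.1 + 1 + i = u.1 + i + 1 by omega, show u.2 + 1 + j = u.2 + j + 1 by omega]
  have r2 : ∑ u ∈ Finset.range B.N ×ˢ Finset.range B.N, B.b (u.1 + 1 + i) (u.2 + j) =
      ∑ u ∈ Finset.range B.N ×ˢ Finset.range B.N, B.b (u.1 + i + 1) (u.2 + j) := by
    refine Finset.sum_congr rfl fun u _ => ?_
    rw [show u.1 + 1 + i = u.1 + i + 1 by omega]
  have r3 : ∑ u ∈ Finset.range B.N ×ˢ Finset.range B.N, B.b (u.1 + i) (u.2 + 1 + j) =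
      ∑ u ∈ Finset.range B.N ×ˢ Finset.range B.N, B.b (u.1 + i) (u.2 + j + 1) := by
    refine Finset.sum_congr rfl fun u _ => ?_
    rw [show u.2 + 1 + j = u.2 + j + 1 by omega]
  simp only [zero_add] at t
  unfold box at *
  omega

end Stair

end Groth.Agent.Lib.Helper72.GridDual
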