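import Mathlib

/-! Arc computation for the hypersurface `Σ (X_i Y_i^q - Y_i X_i^q)` over a finite field. -/

namespace Groth.Agent.Lib.Helper72.HermSec

open Polynomial

/-- Index type of the variables. -/
abbrev Var (n : ℕ) := Fin (n + 1) ⊕ Fin (n + 1)

variable {n : ℕ}

/-- The standard symplectic form. -/
def Om {R : Type*} [CommRing R] (z z' : Var n → R) : R :=
  ∑ i : Fin (n + 1), (z (Sum.inl i) * z' (Sum.inr i) - z (Sum.inr i) * z' (Sum.inl i))

/-- The linear form with coefficients `c`. -/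
def Lin {R : Type*} [CommRing R] (c z : Var n → R) : R := ∑ v, c v * z v

section general
variable {R : Type*} [CommRing R]

lemma Om_add_left (z₁ z₂ z' : Var n → R) : Om (z₁ + z₂) z' = Om z₁ z' + Om z₂ z' := by
  unfold Om
  rw [← Finset.sum_add_distrib]
  refine Finset.sum_congr rfl fun i _ => ?_
  simp only [Pi.add_apply]; ring

lemma Om_add_right (z z₁ z₂ : Var n → R) : Om z (z₁ + z₂) = Om z z₁ + Om z z₂ := by
  unfold Om
  rw [← Finset.sum_add_distrib]
  refine Finset.sum_congr rfl fun i _ => ?_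
  simp only [Pi.add_apply]; ring

lemma Om_smul_left (s : R) (z z' : Var n → R) : Om (s • z) z' = s * Om z z' := by
  unfold Om
  rw [Finset.mul_sum]
  refine Finset.sum_congr rfl fun i _ => ?_
  simp only [Pi.smul_apply, smul_eq_mul]; ring

lemma Om_smul_right (s : R) (z z' : Var n → R) : Om z (s • z') = s * Om z z' := by
  unfold Om
  rw [Finset.mul_sum]
  refine Finset.sum_congr rfl fun i _ => ?_
  simp only [Pi.smul_apply, smul_eq_mul]; ring

lemma Om_self (z : Var n → R) : Om z z = 0 := by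
  unfold Om
  refine Finset.sum_eq_zero fun i _ => ?_
  ring

lemma Om_swap (z z' : Var n → R) : Om z z' = - Om z' z := by
  unfold Om
  rw [← Finset.sum_neg_distrib]
  refine Finset.sum_congr rfl fun i _ => ?_
  ring

lemma Lin_add (c z₁ z₂ : Var n → R) : Lin c (z₁ + z₂) = Lin c z₁ + Lin c z₂ := by
  unfold Lin
  rw [← Finset.sum_add_distrib]
  refine Finset.sum_congr rfl fun i _ => ?_
  simp only [Pi.add_apply]; ring

lemma Lin_smul (s : R) (c z : Var n → R) : Lin c (s • z) = s * Lin c z := by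
  unfold Lin
  rw [Finset.mul_sum]
  refine Finset.sum_congr rfl fun i _ => ?_
  simp only [Pi.smul_apply, smul_eq_mul]; ring

/-- The tangency point attached to the coefficient vector `c`. -/
def Pv (c : Var n → R) : Var n → R :=
  Sum.elim (fun i => - c (Sum.inr i)) (fun i => c (Sum.inl i))

lemma Lin_eq (c z : Var n → R) :
    Lin c z = ∑ i : Fin (n + 1), (c (Sum.inl i) * z (Sum.inl i) + c (Sum.inr i) * z (Sum.inr i)) := by
  unfold Lin
  rw [Fintype.sum_sum_type, Finset.sum_add_distrib]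

lemma Om_Pv_left (c z : Var n → R) : Om (Pv c) z = - Lin c z := by
  rw [Lin_eq]
  unfold Om Pv
  rw [← Finset.sum_neg_distrib]
  refine Finset.sum_congr rfl fun i _ => ?_
  simp only [Sum.elim_inl, Sum.elim_inr]; ring

lemma Om_Pv_right (c z : Var n → R) : Om z (Pv c) = Lin c z := by
  rw [Om_swap, Om_Pv_left, neg_neg]

lemma Lin_Pv (c : Var n → R) : Lin c (Pv c) = 0 := by
  have := Om_Pv_right c (Pv c)
  rw [Om_self] at this
  exact this.symm

end general

section poly
variable {k : Type*} [Field k]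

/-- Constant vectors. -/
noncomputable def cst (w : Var n → k) : Var n → k[X] := fun v => C (w v)

lemma Om_cst (w w' : Var n → k) : Om (cst w) (cst w') = C (Om w w') := by
  unfold Om cst
  simp only [map_sum, map_sub, map_mul]

lemma Lin_cst (c w : Var n → k) : Lin (cst c) (cst w) = C (Lin c w) := by
  unfold Lin cst
  simp only [map_sum, map_mul]

lemma cst_Pv (c : Var n → k) : cst (Pv c) = Pv (cst c) := by
  funext v
  rcases v with i | i <;> simp [cst, Pv]

variable [Fintype k]

/-- The arc. -/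
noncomputable def arc (c e f : Var n → k) : Var n → k[X] :=
  cst (Pv c) + (X : k[X]) • (cst e + (X : k[X]) • cst f)

lemma Lin_arc (c e f : Var n → k) (he : Lin c e = 0) (hf : Lin c f = 0) :
    Lin (cst c) (arc c e f) = 0 := by
  unfold arc
  rw [Lin_add, Lin_smul, Lin_add, Lin_smul, Lin_cst, Lin_cst, Lin_cst, he, hf, Lin_Pv]
  simp

lemma pow_card_arc (c e f : Var n → k) (u : Var n → k[X]) (N : ℕ) :
    (fun v => ((arc c e f + (X : k[X]) ^ N • u) v) ^ Fintype.card k) =
      cst (Pv c) + (X : k[X]) ^ Fintype.card k •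
          (cst e + (X : k[X]) ^ Fintype.card k • cst f) +
        ((X : k[X]) ^ N) ^ Fintype.card k • (fun v => (u v) ^ Fintype.card k) := by
  funext v
  rw [← FiniteField.expand_card]
  simp only [arc, cst, Pi.add_apply, Pi.smul_apply, smul_eq_mul, map_add, map_mul, expand_C,
    expand_X, map_pow]
  rw [FiniteField.expand_card]
  ring


lemma pow_card_arc0 (c e f : Var n → k) :
    (fun v => (arc c e f v) ^ Fintype.card k) =
      cst (Pv c) + (X : k[X]) ^ Fintype.card k •
          (cst e + (X : k[X]) ^ Fintype.card k • cst f) := by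
  funext v
  rw [← FiniteField.expand_card]
  simp only [arc, cst, Pi.add_apply, Pi.smul_apply, smul_eq_mul, map_add, map_mul, expand_C,
    expand_X, map_pow]

/-- The arc satisfies the equation `F` to order `q + 2`. -/
theorem dvd_Om_arc (c e f : Var n → k) (he : Lin c e = 0) (hf : Lin c f = 0) :
    (X : k[X]) ^ (Fintype.card k + 2) ∣
      Om (arc c e f) (fun v => (arc c e f v) ^ Fintype.card k) := by
  rw [pow_card_arc0]
  obtain ⟨q, hq⟩ : ∃ q, q = Fintype.card k := ⟨_, rfl⟩
  have hq2 : 2 ≤ q := hq ▸ Fintype.one_lt_card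
  rw [← hq]
  obtain ⟨Y, hY⟩ : ∃ Y : k[X], Y = X ^ q := ⟨_, rfl⟩
  rw [← hY]
  have hv1 : Lin (cst c) (cst e + (X : k[X]) • cst f) = 0 := by
    rw [Lin_add, Lin_smul, Lin_cst, Lin_cst, he, hf]; simp
  have hv2 : Lin (cst c) (cst e + Y • cst f) = 0 := by
    rw [Lin_add, Lin_smul, Lin_cst, Lin_cst, he, hf]; simp
  have hexp : Om (arc c e f) (cst (Pv c) + Y • (cst e + Y • cst f)) =
      X * Y * Om (cst e + (X : k[X]) • cst f) (cst e + Y • cst f) := by
    unfold arc
    rw [Om_add_left, Om_add_right, Om_add_right]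
    simp only [Om_smul_left, Om_smul_right]
    rw [Om_self, cst_Pv, Om_Pv_left, Om_Pv_right, hv1, hv2]
    ring
  have hvv : Om (cst e + (X : k[X]) • cst f) (cst e + Y • cst f) = C (Om e f) * (Y - X) := by
    rw [Om_add_left, Om_add_right, Om_add_right, Om_smul_left, Om_smul_left, Om_smul_right,
      Om_smul_right, Om_cst, Om_cst, Om_cst, Om_cst, Om_self, Om_self, Om_swap f e]
    simp only [map_zero, map_neg]
    ring
  rw [hexp, hvv, hY]
  obtain ⟨q', rfl⟩ : ∃ q', q = q' + 1 := ⟨q - 1, by omega⟩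
  exact ⟨C (Om e f) * (X ^ q' - 1), by ring⟩

/-- Key computation: the arc cannot be lifted. -/
theorem not_both_dvd (c e f : Var n → k) (he : Lin c e = 0) (hf : Lin c f = 0)
    (hef : Om e f = 1) (u : Var n → k[X])
    (hL : (X : k[X]) ^ (Fintype.card k + 3) ∣
      Lin (cst c) (arc c e f + (X : k[X]) ^ (Fintype.card k + 2) • u))
    (hF : (X : k[X]) ^ (Fintype.card k + 3) ∣
      Om (arc c e f + (X : k[X]) ^ (Fintype.card k + 2) • u)
        (fun v => ((arc c e f + (X : k[X]) ^ (Fintype.card k + 2) • u) v) ^ Fintype.card k)) :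
    False := by
  obtain ⟨q, hq⟩ : ∃ q, q = Fintype.card k := ⟨_, rfl⟩
  have hq2 : 2 ≤ q := hq ▸ Fintype.one_lt_card
  rw [pow_card_arc] at hF
  rw [← hq] at hL hF
  -- step 1: X ∣ Lin cc u
  have h1 : (X : k[X]) ∣ Lin (cst c) u := by
    rw [Lin_add, Lin_arc c e f he hf, zero_add, Lin_smul, pow_succ] at hL
    exact (mul_dvd_mul_iff_left (pow_ne_zero _ X_ne_zero)).mp hL
  obtain ⟨h, hh⟩ := h1
  -- step 2
  obtain ⟨Y, hY⟩ : ∃ Y : k[X], Y = X ^ q := ⟨_, rfl⟩
  obtain ⟨Z, hZ⟩ : ∃ Z : k[X], Z = X ^ (q + 2) := ⟨_, rfl⟩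
  obtain ⟨u', hu'⟩ : ∃ u' : Var n → k[X], u' = fun v => (u v) ^ q := ⟨_, rfl⟩
  rw [← hY, ← hZ, ← hu'] at hF
  have hv1 : Lin (cst c) (cst e + (X : k[X]) • cst f) = 0 := by
    rw [Lin_add, Lin_smul, Lin_cst, Lin_cst, he, hf]; simp
  have hv2 : Lin (cst c) (cst e + Y • cst f) = 0 := by
    rw [Lin_add, Lin_smul, Lin_cst, Lin_cst, he, hf]; simp
  have hfe : Om f e = -1 := by rw [Om_swap, hef]
  have hvv : Om (cst e + (X : k[X]) • cst f) (cst e + Y • cst f) = Y - X := by
    rw [Om_add_left, Om_add_right, Om_add_right, Om_smul_left, Om_smul_left, Om_smul_right,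
      Om_smul_right, Om_cst, Om_cst, Om_cst, Om_cst, Om_self, Om_self, hef, hfe]
    simp only [map_zero, map_one, map_neg]
    ring
  have hexp : Om (arc c e f + Z • u) (cst (Pv c) + Y • (cst e + Y • cst f) + Z ^ q • u') =
      X * Y * (Y - X) + Z * (X * h) +
        Z ^ q * (Om (cst (Pv c)) u' + X * Om (cst e + (X : k[X]) • cst f) u' + Z * Om u u') +
        Z * Y * Om u (cst e + Y • cst f) := by
    unfold arc
    rw [Om_add_left, Om_add_left, Om_add_right, Om_add_right, Om_add_right, Om_add_right,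
      Om_add_right, Om_add_right]
    simp only [Om_smul_left, Om_smul_right]
    rw [hvv, Om_self, cst_Pv, Om_Pv_left, Om_Pv_right, Om_Pv_right, hv1, hv2, hh, ← cst_Pv]
    ring
  rw [hexp] at hF
  have hd1 : (X : k[X]) ^ (q + 3) ∣ Z * (X * h) := by
    rw [hZ]; exact ⟨h, by ring⟩
  have hd2 : (X : k[X]) ^ (q + 3) ∣
      Z ^ q * (Om (cst (Pv c)) u' + X * Om (cst e + (X : k[X]) • cst f) u' + Z * Om u u') := by
    apply Dvd.dvd.mul_right
    rw [hZ, ← pow_mul]
    apply pow_dvd_pow
    nlinarith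
  have hd3 : (X : k[X]) ^ (q + 3) ∣ Z * Y * Om u (cst e + Y • cst f) := by
    apply Dvd.dvd.mul_right
    rw [hZ, hY, ← pow_add]
    apply pow_dvd_pow
    omega
  have hd4 : (X : k[X]) ^ (q + 3) ∣ X * Y * Y := by
    rw [hY, mul_assoc, ← pow_add, ← pow_succ']
    apply pow_dvd_pow
    omega
  have hd5 : (X : k[X]) ^ (q + 3) ∣ X * Y * X := by
    have e1 : X * Y * X = X * Y * Y - (X * Y * (Y - X)) := by ring
    rw [e1]
    apply dvd_sub hd4
    have e2 : X * Y * (Y - X) =
        (X * Y * (Y - X) + Z * (X * h) +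
          Z ^ q * (Om (cst (Pv c)) u' + X * Om (cst e + (X : k[X]) • cst f) u' + Z * Om u u') +
          Z * Y * Om u (cst e + Y • cst f)) - Z * (X * h) -
          Z ^ q * (Om (cst (Pv c)) u' + X * Om (cst e + (X : k[X]) • cst f) u' + Z * Om u u') -
          Z * Y * Om u (cst e + Y • cst f) := by ring
    rw [e2]
    exact dvd_sub (dvd_sub (dvd_sub hF hd1) hd2) hd3
  have e3 : (X : k[X]) * Y * X = X ^ (q + 2) := by rw [hY]; ring
  rw [e3] at hd5
  have := (pow_dvd_pow_iff (X_ne_zero (R := k)) (not_isUnit_X)).mp hd5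
  omega

end poly

end Groth.Agent.Lib.Helper72.HermSec
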