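import Mathlib

/-! Lifting arcs along a formally smooth localisation of a quotient of a polynomial ring. -/

namespace Groth.Agent.Lib.Helper72.HermSec

open Polynomial

variable {k : Type*} [Field k] {σ : Type*}

lemma isUnit_mk_of_coeff_zero_ne_zero (N : ℕ) (p : k[X]) (hp : p.coeff 0 ≠ 0) :
    IsUnit (Ideal.Quotient.mk (Ideal.span {(X : k[X]) ^ N}) p) := by
  have h1 : p = C (p.coeff 0) + X * p.divX := by
    conv_lhs => rw [← Polynomial.X_mul_divX_add p]
    ring
  rw [h1, map_add]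
  apply IsNilpotent.isUnit_add_left_of_commute
  · refine ⟨N, ?_⟩
    rw [← map_pow, Ideal.Quotient.eq_zero_iff_mem, Ideal.mem_span_singleton, mul_pow]
    exact Dvd.intro _ rfl
  · exact (Polynomial.isUnit_C.mpr (isUnit_iff_ne_zero.mpr hp)).map _
  · exact Commute.all _ _

theorem exists_lift_arc (I : Ideal (MvPolynomial σ k)) (w : σ)
    [Algebra.FormallySmooth k (Localization.Away (Ideal.Quotient.mk I (MvPolynomial.X w)))]
    (N : ℕ) (hN : 1 ≤ N) (γ : σ → k[X])
    (hγ : ∀ g ∈ I, (X : k[X]) ^ N ∣ MvPolynomial.aeval γ g) (hw : (γ w).coeff 0 ≠ 0) :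
    ∃ u : σ → k[X], ∀ g ∈ I,
      (X : k[X]) ^ (N + 1) ∣ MvPolynomial.aeval (γ + (X : k[X]) ^ N • u) g := by
  classical
  let JB : Ideal k[X] := Ideal.span {(X : k[X]) ^ (N + 1)}
  let JC : Ideal k[X] := Ideal.span {(X : k[X]) ^ N}
  have hle : JB ≤ JC := by
    rw [Ideal.span_singleton_le_span_singleton]
    exact pow_dvd_pow _ (Nat.le_succ N)
  let f0' : MvPolynomial σ k →ₐ[k] (k[X] ⧸ JC) :=
    (Ideal.Quotient.mkₐ k JC).comp (MvPolynomial.aeval γ)
  have hf0' : ∀ a ∈ I, f0' a = 0 := by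
    intro a ha
    change Ideal.Quotient.mk JC (MvPolynomial.aeval γ a) = 0
    rw [Ideal.Quotient.eq_zero_iff_mem, Ideal.mem_span_singleton]
    exact hγ a ha
  let f0'' : (MvPolynomial σ k ⧸ I) →ₐ[k] (k[X] ⧸ JC) := Ideal.Quotient.liftₐ I f0' hf0'
  have hf0''mk : ∀ a, f0'' (Ideal.Quotient.mk I a) = Ideal.Quotient.mk JC (MvPolynomial.aeval γ a) :=
    fun a => rfl
  have hunit : ∀ y : Submonoid.powers (Ideal.Quotient.mk I (MvPolynomial.X w)),
      IsUnit (f0'' y) := by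
    rintro ⟨y, m, rfl⟩
    change IsUnit (f0'' ((Ideal.Quotient.mk I (MvPolynomial.X w)) ^ m))
    rw [map_pow, hf0''mk, MvPolynomial.aeval_X]
    exact (isUnit_mk_of_coeff_zero_ne_zero N (γ w) hw).pow m
  let f0 : Localization.Away (Ideal.Quotient.mk I (MvPolynomial.X w)) →ₐ[k] (k[X] ⧸ JC) :=
    IsLocalization.liftAlgHom (M := Submonoid.powers (Ideal.Quotient.mk I (MvPolynomial.X w)))
      (f := f0'') hunit
  have hf0 : ∀ a, f0 (algebraMap (MvPolynomial σ k ⧸ I) _ a) = f0'' a := by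
    intro a
    change IsLocalization.lift hunit _ = _
    rw [IsLocalization.lift_eq]
    rfl
  let g : (k[X] ⧸ JB) →ₐ[k] (k[X] ⧸ JC) := Ideal.Quotient.factorₐ k hle
  have hgmk : ∀ p, g (Ideal.Quotient.mk JB p) = Ideal.Quotient.mk JC p := fun p => rfl
  have hg : Function.Surjective g := Ideal.Quotient.factor_surjective hle
  have hg' : IsNilpotent (RingHom.ker (g : (k[X] ⧸ JB) →+* (k[X] ⧸ JC))) := by
    refine ⟨2, ?_⟩
    rw [Ideal.zero_eq_bot, eq_bot_iff]
    refine (pow_two (RingHom.ker (g : (k[X] ⧸ JB) →+* (k[X] ⧸ JC)))).le.trans ?_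
    rw [Ideal.mul_le]
    intro r hr s hs
    obtain ⟨r, rfl⟩ := Ideal.Quotient.mk_surjective r
    obtain ⟨s, rfl⟩ := Ideal.Quotient.mk_surjective s
    rw [RingHom.mem_ker] at hr hs
    change g _ = 0 at hr
    change g _ = 0 at hs
    rw [hgmk, Ideal.Quotient.eq_zero_iff_mem, Ideal.mem_span_singleton] at hr hs
    rw [Ideal.mem_bot, ← map_mul, Ideal.Quotient.eq_zero_iff_mem, Ideal.mem_span_singleton]
    have : (X : k[X]) ^ (N + 1) ∣ X ^ N * X ^ N := by
      rw [← pow_add]; exact pow_dvd_pow _ (by omega)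
    exact this.trans (mul_dvd_mul hr hs)
  let lft := Algebra.FormallySmooth.liftOfSurjective f0 g hg hg'
  have hlft : ∀ x, g (lft x) = f0 x := Algebra.FormallySmooth.liftOfSurjective_apply f0 g hg hg'
  let ψ : MvPolynomial σ k →ₐ[k] (k[X] ⧸ JB) :=
    lft.comp ((IsScalarTower.toAlgHom k (MvPolynomial σ k ⧸ I)
      (Localization.Away (Ideal.Quotient.mk I (MvPolynomial.X w)))).comp (Ideal.Quotient.mkₐ k I))
  have hψ : ∀ a, ψ a = lft (algebraMap (MvPolynomial σ k ⧸ I) _ (Ideal.Quotient.mk I a)) :=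
    fun a => rfl
  have hψI : ∀ a ∈ I, ψ a = 0 := by
    intro a ha
    rw [hψ, Ideal.Quotient.eq_zero_iff_mem.mpr ha, map_zero, map_zero]
  choose p hp using fun v => Ideal.Quotient.mk_surjective (I := JB) (ψ (MvPolynomial.X v))
  have hpγ : ∀ v, (X : k[X]) ^ N ∣ p v - γ v := by
    intro v
    have h1 : g (ψ (MvPolynomial.X v)) = Ideal.Quotient.mk JC (γ v) := by
      rw [hψ, hlft, hf0, hf0''mk, MvPolynomial.aeval_X]
    rw [← hp v, hgmk] at h1
    rw [← Ideal.mem_span_singleton, ← Ideal.Quotient.eq_zero_iff_mem, map_sub, h1, sub_self]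
  choose u hu using hpγ
  have hpu : p = γ + (X : k[X]) ^ N • u := by
    funext v
    simp only [Pi.add_apply, Pi.smul_apply, smul_eq_mul]
    rw [← hu v]; ring
  refine ⟨u, fun a ha => ?_⟩
  rw [← hpu]
  have h2 : ψ a = Ideal.Quotient.mk JB (MvPolynomial.aeval p a) := by
    have h3 : ψ = (Ideal.Quotient.mkₐ k JB).comp (MvPolynomial.aeval p) := by
      apply MvPolynomial.algHom_ext
      intro v
      change ψ (MvPolynomial.X v) = Ideal.Quotient.mk JB (MvPolynomial.aeval p (MvPolynomial.X v))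
      rw [MvPolynomial.aeval_X]
      exact (hp v).symm
    rw [h3]; rfl
  rw [hψI a ha] at h2
  rw [← Ideal.mem_span_singleton, ← Ideal.Quotient.eq_zero_iff_mem]
  exact h2.symm

end Groth.Agent.Lib.Helper72.HermSec
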