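import Mathlib
import Groth.Agent.Lib.Helper72.HermSecA

/-! Existence of a hyperbolic pair inside the tangent hyperplane. -/

namespace Groth.Agent.Lib.Helper72.HermSec

variable {n : ℕ} {k : Type*} [Field k]

lemma Lin_single (c : Var n → k) (a : Var n) (s : k) : Lin c (Pi.single a s) = c a * s := by
  classical
  unfold Lin
  rw [Finset.sum_eq_single a]
  · rw [Pi.single_eq_same]
  · intro b _ hb
    rw [Pi.single_eq_of_ne hb, mul_zero]
  · intro h; exact absurd (Finset.mem_univ a) h

lemma Om_single_inl (i : Fin (n + 1)) (z' : Var n → k) :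
    Om (Pi.single (Sum.inl i) 1) z' = z' (Sum.inr i) := by
  classical
  unfold Om
  rw [Finset.sum_eq_single i]
  · rw [Pi.single_eq_same, Pi.single_eq_of_ne (by simp)]
    ring
  · intro j _ hj
    rw [Pi.single_eq_of_ne (fun h => hj (Sum.inl.inj h)), Pi.single_eq_of_ne (by simp)]
    ring
  · intro h; exact absurd (Finset.mem_univ i) h

lemma Om_single_inr (i : Fin (n + 1)) (z' : Var n → k) :
    Om (Pi.single (Sum.inr i) 1) z' = - z' (Sum.inl i) := by
  classical
  unfold Om
  rw [Finset.sum_eq_single i]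
  · rw [Pi.single_eq_same, Pi.single_eq_of_ne (by simp)]
    ring
  · intro j _ hj
    rw [Pi.single_eq_of_ne (fun h => hj (Sum.inr.inj h)), Pi.single_eq_of_ne (by simp)]
    ring
  · intro h; exact absurd (Finset.mem_univ i) h

/-- A hyperbolic pair in the kernel of a nonzero linear form (at least two pairs of variables). -/
theorem exists_pair (hn : 1 ≤ n) (c : Var n → k) (hc : c ≠ 0) :
    ∃ e f : Var n → k, Lin c e = 0 ∧ Lin c f = 0 ∧ Om e f = 1 := by
  classical
  obtain ⟨v0, hv0⟩ : ∃ v0, c v0 ≠ 0 := by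
    by_contra h
    push Not at h
    exact hc (funext h)
  have hnt : Nontrivial (Fin (n + 1)) := Fin.nontrivial_iff_two_le.mpr (by omega)
  obtain ⟨i1, hi1⟩ := exists_ne (Sum.elim id id v0 : Fin (n + 1))
  refine ⟨Pi.single (Sum.inl i1) 1 + (-(c (Sum.inl i1) / c v0)) • Pi.single v0 1,
    Pi.single (Sum.inr i1) 1 + (-(c (Sum.inr i1) / c v0)) • Pi.single v0 1, ?_, ?_, ?_⟩
  · rw [Lin_add, Lin_smul, Lin_single, Lin_single]
    field_simp
    ring
  · rw [Lin_add, Lin_smul, Lin_single, Lin_single]
    field_simp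
    ring
  · rw [Om_add_left, Om_add_right, Om_add_right, Om_smul_left, Om_smul_left, Om_smul_right,
      Om_smul_right, Om_self, Om_swap (Pi.single v0 1)]
    simp only [Om_single_inl, Om_single_inr]
    have h1 : (Pi.single (Sum.inr i1) (1 : k) : Var n → k) (Sum.inr i1) = 1 := Pi.single_eq_same _ _
    have h2 : (Pi.single v0 (1 : k) : Var n → k) (Sum.inr i1) = 0 := by
      apply Pi.single_eq_of_ne
      rintro rfl
      exact hi1 rfl
    have h3 : (Pi.single v0 (1 : k) : Var n → k) (Sum.inl i1) = 0 := by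
      apply Pi.single_eq_of_ne
      rintro rfl
      exact hi1 rfl
    rw [h1, h2, h3]
    ring

/-- The tangency point is nonzero at some coordinate. -/
theorem exists_Pv_ne (c : Var n → k) (hc : c ≠ 0) : ∃ w, Pv c w ≠ 0 := by
  obtain ⟨v0, hv0⟩ : ∃ v0, c v0 ≠ 0 := by
    by_contra h
    push Not at h
    exact hc (funext h)
  rcases v0 with i | i
  · exact ⟨Sum.inr i, by simpa [Pv] using hv0⟩
  · exact ⟨Sum.inl i, by simpa [Pv] using hv0⟩

end Groth.Agent.Lib.Helper72.HermSec
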