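import Mathlib
import Groth.Agent.Lib.Helper28.HilbT5

/-! Graded pieces of `T(I)` as locally constant functions on the region. -/

set_option autoImplicit false
set_option linter.unusedSectionVars false
universe u

namespace Groth.Agent.Lib.Helper72.HilbDual

open W4c1hilbpn MvPolynomial Groth.Agent.Lib.Helper68 Groth.Agent.Lib.Helper28.HilbT

variable {σ : Type*} [Fintype σ] [DecidableEq σ] {k : Type u} [Field k]
variable (I : Ideal (MvPolynomial σ k)) (α : σ → ℤ)

/-- Locally constant functions on the region vanishing at points with a negative coordinate. -/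
def LC3 : Submodule k ((σ → ℤ) → k) where
  carrier := {F | (∀ γ, γ ∉ region I α → F γ = 0) ∧
    (∀ γ γ', γ ∈ region I α → γ' ∈ region I α → (stepGraph σ).Adj γ γ' → F γ = F γ') ∧
    (∀ γ, γ ∈ region I α → (∃ l, γ l < 0) → F γ = 0)}
  zero_mem' := ⟨fun _ _ => rfl, fun _ _ _ _ _ => rfl, fun _ _ _ => rfl⟩
  add_mem' := by
    rintro F G ⟨h1, h2, h3⟩ ⟨h1', h2', h3'⟩
    refine ⟨fun γ hγ => ?_, fun γ γ' hγ hγ' hadj => ?_, fun γ hγ hneg => ?_⟩
    · simp [h1 γ hγ, h1' γ hγ]
    · simp [h2 γ γ' hγ hγ' hadj, h2' γ γ' hγ hγ' hadj]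
    · simp [h3 γ hγ hneg, h3' γ hγ hneg]
  smul_mem' := by
    rintro a F ⟨h1, h2, h3⟩
    refine ⟨fun γ hγ => ?_, fun γ γ' hγ hγ' hadj => ?_, fun γ hγ hneg => ?_⟩
    · simp [h1 γ hγ]
    · simp [h2 γ γ' hγ hγ' hadj]
    · simp [h3 γ hγ hneg]

variable {I α}

lemma LC3_reachable {F : (σ → ℤ) → k} (hF : F ∈ LC3 I α) {v w : region I α}
    (h : (RG I α).Reachable v w) : F v.1 = F w.1 := by
  obtain ⟨p⟩ := h
  induction p with
  | nil => rfl
  | cons hadj p ih =>
    rw [← ih]
    rw [SimpleGraph.induce_adj] at hadj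
    exact hF.2.1 _ _ (Subtype.mem _) (Subtype.mem _) hadj

variable (I α)

/-- Functions on good components are the same as locally constant functions on the region
vanishing at negative points. -/
noncomputable def goodEquiv : ({c // Good I α c} → k) ≃ₗ[k] LC3 I α := by
  classical
  refine LinearEquiv.ofBijective
    { toFun := fun g => ⟨fOf I α g, fun γ hγ => fOf_of_notMem g hγ,
        fun γ γ' hγ hγ' hadj => fOf_adj g hγ hγ' hadj, fun γ hγ hneg => fOf_of_neg g hγ hneg⟩
      map_add' := by
        intro g g'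
        apply Subtype.ext
        funext γ
        exact fOf_add g g' γ
      map_smul' := by
        intro a g
        apply Subtype.ext
        funext γ
        exact fOf_smul a g γ } ⟨?_, ?_⟩
  · rw [injective_iff_map_eq_zero]
    intro g hg
    funext c
    obtain ⟨c, hc⟩ := c
    obtain ⟨v, rfl⟩ := exists_rep c
    have h1 : fOf I α g v.1 = 0 := congrFun (congrArg Subtype.val hg) v.1
    rw [fOf_of_mem g v.2, gExt_of_good g hc] at h1
    exact h1
  · rintro ⟨F, hF⟩
    refine ⟨fun c => F (Classical.choose (exists_rep c.1)).1, ?_⟩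
    apply Subtype.ext
    funext γ
    change fOf I α _ γ = F γ
    by_cases hγ : γ ∈ region I α
    · rw [fOf_of_mem _ hγ]
      by_cases hg : Good I α ((RG I α).connectedComponentMk ⟨γ, hγ⟩)
      · rw [gExt_of_good _ hg]
        have hspec := Classical.choose_spec (exists_rep ((RG I α).connectedComponentMk ⟨γ, hγ⟩))
        exact LC3_reachable hF (SimpleGraph.ConnectedComponent.exact hspec)
      · rw [gExt_of_not_good _ hg]
        unfold Good at hg
        push Not at hg
        obtain ⟨v, hv, i, hi⟩ := hg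
        have h1 : F v.1 = 0 := hF.2.2 v.1 v.2 ⟨i, hi⟩
        rw [← h1]
        exact LC3_reachable hF (SimpleGraph.ConnectedComponent.exact hv)
    · rw [fOf_of_notMem _ hγ, hF.1 γ hγ]

/-- The graded piece `T(I)_α` as locally constant functions. -/
noncomputable def tPieceEquiv (hI : IsMonomial I) : tPiece I α ≃ₗ[k] LC3 I α :=
  (PsiEquiv (α := α) hI).symm.trans (goodEquiv I α)

end Groth.Agent.Lib.Helper72.HilbDual
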