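import Mathlib
import Groth.Agent.Lib.Helper72.HilbDualA
import Groth.Agent.Lib.Helper28.HilbT13

/-! Coordinates in three variables relative to a permutation, staircase numbers and the region. -/

set_option autoImplicit false
set_option linter.unusedSectionVars false
universe u

namespace Groth.Agent.Lib.Helper72.HilbDual

open W4c1hilbpn MvPolynomial Groth.Agent.Lib.Helper68 Groth.Agent.Lib.Helper28.HilbT

variable (π : Equiv.Perm (Fin 3))

/-- The integer vector with coordinates `A, B, T` at the positions `π 0, π 1, π 2`. -/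
def pt (A B T : ℤ) : Fin 3 → ℤ := fun l => ![A, B, T] (π.symm l)

/-- The exponent vector with coordinates `a, b, t` at the positions `π 0, π 1, π 2`. -/
noncomputable def ex (a b t : ℕ) : Fin 3 →₀ ℕ :=
  Finsupp.equivFunOnFinite.symm fun l => ![a, b, t] (π.symm l)

@[simp] lemma pt_0 (A B T : ℤ) : pt π A B T (π 0) = A := by simp [pt]
@[simp] lemma pt_1 (A B T : ℤ) : pt π A B T (π 1) = B := by simp [pt]
@[simp] lemma pt_2 (A B T : ℤ) : pt π A B T (π 2) = T := by simp [pt]
@[simp] lemma ex_0 (a b t : ℕ) : ex π a b t (π 0) = a := by simp [ex]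
@[simp] lemma ex_1 (a b t : ℕ) : ex π a b t (π 1) = b := by simp [ex]
@[simp] lemma ex_2 (a b t : ℕ) : ex π a b t (π 2) = t := by simp [ex]

lemma cover (l : Fin 3) : l = π 0 ∨ l = π 1 ∨ l = π 2 := by
  obtain ⟨m, rfl⟩ := π.surjective l
  fin_cases m
  · exact Or.inl rfl
  · exact Or.inr (Or.inl rfl)
  · exact Or.inr (Or.inr rfl)

lemma ne01 : π 0 ≠ π 1 := fun h => by simpa using π.injective h
lemma ne02 : π 0 ≠ π 2 := fun h => by simpa using π.injective h
lemma ne12 : π 1 ≠ π 2 := fun h => by simpa using π.injective h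

lemma pt_ext {γ γ' : Fin 3 → ℤ} (h0 : γ (π 0) = γ' (π 0)) (h1 : γ (π 1) = γ' (π 1))
    (h2 : γ (π 2) = γ' (π 2)) : γ = γ' := by
  funext l
  rcases cover π l with rfl | rfl | rfl <;> assumption

lemma ex_ext {β β' : Fin 3 →₀ ℕ} (h0 : β (π 0) = β' (π 0)) (h1 : β (π 1) = β' (π 1))
    (h2 : β (π 2) = β' (π 2)) : β = β' := by
  ext l
  rcases cover π l with rfl | rfl | rfl <;> assumption

lemma eq_pt (γ : Fin 3 → ℤ) : γ = pt π (γ (π 0)) (γ (π 1)) (γ (π 2)) :=
  pt_ext π (by simp) (by simp) (by simp)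

lemma eq_ex (β : Fin 3 →₀ ℕ) : β = ex π (β (π 0)) (β (π 1)) (β (π 2)) :=
  ex_ext π (by simp) (by simp) (by simp)

lemma pt_add0 (A B T : ℤ) : pt π A B T + Pi.single (π 0) 1 = pt π (A + 1) B T :=
  pt_ext π (by simp) (by simp [(ne01 π).symm]) (by simp [(ne02 π).symm])

lemma pt_add1 (A B T : ℤ) : pt π A B T + Pi.single (π 1) 1 = pt π A (B + 1) T :=
  pt_ext π (by simp [ne01 π]) (by simp) (by simp [(ne12 π).symm])

lemma pt_add2 (A B T : ℤ) : pt π A B T + Pi.single (π 2) 1 = pt π A B (T + 1) :=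
  pt_ext π (by simp [ne02 π]) (by simp [ne12 π]) (by simp)

lemma adj0 (A B T : ℤ) : (stepGraph (Fin 3)).Adj (pt π A B T) (pt π (A + 1) B T) := by
  rw [← pt_add0]; exact stepGraph_adj_add_single _ _

lemma adj1 (A B T : ℤ) : (stepGraph (Fin 3)).Adj (pt π A B T) (pt π A (B + 1) T) := by
  rw [← pt_add1]; exact stepGraph_adj_add_single _ _

lemma adj2 (A B T : ℤ) : (stepGraph (Fin 3)).Adj (pt π A B T) (pt π A B (T + 1)) := by
  rw [← pt_add2]; exact stepGraph_adj_add_single _ _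

lemma ex_le {a b t a' b' t' : ℕ} (ha : a ≤ a') (hb : b ≤ b') (ht : t ≤ t') :
    ex π a b t ≤ ex π a' b' t' := by
  intro l
  rcases cover π l with rfl | rfl | rfl <;> simpa

lemma ex_injective2 {a b t t' : ℕ} (h : ex π a b t = ex π a b t') : t = t' := by
  have := DFunLike.congr_fun h (π 2)
  simpa using this

lemma toN_pt {A B T : ℤ} : toN (pt π A B T) = ex π A.toNat B.toNat T.toNat :=
  ex_ext π (by simp) (by simp) (by simp)

lemma up_ex (a b t : ℕ) (α : Fin 3 → ℤ) :
    up (ex π a b t) α = pt π (a + α (π 0)) (b + α (π 1)) (t + α (π 2)) :=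
  pt_ext π (by simp) (by simp) (by simp)

variable {k : Type u} [Field k] (I : Ideal (MvPolynomial (Fin 3) k))

/-- Staircase numbers relative to `π`. -/
noncomputable def st (a b : ℕ) : ℕ := Nat.card {t : ℕ // ex π a b t ∉ exps I}

lemma st_one (a b : ℕ) : st 1 I a b = stairZ I a b := rfl

variable {I} (hI : IsMonomial I) [Module.Finite k (MvPolynomial (Fin 3) k ⧸ I)]
include hI

lemma ex_notMem_iff (a b t : ℕ) : ex π a b t ∉ exps I ↔ t < st π I a b := by
  have hfinF := finite_not_mem_exps I hI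
  have hfin : {t : ℕ | ex π a b t ∉ exps I}.Finite := by
    apply Set.Finite.of_injOn (f := fun t => ex π a b t) (t := {β | β ∉ exps I})
    · intro t ht; exact ht
    · intro t _ t' _ h; exact ex_injective2 π h
    · exact hfinF
  have hdown : ∀ t ∈ {t : ℕ | ex π a b t ∉ exps I}, ∀ t' ≤ t, t' ∈ {t : ℕ | ex π a b t ∉ exps I} := by
    intro t ht t' hle hmem
    exact ht (exps_of_le hmem (ex_le π le_rfl le_rfl hle))
  exact mem_iff_lt_card_of_down _ hfin hdown t

lemma ex_mem_iff (a b t : ℕ) : ex π a b t ∈ exps I ↔ st π I a b ≤ t := by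
  rw [← not_lt, ← ex_notMem_iff π hI, not_not]

lemma st_anti {a b a' b' : ℕ} (ha : a ≤ a') (hb : b ≤ b') : st π I a' b' ≤ st π I a b := by
  have h1 : ex π a b (st π I a b) ∈ exps I := (ex_mem_iff π hI _ _ _).mpr le_rfl
  exact (ex_mem_iff π hI _ _ _).mp (exps_of_le h1 (ex_le π ha hb le_rfl))

lemma st_eq_zero {a b : ℕ} (h : bnd I hI ≤ a ∨ bnd I hI ≤ b) : st π I a b = 0 := by
  by_contra hne
  have h1 : ex π a b 0 ∉ exps I := (ex_notMem_iff π hI a b 0).mpr (Nat.pos_of_ne_zero hne)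
  have h2 := lt_bnd I hI h1 (π 0)
  have h3 := lt_bnd I hI h1 (π 1)
  simp only [ex_0, ex_1] at h2 h3
  omega

/-- Membership in the region, in coordinates. -/
lemma pt_mem_region_iff (α : Fin 3 → ℤ) (A B T : ℤ) :
    pt π A B T ∈ region I α ↔
      (α (π 0) ≤ A ∧ α (π 1) ≤ B ∧
        (st π I (A - α (π 0)).toNat (B - α (π 1)).toNat : ℤ) ≤ T - α (π 2)) ∧
      ¬ (0 ≤ A ∧ 0 ≤ B ∧ (st π I A.toNat B.toNat : ℤ) ≤ T) := by
  rw [mem_region]
  have e1 : (∃ β ∈ exps I, pt π A B T = up β α) ↔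
      (α (π 0) ≤ A ∧ α (π 1) ≤ B ∧
        (st π I (A - α (π 0)).toNat (B - α (π 1)).toNat : ℤ) ≤ T - α (π 2)) := by
    constructor
    · rintro ⟨β, hβ, h⟩
      have h0 := congrFun h (π 0)
      have h1 := congrFun h (π 1)
      have h2 := congrFun h (π 2)
      simp only [pt_0, pt_1, pt_2, up_apply] at h0 h1 h2
      rw [eq_ex π β, ex_mem_iff π hI] at hβ
      have e0 : (A - α (π 0)).toNat = β (π 0) := by omega
      have e1 : (B - α (π 1)).toNat = β (π 1) := by omega
      rw [e0, e1]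
      refine ⟨by omega, by omega, ?_⟩
      have : ((st π I (β (π 0)) (β (π 1)) : ℕ) : ℤ) ≤ (β (π 2) : ℤ) := by exact_mod_cast hβ
      omega
    · rintro ⟨h0, h1, h2⟩
      have h3 : α (π 2) ≤ T := by
        have : (0 : ℤ) ≤ (st π I (A - α (π 0)).toNat (B - α (π 1)).toNat : ℤ) := Int.natCast_nonneg _
        omega
      refine ⟨ex π (A - α (π 0)).toNat (B - α (π 1)).toNat (T - α (π 2)).toNat, ?_, ?_⟩
      · rw [ex_mem_iff π hI]
        have : ((st π I (A - α (π 0)).toNat (B - α (π 1)).toNat : ℕ) : ℤ) ≤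
            ((T - α (π 2)).toNat : ℤ) := by
          rw [Int.toNat_of_nonneg (by omega)]; exact h2
        exact_mod_cast this
      · rw [up_ex]
        apply pt_ext π <;> simp only [pt_0, pt_1, pt_2] <;> omega
  have e2 : ((∀ i, 0 ≤ pt π A B T i) ∧ toN (pt π A B T) ∈ exps I) ↔
      (0 ≤ A ∧ 0 ≤ B ∧ (st π I A.toNat B.toNat : ℤ) ≤ T) := by
    rw [toN_pt, ex_mem_iff π hI]
    constructor
    · rintro ⟨h, h'⟩
      have h0 := h (π 0)
      have h1 := h (π 1)
      have h2 := h (π 2)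
      simp only [pt_0, pt_1, pt_2] at h0 h1 h2
      refine ⟨h0, h1, ?_⟩
      have : ((st π I A.toNat B.toNat : ℕ) : ℤ) ≤ (T.toNat : ℤ) := by exact_mod_cast h'
      rw [Int.toNat_of_nonneg h2] at this
      exact this
    · rintro ⟨h0, h1, h2⟩
      have h3 : 0 ≤ T := le_trans (Int.natCast_nonneg _) h2
      refine ⟨fun l => ?_, ?_⟩
      · rcases cover π l with rfl | rfl | rfl <;> simpa
      · have : ((st π I A.toNat B.toNat : ℕ) : ℤ) ≤ (T.toNat : ℤ) := by
          rw [Int.toNat_of_nonneg h3]; exact h2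
        exact_mod_cast this
  rw [e1, e2]

end Groth.Agent.Lib.Helper72.HilbDual
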