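import Mathlib
import Groth.Agent.Lib.Helper72.HilbDualB
import Groth.Agent.Lib.Helper72.GridDualD
import Groth.Agent.Lib.Helper28.HilbT11

/-! Columns of the region; the graded pieces of degree `(i, j, -s)` as `ZB` of the grid
configuration. -/

set_option autoImplicit false
set_option linter.unusedSectionVars false
universe u

namespace Groth.Agent.Lib.Helper72.HilbDual

open W4c1hilbpn MvPolynomial Groth.Agent.Lib.Helper68 Groth.Agent.Lib.Helper28.HilbT
open Groth.Agent.Lib.Helper72.GridDual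

variable (π : Equiv.Perm (Fin 3))
variable {k : Type u} [Field k] {I : Ideal (MvPolynomial (Fin 3) k)}
variable (hI : IsMonomial I) [Module.Finite k (MvPolynomial (Fin 3) k ⧸ I)]

/-- The staircase data of `I` relative to `π`. -/
noncomputable def stair : Stair where
  b := st π I
  N := bnd I hI
  anti := fun ha hb => st_anti π hI ha hb
  van := fun h => st_eq_zero π hI h

@[simp] lemma stair_b (a b : ℕ) : (stair π hI).b a b = st π I a b := rfl

include hI

lemma region_convex (α : Fin 3 → ℤ) {A B T T' T'' : ℤ} (h : pt π A B T ∈ region I α)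
    (h'' : pt π A B T'' ∈ region I α) (h1 : T ≤ T') (h2 : T' ≤ T'') :
    pt π A B T' ∈ region I α := by
  rw [pt_mem_region_iff π hI] at h h'' ⊢
  refine ⟨⟨h.1.1, h.1.2.1, by omega⟩, ?_⟩
  rintro ⟨h3, h4, h5⟩
  exact h''.2 ⟨h3, h4, by omega⟩

lemma col_const_aux (α : Fin 3 → ℤ) {F : (Fin 3 → ℤ) → k} (hF : F ∈ LC3 I α) {A B T : ℤ}
    (h : pt π A B T ∈ region I α) :
    ∀ n : ℕ, pt π A B (T + n) ∈ region I α → F (pt π A B T) = F (pt π A B (T + n)) := by
  intro n
  induction n with
  | zero => intro _; simp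
  | succ n ih =>
    intro h'
    have hmid : pt π A B (T + n) ∈ region I α :=
      region_convex π hI α h h' (by omega) (by push_cast; omega)
    rw [ih hmid]
    have e : T + ((n + 1 : ℕ) : ℤ) = T + n + 1 := by push_cast; ring
    rw [e] at h' ⊢
    exact hF.2.1 _ _ hmid h' (adj2 π A B (T + n))

lemma col_const (α : Fin 3 → ℤ) {F : (Fin 3 → ℤ) → k} (hF : F ∈ LC3 I α) {A B T T' : ℤ}
    (h : pt π A B T ∈ region I α) (h' : pt π A B T' ∈ region I α) :
    F (pt π A B T) = F (pt π A B T') := by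
  rcases le_total T T' with hle | hle
  · obtain ⟨n, hn⟩ : ∃ n : ℕ, T' = T + n := ⟨(T' - T).toNat, by omega⟩
    rw [hn] at h' ⊢
    exact col_const_aux π hI α hF h n h'
  · obtain ⟨n, hn⟩ : ∃ n : ℕ, T = T' + n := ⟨(T - T').toNat, by omega⟩
    rw [hn] at h ⊢
    exact (col_const_aux π hI α hF h' n h).symm

/-- The degree `(i, j, -s)`. -/
def degS (i j s : ℕ) : Fin 3 → ℤ := pt π i j (-(s : ℤ))

lemma mem_region_S (i j s p q : ℕ) (T : ℤ) :
    pt π ((p : ℤ) + i) ((q : ℤ) + j) T ∈ region I (degS π i j s) ↔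
      (st π I p q : ℤ) - s ≤ T ∧ T < st π I (p + i) (q + j) := by
  rw [pt_mem_region_iff π hI]
  simp only [degS, pt_0, pt_1, pt_2, add_sub_cancel_right, Int.toNat_natCast]
  have e1 : ((p : ℤ) + i).toNat = p + i := by rw [← Nat.cast_add, Int.toNat_natCast]
  have e2 : ((q : ℤ) + j).toNat = q + j := by rw [← Nat.cast_add, Int.toNat_natCast]
  rw [e1, e2]
  constructor
  · rintro ⟨⟨-, -, h3⟩, h4⟩
    refine ⟨by omega, ?_⟩
    by_contra hcon
    exact h4 ⟨by positivity, by positivity, by omega⟩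
  · rintro ⟨h1, h2⟩
    refine ⟨⟨by omega, by omega, by omega⟩, ?_⟩
    rintro ⟨-, -, h5⟩
    omega

lemma region_S_bounds (i j s : ℕ) {A B T : ℤ} (h : pt π A B T ∈ region I (degS π i j s)) :
    (i : ℤ) ≤ A ∧ (j : ℤ) ≤ B := by
  rw [pt_mem_region_iff π hI] at h
  simp only [degS, pt_0, pt_1] at h
  exact ⟨h.1.1, h.1.2.1⟩

/-- The base point of the column over `u + (i, j)`. -/
noncomputable def baseS (i j s : ℕ) (u : ℕ × ℕ) : Fin 3 → ℤ :=
  pt π ((u.1 : ℤ) + i) ((u.2 : ℤ) + j) ((st π I u.1 u.2 : ℤ) - s)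

lemma baseS_mem_iff (i j s : ℕ) (u : ℕ × ℕ) :
    baseS π (I := I) i j s u ∈ region I (degS π i j s) ↔
      (st π I u.1 u.2 : ℤ) - s < st π I (u.1 + i) (u.2 + j) := by
  unfold baseS
  rw [mem_region_S π hI]
  constructor
  · exact fun h => h.2
  · exact fun h => ⟨le_rfl, h⟩

lemma toZB_mem (i j s : ℕ) (hs : 1 ≤ s) {F : (Fin 3 → ℤ) → k} (hF : F ∈ LC3 I (degS π i j s)) :
    (fun u => F (baseS π (I := I) i j s u)) ∈ ((stair π hI).cfg i j s).ZB (k := k) := by
  rw [Cfg.mem_ZB]
  refine ⟨?_, ?_, ?_⟩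
  · rintro ⟨p, q⟩ hu
    by_cases hmem : baseS π (I := I) i j s (p, q) ∈ region I (degS π i j s)
    · rcases hu with hu | hu
      · rw [Stair.mem_U _ hs, stair_b] at hu
        apply hF.2.2 _ hmem
        refine ⟨π 2, ?_⟩
        simp only [baseS, pt_2]
        omega
      · rw [Stair.mem_Mv _ hs, stair_b, stair_b] at hu
        rw [baseS_mem_iff π hI] at hmem
        simp only at hmem
        omega
    · exact hF.1 _ hmem
  · intro p q hU hMh
    rw [Stair.mem_U _ hs, stair_b] at hU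
    rw [Stair.mem_Mh _ hs, stair_b, stair_b] at hMh
    have hlt : (st π I p q : ℤ) - s < st π I (p + i + 1) (q + j) := by omega
    have ha1 : st π I (p + i + 1) (q + j) ≤ st π I (p + i) (q + j) :=
      st_anti π hI (Nat.le_succ _) le_rfl
    have ha2 : st π I (p + 1) q ≤ st π I p q := st_anti π hI (Nat.le_succ _) le_rfl
    have hb0 : baseS π (I := I) i j s (p, q) ∈ region I (degS π i j s) := by
      rw [baseS_mem_iff π hI]; simp only; omega
    have hX : pt π (((p + 1 : ℕ) : ℤ) + i) ((q : ℤ) + j) ((st π I p q : ℤ) - s) ∈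
        region I (degS π i j s) := by
      rw [mem_region_S π hI]
      rw [show p + 1 + i = p + i + 1 by omega]
      omega
    have hb1 : baseS π (I := I) i j s (p + 1, q) ∈ region I (degS π i j s) := by
      rw [baseS_mem_iff π hI]; simp only
      rw [show p + 1 + i = p + i + 1 by omega]
      omega
    change F (baseS π i j s (p + 1, q)) = F (baseS π i j s (p, q))
    have e1 : F (baseS π (I := I) i j s (p + 1, q)) =
        F (pt π (((p + 1 : ℕ) : ℤ) + i) ((q : ℤ) + j) ((st π I p q : ℤ) - s)) :=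
      col_const π hI _ hF hb1 hX
    rw [e1]
    symm
    have e2 : (((p + 1 : ℕ) : ℤ) + i) = (p : ℤ) + i + 1 := by push_cast; ring
    rw [e2] at hX ⊢
    exact hF.2.1 _ _ hb0 hX (adj0 π _ _ _)
  · intro p q hU hMt
    rw [Stair.mem_U _ hs, stair_b] at hU
    rw [Stair.mem_Mt _ hs, stair_b, stair_b] at hMt
    have hlt : (st π I p q : ℤ) - s < st π I (p + i) (q + j + 1) := by omega
    have ha1 : st π I (p + i) (q + j + 1) ≤ st π I (p + i) (q + j) :=
      st_anti π hI le_rfl (Nat.le_succ _)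
    have ha2 : st π I p (q + 1) ≤ st π I p q := st_anti π hI le_rfl (Nat.le_succ _)
    have hb0 : baseS π (I := I) i j s (p, q) ∈ region I (degS π i j s) := by
      rw [baseS_mem_iff π hI]; simp only; omega
    have hX : pt π ((p : ℤ) + i) (((q + 1 : ℕ) : ℤ) + j) ((st π I p q : ℤ) - s) ∈
        region I (degS π i j s) := by
      rw [mem_region_S π hI]
      rw [show q + 1 + j = q + j + 1 by omega]
      omega
    have hb1 : baseS π (I := I) i j s (p, q + 1) ∈ region I (degS π i j s) := by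
      rw [baseS_mem_iff π hI]; simp only
      rw [show q + 1 + j = q + j + 1 by omega]
      omega
    change F (baseS π i j s (p, q + 1)) = F (baseS π i j s (p, q))
    have e1 : F (baseS π (I := I) i j s (p, q + 1)) =
        F (pt π ((p : ℤ) + i) (((q + 1 : ℕ) : ℤ) + j) ((st π I p q : ℤ) - s)) :=
      col_const π hI _ hF hb1 hX
    rw [e1]
    symm
    have e2 : (((q + 1 : ℕ) : ℤ) + j) = (q : ℤ) + j + 1 := by push_cast; ring
    rw [e2] at hX ⊢
    exact hF.2.1 _ _ hb0 hX (adj1 π _ _ _)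

/-- The comparison map. -/
noncomputable def toZB (i j s : ℕ) (hs : 1 ≤ s) :
    LC3 I (degS π i j s) →ₗ[k] ((stair π hI).cfg i j s).ZB (k := k) where
  toFun F := ⟨fun u => F.1 (baseS π (I := I) i j s u), toZB_mem π hI i j s hs F.2⟩
  map_add' := fun _ _ => rfl
  map_smul' := fun _ _ => rfl

lemma toZB_injective (i j s : ℕ) (hs : 1 ≤ s) : Function.Injective (toZB π hI i j s hs) := by
  rw [injective_iff_map_eq_zero]
  rintro ⟨F, hF⟩ h0
  have h1 : ∀ u, F (baseS π (I := I) i j s u) = 0 := fun u => congrFun (congrArg Subtype.val h0) u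
  apply Subtype.ext
  funext γ
  change F γ = 0
  by_cases hγ : γ ∈ region I (degS π i j s)
  · rw [eq_pt π γ] at hγ ⊢
    obtain ⟨hA, hB⟩ := region_S_bounds π hI i j s hγ
    obtain ⟨p, hp⟩ : ∃ p : ℕ, γ (π 0) = (p : ℤ) + i := ⟨(γ (π 0) - i).toNat, by omega⟩
    obtain ⟨q, hq⟩ : ∃ q : ℕ, γ (π 1) = (q : ℤ) + j := ⟨(γ (π 1) - j).toNat, by omega⟩
    rw [hp, hq] at hγ ⊢
    have hγ' := (mem_region_S π hI i j s p q _).mp hγ
    have hb : baseS π (I := I) i j s (p, q) ∈ region I (degS π i j s) := by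
      rw [baseS_mem_iff π hI]; simp only; omega
    rw [col_const π hI _ hF hγ hb]
    exact h1 (p, q)
  · exact hF.1 γ hγ

lemma toZB_surjective (i j s : ℕ) (hs : 1 ≤ s) : Function.Surjective (toZB π hI i j s hs) := by
  classical
  rintro ⟨φ, hφ⟩
  have hφ' := (Cfg.mem_ZB _).mp hφ
  obtain ⟨hφ1, hφ2, hφ3⟩ := hφ'
  let F : (Fin 3 → ℤ) → k := fun γ =>
    if γ ∈ region I (degS π i j s) then φ ((γ (π 0) - i).toNat, (γ (π 1) - j).toNat) else 0
  have hFdef : ∀ γ, γ ∈ region I (degS π i j s) →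
      F γ = φ ((γ (π 0) - i).toNat, (γ (π 1) - j).toNat) := fun γ hγ => if_pos hγ
  have hnotU : ∀ p q : ℕ, ¬ (s ≤ st π I p q) → φ (p, q) = 0 := by
    intro p q h
    apply hφ1
    left
    rw [Stair.mem_U _ hs, stair_b]
    exact h
  have aux : ∀ (γ : Fin 3 → ℤ) (l : Fin 3), γ ∈ region I (degS π i j s) →
      γ + Pi.single l 1 ∈ region I (degS π i j s) → F γ = F (γ + Pi.single l 1) := by
    intro γ l hγ hγ'
    rw [hFdef _ hγ, hFdef _ hγ']
    rw [eq_pt π γ] at hγ hγ'
    obtain ⟨hA, hB⟩ := region_S_bounds π hI i j s hγ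
    obtain ⟨p, hp⟩ : ∃ p : ℕ, γ (π 0) = (p : ℤ) + i := ⟨(γ (π 0) - i).toNat, by omega⟩
    obtain ⟨q, hq⟩ : ∃ q : ℕ, γ (π 1) = (q : ℤ) + j := ⟨(γ (π 1) - j).toNat, by omega⟩
    rcases cover π l with rfl | rfl | rfl
    · rw [pt_add0] at hγ'
      simp only [Pi.add_apply, Pi.single_eq_same, Pi.single_eq_of_ne (ne01 π).symm, add_zero]
      rw [hp, hq] at hγ hγ' ⊢
      have e1 : ((p : ℤ) + i + 1) = ((p + 1 : ℕ) : ℤ) + i := by push_cast; ring
      rw [e1] at hγ'
      have h1 := (mem_region_S π hI i j s p q _).mp hγ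
      have h2 := (mem_region_S π hI i j s (p + 1) q _).mp hγ'
      have t1 : ((p : ℤ) + i - i).toNat = p := by omega
      have t2 : ((p : ℤ) + i + 1 - i).toNat = p + 1 := by omega
      have t3 : ((q : ℤ) + j - j).toNat = q := by omega
      rw [t1, t2, t3]
      by_cases hU : s ≤ st π I p q
      · symm
        apply hφ2 p q
        · rw [Stair.mem_U _ hs, stair_b]; exact hU
        · rw [Stair.mem_Mh _ hs, stair_b, stair_b]
          rw [show p + 1 + i = p + i + 1 by omega] at h2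
          omega
      · rw [hnotU p q hU, hnotU (p + 1) q]
        have := st_anti π hI (Nat.le_add_right p 1) (le_refl q)
        omega
    · rw [pt_add1] at hγ'
      simp only [Pi.add_apply, Pi.single_eq_same, Pi.single_eq_of_ne (ne01 π), add_zero]
      rw [hp, hq] at hγ hγ' ⊢
      have e1 : ((q : ℤ) + j + 1) = ((q + 1 : ℕ) : ℤ) + j := by push_cast; ring
      rw [e1] at hγ'
      have h1 := (mem_region_S π hI i j s p q _).mp hγ
      have h2 := (mem_region_S π hI i j s p (q + 1) _).mp hγ'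
      have t1 : ((p : ℤ) + i - i).toNat = p := by omega
      have t2 : ((q : ℤ) + j + 1 - j).toNat = q + 1 := by omega
      have t3 : ((q : ℤ) + j - j).toNat = q := by omega
      rw [t1, t2, t3]
      by_cases hU : s ≤ st π I p q
      · symm
        apply hφ3 p q
        · rw [Stair.mem_U _ hs, stair_b]; exact hU
        · rw [Stair.mem_Mt _ hs, stair_b, stair_b]
          rw [show q + 1 + j = q + j + 1 by omega] at h2
          omega
      · rw [hnotU p q hU, hnotU p (q + 1)]
        have := st_anti π hI (le_refl p) (Nat.le_add_right q 1)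
        omega
    · simp only [Pi.add_apply, Pi.single_eq_of_ne (ne02 π), Pi.single_eq_of_ne (ne12 π),
        add_zero]
  have hF : F ∈ LC3 I (degS π i j s) := by
    refine ⟨fun γ hγ => if_neg hγ, ?_, ?_⟩
    · intro γ γ' hγ hγ' hadj
      rw [stepGraph_adj_iff] at hadj
      obtain ⟨l, h | h⟩ := hadj
      · rw [h] at hγ' ⊢
        exact aux γ l hγ hγ'
      · rw [h] at hγ ⊢
        exact (aux γ' l hγ' hγ).symm
    · rintro γ hγ ⟨l, hl⟩
      rw [hFdef _ hγ]
      have hγ2 := hγ
      rw [eq_pt π γ] at hγ2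
      obtain ⟨hA, hB⟩ := region_S_bounds π hI i j s hγ2
      obtain ⟨p, hp⟩ : ∃ p : ℕ, γ (π 0) = (p : ℤ) + i := ⟨(γ (π 0) - i).toNat, by omega⟩
      obtain ⟨q, hq⟩ : ∃ q : ℕ, γ (π 1) = (q : ℤ) + j := ⟨(γ (π 1) - j).toNat, by omega⟩
      rw [hp, hq] at hγ2 ⊢
      have h1 := (mem_region_S π hI i j s p q _).mp hγ2
      have t1 : ((p : ℤ) + i - i).toNat = p := by omega
      have t3 : ((q : ℤ) + j - j).toNat = q := by omega
      rw [t1, t3]
      apply hnotU
      rcases cover π l with rfl | rfl | rfl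
      · omega
      · omega
      · omega
  refine ⟨⟨F, hF⟩, ?_⟩
  apply Subtype.ext
  funext u
  obtain ⟨p, q⟩ := u
  change F (baseS π i j s (p, q)) = φ (p, q)
  by_cases hb : baseS π (I := I) i j s (p, q) ∈ region I (degS π i j s)
  · rw [hFdef _ hb]
    simp only [baseS, pt_0, pt_1]
    have t1 : ((p : ℤ) + i - i).toNat = p := by omega
    have t3 : ((q : ℤ) + j - j).toNat = q := by omega
    rw [t1, t3]
  · have : F (baseS π i j s (p, q)) = 0 := if_neg hb
    rw [this]
    rw [baseS_mem_iff π hI] at hb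
    simp only at hb
    symm
    by_cases hU : s ≤ st π I p q
    · apply hφ1
      right
      rw [Stair.mem_Mv _ hs, stair_b, stair_b]
      omega
    · exact hnotU p q hU

/-- Degree `(i, j, -s)` pieces are `ZB` of the grid configuration. -/
theorem finrank_LC3_S (i j s : ℕ) (hs : 1 ≤ s) :
    Module.finrank k (LC3 I (degS π i j s)) =
      Module.finrank k (((stair π hI).cfg i j s).ZB (k := k)) :=
  (LinearEquiv.ofBijective (toZB π hI i j s hs)
    ⟨toZB_injective π hI i j s hs, toZB_surjective π hI i j s hs⟩).finrank_eq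

end Groth.Agent.Lib.Helper72.HilbDual
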