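import Mathlib
import Groth.Agent.Lib.Helper72.HilbDualC

/-! The graded pieces of degree `(-i-1, -j-1, c)` as `Y` of the grid configuration at level
`c + 1`. -/

set_option autoImplicit false
set_option linter.unusedSectionVars false
universe u

namespace Groth.Agent.Lib.Helper72.HilbDual

open W4c1hilbpn MvPolynomial Groth.Agent.Lib.Helper68 Groth.Agent.Lib.Helper28.HilbT
open Groth.Agent.Lib.Helper72.GridDual

variable (π : Equiv.Perm (Fin 3))
variable {k : Type u} [Field k] {I : Ideal (MvPolynomial (Fin 3) k)}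
variable (hI : IsMonomial I) [Module.Finite k (MvPolynomial (Fin 3) k ⧸ I)]

/-- The degree `(-i-1, -j-1, c)`. -/
def degC (i j c : ℕ) : Fin 3 → ℤ := pt π (-(i : ℤ) - 1) (-(j : ℤ) - 1) (c : ℤ)

include hI

lemma mem_region_C (i j c p q : ℕ) (T : ℤ) :
    pt π (p : ℤ) (q : ℤ) T ∈ region I (degC π i j c) ↔
      (c : ℤ) + st π I (p + i + 1) (q + j + 1) ≤ T ∧ T < st π I p q := by
  rw [pt_mem_region_iff π hI]
  simp only [degC, pt_0, pt_1, pt_2, Int.toNat_natCast]
  have e1 : ((p : ℤ) - (-(i : ℤ) - 1)).toNat = p + i + 1 := by omega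
  have e2 : ((q : ℤ) - (-(j : ℤ) - 1)).toNat = q + j + 1 := by omega
  rw [e1, e2]
  constructor
  · rintro ⟨⟨-, -, h3⟩, h4⟩
    refine ⟨by omega, ?_⟩
    by_contra hcon
    exact h4 ⟨by positivity, by positivity, by omega⟩
  · rintro ⟨h1, h2⟩
    refine ⟨⟨by omega, by omega, by omega⟩, ?_⟩
    rintro ⟨-, -, h5⟩
    omega

lemma mem_region_C_neg0 (i j c q : ℕ) (T : ℤ) :
    pt π (-1) (q : ℤ) T ∈ region I (degC π i j c) ↔
      (c : ℤ) + st π I i (q + j + 1) ≤ T := by
  rw [pt_mem_region_iff π hI]
  simp only [degC, pt_0, pt_1, pt_2]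
  have e1 : ((-1 : ℤ) - (-(i : ℤ) - 1)).toNat = i := by omega
  have e2 : ((q : ℤ) - (-(j : ℤ) - 1)).toNat = q + j + 1 := by omega
  rw [e1, e2]
  constructor
  · rintro ⟨⟨-, -, h3⟩, -⟩
    omega
  · intro h1
    refine ⟨⟨by omega, by omega, by omega⟩, ?_⟩
    rintro ⟨h5, -, -⟩
    omega

lemma mem_region_C_neg1 (i j c p : ℕ) (T : ℤ) :
    pt π (p : ℤ) (-1) T ∈ region I (degC π i j c) ↔
      (c : ℤ) + st π I (p + i + 1) j ≤ T := by
  rw [pt_mem_region_iff π hI]
  simp only [degC, pt_0, pt_1, pt_2]
  have e1 : ((p : ℤ) - (-(i : ℤ) - 1)).toNat = p + i + 1 := by omega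
  have e2 : ((-1 : ℤ) - (-(j : ℤ) - 1)).toNat = j := by omega
  rw [e1, e2]
  constructor
  · rintro ⟨⟨-, -, h3⟩, -⟩
    omega
  · intro h1
    refine ⟨⟨by omega, by omega, by omega⟩, ?_⟩
    rintro ⟨-, h5, -⟩
    omega

lemma region_C_T_nonneg (i j c : ℕ) {A B T : ℤ} (h : pt π A B T ∈ region I (degC π i j c)) :
    0 ≤ T := by
  rw [pt_mem_region_iff π hI] at h
  simp only [degC, pt_2] at h
  have := h.1.2.2
  have h0 : (0 : ℤ) ≤ (st π I (A - degC π i j c (π 0)).toNat (B - degC π i j c (π 1)).toNat : ℤ) :=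
    Int.natCast_nonneg _
  simp only [degC, pt_0, pt_1] at h0
  omega

/-- The base point of the column over `u`. -/
noncomputable def baseC (i j c : ℕ) (u : ℕ × ℕ) : Fin 3 → ℤ :=
  pt π (u.1 : ℤ) (u.2 : ℤ) ((c : ℤ) + st π I (u.1 + i + 1) (u.2 + j + 1))

lemma baseC_mem_iff (i j c : ℕ) (u : ℕ × ℕ) :
    baseC π (I := I) i j c u ∈ region I (degC π i j c) ↔
      (c : ℤ) + st π I (u.1 + i + 1) (u.2 + j + 1) < st π I u.1 u.2 := by
  unfold baseC
  rw [mem_region_C π hI]
  constructor
  · exact fun h => h.2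
  · exact fun h => ⟨le_rfl, h⟩

lemma toY_mem (i j c : ℕ) {F : (Fin 3 → ℤ) → k} (hF : F ∈ LC3 I (degC π i j c)) :
    (fun u => F (baseC π (I := I) i j c u)) ∈ ((stair π hI).cfg i j (c + 1)).Y (k := k) := by
  have hs : 1 ≤ c + 1 := by omega
  rw [Cfg.mem_Y]
  refine ⟨?_, ?_, ?_⟩
  · rintro ⟨p, q⟩ hu
    apply hF.1
    intro hmem
    apply hu
    rw [Stair.mem_Ms _ hs, stair_b, stair_b]
    rw [baseC_mem_iff π hI] at hmem
    simp only at hmem
    omega
  · intro p q hMh
    rw [Stair.mem_Mh _ hs, stair_b, stair_b] at hMh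
    have ha1 : st π I (p + i + 1) (q + j + 1) ≤ st π I (p + i + 1) (q + j) :=
      st_anti π hI le_rfl (Nat.le_add_right _ 1)
    have hX : pt π (p : ℤ) (q : ℤ) ((c : ℤ) + st π I (p + i + 1) (q + j)) ∈
        region I (degC π i j c) := by
      rw [mem_region_C π hI]; omega
    have hb : baseC π (I := I) i j c (p, q) ∈ region I (degC π i j c) := by
      rw [baseC_mem_iff π hI]; simp only; omega
    change F (baseC π i j c (p, q)) = _
    have e1 : F (baseC π (I := I) i j c (p, q)) =
        F (pt π (p : ℤ) (q : ℤ) ((c : ℤ) + st π I (p + i + 1) (q + j))) :=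
      col_const π hI _ hF hb hX
    rw [e1]
    by_cases hq : q = 0
    · rw [if_pos hq]
      subst hq
      have hX' : pt π (p : ℤ) (-1) ((c : ℤ) + st π I (p + i + 1) (0 + j)) ∈
          region I (degC π i j c) := by
        rw [mem_region_C_neg1 π hI]; simp
      have h0 : F (pt π (p : ℤ) (-1) ((c : ℤ) + st π I (p + i + 1) (0 + j))) = 0 :=
        hF.2.2 _ hX' ⟨π 1, by simp⟩
      rw [← h0]
      symm
      have := hF.2.1 _ _ hX' (by
        have e : ((-1 : ℤ) + 1) = ((0 : ℕ) : ℤ) := by simp
        rw [e]; exact hX) (adj1 π _ _ _)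
      rw [this]
      simp
    · rw [if_neg hq]
      obtain ⟨q', rfl⟩ : ∃ q', q = q' + 1 := ⟨q - 1, by omega⟩
      simp only [Nat.add_sub_cancel]
      change _ = F (baseC π i j c (p, q'))
      have hb' : baseC π (I := I) i j c (p, q') ∈ region I (degC π i j c) := by
        rw [baseC_mem_iff π hI]; simp only
        have := st_anti π hI (le_refl p) (Nat.le_add_right q' 1)
        rw [show q' + j + 1 = q' + 1 + j by omega]
        omega
      have e2 : baseC π (I := I) i j c (p, q') =
          pt π (p : ℤ) (q' : ℤ) ((c : ℤ) + st π I (p + i + 1) (q' + 1 + j)) := by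
        unfold baseC
        simp only
        rw [show q' + j + 1 = q' + 1 + j by omega]
      rw [e2] at hb' ⊢
      symm
      have e3 : ((q' + 1 : ℕ) : ℤ) = (q' : ℤ) + 1 := by push_cast; ring
      rw [e3] at hX ⊢
      exact hF.2.1 _ _ hb' hX (adj1 π _ _ _)
  · intro p q hMt
    rw [Stair.mem_Mt _ hs, stair_b, stair_b] at hMt
    have ha1 : st π I (p + i + 1) (q + j + 1) ≤ st π I (p + i) (q + j + 1) :=
      st_anti π hI (Nat.le_add_right _ 1) le_rfl
    have hX : pt π (p : ℤ) (q : ℤ) ((c : ℤ) + st π I (p + i) (q + j + 1)) ∈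
        region I (degC π i j c) := by
      rw [mem_region_C π hI]; omega
    have hb : baseC π (I := I) i j c (p, q) ∈ region I (degC π i j c) := by
      rw [baseC_mem_iff π hI]; simp only; omega
    change F (baseC π i j c (p, q)) = _
    have e1 : F (baseC π (I := I) i j c (p, q)) =
        F (pt π (p : ℤ) (q : ℤ) ((c : ℤ) + st π I (p + i) (q + j + 1))) :=
      col_const π hI _ hF hb hX
    rw [e1]
    by_cases hp : p = 0
    · rw [if_pos hp]
      subst hp
      have hX' : pt π (-1) (q : ℤ) ((c : ℤ) + st π I (0 + i) (q + j + 1)) ∈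
          region I (degC π i j c) := by
        rw [mem_region_C_neg0 π hI]; simp
      have h0 : F (pt π (-1) (q : ℤ) ((c : ℤ) + st π I (0 + i) (q + j + 1))) = 0 :=
        hF.2.2 _ hX' ⟨π 0, by simp⟩
      rw [← h0]
      symm
      have := hF.2.1 _ _ hX' (by
        have e : ((-1 : ℤ) + 1) = ((0 : ℕ) : ℤ) := by simp
        rw [e]; exact hX) (adj0 π _ _ _)
      rw [this]
      simp
    · rw [if_neg hp]
      obtain ⟨p', rfl⟩ : ∃ p', p = p' + 1 := ⟨p - 1, by omega⟩
      simp only [Nat.add_sub_cancel]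
      change _ = F (baseC π i j c (p', q))
      have hb' : baseC π (I := I) i j c (p', q) ∈ region I (degC π i j c) := by
        rw [baseC_mem_iff π hI]; simp only
        have := st_anti π hI (Nat.le_add_right p' 1) (le_refl q)
        rw [show p' + i + 1 = p' + 1 + i by omega]
        omega
      have e2 : baseC π (I := I) i j c (p', q) =
          pt π (p' : ℤ) (q : ℤ) ((c : ℤ) + st π I (p' + 1 + i) (q + j + 1)) := by
        unfold baseC
        simp only
        rw [show p' + i + 1 = p' + 1 + i by omega]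
      rw [e2] at hb' ⊢
      symm
      have e3 : ((p' + 1 : ℕ) : ℤ) = (p' : ℤ) + 1 := by push_cast; ring
      rw [e3] at hX ⊢
      exact hF.2.1 _ _ hb' hX (adj0 π _ _ _)

/-- The comparison map. -/
noncomputable def toY (i j c : ℕ) :
    LC3 I (degC π i j c) →ₗ[k] ((stair π hI).cfg i j (c + 1)).Y (k := k) where
  toFun F := ⟨fun u => F.1 (baseC π (I := I) i j c u), toY_mem π hI i j c F.2⟩
  map_add' := fun _ _ => rfl
  map_smul' := fun _ _ => rfl

lemma toY_injective (i j c : ℕ) : Function.Injective (toY π hI i j c) := by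
  rw [injective_iff_map_eq_zero]
  rintro ⟨F, hF⟩ h0
  have h1 : ∀ u, F (baseC π (I := I) i j c u) = 0 := fun u => congrFun (congrArg Subtype.val h0) u
  apply Subtype.ext
  funext γ
  change F γ = 0
  by_cases hγ : γ ∈ region I (degC π i j c)
  · by_cases hnn : ∀ l, 0 ≤ γ l
    · rw [eq_pt π γ] at hγ ⊢
      obtain ⟨p, hp⟩ : ∃ p : ℕ, γ (π 0) = (p : ℤ) := ⟨(γ (π 0)).toNat, by have := hnn (π 0); omega⟩
      obtain ⟨q, hq⟩ : ∃ q : ℕ, γ (π 1) = (q : ℤ) := ⟨(γ (π 1)).toNat, by have := hnn (π 1); omega⟩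
      rw [hp, hq] at hγ ⊢
      have hγ' := (mem_region_C π hI i j c p q _).mp hγ
      have hb : baseC π (I := I) i j c (p, q) ∈ region I (degC π i j c) := by
        rw [baseC_mem_iff π hI]; simp only; omega
      rw [col_const π hI _ hF hγ hb]
      exact h1 (p, q)
    · push Not at hnn
      exact hF.2.2 γ hγ hnn
  · exact hF.1 γ hγ

lemma toY_surjective (i j c : ℕ) : Function.Surjective (toY π hI i j c) := by
  classical
  have hs : 1 ≤ c + 1 := by omega
  rintro ⟨g, hg⟩
  obtain ⟨hg1, hg2, hg3⟩ := (Cfg.mem_Y _).mp hg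
  let F : (Fin 3 → ℤ) → k := fun γ =>
    if γ ∈ region I (degC π i j c) ∧ (∀ l, 0 ≤ γ l) then g ((γ (π 0)).toNat, (γ (π 1)).toNat)
    else 0
  have hFpos : ∀ γ, γ ∈ region I (degC π i j c) → (∀ l, 0 ≤ γ l) →
      F γ = g ((γ (π 0)).toNat, (γ (π 1)).toNat) := fun γ h1 h2 => if_pos ⟨h1, h2⟩
  have hFneg : ∀ γ, (∃ l, γ l < 0) → F γ = 0 := by
    rintro γ ⟨l, hl⟩
    apply if_neg
    rintro ⟨-, h⟩
    exact absurd (h l) (not_le.mpr hl)
  have aux : ∀ (γ : Fin 3 → ℤ) (l : Fin 3), γ ∈ region I (degC π i j c) →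
      γ + Pi.single l 1 ∈ region I (degC π i j c) → F γ = F (γ + Pi.single l 1) := by
    intro γ l hγ hγ'
    by_cases hnn' : ∀ m, 0 ≤ (γ + Pi.single l 1 : Fin 3 → ℤ) m
    · by_cases hnn : ∀ m, 0 ≤ γ m
      · -- both nonnegative
        rw [hFpos _ hγ hnn, hFpos _ hγ' hnn']
        rw [eq_pt π γ] at hγ hγ'
        obtain ⟨p, hp⟩ : ∃ p : ℕ, γ (π 0) = (p : ℤ) :=
          ⟨(γ (π 0)).toNat, by have := hnn (π 0); omega⟩
        obtain ⟨q, hq⟩ : ∃ q : ℕ, γ (π 1) = (q : ℤ) :=
          ⟨(γ (π 1)).toNat, by have := hnn (π 1); omega⟩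
        rcases cover π l with rfl | rfl | rfl
        · rw [pt_add0] at hγ'
          simp only [Pi.add_apply, Pi.single_eq_same, Pi.single_eq_of_ne (ne01 π).symm, add_zero]
          rw [hp, hq] at hγ hγ' ⊢
          have e1 : ((p : ℤ) + 1) = ((p + 1 : ℕ) : ℤ) := by push_cast; ring
          rw [e1] at hγ' ⊢
          have h1 := (mem_region_C π hI i j c p q _).mp hγ
          have h2 := (mem_region_C π hI i j c (p + 1) q _).mp hγ'
          simp only [Int.toNat_natCast]
          have hmem : (p + 1, q) ∈ ((stair π hI).cfg i j (c + 1)).Mt := by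
            rw [Stair.mem_Mt _ hs, stair_b, stair_b]
            rw [show p + 1 + i = p + i + 1 by omega]
            omega
          have := hg3 (p + 1) q hmem
          rw [if_neg (by omega)] at this
          rw [this]
          simp
        · rw [pt_add1] at hγ'
          simp only [Pi.add_apply, Pi.single_eq_same, Pi.single_eq_of_ne (ne01 π), add_zero]
          rw [hp, hq] at hγ hγ' ⊢
          have e1 : ((q : ℤ) + 1) = ((q + 1 : ℕ) : ℤ) := by push_cast; ring
          rw [e1] at hγ' ⊢
          have h1 := (mem_region_C π hI i j c p q _).mp hγ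
          have h2 := (mem_region_C π hI i j c p (q + 1) _).mp hγ'
          simp only [Int.toNat_natCast]
          have hmem : (p, q + 1) ∈ ((stair π hI).cfg i j (c + 1)).Mh := by
            rw [Stair.mem_Mh _ hs, stair_b, stair_b]
            rw [show q + 1 + j = q + j + 1 by omega]
            omega
          have := hg2 p (q + 1) hmem
          rw [if_neg (by omega)] at this
          rw [this]
          simp
        · simp only [Pi.add_apply, Pi.single_eq_of_ne (ne02 π), Pi.single_eq_of_ne (ne12 π),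
            add_zero]
      · -- γ has a negative coordinate, γ' is nonnegative
        push Not at hnn
        rw [hFneg γ hnn, hFpos _ hγ' hnn']
        obtain ⟨m, hm⟩ := hnn
        have hml : m = l := by
          by_contra hne
          have := hnn' m
          simp only [Pi.add_apply, Pi.single_eq_of_ne hne, add_zero] at this
          omega
        subst hml
        have hm1 : γ m = -1 := by
          have := hnn' m
          simp only [Pi.add_apply, Pi.single_eq_same] at this
          omega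
        have hT := region_C_T_nonneg π hI i j c (by rw [← eq_pt π γ]; exact hγ)
        rw [eq_pt π γ] at hγ hγ'
        rcases cover π m with rfl | rfl | rfl
        · obtain ⟨q, hq⟩ : ∃ q : ℕ, γ (π 1) = (q : ℤ) := by
            have := hnn' (π 1)
            simp only [Pi.add_apply, Pi.single_eq_of_ne (ne01 π).symm, add_zero] at this
            exact ⟨(γ (π 1)).toNat, by omega⟩
          rw [pt_add0] at hγ'
          simp only [Pi.add_apply, Pi.single_eq_same, Pi.single_eq_of_ne (ne01 π).symm, add_zero]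
          rw [hm1, hq] at hγ hγ' ⊢
          have e : ((-1 : ℤ) + 1) = ((0 : ℕ) : ℤ) := by simp
          rw [e] at hγ' ⊢
          have h1 := (mem_region_C_neg0 π hI i j c q _).mp hγ
          have h2 := (mem_region_C π hI i j c 0 q _).mp hγ'
          simp only [Int.toNat_natCast]
          have hmem : (0, q) ∈ ((stair π hI).cfg i j (c + 1)).Mt := by
            rw [Stair.mem_Mt _ hs, stair_b, stair_b]
            simp only [zero_add] at h2 ⊢
            omega
          have := hg3 0 q hmem
          rw [if_pos rfl] at this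
          exact this.symm
        · obtain ⟨p, hp⟩ : ∃ p : ℕ, γ (π 0) = (p : ℤ) := by
            have := hnn' (π 0)
            simp only [Pi.add_apply, Pi.single_eq_of_ne (ne01 π), add_zero] at this
            exact ⟨(γ (π 0)).toNat, by omega⟩
          rw [pt_add1] at hγ'
          simp only [Pi.add_apply, Pi.single_eq_same, Pi.single_eq_of_ne (ne01 π), add_zero]
          rw [hm1, hp] at hγ hγ' ⊢
          have e : ((-1 : ℤ) + 1) = ((0 : ℕ) : ℤ) := by simp
          rw [e] at hγ' ⊢
          have h1 := (mem_region_C_neg1 π hI i j c p _).mp hγ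
          have h2 := (mem_region_C π hI i j c p 0 _).mp hγ'
          simp only [Int.toNat_natCast]
          have hmem : (p, 0) ∈ ((stair π hI).cfg i j (c + 1)).Mh := by
            rw [Stair.mem_Mh _ hs, stair_b, stair_b]
            simp only [zero_add] at h2 ⊢
            omega
          have := hg2 p 0 hmem
          rw [if_pos rfl] at this
          exact this.symm
        · omega
    · -- γ' has a negative coordinate, hence so does γ
      push Not at hnn'
      rw [hFneg _ hnn']
      apply hFneg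
      obtain ⟨m, hm⟩ := hnn'
      refine ⟨m, ?_⟩
      by_cases hml : m = l
      · subst hml
        simp only [Pi.add_apply, Pi.single_eq_same] at hm
        omega
      · simpa only [Pi.add_apply, Pi.single_eq_of_ne hml, add_zero] using hm
  have hF : F ∈ LC3 I (degC π i j c) := by
    refine ⟨fun γ hγ => if_neg (fun h => hγ h.1), ?_, fun γ _ hneg => hFneg γ hneg⟩
    intro γ γ' hγ hγ' hadj
    rw [stepGraph_adj_iff] at hadj
    obtain ⟨l, h | h⟩ := hadj
    · rw [h] at hγ' ⊢
      exact aux γ l hγ hγ'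
    · rw [h] at hγ ⊢
      exact (aux γ' l hγ' hγ).symm
  refine ⟨⟨F, hF⟩, ?_⟩
  apply Subtype.ext
  funext u
  obtain ⟨p, q⟩ := u
  change F (baseC π i j c (p, q)) = g (p, q)
  by_cases hb : baseC π (I := I) i j c (p, q) ∈ region I (degC π i j c)
  · rw [hFpos _ hb]
    · simp only [baseC, pt_0, pt_1, Int.toNat_natCast]
    · intro l
      rcases cover π l with rfl | rfl | rfl
      · simp [baseC]
      · simp [baseC]
      · simp only [baseC, pt_2]; positivity
  · have : F (baseC π i j c (p, q)) = 0 := if_neg (fun h => hb h.1)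
    rw [this]
    symm
    apply hg1
    intro hmem
    apply hb
    rw [Stair.mem_Ms _ hs, stair_b, stair_b] at hmem
    rw [baseC_mem_iff π hI]
    simp only
    omega

/-- Degree `(-i-1, -j-1, c)` pieces are `Y` of the grid configuration at level `c + 1`. -/
theorem finrank_LC3_C (i j c : ℕ) :
    Module.finrank k (LC3 I (degC π i j c)) =
      Module.finrank k (((stair π hI).cfg i j (c + 1)).Y (k := k)) :=
  (LinearEquiv.ofBijective (toY π hI i j c)
    ⟨toY_injective π hI i j c, toY_surjective π hI i j c⟩).finrank_eq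

end Groth.Agent.Lib.Helper72.HilbDual
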