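import Mathlib
import Groth.Agent.Lib.Helper28.HilbT15

/-! Independence of the graded pieces of `T(I)` and dimensions of spans of pieces. -/

set_option autoImplicit false
set_option linter.unusedSectionVars false
universe u

namespace Groth.Agent.Lib.Helper72.HilbDual

open W4c1hilbpn MvPolynomial Groth.Agent.Lib.Helper68 Groth.Agent.Lib.Helper28.HilbT

variable {σ : Type*} [Fintype σ] [DecidableEq σ] {k : Type u} [Field k]
variable (I : Ideal (MvPolynomial σ k)) (hI : IsMonomial I)

lemma proj_add (γ : σ → ℤ) (y y' : MvPolynomial σ k ⧸ I) :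
    proj I hI γ (y + y') = proj I hI γ y + proj I hI γ y' := by
  by_cases hnn : ∀ i, 0 ≤ γ i
  · rw [proj_of_nonneg I hI γ hnn, proj_of_nonneg I hI γ hnn, proj_of_nonneg I hI γ hnn, map_add,
      add_smul]
  · push Not at hnn
    rw [proj_of_neg I hI γ hnn, proj_of_neg I hI γ hnn, proj_of_neg I hI γ hnn, add_zero]

lemma proj_smul (γ : σ → ℤ) (a : k) (y : MvPolynomial σ k ⧸ I) :
    proj I hI γ (a • y) = a • proj I hI γ y := by
  by_cases hnn : ∀ i, 0 ≤ γ i
  · rw [proj_of_nonneg I hI γ hnn, proj_of_nonneg I hI γ hnn, map_smul, smul_eq_mul, mul_smul]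
  · push Not at hnn
    rw [proj_of_neg I hI γ hnn, proj_of_neg I hI γ hnn, smul_zero]

/-- The homogeneous component, as a `k`-linear endomorphism of `T(I)`. -/
noncomputable def compL (α : σ → ℤ) : Tgt I →ₗ[k] Tgt I where
  toFun φ := comp I hI φ α
  map_add' := by
    intro φ ψ
    apply tgt_ext hI
    intro β hβ
    rw [LinearMap.add_apply, comp_monomial, comp_monomial, comp_monomial, LinearMap.add_apply,
      proj_add]
  map_smul' := by
    intro a φ
    apply tgt_ext hI
    intro β hβ
    rw [LinearMap.smul_apply, comp_monomial, comp_monomial, LinearMap.smul_apply, proj_smul]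
    rfl

lemma compL_of_mem {α : σ → ℤ} {φ : Tgt I} (hφ : φ ∈ tPiece I α) : compL I hI α φ = φ := by
  apply tgt_ext hI
  intro β hβ
  change comp I hI φ α ⟨monomial β 1, hβ⟩ = _
  rw [comp_monomial]
  by_cases hnn : ∀ i, 0 ≤ up β α i
  · obtain ⟨c, hc⟩ := Submodule.mem_span_singleton.mp ((hφ β hβ).1 hnn)
    rw [← hc, proj_smul]
    congr 1
    by_cases hE : shift β α ∈ exps I
    · rw [(mk_monomial_eq_zero_iff _).mpr hE]
      exact proj_of_mem I hI _ (by rw [← shift_eq]; exact hE) _
    · rw [proj_of_nonneg I hI _ hnn, ← shift_eq, coordT_mk_of_notMem I hI _ hE, coeff_monomial,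
        if_pos rfl, one_smul]
  · push Not at hnn
    rw [proj_of_neg I hI _ hnn, (hφ β hβ).2 hnn]

lemma compL_of_mem_ne {α α' : σ → ℤ} (hne : α ≠ α') {φ : Tgt I} (hφ : φ ∈ tPiece I α') :
    compL I hI α φ = 0 := by
  apply tgt_ext hI
  intro β hβ
  change comp I hI φ α ⟨monomial β 1, hβ⟩ = _
  rw [comp_monomial, LinearMap.zero_apply]
  by_cases hnn' : ∀ i, 0 ≤ up β α' i
  · obtain ⟨c, hc⟩ := Submodule.mem_span_singleton.mp ((hφ β hβ).1 hnn')
    rw [← hc, proj_smul]
    by_cases hnn : ∀ i, 0 ≤ up β α i
    · by_cases hE : toN (up β α) ∈ exps I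
      · rw [proj_of_mem I hI _ hE, smul_zero]
      · rw [proj_of_nonneg I hI _ hnn, coordT_mk_of_notMem I hI _ hE, coeff_monomial, if_neg,
          zero_smul, smul_zero]
        rw [shift_eq]
        intro h
        have h1 := toN_injOn hnn' hnn h
        apply hne
        funext i
        have := congrFun h1 i
        simp only [up_apply] at this
        omega
    · push Not at hnn
      rw [proj_of_neg I hI _ hnn, smul_zero]
  · push Not at hnn'
    rw [(hφ β hβ).2 hnn']
    by_cases hnn : ∀ i, 0 ≤ up β α i
    · rw [proj_of_nonneg I hI _ hnn, map_zero, zero_smul]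
    · push Not at hnn
      rw [proj_of_neg I hI _ hnn]

include hI in
/-- The graded pieces are independent. -/
theorem iSupIndep_tPiece : iSupIndep (fun α : σ → ℤ => tPiece I α) := by
  intro α
  rw [Submodule.disjoint_def]
  intro φ h1 h2
  have h3 : (⨆ (α' : σ → ℤ) (_ : α' ≠ α), tPiece I α') ≤ LinearMap.ker (compL I hI α) := by
    apply iSup₂_le
    intro α' hne ψ hψ
    rw [LinearMap.mem_ker]
    exact compL_of_mem_ne I hI (Ne.symm hne) hψ
  have h4 := h3 h2
  rw [LinearMap.mem_ker, compL_of_mem I hI h1] at h4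
  exact h4

variable [Module.Finite k (MvPolynomial σ k ⧸ I)]

include hI in
/-- Dimension of a finite span of pieces. -/
theorem finrank_finset_sup (A : Finset (σ → ℤ)) :
    Module.finrank k ↥(A.sup (fun α => tPiece I α)) = ∑ α ∈ A, Module.finrank k (tPiece I α) := by
  classical
  induction A using Finset.induction_on with
  | empty => rw [Finset.sup_empty, finrank_bot, Finset.sum_empty]
  | insert a A ha ih =>
    rw [Finset.sup_insert, Finset.sum_insert ha, ← ih]
    have hfd : FiniteDimensional k (tPiece I a) := finiteDimensional_tPiece hI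
    have hfd2 : FiniteDimensional k ↥(A.sup (fun α => tPiece I α)) := by
      have : ∀ α, FiniteDimensional k (tPiece I α) := fun α => finiteDimensional_tPiece hI
      exact Submodule.finiteDimensional_finset_sup A _
    have hdisj : tPiece I a ⊓ A.sup (fun α => tPiece I α) = ⊥ := by
      have h1 := iSupIndep_tPiece I hI a
      have h2 : A.sup (fun α => tPiece I α) ≤ ⨆ (α' : σ → ℤ) (_ : α' ≠ a), tPiece I α' := by
        apply Finset.sup_le
        intro α hα
        exact le_iSup₂_of_le α (fun h => ha (h ▸ hα)) le_rfl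
      exact (h1.mono_right h2).eq_bot
    have := Submodule.finrank_sup_add_finrank_inf_eq (tPiece I a) (A.sup (fun α => tPiece I α))
    rw [hdisj, finrank_bot, add_zero] at this
    exact this

include hI in
/-- Dimension of the span of the pieces with degree satisfying `P`, when the non-zero ones are
listed by a finite set. -/
theorem finrank_iSup_subtype (P : (σ → ℤ) → Prop) (A : Finset (σ → ℤ)) (hA : ∀ α ∈ A, P α)
    (hvan : ∀ α, P α → α ∉ A → tPiece I α = ⊥) :
    Module.finrank k ↥(⨆ α : {α : σ → ℤ // P α}, tPiece I α.1) =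
      ∑ α ∈ A, Module.finrank k (tPiece I α) := by
  classical
  rw [← finrank_finset_sup I hI A]
  have heq : (⨆ α : {α : σ → ℤ // P α}, tPiece I α.1) = A.sup (fun α => tPiece I α) := by
    apply le_antisymm
    · apply iSup_le
      rintro ⟨α, hα⟩
      by_cases h : α ∈ A
      · exact Finset.le_sup (f := fun α => tPiece I α) h
      · simp only [hvan α hα h, bot_le]
    · apply Finset.sup_le
      intro α hα
      exact le_iSup (fun α : {α : σ → ℤ // P α} => tPiece I α.1) ⟨α, hA α hα⟩
  rw [heq]

end Groth.Agent.Lib.Helper72.HilbDual
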