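import Mathlib
import Groth.Agent.Lib.Helper72.HilbDualD
import Groth.Agent.Lib.Helper72.HilbDualE

/-! The duality identity for graded pieces of `T(I)` in three variables. -/

set_option autoImplicit false
set_option linter.unusedSectionVars false
universe u

namespace Groth.Agent.Lib.Helper72.GridDual

open Module

variable {k : Type*} [Field k]

lemma Cfg.finrank_eq_zero_of_Mv_eq (c : Cfg) (h : c.Mv = c.U) :
    finrank k (c.ZB (k := k)) = 0 ∧ finrank k (c.Y (k := k)) = 0 := by
  have h1 : finrank k (c.ZB (k := k)) = 0 := by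
    have hle : c.ZB (k := k) ≤ supp (k := k) (c.U \ c.Mv) := inf_le_left
    have := Submodule.finrank_mono hle
    rw [finrank_supp, h, Finset.sdiff_self, Finset.card_empty] at this
    omega
  refine ⟨h1, ?_⟩
  have hMh : c.Mh = c.U := Finset.Subset.antisymm c.Mh_sub (fun u hu => c.v_h u (h ▸ hu))
  have hMt : c.Mt = c.U := Finset.Subset.antisymm c.Mt_sub (fun u hu => c.v_t u (h ▸ hu))
  have hMs : c.Ms = c.U := Finset.Subset.antisymm c.Ms_sub (fun u hu => c.h_s u (hMh ▸ hu))
  have := c.finrank_ZB_add (k := k)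
  rw [h1, h, hMh, hMt, hMs] at this
  omega

lemma Stair.cfg_Mv_eq (B : Stair) (i j s : ℕ)
    (h : ∀ p q, s ≤ B.b p q → B.b (p + i) (q + j) + s ≤ B.b p q) :
    (B.cfg i j s).Mv = (B.cfg i j s).U := by
  ext ⟨p, q⟩
  simp only [Stair.cfg, Finset.mem_filter]
  constructor
  · exact fun h' => ⟨h'.1, h'.2.1⟩
  · exact fun h' => ⟨h'.1, h'.2, h p q h'.2⟩

end Groth.Agent.Lib.Helper72.GridDual

namespace Groth.Agent.Lib.Helper72.HilbDual

open W4c1hilbpn MvPolynomial Groth.Agent.Lib.Helper68 Groth.Agent.Lib.Helper28.HilbT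
open Groth.Agent.Lib.Helper72.GridDual

variable (π : Equiv.Perm (Fin 3))
variable {k : Type u} [Field k] {I : Ideal (MvPolynomial (Fin 3) k)}
variable (hI : IsMonomial I) [Module.Finite k (MvPolynomial (Fin 3) k ⧸ I)]

include hI

lemma finrank_tPiece_S (i j s : ℕ) (hs : 1 ≤ s) :
    Module.finrank k (tPiece I (degS π i j s)) =
      Module.finrank k (((stair π hI).cfg i j s).ZB (k := k)) := by
  rw [(tPieceEquiv I (degS π i j s) hI).finrank_eq, finrank_LC3_S π hI i j s hs]

lemma finrank_tPiece_C (i j c : ℕ) :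
    Module.finrank k (tPiece I (degC π i j c)) =
      Module.finrank k (((stair π hI).cfg i j (c + 1)).Y (k := k)) := by
  rw [(tPieceEquiv I (degC π i j c) hI).finrank_eq, finrank_LC3_C π hI i j c]

lemma st_le_max (p q : ℕ) : st π I p q ≤ st π I 0 0 :=
  st_anti π hI (Nat.zero_le p) (Nat.zero_le q)

lemma cfg_Mv_eq (i j s : ℕ) (h : st π I 0 0 < s ∨ bnd I hI ≤ i ∨ bnd I hI ≤ j) :
    ((stair π hI).cfg i j s).Mv = ((stair π hI).cfg i j s).U := by
  apply Stair.cfg_Mv_eq
  intro p q hpq
  simp only [stair_b] at hpq ⊢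
  rcases h with h | h | h
  · have := st_le_max π hI p q
    omega
  · rw [st_eq_zero π hI (Or.inl (by omega))]
    omega
  · rw [st_eq_zero π hI (Or.inr (by omega))]
    omega

lemma tPiece_degS_eq_bot (i j s : ℕ) (hs : 1 ≤ s)
    (h : st π I 0 0 < s ∨ bnd I hI ≤ i ∨ bnd I hI ≤ j) : tPiece I (degS π i j s) = ⊥ := by
  have hfd : FiniteDimensional k (tPiece I (degS π i j s)) := finiteDimensional_tPiece hI
  apply Submodule.finrank_eq_zero.mp
  rw [finrank_tPiece_S π hI i j s hs]
  exact (Cfg.finrank_eq_zero_of_Mv_eq _ (cfg_Mv_eq π hI i j s h)).1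

lemma tPiece_degC_eq_bot (i j c : ℕ)
    (h : st π I 0 0 ≤ c ∨ bnd I hI ≤ i ∨ bnd I hI ≤ j) : tPiece I (degC π i j c) = ⊥ := by
  have hfd : FiniteDimensional k (tPiece I (degC π i j c)) := finiteDimensional_tPiece hI
  apply Submodule.finrank_eq_zero.mp
  rw [finrank_tPiece_C π hI i j c]
  refine (Cfg.finrank_eq_zero_of_Mv_eq _ (cfg_Mv_eq π hI i j (c + 1) ?_)).2
  rcases h with h | h | h
  · left; omega
  · right; left; exact h
  · right; right; exact h

/-- **The duality identity**, summed over the levels. -/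
theorem sum_pieces (i j : ℕ) :
    ∑ s ∈ Finset.Icc 1 (st π I 0 0), Module.finrank k (tPiece I (degS π i j s)) =
      ∑ s ∈ Finset.Icc 1 (st π I 0 0), Module.finrank k (tPiece I (degC π i j (s - 1))) +
        st π I i j := by
  have h1 : ∀ s ∈ Finset.Icc 1 (st π I 0 0),
      Module.finrank k (tPiece I (degS π i j s)) + ((stair π hI).cfg i j s).Mv.card +
        ((stair π hI).cfg i j s).Ms.card =
      Module.finrank k (tPiece I (degC π i j (s - 1))) + ((stair π hI).cfg i j s).Mh.card +
        ((stair π hI).cfg i j s).Mt.card := by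
    intro s hs
    rw [Finset.mem_Icc] at hs
    rw [finrank_tPiece_S π hI i j s hs.1, finrank_tPiece_C π hI i j (s - 1),
      Nat.sub_add_cancel hs.1]
    exact Cfg.finrank_ZB_add _
  have h2 := Finset.sum_congr rfl h1
  simp only [Finset.sum_add_distrib] at h2
  have h3 := (stair π hI).sum_cards i j (st π I 0 0) (fun p q => st_le_max π hI p q)
  simp only [Finset.sum_add_distrib, stair_b] at h3
  omega

end Groth.Agent.Lib.Helper72.HilbDual
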