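import Mathlib
import Groth.Agent.Lib.Helper72.HilbDualF

/-! Spans of pieces with two prescribed coordinates. -/

set_option autoImplicit false
set_option linter.unusedSectionVars false
universe u

namespace Groth.Agent.Lib.Helper72.HilbDual

open W4c1hilbpn MvPolynomial Groth.Agent.Lib.Helper68 Groth.Agent.Lib.Helper28.HilbT
open Groth.Agent.Lib.Helper72.GridDual

variable (π : Equiv.Perm (Fin 3))
variable {k : Type u} [Field k] {I : Ideal (MvPolynomial (Fin 3) k)}
variable (hI : IsMonomial I) [Module.Finite k (MvPolynomial (Fin 3) k ⧸ I)]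

lemma degS_injective (i j : ℕ) {s s' : ℕ} (h : degS π i j s = degS π i j s') : s = s' := by
  have := congrFun h (π 2)
  simp only [degS, pt_2] at this
  omega

lemma degC_injective (i j : ℕ) {c c' : ℕ} (h : degC π i j c = degC π i j c') : c = c' := by
  have := congrFun h (π 2)
  simp only [degC, pt_2] at this
  omega

include hI

/-- Span of the pieces of degree `(i, j, *)`. -/
theorem finrank_iSup_S (i j : ℕ) :
    Module.finrank k ↥(⨆ α : {α : Fin 3 → ℤ // α (π 0) = (i : ℤ) ∧ α (π 1) = (j : ℤ)},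
      tPiece I α.1) =
    ∑ s ∈ Finset.Icc 1 (st π I 0 0), Module.finrank k (tPiece I (degS π i j s)) := by
  classical
  rw [finrank_iSup_subtype I hI (fun α => α (π 0) = (i : ℤ) ∧ α (π 1) = (j : ℤ))
    ((Finset.Icc 1 (st π I 0 0)).image (fun s => degS π i j s))]
  · rw [Finset.sum_image]
    intro s _ s' _ h
    exact degS_injective π i j h
  · intro α hα
    obtain ⟨s, -, rfl⟩ := Finset.mem_image.mp hα
    simp [degS]
  · rintro α ⟨h0, h1⟩ hα
    by_cases h2 : 0 ≤ α (π 2)
    · apply tPiece_eq_bot_of_nonneg hI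
      intro l
      rcases cover π l with rfl | rfl | rfl
      · rw [h0]; positivity
      · rw [h1]; positivity
      · exact h2
    · obtain ⟨s, hs⟩ : ∃ s : ℕ, α (π 2) = -(s : ℤ) := ⟨(-α (π 2)).toNat, by omega⟩
      have hαeq : α = degS π i j s := pt_ext π (by simp [degS, h0]) (by simp [degS, h1])
        (by simp [degS, hs])
      rw [hαeq]
      apply tPiece_degS_eq_bot π hI i j s (by omega)
      left
      by_contra hcon
      apply hα
      rw [hαeq]
      exact Finset.mem_image.mpr ⟨s, Finset.mem_Icc.mpr ⟨by omega, by omega⟩, rfl⟩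

/-- Span of the pieces of degree `(-i-1, -j-1, *)`. -/
theorem finrank_iSup_C (i j : ℕ) :
    Module.finrank k ↥(⨆ α : {α : Fin 3 → ℤ // α (π 0) = -(i : ℤ) - 1 ∧ α (π 1) = -(j : ℤ) - 1},
      tPiece I α.1) =
    ∑ s ∈ Finset.Icc 1 (st π I 0 0), Module.finrank k (tPiece I (degC π i j (s - 1))) := by
  classical
  rw [finrank_iSup_subtype I hI (fun α => α (π 0) = -(i : ℤ) - 1 ∧ α (π 1) = -(j : ℤ) - 1)
    ((Finset.Icc 1 (st π I 0 0)).image (fun s => degC π i j (s - 1)))]
  · rw [Finset.sum_image]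
    intro s hs s' hs' h
    have := degC_injective π i j h
    rw [Finset.coe_Icc, Set.mem_Icc] at hs hs'
    omega
  · intro α hα
    obtain ⟨s, -, rfl⟩ := Finset.mem_image.mp hα
    simp [degC]
  · rintro α ⟨h0, h1⟩ hα
    by_cases h2 : 0 ≤ α (π 2)
    · obtain ⟨c, hc⟩ : ∃ c : ℕ, α (π 2) = (c : ℤ) := ⟨(α (π 2)).toNat, by omega⟩
      have hαeq : α = degC π i j c := pt_ext π (by simp [degC, h0]) (by simp [degC, h1])
        (by simp [degC, hc])
      rw [hαeq]
      apply tPiece_degC_eq_bot π hI i j c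
      left
      by_contra hcon
      apply hα
      rw [hαeq]
      exact Finset.mem_image.mpr ⟨c + 1, Finset.mem_Icc.mpr ⟨by omega, by omega⟩, by simp⟩
    · apply tPiece_eq_bot_of_two_neg hI (π 0) (π 1) (ne01 π)
      · rw [h0]; omega
      · rw [h1]; omega
      · intro l
        rcases cover π l with rfl | rfl | rfl
        · rw [h0]; omega
        · rw [h1]; omega
        · omega

/-- The identity of spans. -/
theorem finrank_iSup_S_eq (i j : ℕ) :
    Module.finrank k ↥(⨆ α : {α : Fin 3 → ℤ // α (π 0) = (i : ℤ) ∧ α (π 1) = (j : ℤ)},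
      tPiece I α.1) =
    st π I i j +
      Module.finrank k ↥(⨆ α : {α : Fin 3 → ℤ //
        α (π 0) = -(i : ℤ) - 1 ∧ α (π 1) = -(j : ℤ) - 1}, tPiece I α.1) := by
  rw [finrank_iSup_S π hI, finrank_iSup_C π hI, sum_pieces π hI, add_comm]

end Groth.Agent.Lib.Helper72.HilbDual
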