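import Mathlib
import Groth.Agent.Lib.Helper72.HilbDualG
import Groth.Agent.S13454

/-! Sign-pattern pieces: negative at exactly one variable versus at exactly the other two. -/

set_option autoImplicit false
set_option linter.unusedSectionVars false
universe u

namespace Groth.Agent.Lib.Helper72.HilbDual

open W4c1hilbpn MvPolynomial Groth.Agent.Lib.Helper68 Groth.Agent.Lib.Helper28.HilbT
open Groth.Agent.Lib.Helper72.GridDual

variable (π : Equiv.Perm (Fin 3))
variable {k : Type u} [Field k] {I : Ideal (MvPolynomial (Fin 3) k)}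
variable (hI : IsMonomial I) [Module.Finite k (MvPolynomial (Fin 3) k ⧸ I)]

include hI

/-- The colength is the sum of the staircase numbers. -/
theorem sum_st_eq_finrank :
    ∑ u ∈ Finset.range (bnd I hI) ×ˢ Finset.range (bnd I hI), st π I u.1 u.2 =
      Module.finrank k (MvPolynomial (Fin 3) k ⧸ I) := by
  classical
  have hfin : Finite {β : Fin 3 →₀ ℕ // β ∉ exps I} := finite_not_mem_exps I hI
  rw [Groth.Agent.S13454.finrank_quot_monomial I hI]
  have e1 : Nat.card {β : Fin 3 →₀ ℕ // β ∉ exps I} = (compl I hI).card := by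
    rw [← Nat.card_eq_finsetCard]
    apply Nat.card_congr
    exact Equiv.subtypeEquivRight (fun β => ((mem_compl I hI β).symm))
  rw [e1]
  rw [Finset.card_eq_sum_card_fiberwise (f := fun β : Fin 3 →₀ ℕ => (β (π 0), β (π 1)))
    (t := Finset.range (bnd I hI) ×ˢ Finset.range (bnd I hI))]
  · refine Finset.sum_congr rfl fun u _ => ?_
    symm
    have hcard : (Finset.filter (fun β : Fin 3 →₀ ℕ => (β (π 0), β (π 1)) = u) (compl I hI)).card =
        (Finset.range (st π I u.1 u.2)).card := by
      apply Finset.card_nbij (fun β => β (π 2))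
      · intro β hβ
        rw [Finset.coe_filter] at hβ
        obtain ⟨hβ1, hβ2⟩ := hβ
        rw [mem_compl] at hβ1
        rw [Finset.coe_range, Set.mem_Iio]
        rw [eq_ex π β, ex_notMem_iff π hI] at hβ1
        have h1 : β (π 0) = u.1 := congrArg Prod.fst hβ2
        have h2 : β (π 1) = u.2 := congrArg Prod.snd hβ2
        rw [h1, h2] at hβ1
        exact hβ1
      · intro β hβ β' hβ' h
        rw [Finset.coe_filter] at hβ hβ'
        have h1 : β (π 0) = β' (π 0) :=
          (congrArg Prod.fst hβ.2).trans (congrArg Prod.fst hβ'.2).symm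
        have h2 : β (π 1) = β' (π 1) :=
          (congrArg Prod.snd hβ.2).trans (congrArg Prod.snd hβ'.2).symm
        exact ex_ext π h1 h2 h
      · intro t ht
        rw [Finset.coe_range, Set.mem_Iio] at ht
        refine ⟨ex π u.1 u.2 t, ?_, by simp⟩
        rw [Finset.coe_filter]
        refine ⟨?_, by simp⟩
        rw [mem_compl, ex_notMem_iff π hI]
        exact ht
    rw [hcard, Finset.card_range]
  · intro β hβ
    rw [Finset.mem_coe, mem_compl] at hβ
    rw [Finset.mem_coe, Finset.mem_product, Finset.mem_range, Finset.mem_range]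
    exact ⟨lt_bnd I hI hβ (π 0), lt_bnd I hI hβ (π 1)⟩

/-- Pieces negative exactly at `π 2`. -/
theorem finrank_sig_single :
    Module.finrank k ↥(sigPiece I ({π 2} : Set (Fin 3))) =
      ∑ u ∈ Finset.range (bnd I hI) ×ˢ Finset.range (bnd I hI),
        ∑ s ∈ Finset.Icc 1 (st π I 0 0), Module.finrank k (tPiece I (degS π u.1 u.2 s)) := by
  classical
  unfold sigPiece
  rw [finrank_iSup_subtype I hI (fun α => ∀ l, α l < 0 ↔ l ∈ ({π 2} : Set (Fin 3)))
    (((Finset.range (bnd I hI) ×ˢ Finset.range (bnd I hI)) ×ˢ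
      Finset.Icc 1 (st π I 0 0)).image (fun x => degS π x.1.1 x.1.2 x.2))]
  · rw [Finset.sum_image, Finset.sum_product]
    intro x _ y _ h
    have h0 := congrFun h (π 0)
    have h1 := congrFun h (π 1)
    have h2 := congrFun h (π 2)
    simp only [degS, pt_0, pt_1, pt_2] at h0 h1 h2
    apply Prod.ext
    · apply Prod.ext <;> omega
    · omega
  · intro α hα
    obtain ⟨x, hx, rfl⟩ := Finset.mem_image.mp hα
    rw [Finset.mem_product, Finset.mem_Icc] at hx
    intro l
    rw [Set.mem_singleton_iff]
    rcases cover π l with rfl | rfl | rfl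
    · simp only [degS, pt_0]
      constructor
      · intro h; omega
      · intro h; exact absurd h (ne02 π)
    · simp only [degS, pt_1]
      constructor
      · intro h; omega
      · intro h; exact absurd h (ne12 π)
    · simp only [degS, pt_2]
      constructor
      · intro _; trivial
      · intro _; omega
  · intro α hP hα
    have h0 : 0 ≤ α (π 0) := by
      by_contra h
      exact ne02 π ((hP (π 0)).mp (by omega))
    have h1 : 0 ≤ α (π 1) := by
      by_contra h
      exact ne12 π ((hP (π 1)).mp (by omega))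
    have h2 : α (π 2) < 0 := (hP (π 2)).mpr rfl
    obtain ⟨a, ha⟩ : ∃ a : ℕ, α (π 0) = (a : ℤ) := ⟨(α (π 0)).toNat, by omega⟩
    obtain ⟨b, hb⟩ : ∃ b : ℕ, α (π 1) = (b : ℤ) := ⟨(α (π 1)).toNat, by omega⟩
    obtain ⟨s, hs⟩ : ∃ s : ℕ, α (π 2) = -(s : ℤ) := ⟨(-α (π 2)).toNat, by omega⟩
    have hαeq : α = degS π a b s := pt_ext π (by simp [degS, ha]) (by simp [degS, hb])
      (by simp [degS, hs])
    rw [hαeq]
    apply tPiece_degS_eq_bot π hI a b s (by omega)
    by_contra hcon
    push Not at hcon
    apply hα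
    rw [hαeq]
    refine Finset.mem_image.mpr ⟨((a, b), s), ?_, rfl⟩
    rw [Finset.mem_product, Finset.mem_product, Finset.mem_range, Finset.mem_range,
      Finset.mem_Icc]
    exact ⟨⟨hcon.2.1, hcon.2.2⟩, by omega, hcon.1⟩

/-- Pieces negative exactly at `π 0` and `π 1`. -/
theorem finrank_sig_compl :
    Module.finrank k ↥(sigPiece I (({π 2} : Set (Fin 3))ᶜ)) =
      ∑ u ∈ Finset.range (bnd I hI) ×ˢ Finset.range (bnd I hI),
        ∑ s ∈ Finset.Icc 1 (st π I 0 0),
          Module.finrank k (tPiece I (degC π u.1 u.2 (s - 1))) := by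
  classical
  unfold sigPiece
  rw [finrank_iSup_subtype I hI (fun α => ∀ l, α l < 0 ↔ l ∈ (({π 2} : Set (Fin 3))ᶜ))
    (((Finset.range (bnd I hI) ×ˢ Finset.range (bnd I hI)) ×ˢ
      Finset.Icc 1 (st π I 0 0)).image (fun x => degC π x.1.1 x.1.2 (x.2 - 1)))]
  · rw [Finset.sum_image, Finset.sum_product]
    intro x hx y hy h
    rw [Finset.coe_product, Set.mem_prod, Finset.coe_Icc, Set.mem_Icc] at hx hy
    have h0 := congrFun h (π 0)
    have h1 := congrFun h (π 1)
    have h2 := congrFun h (π 2)
    simp only [degC, pt_0, pt_1, pt_2] at h0 h1 h2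
    apply Prod.ext
    · apply Prod.ext <;> omega
    · omega
  · intro α hα
    obtain ⟨x, hx, rfl⟩ := Finset.mem_image.mp hα
    intro l
    rw [Set.mem_compl_iff, Set.mem_singleton_iff]
    rcases cover π l with rfl | rfl | rfl
    · simp only [degC, pt_0]
      constructor
      · intro _; exact ne02 π
      · intro _; omega
    · simp only [degC, pt_1]
      constructor
      · intro _; exact ne12 π
      · intro _; omega
    · simp only [degC, pt_2]
      constructor
      · intro h; omega
      · intro h; exact absurd trivial h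
  · intro α hP hα
    have h0 : α (π 0) < 0 := (hP (π 0)).mpr (ne02 π)
    have h1 : α (π 1) < 0 := (hP (π 1)).mpr (ne12 π)
    have h2 : 0 ≤ α (π 2) := by
      by_contra h
      exact ((hP (π 2)).mp (by omega)) rfl
    obtain ⟨a, ha⟩ : ∃ a : ℕ, α (π 0) = -(a : ℤ) - 1 := ⟨(-α (π 0) - 1).toNat, by omega⟩
    obtain ⟨b, hb⟩ : ∃ b : ℕ, α (π 1) = -(b : ℤ) - 1 := ⟨(-α (π 1) - 1).toNat, by omega⟩
    obtain ⟨c, hc⟩ : ∃ c : ℕ, α (π 2) = (c : ℤ) := ⟨(α (π 2)).toNat, by omega⟩
    have hαeq : α = degC π a b c := pt_ext π (by simp [degC, ha]) (by simp [degC, hb])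
      (by simp [degC, hc])
    rw [hαeq]
    apply tPiece_degC_eq_bot π hI a b c
    by_contra hcon
    push Not at hcon
    apply hα
    rw [hαeq]
    refine Finset.mem_image.mpr ⟨((a, b), c + 1), ?_, by simp⟩
    rw [Finset.mem_product, Finset.mem_product, Finset.mem_range, Finset.mem_range,
      Finset.mem_Icc]
    exact ⟨⟨hcon.2.1, hcon.2.2⟩, by omega, by omega⟩

/-- Negative exactly at one variable versus exactly at the other two. -/
theorem finrank_sig_single_eq :
    Module.finrank k ↥(sigPiece I ({π 2} : Set (Fin 3))) =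
      Module.finrank k ↥(sigPiece I (({π 2} : Set (Fin 3))ᶜ)) +
        Module.finrank k (MvPolynomial (Fin 3) k ⧸ I) := by
  rw [finrank_sig_single π hI, finrank_sig_compl π hI, ← sum_st_eq_finrank π hI,
    ← Finset.sum_add_distrib]
  exact Finset.sum_congr rfl fun u _ => sum_pieces π hI u.1 u.2

end Groth.Agent.Lib.Helper72.HilbDual
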