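import Mathlib
import Groth.Agent.Lib.Helper72.HilbDualH
import Groth.Agent.Lib.Helper28.HilbT12

/-! The total dimension of `T(I)` as a sum over sign patterns; parity. -/

set_option autoImplicit false
set_option linter.unusedSectionVars false
universe u

namespace Groth.Agent.Lib.Helper72.HilbDual

open W4c1hilbpn MvPolynomial Groth.Agent.Lib.Helper68 Groth.Agent.Lib.Helper28.HilbT
open Groth.Agent.Lib.Helper72.GridDual

variable {k : Type u} [Field k] {I : Ideal (MvPolynomial (Fin 3) k)}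
variable (hI : IsMonomial I) [Module.Finite k (MvPolynomial (Fin 3) k ⧸ I)]

include hI

lemma st_le_bnd (π : Equiv.Perm (Fin 3)) : st π I 0 0 ≤ bnd I hI := by
  by_contra hcon
  push Not at hcon
  have h1 : ex π 0 0 (bnd I hI) ∉ exps I := (ex_notMem_iff π hI 0 0 _).mpr hcon
  have h2 := lt_bnd I hI h1 (π 2)
  simp only [ex_2] at h2
  exact lt_irrefl _ h2

/-- Degrees with a large entry give zero pieces. -/
theorem tPiece_eq_bot_of_large (α : Fin 3 → ℤ) (h : ∃ l, (bnd I hI : ℤ) < |α l|) :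
    tPiece I α = ⊥ := by
  classical
  -- the set of negative coordinates
  by_cases hall : ∀ l, 0 ≤ α l
  · exact tPiece_eq_bot_of_nonneg hI hall
  by_cases hallneg : ∀ l, α l < 0
  · exact tPiece_eq_bot_of_two_neg hI 0 1 (by decide) (hallneg 0) (hallneg 1)
      (fun l => (hallneg l).le)
  push Not at hall hallneg
  obtain ⟨l1, hl1⟩ := hall
  obtain ⟨l2, hl2⟩ := hallneg
  have hne : l1 ≠ l2 := by rintro rfl; omega
  -- the third coordinate
  obtain ⟨l3, h31, h32⟩ : ∃ l3 : Fin 3, l3 ≠ l1 ∧ l3 ≠ l2 := by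
    fin_cases l1 <;> fin_cases l2 <;> simp at hne ⊢ <;> decide
  have hcov : ∀ l : Fin 3, l = l1 ∨ l = l2 ∨ l = l3 := by
    intro l
    fin_cases l1 <;> fin_cases l2 <;> fin_cases l3 <;> fin_cases l <;> simp at hne h31 h32 ⊢
  by_cases h3 : α l3 < 0
  · -- negative at l1 and l3, nonnegative at l2: degC with π 2 = l2
    obtain ⟨π, hπ0, hπ1, hπ2⟩ : ∃ π : Equiv.Perm (Fin 3), π 0 = l1 ∧ π 1 = l3 ∧ π 2 = l2 := by
      fin_cases l1 <;> fin_cases l2 <;> fin_cases l3 <;> simp at hne h31 h32 ⊢ <;> decide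
    obtain ⟨a, ha⟩ : ∃ a : ℕ, α (π 0) = -(a : ℤ) - 1 := ⟨(-α (π 0) - 1).toNat, by rw [hπ0]; omega⟩
    obtain ⟨b, hb⟩ : ∃ b : ℕ, α (π 1) = -(b : ℤ) - 1 := ⟨(-α (π 1) - 1).toNat, by rw [hπ1]; omega⟩
    obtain ⟨c, hc⟩ : ∃ c : ℕ, α (π 2) = (c : ℤ) := ⟨(α (π 2)).toNat, by rw [hπ2]; omega⟩
    have hαeq : α = degC π a b c := pt_ext π (by simp [degC, ha]) (by simp [degC, hb])
      (by simp [degC, hc])
    rw [hαeq]
    apply tPiece_degC_eq_bot π hI a b c
    obtain ⟨l, hl⟩ := h
    rw [lt_abs] at hl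
    have := st_le_bnd hI π
    rcases hcov l with rfl | rfl | rfl
    · right; left
      rw [← hπ0, ha] at hl
      omega
    · left
      rw [← hπ2, hc] at hl
      omega
    · right; right
      rw [← hπ1, hb] at hl
      omega
  · -- negative exactly at l1: degS with π 2 = l1
    obtain ⟨π, hπ0, hπ1, hπ2⟩ : ∃ π : Equiv.Perm (Fin 3), π 0 = l2 ∧ π 1 = l3 ∧ π 2 = l1 := by
      fin_cases l1 <;> fin_cases l2 <;> fin_cases l3 <;> simp at hne h31 h32 ⊢ <;> decide
    obtain ⟨a, ha⟩ : ∃ a : ℕ, α (π 0) = (a : ℤ) := ⟨(α (π 0)).toNat, by rw [hπ0]; omega⟩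
    obtain ⟨b, hb⟩ : ∃ b : ℕ, α (π 1) = (b : ℤ) := ⟨(α (π 1)).toNat, by rw [hπ1]; omega⟩
    obtain ⟨s, hs⟩ : ∃ s : ℕ, α (π 2) = -(s : ℤ) := ⟨(-α (π 2)).toNat, by rw [hπ2]; omega⟩
    have hαeq : α = degS π a b s := pt_ext π (by simp [degS, ha]) (by simp [degS, hb])
      (by simp [degS, hs])
    have hs1 : 1 ≤ s := by rw [hπ2] at hs; omega
    rw [hαeq]
    apply tPiece_degS_eq_bot π hI a b s hs1
    obtain ⟨l, hl⟩ := h
    rw [lt_abs] at hl
    have := st_le_bnd hI π
    rcases hcov l with rfl | rfl | rfl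
    · left
      rw [← hπ2, hs] at hl
      omega
    · right; left
      rw [← hπ0, ha] at hl
      omega
    · right; right
      rw [← hπ1, hb] at hl
      omega

/-- The box of degrees outside which all pieces vanish. -/
noncomputable def degBox : Finset (Fin 3 → ℤ) :=
  Fintype.piFinset (fun _ : Fin 3 => Finset.Icc (-(bnd I hI : ℤ)) (bnd I hI))

lemma tPiece_eq_bot_of_notMem_degBox {α : Fin 3 → ℤ} (h : α ∉ degBox hI) : tPiece I α = ⊥ := by
  apply tPiece_eq_bot_of_large hI
  unfold degBox at h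
  rw [Fintype.mem_piFinset] at h
  push Not at h
  obtain ⟨l, hl⟩ := h
  refine ⟨l, ?_⟩
  rw [Finset.mem_Icc] at hl
  rw [lt_abs]
  omega

open Classical in
/-- A sign-pattern piece as a finite sum. -/
theorem finrank_sig_eq (N : Finset (Fin 3)) :
    Module.finrank k ↥(sigPiece I (↑N : Set (Fin 3))) =
      ∑ α ∈ (degBox hI).filter (fun α => Finset.univ.filter (fun l => α l < 0) = N),
        Module.finrank k (tPiece I α) := by
  unfold sigPiece
  apply finrank_iSup_subtype I hI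
  · intro α hα l
    rw [Finset.mem_filter] at hα
    rw [← hα.2]
    simp
  · intro α hP hα
    apply tPiece_eq_bot_of_notMem_degBox hI
    intro hbox
    apply hα
    rw [Finset.mem_filter]
    refine ⟨hbox, ?_⟩
    ext l
    rw [Finset.mem_filter]
    simp only [Finset.mem_univ, true_and]
    rw [hP l]
    simp

open Classical in
/-- The dimension of `T(I)` is the sum of the dimensions of the sign-pattern pieces. -/
theorem finrank_Tgt_eq :
    Module.finrank k (Tgt I) =
      ∑ N : Finset (Fin 3), Module.finrank k ↥(sigPiece I (↑N : Set (Fin 3))) := by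
  have h1 : Module.finrank k (Tgt I) =
      Module.finrank k ↥(⨆ α : {α : Fin 3 → ℤ // True}, tPiece I α.1) := by
    have : (⨆ α : {α : Fin 3 → ℤ // True}, tPiece I α.1) = ⊤ := by
      rw [← iSup_tPiece_eq_top I hI]
      apply le_antisymm
      · apply iSup_le
        intro α
        exact le_iSup (fun α : Fin 3 → ℤ => tPiece I α) α.1
      · apply iSup_le
        intro α
        exact le_iSup (fun α : {α : Fin 3 → ℤ // True} => tPiece I α.1) ⟨α, trivial⟩
    rw [this, finrank_top]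
  rw [h1, finrank_iSup_subtype I hI (fun _ => True) (degBox hI) (fun _ _ => trivial)
    (fun α _ hα => tPiece_eq_bot_of_notMem_degBox hI hα)]
  rw [← Finset.sum_fiberwise (degBox hI) (fun α => Finset.univ.filter (fun l => α l < 0))]
  refine Finset.sum_congr rfl fun N _ => ?_
  rw [finrank_sig_eq hI N]

lemma sig_empty : sigPiece I (∅ : Set (Fin 3)) = ⊥ := by
  apply sigPiece_eq_bot
  intro α hα
  apply tPiece_eq_bot_of_nonneg hI
  intro l
  by_contra h
  exact (hα l).mp (by omega)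

lemma sig_univ : sigPiece I (Set.univ : Set (Fin 3)) = ⊥ := by
  apply sigPiece_eq_bot
  intro α hα
  have h : ∀ l, α l < 0 := fun l => (hα l).mpr trivial
  exact tPiece_eq_bot_of_two_neg hI 0 1 (by decide) (h 0) (h 1) (fun l => (h l).le)

/-- **Parity.** -/
theorem finrank_Tgt_parity :
    Module.finrank k (Tgt I) % 2 = Module.finrank k (MvPolynomial (Fin 3) k ⧸ I) % 2 := by
  rw [finrank_Tgt_eq hI]
  have huniv : (Finset.univ : Finset (Finset (Fin 3))) =
      {∅, {0}, {1}, {2}, {0, 1}, {0, 2}, {1, 2}, {0, 1, 2}} := by decide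
  rw [huniv]
  rw [Finset.sum_insert (by decide), Finset.sum_insert (by decide), Finset.sum_insert (by decide),
    Finset.sum_insert (by decide), Finset.sum_insert (by decide), Finset.sum_insert (by decide),
    Finset.sum_insert (by decide), Finset.sum_singleton]
  have e0 : ((∅ : Finset (Fin 3)) : Set (Fin 3)) = ∅ := by simp
  have e1 : (({0} : Finset (Fin 3)) : Set (Fin 3)) = {(Equiv.swap (2 : Fin 3) 0) 2} := by
    rw [Equiv.swap_apply_left]; simp
  have e2 : (({1} : Finset (Fin 3)) : Set (Fin 3)) = {(Equiv.swap (2 : Fin 3) 1) 2} := by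
    rw [Equiv.swap_apply_left]; simp
  have e3 : (({2} : Finset (Fin 3)) : Set (Fin 3)) = {(Equiv.swap (2 : Fin 3) 2) 2} := by
    rw [Equiv.swap_apply_left]; simp
  have e12 : (({1, 2} : Finset (Fin 3)) : Set (Fin 3)) = ({(Equiv.swap (2 : Fin 3) 0) 2} : Set (Fin 3))ᶜ := by
    rw [Equiv.swap_apply_left]
    ext l
    fin_cases l <;> simp
  have e02 : (({0, 2} : Finset (Fin 3)) : Set (Fin 3)) = ({(Equiv.swap (2 : Fin 3) 1) 2} : Set (Fin 3))ᶜ := by
    rw [Equiv.swap_apply_left]
    ext l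
    fin_cases l <;> simp
  have e01 : (({0, 1} : Finset (Fin 3)) : Set (Fin 3)) = ({(Equiv.swap (2 : Fin 3) 2) 2} : Set (Fin 3))ᶜ := by
    rw [Equiv.swap_apply_left]
    ext l
    fin_cases l <;> simp
  have e012 : (({0, 1, 2} : Finset (Fin 3)) : Set (Fin 3)) = Set.univ := by
    ext l
    fin_cases l <;> simp
  rw [e0, e1, e2, e3, e12, e02, e01, e012, sig_empty hI, sig_univ hI, finrank_bot,
    finrank_sig_single_eq (Equiv.swap (2 : Fin 3) 0) hI,
    finrank_sig_single_eq (Equiv.swap (2 : Fin 3) 1) hI,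
    finrank_sig_single_eq (Equiv.swap (2 : Fin 3) 2) hI]
  omega

end Groth.Agent.Lib.Helper72.HilbDual
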