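import Mathlib
import Groth.Agent.Lib.Helper72.HilbDualE
import Groth.Agent.Lib.Helper72.HilbDualA

/-! Generator-level description of the graded pieces of `T(I) = Hom(I, S/I)` for a monomial ideal
`I` whose monomials are the multiples of a family `gen : Γ → σ →₀ ℕ`. -/

set_option autoImplicit false
set_option linter.unusedSectionVars false
universe u

namespace Groth.Agent.Lib.Helper72.HomGen

open W4c1hilbpn MvPolynomial Groth.Agent.Lib.Helper28.HilbT Groth.Agent.Lib.Helper72.HilbDual

variable {σ : Type*} [Fintype σ] [DecidableEq σ] {k : Type u} [Field k]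
variable (I : Ideal (MvPolynomial σ k)) {Γ : Type*} (gen : Γ → σ →₀ ℕ) (α : σ → ℤ)

/-- `β + α` is a nonnegative exponent outside `I`. -/
def Active (β : σ →₀ ℕ) : Prop := (∀ i, 0 ≤ up β α i) ∧ toN (up β α) ∉ exps I

/-- The least common multiple shifted by `α` is a nonnegative exponent outside `I`. -/
def Linked (β β' : σ →₀ ℕ) : Prop := Active I α (β ⊔ β')

/-- Generator data: scalars on the generators, zero on inactive ones, equal on linked ones. -/
def GenData : Submodule k (Γ → k) where
  carrier := {c | (∀ γ, ¬ Active I α (gen γ) → c γ = 0) ∧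
    ∀ γ γ', Linked I α (gen γ) (gen γ') → c γ = c γ'}
  zero_mem' := ⟨fun _ _ => rfl, fun _ _ _ => rfl⟩
  add_mem' := by
    rintro c d ⟨h1, h2⟩ ⟨h1', h2'⟩
    refine ⟨fun γ hγ => ?_, fun γ γ' h => ?_⟩
    · simp [h1 γ hγ, h1' γ hγ]
    · simp [h2 γ γ' h, h2' γ γ' h]
  smul_mem' := by
    rintro a c ⟨h1, h2⟩
    refine ⟨fun γ hγ => ?_, fun γ γ' h => ?_⟩
    · simp [h1 γ hγ]
    · simp [h2 γ γ' h]

variable {I α}

lemma toN_up_mono {β β' : σ →₀ ℕ} (h : β ≤ β') : toN (up β α) ≤ toN (up β' α) := by
  intro i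
  rw [toN_apply, toN_apply, up_apply, up_apply]
  have : β i ≤ β' i := h i
  omega

lemma active_of_le {β β' : σ →₀ ℕ} (h : β ≤ β') (hβ' : Active I α β') (hnn : ∀ i, 0 ≤ up β α i) :
    Active I α β :=
  ⟨hnn, fun hmem => hβ'.2 (exps_of_le hmem (toN_up_mono h))⟩

lemma mem_region_of_active {β : σ →₀ ℕ} (hβ : β ∈ exps I) (h : Active I α β) :
    up β α ∈ region I α :=
  up_mem_region_of_notMem hβ h.2

lemma mem_region_of_box {β T : σ →₀ ℕ} (hβ : β ∈ exps I) (h : β ≤ T) (hT : Active I α T) :
    up β α ∈ region I α := by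
  by_cases hneg : ∃ j, up β α j < 0
  · exact up_mem_region_of_neg hβ hneg
  · push Not at hneg
    exact mem_region_of_active hβ (active_of_le h hT hneg)

lemma active_of_mem_region {β : σ →₀ ℕ} (h : up β α ∈ region I α) (hnn : ∀ i, 0 ≤ up β α i) :
    Active I α β :=
  ⟨hnn, shift_notMem_of_mem_region h hnn⟩

/-- Locally constant functions are constant along boxes below an active point. -/
lemma LC3_mono {F : (σ → ℤ) → k} (hF : F ∈ LC3 I α) {β T : σ →₀ ℕ} (hβ : β ∈ exps I)
    (hT : Active I α T) (d : ℕ) :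
    ∀ β' : σ →₀ ℕ, β ≤ β' → β' ≤ T → ∑ i, (β' i - β i) = d → F (up β α) = F (up β' α) := by
  induction d with
  | zero =>
    intro β' h1 _ hd
    have : β' = β := by
      ext i
      have h2 := Finset.sum_eq_zero_iff.mp hd i (Finset.mem_univ i)
      have h3 : β i ≤ β' i := h1 i
      omega
    rw [this]
  | succ d ih =>
    intro β' h1 h2 hd
    have hex : ∃ i, β i < β' i := by
      by_contra hcon
      push Not at hcon
      have : ∑ i, (β' i - β i) = 0 := Finset.sum_eq_zero fun i _ => by
        have := hcon i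
        omega
      omega
    obtain ⟨i, hi⟩ := hex
    obtain ⟨β'', hβ''⟩ : ∃ β'' : σ →₀ ℕ, β'' = β' - Finsupp.single i 1 := ⟨_, rfl⟩
    have hle1 : Finsupp.single i 1 ≤ β' := by
      intro j
      by_cases hj : j = i
      · subst hj
        rw [Finsupp.single_eq_same]
        omega
      · rw [Finsupp.single_apply, if_neg (Ne.symm hj)]
        exact Nat.zero_le _
    have hadd : β'' + Finsupp.single i 1 = β' := by
      rw [hβ'']
      exact tsub_add_cancel_of_le hle1
    have hβ''i : β'' i = β' i - 1 := by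
      rw [hβ'', Finsupp.tsub_apply, Finsupp.single_eq_same]
    have hβ''j : ∀ j, j ≠ i → β'' j = β' j := by
      intro j hj
      rw [hβ'', Finsupp.tsub_apply, Finsupp.single_apply, if_neg (Ne.symm hj)]
      rfl
    have h3 : β ≤ β'' := by
      intro j
      by_cases hj : j = i
      · subst hj
        rw [hβ''i]
        omega
      · rw [hβ''j j hj]
        exact h1 j
    have h4 : β'' ≤ β' := by
      rw [← hadd]
      exact le_self_add
    have h5 : ∑ j, (β'' j - β j) = d := by
      have h6 : ∑ j, (β' j - β j) = ∑ j, (β'' j - β j) + 1 := by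
        rw [← Finset.add_sum_erase _ _ (Finset.mem_univ i),
          ← Finset.add_sum_erase (f := fun j => β'' j - β j) _ (Finset.mem_univ i)]
        have h7 : ∑ j ∈ Finset.univ.erase i, (β' j - β j) =
            ∑ j ∈ Finset.univ.erase i, (β'' j - β j) := by
          refine Finset.sum_congr rfl fun j hj => ?_
          rw [hβ''j j (Finset.ne_of_mem_erase hj)]
        rw [h7, hβ''i]
        omega
      omega
    rw [ih β'' h3 (h4.trans h2) h5]
    have hr1 : up β'' α ∈ region I α :=
      mem_region_of_box (exps_of_le hβ h3) (h4.trans h2) hT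
    have hr2 : up β' α ∈ region I α :=
      mem_region_of_box (exps_of_le hβ h1) h2 hT
    have hup : up β' α = up β'' α + Pi.single i 1 := by
      rw [← hadd, up_add_single]
    refine hF.2.1 _ _ hr1 hr2 ?_
    rw [hup]
    exact stepGraph_adj_add_single _ _

lemma LC3_mono' {F : (σ → ℤ) → k} (hF : F ∈ LC3 I α) {β T : σ →₀ ℕ} (hβ : β ∈ exps I)
    (hT : Active I α T) (h : β ≤ T) : F (up β α) = F (up T α) :=
  LC3_mono hF hβ hT _ T h le_rfl rfl

variable (I α)

/-- Restriction of a locally constant function to the generators. -/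
noncomputable def toGen (hG : ∀ β, β ∈ exps I ↔ ∃ γ, gen γ ≤ β) :
    LC3 I α →ₗ[k] GenData I gen α where
  toFun F := ⟨fun γ => F.1 (up (gen γ) α), by
    have hmem : ∀ γ, gen γ ∈ exps I := fun γ => (hG _).mpr ⟨γ, le_rfl⟩
    refine ⟨fun γ hγ => ?_, fun γ γ' h => ?_⟩
    · by_cases hr : up (gen γ) α ∈ region I α
      · by_cases hneg : ∃ l, up (gen γ) α l < 0
        · exact F.2.2.2 _ hr hneg
        · push Not at hneg
          exact absurd (active_of_mem_region hr hneg) hγ
      · exact F.2.1 _ hr
    · change F.1 (up (gen γ) α) = F.1 (up (gen γ') α)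
      rw [LC3_mono' F.2 (hmem γ) h le_sup_left, LC3_mono' F.2 (hmem γ') h le_sup_right]⟩
  map_add' F F' := rfl
  map_smul' a F := rfl

variable {I α}

lemma genData_wd {c : Γ → k} (hc : c ∈ GenData I gen α) {γ γ' : Γ} {T : σ →₀ ℕ}
    (hT : Active I α T) (h : gen γ ≤ T) (h' : gen γ' ≤ T) : c γ = c γ' := by
  by_cases hnn : ∀ i, 0 ≤ up (gen γ ⊔ gen γ') α i
  · exact hc.2 γ γ' (active_of_le (sup_le h h') hT hnn)
  · push Not at hnn
    obtain ⟨i, hi⟩ := hnn
    rw [up_apply, Finsupp.sup_apply] at hi
    have h1 : ¬ Active I α (gen γ) := by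
      rintro ⟨h2, -⟩
      have := h2 i
      rw [up_apply] at this
      have : gen γ i ≤ max (gen γ i) (gen γ' i) := le_max_left _ _
      omega
    have h2 : ¬ Active I α (gen γ') := by
      rintro ⟨h2, -⟩
      have := h2 i
      rw [up_apply] at this
      have : gen γ' i ≤ max (gen γ i) (gen γ' i) := le_max_right _ _
      omega
    rw [hc.1 γ h1, hc.1 γ' h2]

variable (I α)

theorem toGen_bijective (hG : ∀ β, β ∈ exps I ↔ ∃ γ, gen γ ≤ β) :
    Function.Bijective (toGen I gen α hG) := by
  classical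
  have hmem : ∀ γ, gen γ ∈ exps I := fun γ => (hG _).mpr ⟨γ, le_rfl⟩
  constructor
  · rw [injective_iff_map_eq_zero]
    rintro ⟨F, hF⟩ h0
    apply Subtype.ext
    funext γ
    change F γ = 0
    by_cases hr : γ ∈ region I α
    · by_cases hneg : ∃ l, γ l < 0
      · exact hF.2.2 γ hr hneg
      · push Not at hneg
        obtain ⟨β, hβ, rfl⟩ := exists_of_mem_region hr
        obtain ⟨γ0, hγ0⟩ := (hG β).mp hβ
        have hact := active_of_mem_region hr hneg
        rw [← LC3_mono' hF (hmem γ0) hact hγ0]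
        exact congrFun (congrArg Subtype.val h0) γ0
    · exact hF.1 γ hr
  · rintro ⟨c, hc⟩
    -- the locally constant function attached to `c`
    have hex : ∀ γ : σ → ℤ, γ ∈ region I α → ∃ γ0 : Γ, gen γ0 ≤ dn γ α := by
      intro γ hr
      obtain ⟨β, hβ, rfl⟩ := exists_of_mem_region hr
      rw [dn_up]
      exact (hG β).mp hβ
    let F : (σ → ℤ) → k := fun γ =>
      if h : γ ∈ region I α ∧ ∀ i, 0 ≤ γ i then c (Classical.choose (hex γ h.1)) else 0
    have hFval : ∀ (β : σ →₀ ℕ) (γ0 : Γ), Active I α β → β ∈ exps I → gen γ0 ≤ β →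
        F (up β α) = c γ0 := by
      intro β γ0 hact hβ hle
      have hr := mem_region_of_active hβ hact
      have hcond : up β α ∈ region I α ∧ ∀ i, 0 ≤ up β α i := ⟨hr, hact.1⟩
      change (if h : up β α ∈ region I α ∧ ∀ i, 0 ≤ up β α i then
        c (Classical.choose (hex (up β α) h.1)) else 0) = c γ0
      rw [dif_pos hcond]
      have hspec := Classical.choose_spec (hex (up β α) hr)
      have hspec' : gen (Classical.choose (hex (up β α) hr)) ≤ β :=
        le_of_le_of_eq hspec (dn_up β α)
      exact genData_wd gen hc hact hspec' hle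
    have hFneg : ∀ γ, (∃ l, γ l < 0) → F γ = 0 := by
      intro γ ⟨l, hl⟩
      change (if h : γ ∈ region I α ∧ ∀ i, 0 ≤ γ i then _ else 0) = 0
      rw [dif_neg]
      rintro ⟨-, h⟩
      exact absurd (h l) (not_le.mpr hl)
    have hFout : ∀ γ, γ ∉ region I α → F γ = 0 := by
      intro γ hγ
      change (if h : γ ∈ region I α ∧ ∀ i, 0 ≤ γ i then _ else 0) = 0
      rw [dif_neg]
      rintro ⟨h, -⟩
      exact hγ h
    have hFmem : F ∈ LC3 I α := by
      refine ⟨hFout, ?_, fun γ _ hneg => hFneg γ hneg⟩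
      -- adjacency
      have key : ∀ γ γ' : σ → ℤ, γ ∈ region I α → γ' ∈ region I α →
          (∃ i, γ' = γ + Pi.single i 1) → F γ = F γ' := by
        rintro γ γ' hr hr' ⟨i, rfl⟩
        obtain ⟨β, hβ, rfl⟩ := exists_of_mem_region hr
        rw [← up_add_single] at hr' ⊢
        obtain ⟨γ0, hγ0⟩ := (hG β).mp hβ
        have hβ' : β + Finsupp.single i 1 ∈ exps I := exps_add hβ _
        have hle : β ≤ β + Finsupp.single i 1 := le_self_add
        by_cases hnn' : ∀ l, 0 ≤ up (β + Finsupp.single i 1) α l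
        · have hact' := active_of_mem_region hr' hnn'
          rw [hFval _ γ0 hact' hβ' (hγ0.trans hle)]
          by_cases hnn : ∀ l, 0 ≤ up β α l
          · exact hFval _ γ0 (active_of_mem_region hr hnn) hβ hγ0
          · push Not at hnn
            rw [hFneg _ hnn]
            obtain ⟨l, hl⟩ := hnn
            symm
            apply hc.1
            rintro ⟨h1, -⟩
            have h2 := h1 l
            have h3 : gen γ0 l ≤ β l := hγ0 l
            rw [up_apply] at h2 hl
            omega
        · push Not at hnn'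
          rw [hFneg _ hnn']
          apply hFneg
          obtain ⟨l, hl⟩ := hnn'
          refine ⟨l, ?_⟩
          have h3 : β l ≤ (β + Finsupp.single i 1 : σ →₀ ℕ) l := hle l
          rw [up_apply] at hl ⊢
          omega
      intro γ γ' hr hr' hadj
      obtain ⟨i, hi | hi⟩ := (stepGraph_adj_iff γ γ').mp hadj
      · exact key γ γ' hr hr' ⟨i, hi⟩
      · exact (key γ' γ hr' hr ⟨i, hi⟩).symm
    refine ⟨⟨F, hFmem⟩, ?_⟩
    apply Subtype.ext
    funext γ0
    change F (up (gen γ0) α) = c γ0
    by_cases hact : Active I α (gen γ0)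
    · exact hFval _ γ0 hact (hmem γ0) le_rfl
    · rw [hc.1 γ0 hact]
      by_cases hr : up (gen γ0) α ∈ region I α
      · by_cases hneg : ∃ l, up (gen γ0) α l < 0
        · exact hFneg _ hneg
        · push Not at hneg
          exact absurd (active_of_mem_region hr hneg) hact
      · exact hFout _ hr

/-- **Generator-level description** of the graded piece `T(I)_α`. -/
noncomputable def tPieceGenEquiv (hI : IsMonomial I) (hG : ∀ β, β ∈ exps I ↔ ∃ γ, gen γ ≤ β) :
    tPiece I α ≃ₗ[k] GenData I gen α :=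
  (tPieceEquiv I α hI).trans (LinearEquiv.ofBijective (toGen I gen α hG) (toGen_bijective I gen α hG))

end Groth.Agent.Lib.Helper72.HomGen
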