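import Mathlib
import Groth.Agent.Lib.Helper72.HomGenA

/-! Dimension counts for generator data and for spans of graded pieces. -/

set_option autoImplicit false
set_option linter.unusedSectionVars false
universe u

namespace Groth.Agent.Lib.Helper72.HomGen

open W4c1hilbpn MvPolynomial Groth.Agent.Lib.Helper28.HilbT Groth.Agent.Lib.Helper72.HilbDual

variable {σ : Type*} [Fintype σ] [DecidableEq σ] {k : Type u} [Field k]
variable (I : Ideal (MvPolynomial σ k)) {Γ : Type*} (gen : Γ → σ →₀ ℕ) (α : σ → ℤ)

lemma finiteDimensional_tPiece_of_finite [Finite Γ] (hI : IsMonomial I)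
    (hG : ∀ β, β ∈ exps I ↔ ∃ γ, gen γ ≤ β) : FiniteDimensional k (tPiece I α) := by
  have : FiniteDimensional k (GenData I gen α) := inferInstance
  exact Module.Finite.equiv (tPieceGenEquiv I gen α hI hG).symm

/-- Dimension of the generator data from a classification of the generators. -/
theorem finrank_genData {J : Type*} [Fintype J] (cls : Γ → Option J)
    (h0 : ∀ c ∈ GenData I gen α, ∀ γ, cls γ = none → c γ = 0)
    (h1 : ∀ c ∈ GenData I gen α, ∀ γ γ' j, cls γ = some j → cls γ' = some j → c γ = c γ')
    (h2 : ∀ γ j, cls γ = some j → Active I α (gen γ))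
    (h3 : ∀ γ γ', Linked I α (gen γ) (gen γ') → cls γ = cls γ')
    (h4 : ∀ j, ∃ γ, cls γ = some j) :
    Module.finrank k (GenData I gen α) = Fintype.card J := by
  classical
  choose rep hrep using h4
  have e : GenData I gen α ≃ₗ[k] (J → k) :=
    { toFun := fun c j => c.1 (rep j)
      map_add' := fun c d => rfl
      map_smul' := fun a c => rfl
      invFun := fun d => ⟨fun γ => (cls γ).elim 0 d, by
        refine ⟨fun γ hγ => ?_, fun γ γ' h => ?_⟩
        · change (cls γ).elim 0 d = 0
          cases hc : cls γ with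
          | none => rfl
          | some j => exact absurd (h2 γ j hc) hγ
        · change (cls γ).elim 0 d = (cls γ').elim 0 d
          rw [h3 γ γ' h]⟩
      left_inv := by
        rintro ⟨c, hc⟩
        apply Subtype.ext
        funext γ
        change (cls γ).elim 0 (fun j => c (rep j)) = c γ
        cases hcl : cls γ with
        | none => exact (h0 c hc γ hcl).symm
        | some j => exact h1 c hc (rep j) γ j (hrep j) hcl
      right_inv := by
        intro d
        funext j
        change (cls (rep j)).elim 0 d = d j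
        rw [hrep j]
        rfl }
  rw [e.finrank_eq, Module.finrank_fintype_fun_eq_card]

/-- A convenient form: unclassified generators are inactive or linked to an inactive one, and
classified generators are linked to a representative of their class. -/
theorem finrank_genData' {J : Type*} [Fintype J] (cls : Γ → Option J) (rep : J → Γ)
    (hrep : ∀ j, cls (rep j) = some j)
    (h0 : ∀ γ, cls γ = none → ¬ Active I α (gen γ) ∨
      ∃ γ', ¬ Active I α (gen γ') ∧ Linked I α (gen γ) (gen γ'))
    (h1 : ∀ γ j, cls γ = some j → Linked I α (gen γ) (gen (rep j)))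
    (h2 : ∀ γ j, cls γ = some j → Active I α (gen γ))
    (h3 : ∀ γ γ', Linked I α (gen γ) (gen γ') → cls γ = cls γ') :
    Module.finrank k (GenData I gen α) = Fintype.card J := by
  apply finrank_genData I gen α cls
  · intro c hc γ hγ
    rcases h0 γ hγ with h | ⟨γ', h, hl⟩
    · exact hc.1 γ h
    · rw [hc.2 γ γ' hl, hc.1 γ' h]
  · intro c hc γ γ' j hγ hγ'
    rw [hc.2 γ _ (h1 γ j hγ), hc.2 γ' _ (h1 γ' j hγ')]
  · exact h2
  · exact h3
  · exact fun j => ⟨rep j, hrep j⟩

/-- The generator data vanish when every generator is inactive or linked to an inactive one. -/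
theorem genData_eq_bot
    (h0 : ∀ γ, ¬ Active I α (gen γ) ∨ ∃ γ', ¬ Active I α (gen γ') ∧ Linked I α (gen γ) (gen γ')) :
    GenData I gen α = ⊥ := by
  rw [eq_bot_iff]
  intro c hc
  rw [Submodule.mem_bot]
  funext γ
  rcases h0 γ with h | ⟨γ', h, hl⟩
  · exact hc.1 γ h
  · rw [hc.2 γ γ' hl, hc.1 γ' h]
    rfl

variable {I}

theorem tPiece_eq_bot_of_genData (hI : IsMonomial I) (hG : ∀ β, β ∈ exps I ↔ ∃ γ, gen γ ≤ β)
    (h : GenData I gen α = ⊥) : tPiece I α = ⊥ := by
  rw [eq_bot_iff]
  intro φ hφ
  rw [Submodule.mem_bot]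
  have h1 : tPieceGenEquiv I gen α hI hG ⟨φ, hφ⟩ = 0 := by
    have hall : ∀ x : GenData I gen α, x = 0 := by
      rintro ⟨x, hx⟩
      have hx' := hx
      rw [h, Submodule.mem_bot] at hx'
      exact Subtype.ext hx'
    exact hall _
  have h2 := (tPieceGenEquiv I gen α hI hG).map_eq_zero_iff.mp h1
  exact congrArg Subtype.val h2

theorem finrank_tPiece_eq (hI : IsMonomial I) (hG : ∀ β, β ∈ exps I ↔ ∃ γ, gen γ ≤ β) :
    Module.finrank k (tPiece I α) = Module.finrank k (GenData I gen α) :=
  (tPieceGenEquiv I gen α hI hG).finrank_eq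

section Sum

variable (hI : IsMonomial I) (hfd : ∀ α, FiniteDimensional k (tPiece I α))
include hI hfd

theorem finrank_finset_sup' (A : Finset (σ → ℤ)) :
    Module.finrank k ↥(A.sup (fun α => tPiece I α)) = ∑ α ∈ A, Module.finrank k (tPiece I α) := by
  classical
  induction A using Finset.induction_on with
  | empty => rw [Finset.sup_empty, finrank_bot, Finset.sum_empty]
  | insert a A ha ih =>
    rw [Finset.sup_insert, Finset.sum_insert ha, ← ih]
    have hfd1 : FiniteDimensional k (tPiece I a) := hfd a
    have hfd2 : FiniteDimensional k ↥(A.sup (fun α => tPiece I α)) :=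
      Submodule.finiteDimensional_finset_sup A _
    have hdisj : tPiece I a ⊓ A.sup (fun α => tPiece I α) = ⊥ := by
      have h1 := iSupIndep_tPiece I hI a
      have h2 : A.sup (fun α => tPiece I α) ≤ ⨆ (α' : σ → ℤ) (_ : α' ≠ a), tPiece I α' := by
        apply Finset.sup_le
        intro α hα
        exact le_iSup₂_of_le α (fun h => ha (h ▸ hα)) le_rfl
      exact (h1.mono_right h2).eq_bot
    have := Submodule.finrank_sup_add_finrank_inf_eq (tPiece I a) (A.sup (fun α => tPiece I α))
    rw [hdisj, finrank_bot, add_zero] at this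
    exact this

theorem finrank_iSup_subtype' (P : (σ → ℤ) → Prop) (A : Finset (σ → ℤ)) (hA : ∀ α ∈ A, P α)
    (hvan : ∀ α, P α → α ∉ A → tPiece I α = ⊥) :
    Module.finrank k ↥(⨆ α : {α : σ → ℤ // P α}, tPiece I α.1) =
      ∑ α ∈ A, Module.finrank k (tPiece I α) := by
  classical
  rw [← finrank_finset_sup' hI hfd A]
  have heq : (⨆ α : {α : σ → ℤ // P α}, tPiece I α.1) = A.sup (fun α => tPiece I α) := by
    apply le_antisymm
    · apply iSup_le
      rintro ⟨α, hα⟩
      by_cases h : α ∈ A
      · exact Finset.le_sup (f := fun α => tPiece I α) h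
      · simp only [hvan α hα h, bot_le]
    · apply Finset.sup_le
      intro α hα
      exact le_iSup (fun α : {α : σ → ℤ // P α} => tPiece I α.1) ⟨α, hA α hα⟩
  rw [heq]

/-- Indexed form: the nonzero pieces are listed by an injective family of degrees. -/
theorem finrank_iSup_indexed (P : (σ → ℤ) → Prop) {J : Type*} [Fintype J] (a : J → σ → ℤ)
    (ha : Function.Injective a) (hP : ∀ j, P (a j))
    (hvan : ∀ α, P α → (∀ j, α ≠ a j) → tPiece I α = ⊥) :
    Module.finrank k ↥(⨆ α : {α : σ → ℤ // P α}, tPiece I α.1) =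
      ∑ j, Module.finrank k (tPiece I (a j)) := by
  classical
  rw [finrank_iSup_subtype' hI hfd P (Finset.univ.image a)]
  · rw [Finset.sum_image (fun x _ y _ h => ha h)]
  · intro α hα
    obtain ⟨j, -, rfl⟩ := Finset.mem_image.mp hα
    exact hP j
  · intro α hα hnot
    apply hvan α hα
    intro j hj
    exact hnot (Finset.mem_image.mpr ⟨j, Finset.mem_univ _, hj.symm⟩)

end Sum

end Groth.Agent.Lib.Helper72.HomGen
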