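import Mathlib
import Groth.Agent.Lib.Helper72.HomGenB

/-! Monomial ideals given by generators; quadratic generators; auxiliary counting lemmas. -/

set_option autoImplicit false
set_option linter.unusedSectionVars false
universe u

namespace Groth.Agent.Lib.Helper72.HomGen

open W4c1hilbpn MvPolynomial Groth.Agent.Lib.Helper28.HilbT Groth.Agent.Lib.Helper72.HilbDual

variable {σ : Type*} [Fintype σ] [DecidableEq σ] {k : Type u} [Field k]
variable {Γ : Type*} (gen : Γ → σ →₀ ℕ)

/-- The monomial ideal generated by the monomials with exponents `gen γ`. -/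
noncomputable def genIdeal : Ideal (MvPolynomial σ k) :=
  Ideal.span (Set.range fun γ => monomial (gen γ) (1 : k))

lemma genIdeal_eq : (genIdeal (k := k) gen) =
    Ideal.span ((fun s => monomial s (1 : k)) '' Set.range gen) := by
  unfold genIdeal
  congr 1
  rw [← Set.range_comp]
  rfl

lemma mem_exps_genIdeal (β : σ →₀ ℕ) : β ∈ exps (genIdeal (k := k) gen) ↔ ∃ γ, gen γ ≤ β := by
  change monomial β (1 : k) ∈ genIdeal gen ↔ _
  rw [genIdeal_eq, mem_ideal_span_monomial_image]
  have hs : (monomial β (1 : k)).support = {β} := support_monomial_subset.antisymm (by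
    intro x hx
    rw [Finset.mem_singleton] at hx
    rw [hx, mem_support_iff, coeff_monomial, if_pos rfl]
    exact one_ne_zero)
  rw [hs]
  constructor
  · intro h
    obtain ⟨s, ⟨γ, rfl⟩, hle⟩ := h β (Finset.mem_singleton_self β)
    exact ⟨γ, hle⟩
  · rintro ⟨γ, hγ⟩ x hx
    rw [Finset.mem_singleton] at hx
    rw [hx]
    exact ⟨gen γ, ⟨γ, rfl⟩, hγ⟩

lemma isMonomial_genIdeal : IsMonomial (genIdeal (k := k) gen) := by
  intro p hp β hβ
  have h1 := hp
  rw [genIdeal_eq, mem_ideal_span_monomial_image] at h1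
  obtain ⟨s, ⟨γ, rfl⟩, hle⟩ := h1 β hβ
  exact (mem_exps_genIdeal gen β).mpr ⟨γ, hle⟩

/-- The exponent of `x_a x_b`. -/
noncomputable def gen2 (a b : σ) : σ →₀ ℕ := Finsupp.single a 1 + Finsupp.single b 1

lemma gen2_apply (a b l : σ) :
    gen2 a b l = (if a = l then 1 else 0) + (if b = l then 1 else 0) := by
  unfold gen2
  rw [Finsupp.add_apply, Finsupp.single_apply, Finsupp.single_apply]

lemma monomial_gen2 (a b : σ) :
    monomial (gen2 a b) (1 : k) = X a * X b := by
  unfold gen2
  rw [X, X, monomial_mul, mul_one]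

lemma gen2_le_iff (a b : σ) (β : σ →₀ ℕ) :
    gen2 a b ≤ β ↔ (a ≠ b → 1 ≤ β a ∧ 1 ≤ β b) ∧ (a = b → 2 ≤ β a) := by
  constructor
  · intro h
    refine ⟨fun hab => ⟨?_, ?_⟩, fun hab => ?_⟩
    · have := h a
      rw [gen2_apply, if_pos rfl] at this
      omega
    · have := h b
      rw [gen2_apply, if_pos rfl] at this
      omega
    · have := h a
      rw [gen2_apply, if_pos rfl, if_pos hab.symm] at this
      exact this
  · rintro ⟨h1, h2⟩ l
    rw [gen2_apply]
    by_cases hab : a = b
    · subst hab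
      have := h2 rfl
      by_cases hl : a = l
      · subst hl
        rw [if_pos rfl]
        exact this
      · rw [if_neg hl]
        exact Nat.zero_le _
    · obtain ⟨h3, h4⟩ := h1 hab
      by_cases hl : a = l
      · subst hl
        rw [if_pos rfl, if_neg (fun h => hab h.symm)]
        exact h3
      · rw [if_neg hl]
        by_cases hl' : b = l
        · subst hl'
          rw [if_pos rfl]
          exact h4
        · rw [if_neg hl']
          exact Nat.zero_le _

/-- Degrees `e_l - e_i` determine `i` and `l`. -/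
lemma single_sub_single_inj {i l i' l' : σ} (h1 : l ≠ i) (h2 : l' ≠ i')
    (h : (Pi.single l 1 - Pi.single i 1 : σ → ℤ) = Pi.single l' 1 - Pi.single i' 1) :
    i = i' ∧ l = l' := by
  have hi := congrFun h i
  have hl := congrFun h l
  simp only [Pi.sub_apply, Pi.single_apply, if_true, if_neg (Ne.symm h1), if_neg h1] at hi hl
  constructor
  · by_contra hne
    rw [if_neg hne] at hi
    split_ifs at hi <;> omega
  · by_contra hne
    rw [if_neg hne] at hl
    split_ifs at hl <;> omega

lemma card_subtype_val_lt (N c : ℕ) (h : c ≤ N) :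
    Fintype.card {i : Fin N // i.val + 1 ≤ c} = c := by
  have e : {i : Fin N // i.val + 1 ≤ c} ≃ Fin c :=
    { toFun := fun i => ⟨i.1.val, by have := i.2; omega⟩
      invFun := fun j => ⟨⟨j.val, by have := j.2; omega⟩, by have := j.2; change j.val + 1 ≤ c; omega⟩
      left_inv := fun i => rfl
      right_inv := fun j => rfl }
  rw [Fintype.card_congr e, Fintype.card_fin]

lemma card_subtype_not_val_lt (N c : ℕ) (h : c ≤ N) :
    Fintype.card {i : Fin N // ¬ (i.val + 1 ≤ c)} = N - c := by
  rw [Fintype.card_subtype_compl, card_subtype_val_lt N c h, Fintype.card_fin]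

lemma card_subtype_val_ge (N c : ℕ) (h : c ≤ N) :
    Fintype.card {i : Fin N // c ≤ i.val} = N - c := by
  have e : {i : Fin N // c ≤ i.val} ≃ {i : Fin N // ¬ (i.val + 1 ≤ c)} :=
    Equiv.subtypeEquivRight (fun i => by omega)
  rw [Fintype.card_congr e, card_subtype_not_val_lt N c h]

lemma card_subtype_not_val_ge (N c : ℕ) (h : c ≤ N) :
    Fintype.card {i : Fin N // ¬ (c ≤ i.val)} = c := by
  have e : {i : Fin N // ¬ (c ≤ i.val)} ≃ {i : Fin N // i.val + 1 ≤ c} :=
    Equiv.subtypeEquivRight (fun i => by omega)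
  rw [Fintype.card_congr e, card_subtype_val_lt N c h]

/-- If `α = e_? + … - e_i` has entry sum `0`, is `-1` at `i` and nonnegative elsewhere, then
`α = e_l - e_i` for some `l ≠ i`. -/
lemma eq_single_sub_single {α : σ → ℤ} (hsum : ∑ x, α x = 0) {i : σ} (hi : α i = -1)
    (hnn : ∀ x, x ≠ i → 0 ≤ α x) :
    ∃ l, l ≠ i ∧ α = Pi.single l 1 - Pi.single i 1 := by
  classical
  have h1 : ∑ x ∈ Finset.univ.erase i, α x = 1 := by
    have := Finset.add_sum_erase Finset.univ α (Finset.mem_univ i)
    omega
  have hex : ∃ l ∈ Finset.univ.erase i, 0 < α l := by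
    by_contra hcon
    push Not at hcon
    have : ∑ x ∈ Finset.univ.erase i, α x ≤ 0 :=
      Finset.sum_nonpos fun x hx => hcon x hx
    omega
  obtain ⟨l, hl, hlpos⟩ := hex
  have hli : l ≠ i := Finset.ne_of_mem_erase hl
  have h2 : α l + ∑ x ∈ (Finset.univ.erase i).erase l, α x = 1 := by
    rw [Finset.add_sum_erase _ α hl]
    exact h1
  have h3 : 0 ≤ ∑ x ∈ (Finset.univ.erase i).erase l, α x :=
    Finset.sum_nonneg fun x hx =>
      hnn x (Finset.ne_of_mem_erase (Finset.mem_of_mem_erase hx))
  have h4 : α l = 1 := by omega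
  have h5 : ∑ x ∈ (Finset.univ.erase i).erase l, α x = 0 := by omega
  have h6 : ∀ x, x ≠ i → x ≠ l → α x = 0 := by
    intro x hxi hxl
    have hxm : x ∈ (Finset.univ.erase i).erase l :=
      Finset.mem_erase.mpr ⟨hxl, Finset.mem_erase.mpr ⟨hxi, Finset.mem_univ x⟩⟩
    exact (Finset.sum_eq_zero_iff_of_nonneg (fun y hy =>
      hnn y (Finset.ne_of_mem_erase (Finset.mem_of_mem_erase hy)))).mp h5 x hxm
  refine ⟨l, hli, ?_⟩
  funext x
  rw [Pi.sub_apply, Pi.single_apply, Pi.single_apply]
  by_cases hxi : x = i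
  · subst hxi
    rw [if_neg (Ne.symm hli), if_pos rfl, hi]
    norm_num
  · rw [if_neg hxi]
    by_cases hxl : x = l
    · subst hxl
      rw [if_pos rfl, h4]
      norm_num
    · rw [if_neg hxl, h6 x hxi hxl]
      norm_num

end Groth.Agent.Lib.Helper72.HomGen
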