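import Mathlib
import Groth.Agent.S17662

/-!
Jacobian minors modulo the ideal are independent of the generators.
-/

namespace Groth.Agent.Lib.Helper72.JacMinors

variable {k R : Type*} [CommSemiring k] [CommRing R] [Algebra k R]

lemma minor_mem {n m l r : ℕ} (D : Fin n → Derivation k R R)
    (f : Fin m → R) (g : Fin l → R) (hfg : ∀ j, f j ∈ Ideal.span (Set.range g))
    (ρ : Fin r → Fin m) (γ : Fin r → Fin n) (hγ : Function.Injective γ) :
    ((Matrix.of fun (j : Fin m) (i : Fin n) => D i (f j)).submatrix ρ γ).det ∈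
      Ideal.span {d : R | ∃ (ρ' : Fin r → Fin l) (γ' : Fin r → Fin n),
        Function.Injective ρ' ∧ Function.Injective γ' ∧
          d = ((Matrix.of fun (j : Fin l) (i : Fin n) => D i (g j)).submatrix ρ' γ').det} ⊔
        Ideal.span (Set.range g) := by
  classical
  have hch : ∀ j, ∃ a : Fin l → R, ∑ s, a s * g s = f j := fun j =>
    (Ideal.mem_span_range_iff_exists_fun).mp (hfg j)
  choose a ha using hch
  set I : Ideal R := Ideal.span (Set.range g) with hI
  set π := Ideal.Quotient.mk I with hπ
  have hg0 : ∀ s, π (g s) = 0 := fun s =>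
    Ideal.Quotient.eq_zero_iff_mem.mpr (Ideal.subset_span ⟨s, rfl⟩)
  set Jf : Matrix (Fin m) (Fin n) R := Matrix.of fun j i => D i (f j) with hJf
  set Jg : Matrix (Fin l) (Fin n) R := Matrix.of fun j i => D i (g j) with hJg
  set am : Matrix (Fin m) (Fin l) R := Matrix.of fun j s => a j s with ham
  have hent : ∀ j i, π (Jf j i) = ∑ s, π (am j s) * π (Jg s i) := by
    intro j i
    simp only [hJf, hJg, ham, Matrix.of_apply]
    rw [← ha j, map_sum, map_sum]
    refine Finset.sum_congr rfl fun s _ => ?_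
    rw [Derivation.leibniz, map_add, smul_eq_mul, smul_eq_mul, map_mul, map_mul, hg0, zero_mul,
      add_zero]
  have hmat : (Jf.submatrix ρ γ).map π =
      ((am.submatrix ρ id).map π) * ((Jg.submatrix id γ).map π) := by
    ext p q
    simp only [Matrix.map_apply, Matrix.submatrix_apply, Matrix.mul_apply, id_eq]
    exact hent (ρ p) (γ q)
  have hdet : π (Jf.submatrix ρ γ).det =
      π (∑ S : {s : Finset (Fin l) // s.card = r},
        (am.submatrix ρ (S.1.orderEmbOfFin S.2)).det * (Jg.submatrix (S.1.orderEmbOfFin S.2) γ).det) := by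
    rw [RingHom.map_det, RingHom.mapMatrix_apply, hmat,
      @Groth.Agent.S17662.cauchyBinet _ _ r l _ _
        (Subtype.fintype fun s : Finset (Fin l) => s.card = r), map_sum]
    refine Finset.sum_congr rfl fun S _ => ?_
    rw [map_mul, RingHom.map_det, RingHom.map_det]
    rfl
  have hdiff := Ideal.Quotient.eq.mp hdet
  set y := ∑ S : {s : Finset (Fin l) // s.card = r},
        (am.submatrix ρ (S.1.orderEmbOfFin S.2)).det * (Jg.submatrix (S.1.orderEmbOfFin S.2) γ).det
    with hy
  have h1 : (Jf.submatrix ρ γ).det = y + ((Jf.submatrix ρ γ).det - y) := by ring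
  rw [h1]
  refine Submodule.add_mem _ (Submodule.mem_sup_left ?_) (Submodule.mem_sup_right hdiff)
  rw [hy]
  refine Submodule.sum_mem _ fun S _ => Ideal.mul_mem_left _ _ (Ideal.subset_span ?_)
  exact ⟨S.1.orderEmbOfFin S.2, γ, (S.1.orderEmbOfFin S.2).injective, hγ, rfl⟩

lemma minors_sup_eq {n m l r : ℕ} (D : Fin n → Derivation k R R)
    (f : Fin m → R) (g : Fin l → R)
    (hfg : Ideal.span (Set.range f) = Ideal.span (Set.range g)) :
    Ideal.span {d : R | ∃ (ρ : Fin r → Fin m) (γ : Fin r → Fin n),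
        Function.Injective ρ ∧ Function.Injective γ ∧
          d = ((Matrix.of fun (j : Fin m) (i : Fin n) => D i (f j)).submatrix ρ γ).det} ⊔
        Ideal.span (Set.range f) =
      Ideal.span {d : R | ∃ (ρ : Fin r → Fin l) (γ : Fin r → Fin n),
        Function.Injective ρ ∧ Function.Injective γ ∧
          d = ((Matrix.of fun (j : Fin l) (i : Fin n) => D i (g j)).submatrix ρ γ).det} ⊔
        Ideal.span (Set.range g) := by
  apply le_antisymm
  · apply sup_le
    · rw [Ideal.span_le]
      rintro d ⟨ρ, γ, -, hγ, rfl⟩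
      exact minor_mem D f g (fun j => hfg ▸ Ideal.subset_span ⟨j, rfl⟩) ρ γ hγ
    · rw [hfg]; exact le_sup_right
  · apply sup_le
    · rw [Ideal.span_le]
      rintro d ⟨ρ, γ, -, hγ, rfl⟩
      exact minor_mem D g f (fun j => hfg.symm ▸ Ideal.subset_span ⟨j, rfl⟩) ρ γ hγ
    · rw [← hfg]; exact le_sup_right

end Groth.Agent.Lib.Helper72.JacMinors
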