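import Mathlib

/-!
Lexicographic comparison of reduced coefficients of `P` and of `P(m) - P(m - a)`.
-/

namespace Groth.Agent.Lib.Helper72.LexPoly
open Polynomial

lemma lex_lt_of {ℓ : ℕ} (u v u' v' : Fin ℓ → ℚ)
    (h1 : ∀ s, (∀ j < s, u j = v j) → u' s - v' s = u s - v s)
    (h : toLex u < toLex v) : toLex u' < toLex v' := by
  obtain ⟨i, hlt, hi⟩ := h
  refine ⟨i, fun j hj => ?_, ?_⟩
  · have h2 := h1 j (fun j' hj' => hlt j' (hj'.trans hj))
    have h3 : u j = v j := hlt j hj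
    show u' j = v' j
    linarith
  · have h2 := h1 i hlt
    show u' i < v' i
    have : u i < v i := hi
    linarith

lemma lex_le_iff {ℓ : ℕ} (u v u' v' : Fin ℓ → ℚ)
    (h1 : ∀ s, (∀ j < s, u j = v j) → u' s - v' s = u s - v s) :
    toLex u ≤ toLex v ↔ toLex u' ≤ toLex v' := by
  have h1' : ∀ s, (∀ j < s, v j = u j) → v' s - u' s = v s - u s := by
    intro s hs
    have := h1 s (fun j hj => (hs j hj).symm)
    linarith
  constructor
  · intro h
    rcases le_iff_lt_or_eq.mp h with hlt | heq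
    · exact (lex_lt_of u v u' v' h1 hlt).le
    · have huv : u = v := heq
      have : u' = v' := by
        funext s
        have := h1 s (fun j _ => congrFun huv j)
        rw [huv] at this
        linarith
      rw [this]
  · intro h
    by_contra hcon
    have hlt : toLex v < toLex u := not_le.mp hcon
    have := lex_lt_of v u v' u' h1' hlt
    exact absurd h (not_le.mpr this)

lemma coeff_delta (P : ℚ[X]) (a : ℚ) (d : ℕ) (hP : P.natDegree ≤ d) (e : ℕ) :
    (P - P.comp (X - C a)).coeff e =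
      - ∑ i ∈ Finset.range d, ((i + 1 + e).choose e : ℚ) * P.coeff (i + 1 + e) * (-a) ^ (i + 1) := by
  have h1 : P.comp (X - C a) = taylor (-a) P := by
    rw [taylor_apply, map_neg, sub_eq_add_neg]
  have h2 : ((hasseDeriv e) P).natDegree < d + 1 := by
    have := natDegree_hasseDeriv_le P e
    omega
  rw [coeff_sub, h1, taylor_coeff, eval_eq_sum_range' h2, Finset.sum_range_succ']
  simp only [hasseDeriv_coeff, pow_zero, mul_one, zero_add, Nat.choose_self, Nat.cast_one, one_mul]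
  ring

/-- normalised coefficient -/
noncomputable def beta (P : ℚ[X]) (d i : ℕ) : ℚ :=
  P.coeff i * (i.factorial : ℚ) / (P.coeff d * (d.factorial : ℚ))

lemma alpha_delta (P : ℚ[X]) (a : ℚ) (d : ℕ) (hP : P.natDegree ≤ d) (e : ℕ) :
    (P - P.comp (X - C a)).coeff e * (e.factorial : ℚ) =
      - ∑ i ∈ Finset.range d, (P.coeff (i + 1 + e) * ((i + 1 + e).factorial : ℚ)) * (-a) ^ (i + 1) /
          ((i + 1).factorial : ℚ) := by
  rw [coeff_delta P a d hP e, neg_mul, Finset.sum_mul]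
  congr 1
  refine Finset.sum_congr rfl fun i _ => ?_
  have h := Nat.add_choose_mul_factorial_mul_factorial (i + 1) e
  have h' : (((i + 1 + e).choose e : ℕ) : ℚ) * ((i + 1).factorial : ℚ) * (e.factorial : ℚ) =
      ((i + 1 + e).factorial : ℚ) := by exact_mod_cast h
  have hne : ((i + 1).factorial : ℚ) ≠ 0 := by exact_mod_cast (Nat.factorial_ne_zero _)
  field_simp
  linear_combination (P.coeff (i + 1 + e) * (-a) ^ (i + 1)) * h'

lemma alpha_delta_top (P : ℚ[X]) (a : ℚ) (d : ℕ) (hd : 1 ≤ d) (hP : P.natDegree ≤ d) :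
    (P - P.comp (X - C a)).coeff (d - 1) * ((d - 1).factorial : ℚ) =
      a * (P.coeff d * (d.factorial : ℚ)) := by
  rw [alpha_delta P a d hP (d - 1)]
  obtain ⟨d', rfl⟩ : ∃ d', d = d' + 1 := ⟨d - 1, by omega⟩
  rw [Finset.sum_range_succ']
  have hz : ∀ i ∈ Finset.range d', (P.coeff (i + 1 + 1 + (d' + 1 - 1)) *
      ((i + 1 + 1 + (d' + 1 - 1)).factorial : ℚ)) * (-a) ^ (i + 1 + 1) /
        ((i + 1 + 1).factorial : ℚ) = 0 := by
    intro i _
    have : P.coeff (i + 1 + 1 + (d' + 1 - 1)) = 0 :=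
      coeff_eq_zero_of_natDegree_lt (by omega)
    rw [this]; simp
  rw [Finset.sum_eq_zero hz]
  simp only [zero_add, Nat.add_sub_cancel, pow_one, Nat.factorial_one, Nat.cast_one, div_one]
  have : 1 + d' = d' + 1 := by omega
  rw [this]
  ring

lemma rho_eq (P : ℚ[X]) (a : ℚ) (ha : a ≠ 0) (d : ℕ) (hd : 1 ≤ d) (hP : P.natDegree ≤ d)
    (hlead : P.coeff d ≠ 0) (e : ℕ) :
    ((P - P.comp (X - C a)).coeff e * (e.factorial : ℚ)) /
        ((P - P.comp (X - C a)).coeff (d - 1) * ((d - 1).factorial : ℚ)) =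
      - ∑ i ∈ Finset.range d, beta P d (i + 1 + e) * ((-a) ^ (i + 1) / (((i + 1).factorial : ℚ) * a)) := by
  rw [alpha_delta_top P a d hd hP, alpha_delta P a d hP e, neg_div, Finset.sum_div]
  congr 1
  refine Finset.sum_congr rfl fun i _ => ?_
  have hne : ((i + 1).factorial : ℚ) ≠ 0 := by exact_mod_cast (Nat.factorial_ne_zero _)
  have hdne : (d.factorial : ℚ) ≠ 0 := by exact_mod_cast (Nat.factorial_ne_zero _)
  unfold beta
  field_simp

lemma key_diff (P Q : ℚ[X]) (a : ℚ) (ha : a ≠ 0) (d : ℕ) (hP : P.natDegree = d) (hQ : Q.natDegree = d)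
    (hP0 : P ≠ 0) (hQ0 : Q ≠ 0) (j : ℕ) (hj : j + 2 ≤ d)
    (hprev : ∀ j' < j, beta P d (d - 1 - j') = beta Q d (d - 1 - j')) :
    ((P - P.comp (X - C a)).coeff (d - 1 - 1 - j) * ((d - 1 - 1 - j).factorial : ℚ)) /
        ((P - P.comp (X - C a)).coeff (d - 1) * ((d - 1).factorial : ℚ)) -
      ((Q - Q.comp (X - C a)).coeff (d - 1 - 1 - j) * ((d - 1 - 1 - j).factorial : ℚ)) /
        ((Q - Q.comp (X - C a)).coeff (d - 1) * ((d - 1).factorial : ℚ)) =
      beta P d (d - 1 - j) - beta Q d (d - 1 - j) := by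
  have hPl : P.coeff d ≠ 0 := by
    rw [← hP]; exact leadingCoeff_ne_zero.mpr hP0
  have hQl : Q.coeff d ≠ 0 := by
    rw [← hQ]; exact leadingCoeff_ne_zero.mpr hQ0
  have hdne : (d.factorial : ℚ) ≠ 0 := by exact_mod_cast (Nat.factorial_ne_zero _)
  rw [rho_eq P a ha d (by omega) hP.le hPl, rho_eq Q a ha d (by omega) hQ.le hQl]
  rw [neg_sub_neg, ← Finset.sum_sub_distrib]
  obtain ⟨d', rfl⟩ : ∃ d', d = d' + 1 := ⟨d - 1, by omega⟩
  rw [Finset.sum_range_succ']
  have hz : ∀ i ∈ Finset.range d',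
      beta Q (d' + 1) (i + 1 + 1 + (d' + 1 - 1 - 1 - j)) *
          ((-a) ^ (i + 1 + 1) / (((i + 1 + 1).factorial : ℚ) * a)) -
        beta P (d' + 1) (i + 1 + 1 + (d' + 1 - 1 - 1 - j)) *
          ((-a) ^ (i + 1 + 1) / (((i + 1 + 1).factorial : ℚ) * a)) = 0 := by
    intro i _
    have hb : beta P (d' + 1) (i + 1 + 1 + (d' + 1 - 1 - 1 - j)) =
        beta Q (d' + 1) (i + 1 + 1 + (d' + 1 - 1 - 1 - j)) := by
      rcases Nat.lt_trichotomy (i + 1 + 1 + (d' + 1 - 1 - 1 - j)) (d' + 1) with hlt | heq | hgt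
      · have h1 := hprev (d' + 1 - 1 - (i + 1 + 1 + (d' + 1 - 1 - 1 - j))) (by omega)
        have h2 : d' + 1 - 1 - (d' + 1 - 1 - (i + 1 + 1 + (d' + 1 - 1 - 1 - j))) =
            i + 1 + 1 + (d' + 1 - 1 - 1 - j) := by omega
        rw [h2] at h1
        exact h1
      · rw [heq]
        unfold beta
        rw [div_self (mul_ne_zero hPl hdne), div_self (mul_ne_zero hQl hdne)]
      · have e1 : P.coeff (i + 1 + 1 + (d' + 1 - 1 - 1 - j)) = 0 :=
          coeff_eq_zero_of_natDegree_lt (by omega)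
        have e2 : Q.coeff (i + 1 + 1 + (d' + 1 - 1 - 1 - j)) = 0 :=
          coeff_eq_zero_of_natDegree_lt (by omega)
        unfold beta
        rw [e1, e2]
        simp
    rw [hb, sub_self]
  rw [Finset.sum_eq_zero hz]
  have h3 : 0 + 1 + (d' + 1 - 1 - 1 - j) = d' + 1 - 1 - j := by omega
  rw [h3]
  simp only [zero_add, pow_one, Nat.factorial_one, Nat.cast_one, one_mul]
  have : -a / a = -1 := by field_simp
  rw [this]
  ring

end Groth.Agent.Lib.Helper72.LexPoly
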