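/-
Helper72: Matsumoto's theorem and the Coxeter presentation for a group generated by involutions
satisfying the (left) exchange condition (Bourbaki, Lie IV §1.5–1.6).
-/
import Mathlib

set_option autoImplicit false
set_option linter.unusedSectionVars false

namespace Groth.Agent.Lib.Helper72.Matsumoto

variable {W : Type*} [Group W] {B : Type*}

/-- the product of a word. -/
def wp {G : Type*} [Monoid G] (s : B → G) (L : List B) : G := (L.map s).prod

section basic

variable {G : Type*} [Monoid G] (s : B → G)

@[simp] lemma wp_nil : wp s ([] : List B) = 1 := rfl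

@[simp] lemma wp_cons (i : B) (L : List B) : wp s (i :: L) = s i * wp s L := by
  simp [wp]

@[simp] lemma wp_append (L L' : List B) : wp s (L ++ L') = wp s L * wp s L' := by
  simp [wp]

lemma wp_singleton (i : B) : wp s [i] = s i := by simp [wp]

end basic

/-- the alternating word of length `q` starting with `a`. -/
def altw (a b : B) : ℕ → List B
  | 0 => []
  | (q + 1) => a :: altw b a q

@[simp] lemma altw_zero (a b : B) : altw a b 0 = [] := rfl

lemma altw_succ (a b : B) (q : ℕ) : altw a b (q + 1) = a :: altw b a q := rfl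

@[simp] lemma length_altw (a b : B) (q : ℕ) : (altw a b q).length = q := by
  induction q generalizing a b with
  | zero => rfl
  | succ q ih => rw [altw_succ, List.length_cons, ih]

lemma dropLast_altw (a b : B) (q : ℕ) : (altw a b (q + 1)).dropLast = altw a b q := by
  induction q generalizing a b with
  | zero => rfl
  | succ q ih =>
    rw [altw_succ a b (q + 1), List.dropLast_cons_of_ne_nil, ih, ← altw_succ]
    rw [altw_succ]
    exact List.cons_ne_nil _ _

/-- alternating products in a group generated by involutions. -/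
lemma wp_altw_mul_inv {G : Type*} [Group G] (x : B → G) (hx : ∀ i, x i * x i = 1) (a b : B)
    (q : ℕ) : wp x (altw a b q) * (wp x (altw b a q))⁻¹ = (x a * x b) ^ q := by
  induction q generalizing a b with
  | zero => simp
  | succ q ih =>
    have hxinv : ∀ i, (x i)⁻¹ = x i := fun i => inv_eq_of_mul_eq_one_right (hx i)
    rw [altw_succ, altw_succ, wp_cons, wp_cons, mul_inv_rev, hxinv]
    have h1 : x a * wp x (altw b a q) * ((wp x (altw a b q))⁻¹ * x b)
        = x a * (wp x (altw b a q) * (wp x (altw a b q))⁻¹) * x b := by group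
    rw [h1, ih b a]
    -- x a * (x b * x a)^q * x b = (x a * x b)^(q+1)
    have h2 : ∀ n : ℕ, x a * (x b * x a) ^ n = (x a * x b) ^ n * x a := by
      intro n
      induction n with
      | zero => simp
      | succ n ihn =>
        rw [pow_succ, ← mul_assoc, ihn, pow_succ]
        group
    rw [h2, pow_succ, mul_assoc]

/-- the exchange condition. -/
structure Exch (s : B → W) (DL : W → B → Prop) : Prop where
  sq : ∀ i, s i * s i = 1
  surj : ∀ w, ∃ L, wp s L = w
  exch : ∀ (L : List B) (i : B), DL (wp s L) i →
    ∃ j, j < L.length ∧ wp s (L.eraseIdx j) = s i * wp s L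
  dl_mul : ∀ w i, DL (s i * w) i ↔ ¬ DL w i

/-- reduced words. -/
def IsRed (s : B → W) (L : List B) : Prop := ∀ L', wp s L' = wp s L → L.length ≤ L'.length

variable {s : B → W} {DL : W → B → Prop}

lemma Exch.s_mul_cancel (h : Exch s DL) (i : B) (w : W) : s i * (s i * w) = w := by
  rw [← mul_assoc, h.sq, one_mul]

lemma Exch.exists_isRed (h : Exch s DL) (w : W) : ∃ L, IsRed s L ∧ wp s L = w := by
  classical
  have hne : ∃ n, ∃ L : List B, L.length = n ∧ wp s L = w := by
    obtain ⟨L, hL⟩ := h.surj w
    exact ⟨L.length, L, rfl, hL⟩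
  obtain ⟨L, hlen, hL⟩ := Nat.find_spec hne
  refine ⟨L, ?_, hL⟩
  intro L' hL'
  rw [hlen]
  exact Nat.find_min' hne ⟨L', rfl, hL'.trans hL⟩

lemma IsRed.of_append {L₁ L₂ : List B} (h : IsRed s (L₁ ++ L₂)) : IsRed s L₁ ∧ IsRed s L₂ := by
  constructor
  · intro L' hL'
    have := h (L' ++ L₂) (by rw [wp_append, wp_append, hL'])
    simp only [List.length_append] at this
    omega
  · intro L' hL'
    have := h (L₁ ++ L') (by rw [wp_append, wp_append, hL'])
    simp only [List.length_append] at this
    omega

lemma IsRed.tail {i : B} {L : List B} (h : IsRed s (i :: L)) : IsRed s L :=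
  (IsRed.of_append (L₁ := [i]) (L₂ := L) h).2

lemma IsRed.length_eq {L L' : List B} (h : IsRed s L) (h' : IsRed s L')
    (he : wp s L = wp s L') : L.length = L'.length :=
  le_antisymm (h L' he.symm) (h' L he)

lemma Exch.dl_of_isRed (h : Exch s DL) {i : B} {L : List B} (hr : IsRed s (i :: L)) :
    DL (wp s (i :: L)) i := by
  by_contra hn
  rw [wp_cons, h.dl_mul, not_not] at hn
  obtain ⟨j, hj, he⟩ := h.exch L i hn
  have := hr (L.eraseIdx j) (by rw [he, wp_cons])
  rw [List.length_eraseIdx_of_lt hj, List.length_cons] at this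
  omega

lemma Exch.exists_exchange (h : Exch s DL) {i : B} {L : List B} (hr : IsRed s L)
    (hd : DL (wp s L) i) :
    ∃ j, j < L.length ∧ IsRed s (i :: L.eraseIdx j) ∧ wp s (i :: L.eraseIdx j) = wp s L := by
  obtain ⟨j, hj, he⟩ := h.exch L i hd
  have hw : wp s (i :: L.eraseIdx j) = wp s L := by
    rw [wp_cons, he, h.s_mul_cancel]
  refine ⟨j, hj, ?_, hw⟩
  intro L' hL'
  have := hr L' (hL'.trans hw)
  rw [List.length_cons, List.length_eraseIdx_of_lt hj]
  omega

lemma Exch.isRed_cons (h : Exch s DL) {i : B} {L : List B} (hr : IsRed s L)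
    (hd : ¬ DL (wp s L) i) : IsRed s (i :: L) := by
  intro K hK
  by_contra hlt
  push Not at hlt
  rw [List.length_cons] at hlt
  -- take K reduced
  obtain ⟨K', hK'r, hK'w⟩ := h.exists_isRed (wp s K)
  have hK'len : K'.length ≤ K.length := hK'r K hK'w.symm
  have hd' : DL (wp s K') i := by
    rw [hK'w, hK, wp_cons, h.dl_mul]
    exact hd
  obtain ⟨j, hj, he⟩ := h.exch K' i hd'
  have hw : wp s (K'.eraseIdx j) = wp s L := by
    rw [he, hK'w, hK, wp_cons, h.s_mul_cancel]
  have := hr _ hw
  rw [List.length_eraseIdx_of_lt hj] at this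
  omega

section matsumoto

variable {M : Type*} [Monoid M] (f : B → M)

/-- the statement of Matsumoto's theorem for words of length `q`. -/
def MatsAt (s : B → W) (f : B → M) (q : ℕ) : Prop :=
  ∀ L L' : List B, L.length = q → IsRed s L → IsRed s L' → wp s L = wp s L' → wp f L = wp f L'

/-- the key step: either the values agree, or the last letter can be dropped and the head of the
other word put in front. -/
lemma step_A (h : Exch s DL) {q : ℕ} (ih : MatsAt s f q)
    {V V' T' : List B} {y : B} (hV : V.length = q + 1) (hVr : IsRed s V) (hV'r : IsRed s V')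
    (hV' : V' = y :: T') (hw : wp s V = wp s V') :
    wp f V = wp f V' ∨
      (IsRed s (y :: V.dropLast) ∧ wp s (y :: V.dropLast) = wp s V ∧
        wp f (y :: V.dropLast) = wp f V') := by
  subst hV'
  have hVne : V ≠ [] := by
    intro h0
    rw [h0] at hV
    simp at hV
  obtain ⟨V₀, c, rfl⟩ : ∃ V₀ c, V = V₀ ++ [c] := by
    rcases List.eq_nil_or_concat V with h0 | ⟨V₀, c, h1⟩
    · exact absurd h0 hVne
    · exact ⟨V₀, c, by rw [h1, List.concat_eq_append]⟩
  have hV₀len : V₀.length = q := by
    rw [List.length_append, List.length_singleton] at hV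
    omega
  have hd : DL (wp s (V₀ ++ [c])) y := by
    rw [hw]
    exact h.dl_of_isRed hV'r
  obtain ⟨j, hj, hjr, hjw⟩ := h.exists_exchange hVr hd
  -- the value at `y :: V.eraseIdx j` equals the value at `V'`
  have hlenT' : T'.length = q := by
    have := hVr.length_eq hV'r hw
    rw [hV, List.length_cons] at this
    omega
  have hfj : wp f (y :: (V₀ ++ [c]).eraseIdx j) = wp f (y :: T') := by
    rw [wp_cons, wp_cons]
    congr 1
    apply ih _ _ _ hjr.tail hV'r.tail
    · have h1 : s y * wp s ((V₀ ++ [c]).eraseIdx j) = s y * wp s T' := by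
        rw [← wp_cons, ← wp_cons, hjw, hw]
      exact mul_left_cancel h1
    · rw [List.length_eraseIdx_of_lt hj, hV]
      rfl
  rw [List.length_append, List.length_singleton] at hj
  rw [List.dropLast_concat]
  rcases Nat.lt_succ_iff_lt_or_eq.mp hj with hlt | heq
  · -- the last letter is kept
    left
    rw [List.eraseIdx_append_of_lt_length hlt] at hjr hjw hfj
    rw [← hfj]
    have hr1 : IsRed s (y :: V₀.eraseIdx j) :=
      (IsRed.of_append (L₁ := y :: V₀.eraseIdx j) (L₂ := [c]) hjr).1
    have hr2 : IsRed s V₀ := (IsRed.of_append hVr).1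
    have hw2 : wp s V₀ = wp s (y :: V₀.eraseIdx j) := by
      have h1 : wp s (y :: V₀.eraseIdx j) * wp s [c] = wp s V₀ * wp s [c] := by
        rw [← wp_append, ← wp_append]
        exact hjw
      exact (mul_right_cancel h1).symm
    have := ih V₀ (y :: V₀.eraseIdx j) hV₀len hr2 hr1 hw2
    have e1 : y :: (V₀.eraseIdx j ++ [c]) = (y :: V₀.eraseIdx j) ++ [c] := rfl
    rw [e1, wp_append, wp_append, this]
  · -- the last letter is erased
    right
    rw [heq, List.eraseIdx_append_of_length_le (le_refl _)] at hjr hjw hfj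
    simp only [Nat.sub_self, List.eraseIdx_cons_zero, List.append_nil] at hjr hjw hfj
    exact ⟨hjr, hjw, hfj⟩

/-- the alternating-prefix induction. -/
lemma step_S (h : Exch s DL) {q : ℕ} (ih : MatsAt s f q)
    (braid : ∀ a b n, wp s (altw a b n) = wp s (altw b a n) → wp f (altw a b n) = wp f (altw b a n)) :
    ∀ (n : ℕ) (x y : B) (k : ℕ) (T V' T' : List B), T.length = n →
      (altw x y (k + 1) ++ T).length = q + 1 → IsRed s (altw x y (k + 1) ++ T) → IsRed s V' →
      V' = y :: T' → wp s (altw x y (k + 1) ++ T) = wp s V' →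
      wp f (altw x y (k + 1) ++ T) = wp f V' := by
  intro n
  induction n with
  | zero =>
    intro x y k T V' T' hT hlen hr hr' hV' hw
    have hT0 : T = [] := List.eq_nil_of_length_eq_zero hT
    subst hT0
    rw [List.append_nil] at hlen hr hw ⊢
    rcases step_A f h ih hlen hr hr' hV' hw with h1 | ⟨h1, h2, h3⟩
    · exact h1
    · rw [dropLast_altw, ← altw_succ] at h1 h2 h3
      rw [← h3]
      exact braid _ _ _ h2.symm
  | succ n ihn =>
    intro x y k T V' T' hT hlen hr hr' hV' hw
    have hTne : T ≠ [] := by
      intro h0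
      rw [h0] at hT
      simp at hT
    obtain ⟨T₀, c, rfl⟩ : ∃ T₀ c, T = T₀ ++ [c] := by
      rcases List.eq_nil_or_concat T with h0 | ⟨T₀, c, h1⟩
      · exact absurd h0 hTne
      · exact ⟨T₀, c, by rw [h1, List.concat_eq_append]⟩
    have hT₀ : T₀.length = n := by
      rw [List.length_append, List.length_singleton] at hT
      omega
    rcases step_A f h ih hlen hr hr' hV' hw with h1 | ⟨h1, h2, h3⟩
    · exact h1
    · rw [← List.append_assoc, List.dropLast_concat] at h1 h2 h3
      have e1 : y :: (altw x y (k + 1) ++ T₀) = altw y x (k + 1 + 1) ++ T₀ := by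
        rw [altw_succ y x (k + 1)]
        rfl
      rw [e1] at h1 h2 h3
      rw [← h3]
      symm
      have hlen2 : (altw y x (k + 1 + 1) ++ T₀).length = q + 1 := by
        rw [List.length_append, length_altw] at hlen ⊢
        rw [List.length_append, List.length_singleton] at hlen
        omega
      have hV : altw x y (k + 1) ++ (T₀ ++ [c]) = x :: (altw y x k ++ (T₀ ++ [c])) := by
        rw [altw_succ]
        rfl
      exact ihn y x (k + 1) T₀ _ _ hT₀ hlen2 h1 hr hV (by rw [h2, List.append_assoc])

/-- **Matsumoto's theorem**: a map to a monoid satisfying the braid relations has the same value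
on all reduced words of an element. -/
theorem matsumoto (h : Exch s DL)
    (braid : ∀ a b n, wp s (altw a b n) = wp s (altw b a n) → wp f (altw a b n) = wp f (altw b a n)) :
    ∀ q, MatsAt s f q := by
  intro q
  induction q with
  | zero =>
    intro L L' hL hr hr' hw
    have h0 : L = [] := List.eq_nil_of_length_eq_zero hL
    have h1 : L'.length = 0 := by
      rw [← hr.length_eq hr' hw, hL]
    have h0' : L' = [] := List.eq_nil_of_length_eq_zero h1
    rw [h0, h0']
  | succ q ih =>
    intro L L' hL hr hr' hw
    have hL' : L'.length = q + 1 := by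
      rw [← hr.length_eq hr' hw, hL]
    obtain ⟨b, L₁, rfl⟩ : ∃ b L₁, L = b :: L₁ := by
      cases L with
      | nil => simp at hL
      | cons b L₁ => exact ⟨b, L₁, rfl⟩
    obtain ⟨a, L'₁, rfl⟩ : ∃ a L'₁, L' = a :: L'₁ := by
      cases L' with
      | nil => simp at hL'
      | cons a L'₁ => exact ⟨a, L'₁, rfl⟩
    by_cases hab : a = b
    · subst hab
      rw [wp_cons, wp_cons]
      congr 1
      apply ih _ _ _ hr.tail hr'.tail
      · rw [wp_cons, wp_cons] at hw
        exact mul_left_cancel hw
      · simpa using hL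
    · have e : b :: L₁ = altw b a (0 + 1) ++ L₁ := rfl
      rw [e] at hL hr hw ⊢
      exact step_S f h ih braid L₁.length b a 0 L₁ _ _ rfl hL hr hr' rfl hw

end matsumoto

end Groth.Agent.Lib.Helper72.Matsumoto
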