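/-
Helper72: the Coxeter presentation of a group generated by involutions satisfying the exchange
condition.
-/
import Mathlib
import Groth.Agent.Lib.Helper72.Matsumoto

set_option autoImplicit false
set_option linter.unusedSectionVars false

namespace Groth.Agent.Lib.Helper72.Matsumoto

variable {W : Type*} [Group W] {B : Type*} {s : B → W} {DL : W → B → Prop}

/-- a group generated by involutions with the exchange condition is a Coxeter group. -/
theorem exists_coxeterSystem (h : Exch s DL) (C : CoxeterMatrix B)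
    (hC : ∀ i j, C.M i j = orderOf (s i * s j)) :
    ∃ cs : CoxeterSystem C W, ∀ i, cs.simple i = s i := by
  classical
  obtain ⟨csG, hcsG⟩ : ∃ csG : CoxeterSystem C C.Group, csG = C.toCoxeterSystem := ⟨_, rfl⟩
  obtain ⟨σ, hσ⟩ : ∃ σ : B → C.Group, σ = csG.simple := ⟨_, rfl⟩
  have hσsq : ∀ i, σ i * σ i = 1 := fun i => by rw [hσ]; exact csG.simple_mul_simple_self i
  have hlift : C.IsLiftable s := by
    intro i j
    rw [hC]
    exact pow_orderOf_eq_one _
  obtain ⟨φ, hφ⟩ : ∃ φ : C.Group →* W, φ = csG.lift ⟨s, hlift⟩ := ⟨_, rfl⟩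
  have hφσ : ∀ i, φ (σ i) = s i := by
    intro i
    rw [hφ, hσ]
    exact csG.lift_apply_simple hlift i
  have hφwp : ∀ L : List B, φ (wp σ L) = wp s L := by
    intro L
    induction L with
    | nil => simp
    | cons i L ih => rw [wp_cons, wp_cons, map_mul, hφσ, ih]
  -- braid relations in the Coxeter group
  have braid : ∀ a b n, wp s (altw a b n) = wp s (altw b a n) →
      wp σ (altw a b n) = wp σ (altw b a n) := by
    intro a b n he
    have h1 : (s a * s b) ^ n = 1 := by
      rw [← wp_altw_mul_inv s h.sq a b n, he, mul_inv_cancel]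
    have h2 : C.M a b ∣ n := by
      rw [hC]
      exact orderOf_dvd_of_pow_eq_one h1
    have h3 : (σ a * σ b) ^ n = 1 := by
      obtain ⟨m, rfl⟩ := h2
      rw [pow_mul, hσ, csG.simple_mul_simple_pow, one_pow]
    have h4 := wp_altw_mul_inv σ hσsq a b n
    rw [h3] at h4
    exact mul_inv_eq_one.mp h4
  have mats := matsumoto σ h braid
  -- the section
  choose red hred hredw using h.exists_isRed
  obtain ⟨g, hg⟩ : ∃ g : W → C.Group, g = fun w => wp σ (red w) := ⟨_, rfl⟩
  have hg_red : ∀ L, IsRed s L → g (wp s L) = wp σ L := by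
    intro L hL
    rw [hg]
    exact mats _ _ _ rfl (hred _) hL (hredw _)
  have hg_mul_of_not : ∀ w i, ¬ DL w i → g (s i * w) = σ i * g w := by
    intro w i hd
    have h1 : IsRed s (i :: red w) := h.isRed_cons (hred w) (by rw [hredw]; exact hd)
    have h2 := hg_red _ h1
    rw [wp_cons, wp_cons, hredw] at h2
    rw [h2, hg]
  have hg_mul : ∀ w i, g (s i * w) = σ i * g w := by
    intro w i
    by_cases hd : DL w i
    · have hd' : ¬ DL (s i * w) i := by
        rw [h.dl_mul]
        exact not_not.mpr hd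
      have := hg_mul_of_not (s i * w) i hd'
      rw [h.s_mul_cancel] at this
      rw [this, ← mul_assoc, hσsq, one_mul]
    · exact hg_mul_of_not w i hd
  have hg_one : g 1 = 1 := by
    have h1 : IsRed s ([] : List B) := fun L' _ => Nat.zero_le _
    have := hg_red [] h1
    simpa using this
  have hg_wp : ∀ L : List B, g (wp s L) = wp σ L := by
    intro L
    induction L with
    | nil => simpa using hg_one
    | cons i L ih => rw [wp_cons, wp_cons, hg_mul, ih]
  have hsurjσ : ∀ x : C.Group, ∃ L : List B, wp σ L = x := by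
    intro x
    obtain ⟨L, hL⟩ := csG.wordProd_surjective x
    refine ⟨L, ?_⟩
    rw [← hL, hσ]
    rfl
  have hinj : Function.Injective φ := by
    intro x y hxy
    obtain ⟨L, rfl⟩ := hsurjσ x
    obtain ⟨L', rfl⟩ := hsurjσ y
    rw [hφwp, hφwp] at hxy
    rw [← hg_wp, ← hg_wp, hxy]
  have hsurj : Function.Surjective φ := by
    intro w
    obtain ⟨L, rfl⟩ := h.surj w
    exact ⟨wp σ L, hφwp L⟩
  obtain ⟨e, he⟩ : ∃ e : C.Group ≃* W, ∀ x, e x = φ x :=
    ⟨MulEquiv.ofBijective φ ⟨hinj, hsurj⟩, fun x => rfl⟩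
  refine ⟨⟨e.symm⟩, ?_⟩
  intro i
  have h1 : (CoxeterSystem.mk (M := C) e.symm).simple i = e (C.simple i) := rfl
  have h2 : C.simple i = σ i := by
    rw [hσ, hcsG]
    rfl
  rw [h1, he, h2, hφσ]

end Groth.Agent.Lib.Helper72.Matsumoto
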