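import Mathlib
import Groth.Agent.Lib.Helper28.HilbT15

/-! Powers of the irrelevant ideal: exponents, finiteness, and the region `(Ĩ + α) ∖ Ĩ`. -/

set_option autoImplicit false
set_option linter.unusedSectionVars false
universe u

namespace Groth.Agent.Lib.Helper72.MaxPow

open W4c1hilbpn MvPolynomial Groth.Agent.Lib.Helper28.HilbT

variable (k : Type u) [Field k] (n r : ℕ)

/-- The `r`-th power of the irrelevant ideal in `n` variables. -/
noncomputable abbrev mI : Ideal (MvPolynomial (Fin n) k) :=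
  (Ideal.span (Set.range (MvPolynomial.X : Fin n → MvPolynomial (Fin n) k))) ^ r

lemma mem_exps_iff (β : Fin n →₀ ℕ) : β ∈ exps (mI k n r) ↔ r ≤ ∑ i, β i := by
  unfold exps
  change monomial β (1 : k) ∈ mI k n r ↔ _
  have h := monomial_mem_pow_idealOfVars_iff (σ := Fin n) (R := k) r β (one_ne_zero)
  rw [Finsupp.degree_eq_sum] at h
  exact h

lemma isMonomial : IsMonomial (mI k n r) := by
  intro p hp β hβ
  have h1 := (mem_pow_idealOfVars_iff (σ := Fin n) (R := k) r p).mp hp β hβ
  exact (monomial_mem_pow_idealOfVars_iff (σ := Fin n) (R := k) r β one_ne_zero).mpr h1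

instance finite_quot : Module.Finite k (MvPolynomial (Fin n) k ⧸ mI k n r) := by
  classical
  have hfin : {β : Fin n →₀ ℕ | β.degree < r}.Finite := Finsupp.finite_of_degree_lt r
  refine ⟨⟨hfin.toFinset.image (fun β => Ideal.Quotient.mk (mI k n r) (monomial β 1)), ?_⟩⟩
  rw [eq_top_iff]
  rintro x -
  obtain ⟨p, rfl⟩ := Ideal.Quotient.mk_surjective x
  rw [p.as_sum, map_sum]
  refine Submodule.sum_mem _ fun β hβ => ?_
  by_cases hd : β.degree < r
  · have h1 : monomial β (coeff β p) = coeff β p • monomial β (1 : k) := by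
      rw [smul_monomial, smul_eq_mul, mul_one]
    rw [h1]
    have h2 : Ideal.Quotient.mk (mI k n r) (coeff β p • monomial β (1 : k)) =
        coeff β p • Ideal.Quotient.mk (mI k n r) (monomial β (1 : k)) := rfl
    rw [h2]
    refine Submodule.smul_mem _ _ (Submodule.subset_span ?_)
    rw [Finset.coe_image]
    exact ⟨β, by simpa using hd, rfl⟩
  · have h1 : monomial β (coeff β p) ∈ mI k n r := by
      rw [mem_pow_idealOfVars_iff]
      intro x hx
      have hx' : x = β := by
        by_contra hne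
        rw [mem_support_iff, coeff_monomial, if_neg (Ne.symm hne)] at hx
        exact hx rfl
      rw [hx']
      exact not_lt.mp hd
    rw [Ideal.Quotient.eq_zero_iff_mem.mpr h1]
    exact zero_mem _

lemma sum_toNat_of_nonneg {γ : Fin n → ℤ} (h : ∀ i, 0 ≤ γ i) :
    ((∑ i, (γ i).toNat : ℕ) : ℤ) = ∑ i, γ i := by
  rw [Nat.cast_sum]
  exact Finset.sum_congr rfl fun i _ => Int.toNat_of_nonneg (h i)

lemma mem_region_iff (α γ : Fin n → ℤ) :
    γ ∈ region (mI k n r) α ↔
      (∀ i, α i ≤ γ i) ∧ (r : ℤ) + ∑ i, α i ≤ ∑ i, γ i ∧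
        ((∃ i, γ i < 0) ∨ ∑ i, γ i < r) := by
  rw [mem_region]
  constructor
  · rintro ⟨⟨β, hβ, rfl⟩, hnot⟩
    rw [mem_exps_iff] at hβ
    refine ⟨fun i => ?_, ?_, ?_⟩
    · rw [up_apply]
      have : (0 : ℤ) ≤ β i := Int.natCast_nonneg _
      omega
    · have h1 : ∑ i, up β α i = ∑ i, (β i : ℤ) + ∑ i, α i := by
        simp only [up_apply]
        rw [Finset.sum_add_distrib]
      rw [h1]
      have h2 : (r : ℤ) ≤ ∑ i, (β i : ℤ) := by
        rw [← Nat.cast_sum]
        exact_mod_cast hβ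
      omega
    · by_contra hcon
      push Not at hcon
      obtain ⟨h1, h2⟩ := hcon
      apply hnot
      refine ⟨h1, ?_⟩
      rw [mem_exps_iff]
      have h3 := sum_toNat_of_nonneg n h1
      simp only [toN_apply]
      have : ((r : ℕ) : ℤ) ≤ ((∑ i, (up β α i).toNat : ℕ) : ℤ) := by
        rw [h3]; exact h2
      exact_mod_cast this
  · rintro ⟨h1, h2, h3⟩
    have hnn : ∀ i, 0 ≤ γ i - α i := fun i => by have := h1 i; omega
    refine ⟨⟨toN (γ - α), ?_, ?_⟩, ?_⟩
    · rw [mem_exps_iff]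
      simp only [toN_apply, Pi.sub_apply]
      have h4 := sum_toNat_of_nonneg n (γ := fun i => γ i - α i) hnn
      have h5 : ∑ i, (γ i - α i) = ∑ i, γ i - ∑ i, α i := by
        rw [Finset.sum_sub_distrib]
      have : ((r : ℕ) : ℤ) ≤ ((∑ i, (γ i - α i).toNat : ℕ) : ℤ) := by
        rw [h4, h5]; omega
      exact_mod_cast this
    · funext i
      rw [up_apply, toN_apply, Pi.sub_apply, Int.toNat_of_nonneg (hnn i)]
      ring
    · rintro ⟨h4, h5⟩
      rw [mem_exps_iff] at h5
      simp only [toN_apply] at h5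
      have h6 := sum_toNat_of_nonneg n h4
      have h7 : ((r : ℕ) : ℤ) ≤ ((∑ i, (γ i).toNat : ℕ) : ℤ) := by exact_mod_cast h5
      rw [h6] at h7
      rcases h3 with ⟨i, hi⟩ | h3
      · exact absurd (h4 i) (not_le.mpr hi)
      · omega

lemma sum_add_single (γ : Fin n → ℤ) (i : Fin n) :
    ∑ j, (γ + Pi.single i 1 : Fin n → ℤ) j = ∑ j, γ j + 1 := by
  simp only [Pi.add_apply]
  rw [Finset.sum_add_distrib, Finset.sum_pi_single']
  simp

end Groth.Agent.Lib.Helper72.MaxPow
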