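import Mathlib
import Groth.Agent.Lib.Helper72.MaxPowA

/-! Good components of the region for powers of the irrelevant ideal. -/

set_option autoImplicit false
set_option linter.unusedSectionVars false
universe u

namespace Groth.Agent.Lib.Helper72.MaxPow

open W4c1hilbpn MvPolynomial Groth.Agent.Lib.Helper28.HilbT

variable (k : Type u) [Field k] (n r : ℕ) (α : Fin n → ℤ)

/-- When the entries of `α` sum to `-1`, a nonnegative point of the region is isolated. -/
lemma not_adj_of_sum_eq (hα : ∑ i, α i = -1) {γ γ' : Fin n → ℤ}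
    (hγ : γ ∈ region (mI k n r) α) (hnn : ∀ i, 0 ≤ γ i)
    (hγ' : γ' ∈ region (mI k n r) α) : ¬ (stepGraph (Fin n)).Adj γ γ' := by
  intro hadj
  rw [mem_region_iff] at hγ hγ'
  obtain ⟨h1, h2, h3⟩ := hγ
  obtain ⟨h1', h2', h3'⟩ := hγ'
  have h4 : ∑ i, γ i < r := by
    rcases h3 with ⟨i, hi⟩ | h3
    · exact absurd (hnn i) (not_le.mpr hi)
    · exact h3
  obtain ⟨i, hi | hi⟩ := (stepGraph_adj_iff γ γ').mp hadj
  · have h5 : ∑ j, γ' j = ∑ j, γ j + 1 := by rw [hi]; exact sum_add_single n γ i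
    rcases h3' with ⟨j, hj⟩ | h3'
    · have h6 : γ' j = γ j + (Pi.single i 1 : Fin n → ℤ) j := by rw [hi]; rfl
      have h7 : (0 : ℤ) ≤ (Pi.single i 1 : Fin n → ℤ) j := by
        by_cases hji : j = i
        · subst hji; simp
        · rw [Pi.single_apply, if_neg hji]
      have := hnn j
      omega
    · omega
  · have h5 : ∑ j, γ j = ∑ j, γ' j + 1 := by rw [hi]; exact sum_add_single n γ' i
    omega

/-- When the entries of `α` sum to `-1`, anything reachable from a nonnegative point is that point. -/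
lemma eq_of_reachable (hα : ∑ i, α i = -1) {v w : region (mI k n r) α}
    (hnn : ∀ i, 0 ≤ v.1 i) (h : (RG (mI k n r) α).Reachable v w) : w = v := by
  obtain ⟨p⟩ := h
  cases p with
  | nil => rfl
  | cons hadj _ =>
    exfalso
    exact not_adj_of_sum_eq k n r α hα v.2 hnn (Subtype.property _) (SimpleGraph.induce_adj.mp hadj)

/-- The nonnegative points of the region. -/
abbrev NN : Type := {γ : Fin n → ℤ // γ ∈ region (mI k n r) α ∧ ∀ i, 0 ≤ γ i}

/-- When the entries of `α` sum to `-1`, good components are the nonnegative points. -/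
noncomputable def goodEquivNN (hα : ∑ i, α i = -1) :
    NN k n r α ≃ {c // Good (mI k n r) α c} := by
  refine Equiv.ofBijective
    (fun γ => ⟨(RG (mI k n r) α).connectedComponentMk ⟨γ.1, γ.2.1⟩, ?_⟩) ⟨?_, ?_⟩
  · intro v hv
    have h1 : (RG (mI k n r) α).Reachable ⟨γ.1, γ.2.1⟩ v :=
      (SimpleGraph.ConnectedComponent.exact hv).symm
    have h2 := eq_of_reachable k n r α hα (v := ⟨γ.1, γ.2.1⟩) γ.2.2 h1
    rw [h2]
    exact γ.2.2
  · intro γ γ' h
    have h0 : (RG (mI k n r) α).connectedComponentMk ⟨γ.1, γ.2.1⟩ =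
        (RG (mI k n r) α).connectedComponentMk ⟨γ'.1, γ'.2.1⟩ := congrArg Subtype.val h
    have h1 := SimpleGraph.ConnectedComponent.exact h0
    have h2 := eq_of_reachable k n r α hα (v := ⟨γ.1, γ.2.1⟩) γ.2.2 h1
    apply Subtype.ext
    exact (congrArg Subtype.val h2).symm
  · rintro ⟨c, hc⟩
    obtain ⟨v, rfl⟩ := exists_rep c
    exact ⟨⟨v.1, v.2, hc v rfl⟩, rfl⟩

/-- If the entries of `α` sum to something nonnegative, there are no nonnegative points. -/
lemma isEmpty_NN_of_nonneg (hα : 0 ≤ ∑ i, α i) : IsEmpty (NN k n r α) := by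
  constructor
  rintro ⟨γ, hγ, hnn⟩
  rw [mem_region_iff] at hγ
  obtain ⟨h1, h2, h3⟩ := hγ
  rcases h3 with ⟨i, hi⟩ | h3
  · exact absurd (hnn i) (not_le.mpr hi)
  · omega

lemma isEmpty_good_of_isEmpty_NN (h : IsEmpty (NN k n r α)) :
    IsEmpty {c // Good (mI k n r) α c} := by
  constructor
  rintro ⟨c, hc⟩
  obtain ⟨v, rfl⟩ := exists_rep c
  exact h.false ⟨v.1, v.2, hc v rfl⟩

/-- If the entries of `α` sum to at most `-2` (and `n ≥ 2`), every nonnegative point of the region is
joined to a point with a negative entry. -/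
lemma exists_reach_neg (hn : 2 ≤ n) (hα : ∑ i, α i ≤ -2) (m : ℕ) :
    ∀ (i0 j0 : Fin n), α i0 < 0 → j0 ≠ i0 → ∀ v : region (mI k n r) α, (∀ i, 0 ≤ v.1 i) →
      2 * (v.1 i0).toNat + ((r : ℤ) - 1 - ∑ i, v.1 i).toNat = m →
      ∃ w : region (mI k n r) α, (∃ j, w.1 j < 0) ∧ (RG (mI k n r) α).Reachable v w := by
  induction m using Nat.strong_induction_on with
  | _ m ih =>
    intro i0 j0 hi0 hj0 v hnn hm
    have hv := (mem_region_iff k n r α v.1).mp v.2
    obtain ⟨h1, h2, h3⟩ := hv
    have h4 : ∑ i, v.1 i < r := by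
      rcases h3 with ⟨i, hi⟩ | h3
      · exact absurd (hnn i) (not_le.mpr hi)
      · exact h3
    clear h3
    by_cases hlt : ∑ i, v.1 i < (r : ℤ) - 1
    · -- step up in direction `j0`
      have hsum : ∑ j, (v.1 + Pi.single j0 1 : Fin n → ℤ) j = ∑ j, v.1 j + 1 :=
        sum_add_single n v.1 j0
      have hge : ∀ i, v.1 i ≤ (v.1 + Pi.single j0 1 : Fin n → ℤ) i := by
        intro i
        rw [Pi.add_apply]
        by_cases hij : i = j0
        · subst hij; simp
        · rw [Pi.single_apply, if_neg hij]; simp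
      have hmem : (v.1 + Pi.single j0 1 : Fin n → ℤ) ∈ region (mI k n r) α := by
        rw [mem_region_iff]
        refine ⟨fun i => (h1 i).trans (hge i), ?_, Or.inr ?_⟩
        · rw [hsum]; omega
        · rw [hsum]; omega
      have hi0eq : (v.1 + Pi.single j0 1 : Fin n → ℤ) i0 = v.1 i0 := by
        rw [Pi.add_apply, Pi.single_apply, if_neg (Ne.symm hj0), add_zero]
      obtain ⟨w, hw1, hw2⟩ := ih (m - 1) (by omega) i0 j0 hi0 hj0 ⟨_, hmem⟩
        (fun i => (hnn i).trans (hge i)) (by
          change 2 * ((v.1 + Pi.single j0 1 : Fin n → ℤ) i0).toNat +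
            ((r : ℤ) - 1 - ∑ i, (v.1 + Pi.single j0 1 : Fin n → ℤ) i).toNat = m - 1
          rw [hi0eq, hsum]
          omega)
      refine ⟨w, hw1, SimpleGraph.Reachable.trans ?_ hw2⟩
      exact SimpleGraph.Adj.reachable (SimpleGraph.induce_adj.mpr (stepGraph_adj_add_single v.1 j0))
    · -- step down in direction `i0`
      have hsumv : ∑ i, v.1 i = (r : ℤ) - 1 := by omega
      obtain ⟨u, hu⟩ : ∃ u : Fin n → ℤ, u = v.1 - Pi.single i0 1 := ⟨_, rfl⟩
      have hvu : v.1 = u + Pi.single i0 1 := by rw [hu, sub_add_cancel]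
      have hsumu : ∑ j, v.1 j = ∑ j, u j + 1 := by rw [hvu]; exact sum_add_single n u i0
      have hui : ∀ i, i ≠ i0 → u i = v.1 i := by
        intro i hi
        rw [hu, Pi.sub_apply, Pi.single_apply, if_neg hi, sub_zero]
      have hu0 : u i0 = v.1 i0 - 1 := by
        rw [hu, Pi.sub_apply, Pi.single_eq_same]
      have hmem : u ∈ region (mI k n r) α := by
        rw [mem_region_iff]
        refine ⟨fun i => ?_, by omega, Or.inr (by omega)⟩
        by_cases hi : i = i0
        · subst hi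
          have := hnn i
          omega
        · rw [hui i hi]; exact h1 i
      have hadj : (RG (mI k n r) α).Adj v ⟨u, hmem⟩ := by
        apply SimpleGraph.induce_adj.mpr
        have := stepGraph_adj_add_single u i0
        rw [← hvu] at this
        exact this.symm
      by_cases hz : v.1 i0 = 0
      · exact ⟨⟨u, hmem⟩, ⟨i0, by change u i0 < 0; omega⟩, hadj.reachable⟩
      · have hpos : 1 ≤ v.1 i0 := by have := hnn i0; omega
        have hunn : ∀ i, 0 ≤ u i := by
          intro i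
          by_cases hi : i = i0
          · subst hi; omega
          · rw [hui i hi]; exact hnn i
        obtain ⟨w, hw1, hw2⟩ := ih (m - 1) (by omega) i0 j0 hi0 hj0 ⟨u, hmem⟩ hunn (by
          change 2 * (u i0).toNat + ((r : ℤ) - 1 - ∑ i, u i).toNat = m - 1
          rw [hu0]
          have : ∑ i, u i = (r : ℤ) - 2 := by omega
          rw [this]
          omega)
        exact ⟨w, hw1, hadj.reachable.trans hw2⟩

lemma isEmpty_good_of_le (hn : 2 ≤ n) (hα : ∑ i, α i ≤ -2) :
    IsEmpty {c // Good (mI k n r) α c} := by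
  constructor
  rintro ⟨c, hc⟩
  obtain ⟨v, rfl⟩ := exists_rep c
  have hnn := hc v rfl
  -- find a negative entry of `α`
  have hex : ∃ i0, α i0 < 0 := by
    by_contra hcon
    push Not at hcon
    have : 0 ≤ ∑ i, α i := Finset.sum_nonneg fun i _ => hcon i
    omega
  obtain ⟨i0, hi0⟩ := hex
  have hex2 : ∃ j0 : Fin n, j0 ≠ i0 := by
    by_cases h0 : i0 = ⟨0, by omega⟩
    · exact ⟨⟨1, by omega⟩, by rw [h0]; intro h; exact absurd (congrArg Fin.val h) (by simp)⟩
    · exact ⟨⟨0, by omega⟩, fun h => h0 h.symm⟩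
  obtain ⟨j0, hj0⟩ := hex2
  obtain ⟨w, ⟨j, hj⟩, hw⟩ := exists_reach_neg k n r α hn hα _ i0 j0 hi0 hj0 v hnn rfl
  have := hc w (SimpleGraph.ConnectedComponent.sound hw.symm) j
  omega

end Groth.Agent.Lib.Helper72.MaxPow
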