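import Mathlib
import Groth.Agent.Lib.Helper72.MaxPowB

/-! Dimension of the graded pieces of `T(m^r)`. -/

set_option autoImplicit false
set_option linter.unusedSectionVars false
universe u

namespace Groth.Agent.Lib.Helper72.MaxPow

open W4c1hilbpn MvPolynomial Groth.Agent.Lib.Helper28.HilbT

variable (k : Type u) [Field k] (n r : ℕ) (α : Fin n → ℤ)

lemma sum_toNat_sub (α : Fin n → ℤ) :
    ((∑ i, (α i).toNat : ℕ) : ℤ) - ((∑ i, (-α i).toNat : ℕ) : ℤ) = ∑ i, α i := by
  rw [Nat.cast_sum, Nat.cast_sum, ← Finset.sum_sub_distrib]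
  exact Finset.sum_congr rfl fun i _ => by omega

lemma mem_NN_iff (hα : ∑ i, α i = -1) (γ : Fin n → ℤ) :
    (γ ∈ region (mI k n r) α ∧ ∀ i, 0 ≤ γ i) ↔
      (∀ i, ((α i).toNat : ℤ) ≤ γ i) ∧ ∑ i, γ i = (r : ℤ) - 1 := by
  rw [mem_region_iff]
  constructor
  · rintro ⟨⟨h1, h2, h3⟩, hnn⟩
    refine ⟨fun i => ?_, ?_⟩
    · have := h1 i
      have := hnn i
      omega
    · rcases h3 with ⟨i, hi⟩ | h3
      · exact absurd (hnn i) (not_le.mpr hi)
      · omega
  · rintro ⟨h1, h2⟩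
    refine ⟨⟨fun i => ?_, by omega, Or.inr (by omega)⟩, fun i => ?_⟩
    · have := h1 i
      omega
    · have := h1 i
      omega

lemma card_NN (hn : 1 ≤ n) (hα : ∑ i, α i = -1) :
    Nat.card (NN k n r α) =
      if ∑ i, (-α i).toNat ≤ r then Nat.choose (n + r - (∑ i, (-α i).toNat) - 1) (n - 1) else 0 := by
  classical
  have hpw := sum_toNat_sub n α
  rw [hα] at hpw
  obtain ⟨w, hw⟩ : ∃ w : ℕ, w = ∑ i, (-α i).toNat := ⟨_, rfl⟩
  obtain ⟨p, hp⟩ : ∃ p : ℕ, p = ∑ i, (α i).toNat := ⟨_, rfl⟩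
  rw [← hw, ← hp] at hpw
  rw [← hw]
  have hpc : ((p : ℕ) : ℤ) = ∑ i, ((α i).toNat : ℤ) := by rw [hp, Nat.cast_sum]
  by_cases hwr : w ≤ r
  · rw [if_pos hwr]
    have e : NN k n r α ≃ ↥((Finset.univ : Finset (Fin n)).finsuppAntidiag (r - w)) := by
      refine
        { toFun := fun γ => ⟨toN (fun i => γ.1 i - ((α i).toNat : ℤ)), ?_⟩
          invFun := fun δ => ⟨fun i => (δ.1 i : ℤ) + ((α i).toNat : ℤ), ?_⟩
          left_inv := ?_
          right_inv := ?_ }
      · obtain ⟨h1, h2⟩ := (mem_NN_iff k n r α hα γ.1).mp γ.2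
        rw [Finset.mem_finsuppAntidiag]
        refine ⟨?_, Finset.subset_univ _⟩
        have h3 := sum_toNat_of_nonneg n (γ := fun i => γ.1 i - ((α i).toNat : ℤ))
          (fun i => by have := h1 i; omega)
        rw [Finset.sum_sub_distrib, ← hpc] at h3
        have h4 : ((∑ i, (γ.1 i - ((α i).toNat : ℤ)).toNat : ℕ) : ℤ) = ((r - w : ℕ) : ℤ) := by
          rw [h3, h2]
          omega
        have h5 : ∑ i, (γ.1 i - ((α i).toNat : ℤ)).toNat = r - w := by exact_mod_cast h4
        exact h5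
      · rw [mem_NN_iff k n r α hα]
        obtain ⟨h1, -⟩ := Finset.mem_finsuppAntidiag.mp δ.2
        refine ⟨fun i => ?_, ?_⟩
        · have : (0 : ℤ) ≤ (δ.1 i : ℤ) := Int.natCast_nonneg _
          omega
        · rw [Finset.sum_add_distrib, ← hpc, ← Nat.cast_sum, h1]
          omega
      · intro γ
        obtain ⟨h1, h2⟩ := (mem_NN_iff k n r α hα γ.1).mp γ.2
        apply Subtype.ext
        funext i
        change ((toN (fun i => γ.1 i - ((α i).toNat : ℤ)) i : ℕ) : ℤ) + ((α i).toNat : ℤ) = γ.1 i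
        rw [toN_apply]
        have := h1 i
        omega
      · intro δ
        apply Subtype.ext
        ext i
        change (toN (fun i => ((δ.1 i : ℤ) + ((α i).toNat : ℤ)) - ((α i).toNat : ℤ)) i : ℕ) = δ.1 i
        rw [toN_apply]
        omega
    rw [Nat.card_congr e, Nat.card_eq_finsetCard, Finset.card_finsuppAntidiag_nat_eq_choose,
      Finset.card_univ, Fintype.card_fin]
    have h5 : n + (r - w) - 1 = n + r - w - 1 := by omega
    rw [h5]
    exact Nat.choose_symm_of_eq_add (by omega)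
  · rw [if_neg hwr]
    have : IsEmpty (NN k n r α) := by
      constructor
      rintro ⟨γ, hγ⟩
      obtain ⟨h1, h2⟩ := (mem_NN_iff k n r α hα γ).mp hγ
      have h3 : ∑ i, ((α i).toNat : ℤ) ≤ ∑ i, γ i := Finset.sum_le_sum fun i _ => h1 i
      rw [← hpc] at h3
      omega
    exact Nat.card_of_isEmpty

theorem finrank_tPiece_pow (hn : 2 ≤ n) :
    Module.finrank k ↥(tPiece (mI k n r) α) =
      if (∑ i, α i = -1 ∧ ∑ i, (-α i).toNat ≤ r)
        then Nat.choose (n + r - (∑ i, (-α i).toNat) - 1) (n - 1) else 0 := by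
  rw [finrank_tPiece_eq_card_good (isMonomial k n r)]
  by_cases hα : ∑ i, α i = -1
  · rw [← Nat.card_congr (goodEquivNN k n r α hα), card_NN k n r α (by omega) hα]
    by_cases hw : ∑ i, (-α i).toNat ≤ r
    · rw [if_pos hw, if_pos ⟨hα, hw⟩]
    · rw [if_neg hw, if_neg (fun h => hw h.2)]
  · rw [if_neg (fun h => hα h.1)]
    have : IsEmpty {c // Good (mI k n r) α c} := by
      rcases lt_or_gt_of_ne hα with h | h
      · exact isEmpty_good_of_le k n r α hn (by omega)
      · exact isEmpty_good_of_isEmpty_NN k n r α (isEmpty_NN_of_nonneg k n r α (by omega))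
    exact Nat.card_of_isEmpty

end Groth.Agent.Lib.Helper72.MaxPow
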