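import Mathlib
import Groth.Agent.Lib.Helper72.MaxPowC
import Groth.Agent.Lib.Helper72.HilbDualI

/-! Sign-pattern pieces of `T(m^r)` in three variables. -/

set_option autoImplicit false
set_option linter.unusedSectionVars false
universe u

namespace Groth.Agent.Lib.Helper72.MaxPow

open W4c1hilbpn MvPolynomial Groth.Agent.Lib.Helper28.HilbT Groth.Agent.Lib.Helper72.HilbDual

variable (k : Type u) [Field k] (r : ℕ) (π : Equiv.Perm (Fin 3))

lemma sum_perm {M : Type*} [AddCommMonoid M] (f : Fin 3 → M) :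
    ∑ l, f l = f (π 0) + f (π 1) + f (π 2) := by
  rw [← Equiv.sum_comp π f, Fin.sum_univ_three]

lemma ex_mem_iff' (a b t : ℕ) : ex π a b t ∈ exps (mI k 3 r) ↔ r ≤ a + b + t := by
  rw [mem_exps_iff, sum_perm π]
  simp

lemma st_eq (a b : ℕ) : st π (mI k 3 r) a b = r - (a + b) := by
  have hI := isMonomial k 3 r
  have h : ∀ t, t < st π (mI k 3 r) a b ↔ a + b + t < r := by
    intro t
    rw [← ex_notMem_iff π hI, ex_mem_iff']
    omega
  have h1 := h (st π (mI k 3 r) a b)
  have h2 := h (r - (a + b))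
  omega

lemma le_bnd : r ≤ bnd (mI k 3 r) (isMonomial k 3 r) := by
  rcases Nat.eq_zero_or_pos r with h | h
  · omega
  · have h1 : ex (1 : Equiv.Perm (Fin 3)) (r - 1) 0 0 ∉ exps (mI k 3 r) := by
      rw [ex_mem_iff']
      omega
    have := lt_bnd _ (isMonomial k 3 r) h1 ((1 : Equiv.Perm (Fin 3)) 0)
    rw [ex_0] at this
    omega

lemma finrank_degS (i j s : ℕ) (hs : 1 ≤ s) :
    Module.finrank k (tPiece (mI k 3 r) (degS π i j s)) =
      if (i + j + 1 = s ∧ s ≤ r) then Nat.choose (r + 2 - s) 2 else 0 := by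
  rw [finrank_tPiece_pow k 3 r _ (by norm_num)]
  have h1 : ∑ l, degS π i j s l = (i : ℤ) + j - s := by
    rw [sum_perm π]
    simp only [degS, pt_0, pt_1, pt_2]
    ring
  have h2 : ∑ l, (-(degS π i j s l)).toNat = s := by
    rw [sum_perm π]
    simp only [degS, pt_0, pt_1, pt_2]
    omega
  rw [h1, h2]
  by_cases h : i + j + 1 = s ∧ s ≤ r
  · rw [if_pos h, if_pos ⟨by omega, h.2⟩]
    congr 1
    omega
  · rw [if_neg h, if_neg]
    rintro ⟨h3, h4⟩
    exact h ⟨by omega, h4⟩

lemma hockey (c m : ℕ) : ∑ j ∈ Finset.range m, Nat.choose (j + c) c = Nat.choose (m + c) (c + 1) := by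
  induction m with
  | zero => simp
  | succ m ih =>
    rw [Finset.sum_range_succ, ih]
    have : m + 1 + c = (m + c) + 1 := by ring
    rw [this, Nat.choose_succ_succ' (m + c) c]
    ring

/-- Reflected hockey stick. -/
lemma hockey_reflect (c m : ℕ) :
    ∑ j ∈ Finset.range m, Nat.choose (m - 1 - j + c) c = Nat.choose (m + c) (c + 1) := by
  rw [Finset.sum_range_reflect (fun j => Nat.choose (j + c) c) m, hockey]

/-- A sum over a big range of a function supported on a small range. -/
lemma sum_range_big {f : ℕ → ℕ} {m B : ℕ} (hmB : m ≤ B) (hf : ∀ j, m ≤ j → f j = 0) :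
    ∑ j ∈ Finset.range B, f j = ∑ j ∈ Finset.range m, f j := by
  symm
  apply Finset.sum_subset
  · intro j hj
    rw [Finset.mem_range] at hj ⊢
    omega
  · intro j _ hj
    rw [Finset.mem_range] at hj
    exact hf j (by omega)

lemma triple_sum (B : ℕ) (hB : r ≤ B) :
    ∑ u ∈ Finset.range B ×ˢ Finset.range B, ∑ s ∈ Finset.Icc 1 r,
      (if (u.1 + u.2 + 1 = s ∧ s ≤ r) then Nat.choose (r + 2 - s) 2 else 0) =
      Nat.choose (r + 3) 4 := by
  have step1 : ∀ i j : ℕ, ∑ s ∈ Finset.Icc 1 r,
      (if (i + j + 1 = s ∧ s ≤ r) then Nat.choose (r + 2 - s) 2 else 0) =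
      if i + j + 1 ≤ r then Nat.choose (r - i - 1 - j + 2) 2 else 0 := by
    intro i j
    by_cases h : i + j + 1 ≤ r
    · rw [if_pos h, Finset.sum_eq_single (i + j + 1)]
      · rw [if_pos ⟨rfl, h⟩]
        congr 1
        omega
      · intro s _ hs
        rw [if_neg]
        rintro ⟨h1, -⟩
        exact hs h1.symm
      · intro hn
        exfalso
        apply hn
        rw [Finset.mem_Icc]
        omega
    · rw [if_neg h]
      apply Finset.sum_eq_zero
      intro s _
      rw [if_neg]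
      rintro ⟨h1, h2⟩
      omega
  have step2 : ∀ i : ℕ, ∑ j ∈ Finset.range B,
      (if i + j + 1 ≤ r then Nat.choose (r - i - 1 - j + 2) 2 else 0) =
      Nat.choose (r - i + 2) 3 := by
    intro i
    rw [sum_range_big (m := r - i) (by omega) (fun j hj => if_neg (by omega))]
    rw [← hockey_reflect 2 (r - i)]
    refine Finset.sum_congr rfl fun j hj => ?_
    rw [Finset.mem_range] at hj
    rw [if_pos (by omega)]
  rw [Finset.sum_product]
  simp only [step1, step2]
  rw [sum_range_big (m := r) hB (fun i hi => by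
    have : r - i = 0 := by omega
    rw [this]
    rfl)]
  rw [← hockey_reflect 3 r]
  refine Finset.sum_congr rfl fun i hi => ?_
  rw [Finset.mem_range] at hi
  congr 1
  omega

/-- Pieces negative exactly at one index. -/
theorem finrank_sig_single_pow :
    Module.finrank k ↥(sigPiece (mI k 3 r) ({π 2} : Set (Fin 3))) = Nat.choose (r + 3) 4 := by
  rw [finrank_sig_single π (isMonomial k 3 r), st_eq]
  rw [← triple_sum r (bnd (mI k 3 r) (isMonomial k 3 r)) (le_bnd k r)]
  refine Finset.sum_congr rfl fun u _ => Finset.sum_congr rfl fun s hs => ?_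
  rw [Finset.mem_Icc] at hs
  exact finrank_degS k r π u.1 u.2 s (by omega)

/-- The colength of `m^r`. -/
theorem finrank_quot_pow :
    Module.finrank k (MvPolynomial (Fin 3) k ⧸ mI k 3 r) = Nat.choose (r + 2) 3 := by
  rw [← sum_st_eq_finrank 1 (isMonomial k 3 r), Finset.sum_product]
  simp only [st_eq]
  have hB := le_bnd k r
  have step2 : ∀ i : ℕ, ∑ j ∈ Finset.range (bnd (mI k 3 r) (isMonomial k 3 r)), (r - (i + j)) =
      Nat.choose (r - i + 1) 2 := by
    intro i
    rw [sum_range_big (m := r - i) (by omega) (fun j hj => by omega)]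
    rw [← hockey_reflect 1 (r - i)]
    refine Finset.sum_congr rfl fun j hj => ?_
    rw [Finset.mem_range] at hj
    rw [Nat.choose_one_right]
    omega
  simp only [step2]
  rw [sum_range_big (m := r) hB (fun i hi => by
    have : r - i = 0 := by omega
    rw [this]
    rfl)]
  rw [← hockey_reflect 2 r]
  refine Finset.sum_congr rfl fun i hi => ?_
  rw [Finset.mem_range] at hi
  congr 1
  omega

/-- Pieces negative exactly at two indices. -/
theorem finrank_sig_compl_pow :
    Module.finrank k ↥(sigPiece (mI k 3 r) (({π 2} : Set (Fin 3))ᶜ)) = Nat.choose (r + 2) 4 := by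
  have h1 := finrank_sig_single_eq π (isMonomial k 3 r)
  rw [finrank_sig_single_pow, finrank_quot_pow] at h1
  have h2 : Nat.choose (r + 3) 4 = Nat.choose (r + 2) 3 + Nat.choose (r + 2) 4 :=
    Nat.choose_succ_succ' (r + 2) 3
  omega

lemma choose_identity :
    3 * Nat.choose (r + 3) 4 + 3 * Nat.choose (r + 2) 4 =
      Nat.choose (r + 2) 2 * Nat.choose (r + 1) 2 := by
  induction r with
  | zero => decide
  | succ r ih =>
    have e1 : (r + 2 + 1) * Nat.choose (r + 2) 2 = Nat.choose (r + 2 + 1) 3 * 3 :=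
      Nat.add_one_mul_choose_eq (r + 2) 2
    have e2 : Nat.choose (r + 2) 3 * 3 = Nat.choose (r + 2) 2 * (r + 2 - 2) :=
      Nat.choose_succ_right_eq (r + 2) 2
    have e3 : Nat.choose (r + 3) 2 = Nat.choose (r + 2) 1 + Nat.choose (r + 2) 2 :=
      Nat.choose_succ_succ' (r + 2) 1
    have e4 : Nat.choose (r + 2) 2 = Nat.choose (r + 1) 1 + Nat.choose (r + 1) 2 :=
      Nat.choose_succ_succ' (r + 1) 1
    have e5 : Nat.choose (r + 4) 4 = Nat.choose (r + 3) 3 + Nat.choose (r + 3) 4 :=
      Nat.choose_succ_succ' (r + 3) 3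
    have e6 : Nat.choose (r + 3) 4 = Nat.choose (r + 2) 3 + Nat.choose (r + 2) 4 :=
      Nat.choose_succ_succ' (r + 2) 3
    rw [Nat.choose_one_right] at e3 e4
    have e2' : Nat.choose (r + 2) 3 * 3 = Nat.choose (r + 2) 2 * r := by
      rw [e2]; congr 1
    rw [show r + 1 + 3 = r + 4 by ring, show r + 1 + 2 = r + 3 by ring,
      show r + 1 + 1 = r + 2 by ring]
    zify at *
    linear_combination ih + 3 * e5 + 3 * e6 - e1 + e2' - (Nat.choose (r + 2) 2 : ℤ) * e4
      - (Nat.choose (r + 2) 2 : ℤ) * e3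

/-- The dimension of `T(m^r)`. -/
theorem finrank_Tgt_pow :
    Module.finrank k (Tgt (mI k 3 r)) = Nat.choose (r + 2) 2 * Nat.choose (r + 1) 2 := by
  have hI := isMonomial k 3 r
  rw [finrank_Tgt_eq hI]
  have huniv : (Finset.univ : Finset (Finset (Fin 3))) =
      {∅, {0}, {1}, {2}, {0, 1}, {0, 2}, {1, 2}, {0, 1, 2}} := by decide
  rw [huniv]
  rw [Finset.sum_insert (by decide), Finset.sum_insert (by decide), Finset.sum_insert (by decide),
    Finset.sum_insert (by decide), Finset.sum_insert (by decide), Finset.sum_insert (by decide),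
    Finset.sum_insert (by decide), Finset.sum_singleton]
  have e0 : ((∅ : Finset (Fin 3)) : Set (Fin 3)) = ∅ := by simp
  have e1 : (({0} : Finset (Fin 3)) : Set (Fin 3)) = {(Equiv.swap (2 : Fin 3) 0) 2} := by
    rw [Equiv.swap_apply_left]; simp
  have e2 : (({1} : Finset (Fin 3)) : Set (Fin 3)) = {(Equiv.swap (2 : Fin 3) 1) 2} := by
    rw [Equiv.swap_apply_left]; simp
  have e3 : (({2} : Finset (Fin 3)) : Set (Fin 3)) = {(Equiv.swap (2 : Fin 3) 2) 2} := by
    rw [Equiv.swap_apply_left]; simp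
  have e12 : (({1, 2} : Finset (Fin 3)) : Set (Fin 3)) = ({(Equiv.swap (2 : Fin 3) 0) 2} : Set (Fin 3))ᶜ := by
    rw [Equiv.swap_apply_left]
    ext l
    fin_cases l <;> simp
  have e02 : (({0, 2} : Finset (Fin 3)) : Set (Fin 3)) = ({(Equiv.swap (2 : Fin 3) 1) 2} : Set (Fin 3))ᶜ := by
    rw [Equiv.swap_apply_left]
    ext l
    fin_cases l <;> simp
  have e01 : (({0, 1} : Finset (Fin 3)) : Set (Fin 3)) = ({(Equiv.swap (2 : Fin 3) 2) 2} : Set (Fin 3))ᶜ := by
    rw [Equiv.swap_apply_left]
    ext l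
    fin_cases l <;> simp
  have e012 : (({0, 1, 2} : Finset (Fin 3)) : Set (Fin 3)) = Set.univ := by
    ext l
    fin_cases l <;> simp
  rw [e0, e1, e2, e3, e12, e02, e01, e012, sig_empty hI, sig_univ hI, finrank_bot,
    finrank_sig_single_pow, finrank_sig_single_pow, finrank_sig_single_pow,
    finrank_sig_compl_pow, finrank_sig_compl_pow, finrank_sig_compl_pow]
  have := choose_identity r
  omega

end Groth.Agent.Lib.Helper72.MaxPow
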