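import Mathlib

set_option autoImplicit false
set_option linter.unusedSectionVars false
universe u v

namespace Groth.Agent.Lib.Helper72.MovLem

open Polynomial

section top
variable {K : Type v} [Field K] {r : ℕ}

/-- `P` has `t`-degree at most `N * d`, with constant coefficient `c` at `t ^ (N * d)`. -/
def IsTop (N d : ℕ) (P : (MvPolynomial (Fin r) K)[X]) (c : K) : Prop :=
  P.natDegree ≤ N * d ∧ P.coeff (N * d) = MvPolynomial.C c

lemma isTop_mul {N d e : ℕ} {P Q : (MvPolynomial (Fin r) K)[X]} {c c' : K}
    (hP : IsTop N d P c) (hQ : IsTop N e Q c') : IsTop N (d + e) (P * Q) (c * c') := by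
  refine ⟨?_, ?_⟩
  · rw [mul_add]
    exact natDegree_mul_le.trans (add_le_add hP.1 hQ.1)
  · rw [mul_add, coeff_mul_add_eq_of_natDegree_le hP.1 hQ.1, hP.2, hQ.2, map_mul]

lemma isTop_one (N : ℕ) : IsTop N 0 (1 : (MvPolynomial (Fin r) K)[X]) 1 := by
  refine ⟨by simp, by simp⟩

lemma isTop_const (N : ℕ) (a : K) :
    IsTop N 0 (C (MvPolynomial.C a) : (MvPolynomial (Fin r) K)[X]) a := by
  refine ⟨by simp, by simp⟩

lemma isTop_pow {N d : ℕ} {P : (MvPolynomial (Fin r) K)[X]} {c : K}
    (hP : IsTop N d P c) (e : ℕ) : IsTop N (e * d) (P ^ e) (c ^ e) := by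
  induction e with
  | zero => simpa using isTop_one (r := r) (K := K) N
  | succ e ih =>
    rw [pow_succ, pow_succ, Nat.succ_mul]
    exact isTop_mul ih hP

lemma isTop_prod {ι : Type*} (S : Finset ι) (N : ℕ) (d : ι → ℕ)
    (P : ι → (MvPolynomial (Fin r) K)[X]) (c : ι → K)
    (h : ∀ i ∈ S, IsTop N (d i) (P i) (c i)) :
    IsTop N (∑ i ∈ S, d i) (∏ i ∈ S, P i) (∏ i ∈ S, c i) := by
  classical
  induction S using Finset.induction_on with
  | empty => simpa using isTop_one (r := r) (K := K) N
  | insert a S ha ih =>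
    rw [Finset.sum_insert ha, Finset.prod_insert ha, Finset.prod_insert ha]
    exact isTop_mul (h a (Finset.mem_insert_self _ _))
      (ih fun i hi => h i (Finset.mem_insert_of_mem hi))

lemma isTop_add {N d : ℕ} {P Q : (MvPolynomial (Fin r) K)[X]} {c c' : K}
    (hP : IsTop N d P c) (hQ : IsTop N d Q c') : IsTop N d (P + Q) (c + c') := by
  refine ⟨(natDegree_add_le _ _).trans (max_le hP.1 hQ.1), ?_⟩
  rw [coeff_add, hP.2, hQ.2, map_add]

lemma isTop_zero (N d : ℕ) : IsTop N d (0 : (MvPolynomial (Fin r) K)[X]) 0 := by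
  refine ⟨by simp, by simp⟩

lemma isTop_sum {ι : Type*} (S : Finset ι) (N d : ℕ)
    (P : ι → (MvPolynomial (Fin r) K)[X]) (c : ι → K)
    (h : ∀ i ∈ S, IsTop N d (P i) (c i)) :
    IsTop N d (∑ i ∈ S, P i) (∑ i ∈ S, c i) := by
  classical
  induction S using Finset.induction_on with
  | empty => simpa using isTop_zero (r := r) (K := K) N d
  | insert a S ha ih =>
    rw [Finset.sum_insert ha, Finset.sum_insert ha]
    exact isTop_add (h a (Finset.mem_insert_self _ _))
      (ih fun i hi => h i (Finset.mem_insert_of_mem hi))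

lemma isTop_lift {N d d' : ℕ} (hN : 0 < N) (hd : d < d') {P : (MvPolynomial (Fin r) K)[X]} {c : K}
    (hP : IsTop N d P c) : IsTop N d' P 0 := by
  have h1 : N * d < N * d' := Nat.mul_lt_mul_of_pos_left hd hN
  refine ⟨hP.1.trans h1.le, ?_⟩
  rw [coeff_eq_zero_of_natDegree_lt (lt_of_le_of_lt hP.1 h1), map_zero]

/-- the substituted variable -/
noncomputable def gen (N : ℕ) (g : Fin r → K) (i : Fin r) : (MvPolynomial (Fin r) K)[X] :=
  C (MvPolynomial.X i) + C (MvPolynomial.C (g i)) * X ^ N

lemma isTop_gen {N : ℕ} (hN : 0 < N) (g : Fin r → K) (i : Fin r) :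
    IsTop N 1 (gen N g i) (g i) := by
  unfold gen
  refine ⟨?_, ?_⟩
  · rw [mul_one]
    refine (natDegree_add_le _ _).trans (max_le ?_ ?_)
    · simp
    · exact natDegree_C_mul_X_pow_le _ _
  · rw [mul_one, coeff_add, coeff_C_mul, coeff_X_pow, if_pos rfl, mul_one, coeff_C, if_neg hN.ne',
      zero_add]

end top

section main
variable {k : Type u} [Field k] {K : Type v} [Field K] [Algebra k K] {r : ℕ}

/-- the substitution homomorphism -/
noncomputable def Phi (N : ℕ) (g : Fin r → K) :
    MvPolynomial (Fin r) k →ₐ[k] (MvPolynomial (Fin r) K)[X] :=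
  MvPolynomial.aeval (gen N g)

lemma isTop_monomial {N : ℕ} (hN : 0 < N) (g : Fin r → K) (α : Fin r →₀ ℕ) (a : k) :
    IsTop N α.degree (Phi N g (MvPolynomial.monomial α a))
      (algebraMap k K a * α.prod fun i e => g i ^ e) := by
  unfold Phi
  rw [MvPolynomial.aeval_monomial]
  have h1 : IsTop N 0 (algebraMap k (MvPolynomial (Fin r) K)[X] a) (algebraMap k K a) := by
    have : algebraMap k (MvPolynomial (Fin r) K)[X] a = C (MvPolynomial.C (algebraMap k K a)) := by
      rw [Polynomial.algebraMap_apply, MvPolynomial.algebraMap_apply]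
    rw [this]
    exact isTop_const N _
  have h2 : IsTop N (∑ i ∈ α.support, α i) (∏ i ∈ α.support, gen N g i ^ α i)
      (∏ i ∈ α.support, g i ^ α i) := by
    apply isTop_prod
    intro i _
    have := isTop_pow (isTop_gen hN g i) (α i)
    rwa [mul_one] at this
  have := isTop_mul h1 h2
  rw [zero_add] at this
  exact this

lemma isTop_Phi {N : ℕ} (hN : 0 < N) (g : Fin r → K) (p : MvPolynomial (Fin r) k) (d : ℕ)
    (hd : p.totalDegree ≤ d) :
    IsTop N d (Phi N g p) (MvPolynomial.aeval g (MvPolynomial.homogeneousComponent d p)) := by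
  classical
  have e1 : Phi N g p = ∑ α ∈ p.support, Phi N g (MvPolynomial.monomial α (p.coeff α)) := by
    conv_lhs => rw [p.as_sum]
    rw [map_sum]
  have e2 : MvPolynomial.aeval g (MvPolynomial.homogeneousComponent d p) =
      ∑ α ∈ p.support, (if α.degree = d then
        algebraMap k K (p.coeff α) * α.prod fun i e => g i ^ e else 0) := by
    rw [MvPolynomial.homogeneousComponent_apply, map_sum, Finset.sum_filter]
    refine Finset.sum_congr rfl fun α _ => ?_
    split_ifs
    · rw [MvPolynomial.aeval_monomial]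
    · rfl
  rw [e1, e2]
  apply isTop_sum
  intro α hα
  have hle : α.degree ≤ d := by
    refine le_trans ?_ hd
    have := MvPolynomial.le_totalDegree hα
    simpa [Finsupp.degree_apply, Finsupp.sum] using this
  have := isTop_monomial (k := k) hN g α (p.coeff α)
  split_ifs with h
  · rw [← h]; exact this
  · exact isTop_lift hN (lt_of_le_of_ne hle h) this

end main

section key
variable {k : Type u} [Field k] {r : ℕ}

/-- The main structural statement. -/
theorem key (f : Polynomial (MvPolynomial (Fin r) k)) (hf : f ≠ 0) :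
    ∃ h : MvPolynomial (Fin r) k, h ≠ 0 ∧ ∃ D J : ℕ,
      ((D = 0 ∧ J = 0) → ∃ a : k, a ≠ 0 ∧ f = C (MvPolynomial.C a)) ∧
      ∀ N : ℕ, f.natDegree < N → ∀ (K : Type v) [Field K] [Algebra k K] (g : Fin r → K),
        (Polynomial.eval₂ (Phi (k := k) N g).toRingHom Polynomial.X f).natDegree ≤ N * D + J ∧
        (Polynomial.eval₂ (Phi (k := k) N g).toRingHom Polynomial.X f).coeff (N * D + J) =
          MvPolynomial.C (MvPolynomial.aeval g h) := by
  classical
  have hsupp : f.support.Nonempty := by
    rwa [Finset.nonempty_iff_ne_empty, Ne, Polynomial.support_eq_empty]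
  obtain ⟨D, hD⟩ : ∃ D, D = f.support.sup fun j => (f.coeff j).totalDegree := ⟨_, rfl⟩
  have hDle : ∀ j ∈ f.support, (f.coeff j).totalDegree ≤ D := by
    intro j hj
    rw [hD]
    exact Finset.le_sup (f := fun j => (f.coeff j).totalDegree) hj
  obtain ⟨j₀, hj₀, hj₀D⟩ := Finset.exists_mem_eq_sup f.support hsupp
    fun j => (f.coeff j).totalDegree
  have hJne : (f.support.filter fun j => (f.coeff j).totalDegree = D).Nonempty :=
    ⟨j₀, Finset.mem_filter.mpr ⟨hj₀, by rw [hD, hj₀D]⟩⟩
  obtain ⟨J, hJ⟩ : ∃ J, J = (f.support.filter fun j => (f.coeff j).totalDegree = D).max' hJne :=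
    ⟨_, rfl⟩
  have hJmem : J ∈ f.support.filter fun j => (f.coeff j).totalDegree = D := by
    rw [hJ]; exact Finset.max'_mem _ _
  have hJsupp : J ∈ f.support := (Finset.mem_filter.mp hJmem).1
  have hJD : (f.coeff J).totalDegree = D := (Finset.mem_filter.mp hJmem).2
  have hJmax : ∀ j ∈ f.support, (f.coeff j).totalDegree = D → j ≤ J := by
    intro j hj hjD
    rw [hJ]
    exact Finset.le_max' _ _ (Finset.mem_filter.mpr ⟨hj, hjD⟩)
  have hfJ : f.coeff J ≠ 0 := Polynomial.mem_support_iff.mp hJsupp
  -- the top homogeneous component is nonzero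
  have hh : MvPolynomial.homogeneousComponent D (f.coeff J) ≠ 0 := by
    have hs : (f.coeff J).support.Nonempty := by
      rwa [Finset.nonempty_iff_ne_empty, Ne, MvPolynomial.support_eq_empty]
    obtain ⟨α, hα, hαD⟩ := Finset.exists_mem_eq_sup (f.coeff J).support hs
      fun s => s.sum fun _ e => e
    intro h0
    have hc := MvPolynomial.coeff_homogeneousComponent D (f.coeff J) α
    rw [h0, MvPolynomial.coeff_zero] at hc
    have hdeg : α.degree = D := by
      rw [← hJD, MvPolynomial.totalDegree, hαD]
      simp [Finsupp.degree_apply, Finsupp.sum]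
    rw [if_pos hdeg] at hc
    exact (MvPolynomial.mem_support_iff.mp hα) hc.symm
  refine ⟨_, hh, D, J, ?_, ?_⟩
  · rintro ⟨hD0, hJ0⟩
    -- all coefficients are constants and `natDegree f = 0`
    have hnat : f.natDegree = 0 := by
      have hmem : f.natDegree ∈ f.support := Polynomial.natDegree_mem_support_of_nonzero hf
      have h1 := hDle _ hmem
      have h2 := hJmax _ hmem (by omega)
      omega
    have hf0 : f = C (f.coeff 0) := Polynomial.eq_C_of_natDegree_eq_zero hnat
    have htd : (f.coeff 0).totalDegree = 0 := by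
      have := hJD; rw [hJ0, hD0] at this; exact this
    have hc0 : f.coeff 0 = MvPolynomial.C ((f.coeff 0).coeff 0) :=
      MvPolynomial.totalDegree_eq_zero_iff_eq_C.mp htd
    refine ⟨(f.coeff 0).coeff 0, ?_, ?_⟩
    · intro h0
      rw [h0, map_zero] at hc0
      rw [hJ0] at hfJ
      exact hfJ hc0
    · rw [← hc0]; exact hf0
  · intro N hN K _ _ g
    have hNpos : 0 < N := by omega
    -- term-wise analysis
    have hterm : ∀ j ∈ Finset.range (f.natDegree + 1),
        (Phi (k := k) N g (f.coeff j) * X ^ j).natDegree ≤ N * D + J ∧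
        (Phi (k := k) N g (f.coeff j) * X ^ j).coeff (N * D + J) =
          MvPolynomial.C (if j = J then
            MvPolynomial.aeval g (MvPolynomial.homogeneousComponent D (f.coeff J)) else 0) := by
      intro j hj
      have hjn : j ≤ f.natDegree := by
        have := Finset.mem_range.mp hj; omega
      by_cases hfj : f.coeff j = 0
      · have hjJ : j ≠ J := by rintro rfl; exact hfJ hfj
        rw [hfj, map_zero, zero_mul, if_neg hjJ]
        simp
      have hjs : j ∈ f.support := Polynomial.mem_support_iff.mpr hfj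
      by_cases hjD : (f.coeff j).totalDegree = D
      · have hjJ : j ≤ J := hJmax j hjs hjD
        have hT := isTop_Phi (k := k) hNpos g (f.coeff j) D hjD.le
        refine ⟨?_, ?_⟩
        · refine (natDegree_mul_le).trans ?_
          rw [natDegree_X_pow]
          exact add_le_add hT.1 hjJ
        · rw [coeff_mul_X_pow', if_pos (by omega)]
          by_cases hEq : j = J
          · subst hEq
            rw [if_pos rfl, Nat.add_sub_cancel, hT.2]
          · rw [if_neg hEq, map_zero]
            apply coeff_eq_zero_of_natDegree_lt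
            refine lt_of_le_of_lt hT.1 ?_
            omega
      · have hlt : (f.coeff j).totalDegree < D := lt_of_le_of_ne (hDle j hjs) hjD
        have hjJ : j ≠ J := by rintro rfl; exact hjD hJD
        have hT := isTop_Phi (k := k) hNpos g (f.coeff j) _ le_rfl
        have hdeg : (Phi (k := k) N g (f.coeff j) * X ^ j).natDegree < N * D + J := by
          refine lt_of_le_of_lt natDegree_mul_le ?_
          rw [natDegree_X_pow]
          have h1 : N * (f.coeff j).totalDegree + N ≤ N * D := by
            have : N * ((f.coeff j).totalDegree + 1) ≤ N * D := Nat.mul_le_mul_left N hlt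
            rwa [mul_add, mul_one] at this
          have := hT.1
          omega
        refine ⟨hdeg.le, ?_⟩
        rw [if_neg hjJ, map_zero]
        exact coeff_eq_zero_of_natDegree_lt hdeg
    have hsum : Polynomial.eval₂ (Phi (k := k) N g).toRingHom Polynomial.X f =
        ∑ j ∈ Finset.range (f.natDegree + 1), Phi (k := k) N g (f.coeff j) * X ^ j := by
      rw [Polynomial.eval₂_eq_sum_range]
      rfl
    rw [hsum]
    refine ⟨natDegree_sum_le_of_forall_le _ _ fun j hj => (hterm j hj).1, ?_⟩
    rw [Polynomial.finsetSum_coeff]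
    rw [Finset.sum_congr rfl fun j hj => (hterm j hj).2, ← map_sum, Finset.sum_ite_eq']
    rw [if_pos]
    rw [Finset.mem_range]
    have := Polynomial.le_natDegree_of_mem_supp J hJsupp
    omega

end key

end Groth.Agent.Lib.Helper72.MovLem
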