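import Mathlib
import Groth.Agent.Lib.Helper72.HomGenC

/-! The ideal `x_a · (x_y : y ≠ z) + x_b · (x_y : y ≠ a, w, z)`: set-up. -/

set_option autoImplicit false
set_option linter.unusedSectionVars false
universe u

namespace Groth.Agent.Lib.Helper72.Nest2

open W4c1hilbpn MvPolynomial Groth.Agent.Lib.Helper28.HilbT Groth.Agent.Lib.Helper72.HilbDual
open Groth.Agent.Lib.Helper72.HomGen

variable {σ : Type*} [Fintype σ] [DecidableEq σ] {k : Type u} [Field k]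

/-- Special variables `a`, `b`, `w`, a free variable `z`, and the remaining variables `M`. -/
structure Cfg (σ : Type*) where
  a : σ
  b : σ
  w : σ
  z : σ
  M : σ → Prop
  hab : a ≠ b
  haw : a ≠ w
  haz : a ≠ z
  hbw : b ≠ w
  hbz : b ≠ z
  hwz : w ≠ z
  hM : ∀ x, M x ↔ x ≠ a ∧ x ≠ b ∧ x ≠ w ∧ x ≠ z

variable (C : Cfg σ)

/-- The generators. -/
inductive Gen : Type _
  | aa | ab | aw | bb
  | am (i : σ) (hi : C.M i)
  | bm (i : σ) (hi : C.M i)

instance : Finite (Gen C) := by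
  classical
  let f : Gen C → Fin 4 ⊕ ({x // C.M x} ⊕ {x // C.M x}) := fun g =>
    match g with
    | .aa => Sum.inl 0
    | .ab => Sum.inl 1
    | .aw => Sum.inl 2
    | .bb => Sum.inl 3
    | .am i hi => Sum.inr (Sum.inl ⟨i, hi⟩)
    | .bm i hi => Sum.inr (Sum.inr ⟨i, hi⟩)
  apply Finite.of_injective f
  intro g g' h
  cases g <;> cases g' <;> simp [f] at h <;> first | rfl | (subst h; rfl)

variable {C}

/-- First index of a generator. -/
def Gen.fst : Gen C → σ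
  | .aa => C.a | .ab => C.a | .aw => C.a | .bb => C.b | .am _ _ => C.a | .bm _ _ => C.b

/-- Second index of a generator. -/
def Gen.snd : Gen C → σ
  | .aa => C.a | .ab => C.b | .aw => C.w | .bb => C.b | .am i _ => i | .bm i _ => i

/-- Exponent vector of a generator. -/
noncomputable def gen (g : Gen C) : σ →₀ ℕ := gen2 g.fst g.snd

variable (C)

/-- Membership in the ideal, for integer vectors. -/
def memI (v : σ → ℤ) : Prop :=
  2 ≤ v C.a ∨ 2 ≤ v C.b ∨ (∃ y, y ≠ C.a ∧ y ≠ C.z ∧ 1 ≤ v C.a ∧ 1 ≤ v y) ∨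
    (∃ y, y ≠ C.b ∧ y ≠ C.z ∧ y ≠ C.w ∧ 1 ≤ v C.b ∧ 1 ≤ v y)

variable (I : Ideal (MvPolynomial σ k))

/-- The hypothesis describing the monomials of `I`. -/
def HE : Prop := ∀ β : σ →₀ ℕ, β ∈ exps I ↔ memI C (fun x => (β x : ℤ))

variable {C I}

lemma gen_apply (g : Gen C) (x : σ) :
    gen g x = (if g.fst = x then 1 else 0) + (if g.snd = x then 1 else 0) := gen2_apply _ _ _

lemma gen_apply' (g : Gen C) (x : σ) :
    gen g x = (if x = g.fst then 1 else 0) + (if x = g.snd then 1 else 0) := by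
  rw [gen_apply]
  simp only [eq_comm]

lemma memI_nat (β : σ →₀ ℕ) : memI C (fun x => (β x : ℤ)) ↔
    (2 ≤ β C.a ∨ 2 ≤ β C.b ∨ (∃ y, y ≠ C.a ∧ y ≠ C.z ∧ 1 ≤ β C.a ∧ 1 ≤ β y) ∨
      (∃ y, y ≠ C.b ∧ y ≠ C.z ∧ y ≠ C.w ∧ 1 ≤ β C.b ∧ 1 ≤ β y)) := by
  unfold memI
  simp only []
  constructor
  · rintro (h | h | ⟨y, h1, h2, h3, h4⟩ | ⟨y, h1, h2, h3, h4, h5⟩)
    · exact Or.inl (by exact_mod_cast h)
    · exact Or.inr (Or.inl (by exact_mod_cast h))
    · exact Or.inr (Or.inr (Or.inl ⟨y, h1, h2, by exact_mod_cast h3, by exact_mod_cast h4⟩))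
    · exact Or.inr (Or.inr (Or.inr ⟨y, h1, h2, h3, by exact_mod_cast h4, by exact_mod_cast h5⟩))
  · rintro (h | h | ⟨y, h1, h2, h3, h4⟩ | ⟨y, h1, h2, h3, h4, h5⟩)
    · exact Or.inl (by exact_mod_cast h)
    · exact Or.inr (Or.inl (by exact_mod_cast h))
    · exact Or.inr (Or.inr (Or.inl ⟨y, h1, h2, by exact_mod_cast h3, by exact_mod_cast h4⟩))
    · exact Or.inr (Or.inr (Or.inr ⟨y, h1, h2, h3, by exact_mod_cast h4, by exact_mod_cast h5⟩))

lemma hG (hE : HE C I) (β : σ →₀ ℕ) : β ∈ exps I ↔ ∃ γ : Gen C, gen γ ≤ β := by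
  rw [hE β, memI_nat]
  constructor
  · rintro (h | h | ⟨y, hya, hyz, h1, h2⟩ | ⟨y, hyb, hyz, hyw, h1, h2⟩)
    · refine ⟨.aa, ?_⟩
      unfold gen
      rw [gen2_le_iff]
      exact ⟨fun h' => absurd rfl h', fun _ => h⟩
    · refine ⟨.bb, ?_⟩
      unfold gen
      rw [gen2_le_iff]
      exact ⟨fun h' => absurd rfl h', fun _ => h⟩
    · by_cases hyb : y = C.b
      · subst hyb
        refine ⟨.ab, ?_⟩
        unfold gen
        rw [gen2_le_iff]
        exact ⟨fun _ => ⟨h1, h2⟩, fun h' => absurd h' C.hab⟩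
      · by_cases hyw : y = C.w
        · subst hyw
          refine ⟨.aw, ?_⟩
          unfold gen
          rw [gen2_le_iff]
          exact ⟨fun _ => ⟨h1, h2⟩, fun h' => absurd h' C.haw⟩
        · refine ⟨.am y ((C.hM y).mpr ⟨hya, hyb, hyw, hyz⟩), ?_⟩
          unfold gen
          rw [gen2_le_iff]
          exact ⟨fun _ => ⟨h1, h2⟩, fun h' => absurd h'.symm hya⟩
    · by_cases hya : y = C.a
      · subst hya
        refine ⟨.ab, ?_⟩
        unfold gen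
        rw [gen2_le_iff]
        exact ⟨fun _ => ⟨h2, h1⟩, fun h' => absurd h' C.hab⟩
      · refine ⟨.bm y ((C.hM y).mpr ⟨hya, hyb, hyw, hyz⟩), ?_⟩
        unfold gen
        rw [gen2_le_iff]
        exact ⟨fun _ => ⟨h1, h2⟩, fun h' => absurd h'.symm hyb⟩
  · rintro ⟨γ, hγ⟩
    unfold gen at hγ
    rw [gen2_le_iff] at hγ
    obtain ⟨h1, h2⟩ := hγ
    cases γ with
    | aa => exact Or.inl (h2 rfl)
    | ab =>
      obtain ⟨h3, h4⟩ := h1 C.hab
      exact Or.inr (Or.inr (Or.inl ⟨C.b, C.hab.symm, C.hbz, h3, h4⟩))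
    | aw =>
      obtain ⟨h3, h4⟩ := h1 C.haw
      exact Or.inr (Or.inr (Or.inl ⟨C.w, C.haw.symm, C.hwz, h3, h4⟩))
    | bb => exact Or.inr (Or.inl (h2 rfl))
    | am i hi =>
      obtain ⟨hia, hib, hiw, hiz⟩ := (C.hM i).mp hi
      obtain ⟨h3, h4⟩ := h1 (Ne.symm hia)
      exact Or.inr (Or.inr (Or.inl ⟨i, hia, hiz, h3, h4⟩))
    | bm i hi =>
      obtain ⟨hia, hib, hiw, hiz⟩ := (C.hM i).mp hi
      obtain ⟨h3, h4⟩ := h1 (Ne.symm hib)
      exact Or.inr (Or.inr (Or.inr ⟨i, hib, hiz, hiw, h3, h4⟩))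

lemma active_iff (hE : HE C I) (α : σ → ℤ) (β : σ →₀ ℕ) :
    Active I α β ↔ (∀ x, 0 ≤ (β x : ℤ) + α x) ∧ ¬ memI C (fun x => (β x : ℤ) + α x) := by
  unfold Active
  constructor
  · rintro ⟨h1, h2⟩
    refine ⟨h1, fun h => h2 ?_⟩
    rw [hE]
    have : (fun x => ((toN (up β α) x : ℕ) : ℤ)) = fun x => (β x : ℤ) + α x := by
      funext x
      rw [toN_apply, Int.toNat_of_nonneg (h1 x), up_apply]
    rw [this]
    exact h
  · rintro ⟨h1, h2⟩
    refine ⟨h1, fun h => h2 ?_⟩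
    rw [hE] at h
    have : (fun x => ((toN (up β α) x : ℕ) : ℤ)) = fun x => (β x : ℤ) + α x := by
      funext x
      have h1' : 0 ≤ up β α x := h1 x
      rw [toN_apply, Int.toNat_of_nonneg h1', up_apply]
    rw [this] at h
    exact h

lemma linked_iff (hE : HE C I) (α : σ → ℤ) (β β' : σ →₀ ℕ) :
    Linked I α β β' ↔ (∀ x, 0 ≤ ((max (β x) (β' x) : ℕ) : ℤ) + α x) ∧
      ¬ memI C (fun x => ((max (β x) (β' x) : ℕ) : ℤ) + α x) := by
  unfold Linked
  rw [active_iff hE]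
  simp only [Finsupp.sup_apply]

end Groth.Agent.Lib.Helper72.Nest2
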