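import Mathlib
import Groth.Agent.Lib.Helper72.Nest2A

/-! The ideal `x_a · (x_y : y ≠ z) + x_b · (x_y : y ≠ a, w, z)`: degrees and tactics. -/

set_option autoImplicit false
set_option linter.unusedSectionVars false
set_option linter.unusedVariables false
set_option linter.unusedSimpArgs false
universe u

namespace Groth.Agent.Lib.Helper72.Nest2

open W4c1hilbpn MvPolynomial Groth.Agent.Lib.Helper28.HilbT Groth.Agent.Lib.Helper72.HilbDual
open Groth.Agent.Lib.Helper72.HomGen

variable {σ : Type*} [Fintype σ] [DecidableEq σ] {k : Type u} [Field k]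
variable {C : Cfg σ} {I : Ideal (MvPolynomial σ k)}

attribute [simp] Cfg.hab Cfg.haw Cfg.haz Cfg.hbw Cfg.hbz Cfg.hwz

@[simp] lemma Cfg.hba (C : Cfg σ) : C.b ≠ C.a := C.hab.symm
@[simp] lemma Cfg.hwa (C : Cfg σ) : C.w ≠ C.a := C.haw.symm
@[simp] lemma Cfg.hza (C : Cfg σ) : C.z ≠ C.a := C.haz.symm
@[simp] lemma Cfg.hwb (C : Cfg σ) : C.w ≠ C.b := C.hbw.symm
@[simp] lemma Cfg.hzb (C : Cfg σ) : C.z ≠ C.b := C.hbz.symm
@[simp] lemma Cfg.hzw (C : Cfg σ) : C.z ≠ C.w := C.hwz.symm
@[simp] lemma Cfg.M_ne_a {i : σ} (hi : C.M i) : i ≠ C.a := ((C.hM i).mp hi).1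
@[simp] lemma Cfg.M_ne_b {i : σ} (hi : C.M i) : i ≠ C.b := ((C.hM i).mp hi).2.1
@[simp] lemma Cfg.M_ne_w {i : σ} (hi : C.M i) : i ≠ C.w := ((C.hM i).mp hi).2.2.1
@[simp] lemma Cfg.M_ne_z {i : σ} (hi : C.M i) : i ≠ C.z := ((C.hM i).mp hi).2.2.2
@[simp] lemma Cfg.a_ne_M {i : σ} (hi : C.M i) : C.a ≠ i := ((C.hM i).mp hi).1.symm
@[simp] lemma Cfg.b_ne_M {i : σ} (hi : C.M i) : C.b ≠ i := ((C.hM i).mp hi).2.1.symm
@[simp] lemma Cfg.w_ne_M {i : σ} (hi : C.M i) : C.w ≠ i := ((C.hM i).mp hi).2.2.1.symm
@[simp] lemma Cfg.z_ne_M {i : σ} (hi : C.M i) : C.z ≠ i := ((C.hM i).mp hi).2.2.2.symm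
@[simp] lemma Cfg.not_M_a (C : Cfg σ) : ¬ C.M C.a := fun h => Cfg.M_ne_a h rfl
@[simp] lemma Cfg.not_M_b (C : Cfg σ) : ¬ C.M C.b := fun h => Cfg.M_ne_b h rfl
@[simp] lemma Cfg.not_M_w (C : Cfg σ) : ¬ C.M C.w := fun h => Cfg.M_ne_w h rfl
@[simp] lemma Cfg.not_M_z (C : Cfg σ) : ¬ C.M C.z := fun h => Cfg.M_ne_z h rfl

/-- `e_z - e_a`. -/
def d1 (C : Cfg σ) : σ → ℤ := Pi.single C.z 1 - Pi.single C.a 1
/-- `e_w - e_a`. -/
def d2 (C : Cfg σ) : σ → ℤ := Pi.single C.w 1 - Pi.single C.a 1
/-- `e_i - e_a`. -/
def d3 (C : Cfg σ) (i : σ) : σ → ℤ := Pi.single i 1 - Pi.single C.a 1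
/-- `e_b + e_z - e_a - e_w`. -/
def d4 (C : Cfg σ) : σ → ℤ := Pi.single C.b 1 + Pi.single C.z 1 - Pi.single C.a 1 - Pi.single C.w 1
/-- `e_b - e_a`. -/
def d5 (C : Cfg σ) : σ → ℤ := Pi.single C.b 1 - Pi.single C.a 1
/-- `e_z - e_b`. -/
def d6 (C : Cfg σ) : σ → ℤ := Pi.single C.z 1 - Pi.single C.b 1
/-- `e_w - e_b`. -/
def d7 (C : Cfg σ) : σ → ℤ := Pi.single C.w 1 - Pi.single C.b 1
/-- `e_i - e_b`. -/
def d8 (C : Cfg σ) (i : σ) : σ → ℤ := Pi.single i 1 - Pi.single C.b 1
/-- `e_z - e_i`. -/
def d9 (C : Cfg σ) (i : σ) : σ → ℤ := Pi.single C.z 1 - Pi.single i 1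
/-- `e_w - e_i`. -/
def d10 (C : Cfg σ) (i : σ) : σ → ℤ := Pi.single C.w 1 - Pi.single i 1
/-- `e_z - e_w`. -/
def d11 (C : Cfg σ) : σ → ℤ := Pi.single C.z 1 - Pi.single C.w 1
/-- `e_a + e_z - 2 e_b`. -/
def d12 (C : Cfg σ) : σ → ℤ := Pi.single C.a 1 + Pi.single C.z 1 - Pi.single C.b 2
/-- `e_a + e_z - e_b - e_i`. -/
def d13 (C : Cfg σ) (i : σ) : σ → ℤ :=
  Pi.single C.a 1 + Pi.single C.z 1 - Pi.single C.b 1 - Pi.single i 1

set_option hygiene false in
/-- Evaluation tactic. -/
macro "n2_auto" : tactic =>
  `(tactic| ((simp_all [gen_apply', Gen.fst, Gen.snd, Pi.single_apply, d1, d2, d3, d4, d5, d6, d7,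
    d8, d9, d10, d11, d12, d13]) <;> try omega))

set_option hygiene false in
/-- Case split of a point against the special points and two auxiliary points. -/
macro "n2_pt" x:ident i:term:max j:term:max : tactic =>
  `(tactic| (by_cases hxa : $x = C.a
             · subst hxa; n2_auto
             by_cases hxb : $x = C.b
             · subst hxb; n2_auto
             by_cases hxw : $x = C.w
             · subst hxw; n2_auto
             by_cases hxz : $x = C.z
             · subst hxz; n2_auto
             by_cases hxi : $x = $i
             · subst hxi; n2_auto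
             by_cases hxj : $x = $j
             · subst hxj; n2_auto
             n2_auto))

set_option hygiene false in
/-- Nonnegativity with two auxiliary points. -/
macro "n2_nonneg" i:term:max j:term:max : tactic =>
  `(tactic| (intro x; n2_pt x $i $j))

set_option hygiene false in
/-- Non-membership with two auxiliary points. -/
macro "n2_notmem" i:term:max j:term:max : tactic =>
  `(tactic| (unfold memI; push Not; refine ⟨?_, ?_, ?_, ?_⟩
             · n2_auto
             · n2_auto
             · intro y hya hyz h1
               n2_pt y $i $j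
             · intro y hyb hyz hyw h1
               n2_pt y $i $j))

set_option hygiene false in
/-- Both. -/
macro "n2_ok" i:term:max j:term:max : tactic =>
  `(tactic| exact ⟨by n2_nonneg $i $j, by n2_notmem $i $j⟩)

set_option hygiene false in
/-- Inactivity of the unclassified generators (with an auxiliary point `i`). -/
macro "n2_h0" i:term:max : tactic =>
  `(tactic| (intro g hg
             left
             rw [active_iff ‹HE _ _›]
             rintro ⟨h1, h2⟩
             unfold memI at h2
             push Not at h2
             obtain ⟨w1, w2, w3, w4⟩ := h2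
             have hna := h1 C.a
             have hnb := h1 C.b
             have hnw := h1 C.w
             have hni := h1 $i
             have c1 := w3 C.b
             have c2 := w3 C.w
             have c3 := w3 $i
             have c4 := w3 g.snd
             have c5 := w4 C.a
             have c6 := w4 $i
             have c7 := w4 g.snd
             clear w3 w4 h1
             by_cases hs : g.snd = $i <;> cases g <;> n2_auto))

set_option hygiene false in
/-- The linking refutation with an auxiliary point `i`. -/
macro "n2_h3" i:term:max : tactic =>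
  `(tactic| (intro g g' hl
             rw [linked_iff ‹HE _ _›] at hl
             obtain ⟨hnn, hnot⟩ := hl
             unfold memI at hnot
             push Not at hnot
             obtain ⟨w1, w2, w3, w4⟩ := hnot
             have hna := hnn C.a
             have hnb := hnn C.b
             have hnw := hnn C.w
             have hni := hnn $i
             have hn1 := hnn g.snd
             have hn2 := hnn g'.snd
             have c1 := w3 C.b
             have c2 := w3 C.w
             have c3 := w3 $i
             have c4 := w3 g.snd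
             have c5 := w3 g'.snd
             have c6 := w4 C.a
             have c7 := w4 $i
             have c8 := w4 g.snd
             have c9 := w4 g'.snd
             clear w3 w4 hnn
             by_cases hs : g.snd = $i <;> by_cases hs' : g'.snd = $i <;>
               cases g <;> cases g' <;> first | rfl | n2_auto))

set_option hygiene false in
/-- Inactivity of the unclassified generators. -/
macro "n2_h0'" : tactic =>
  `(tactic| (intro g hg
             left
             rw [active_iff ‹HE _ _›]
             rintro ⟨h1, h2⟩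
             unfold memI at h2
             push Not at h2
             obtain ⟨w1, w2, w3, w4⟩ := h2
             have hna := h1 C.a
             have hnb := h1 C.b
             have hnw := h1 C.w
             have c1 := w3 C.b
             have c2 := w3 C.w
             have c4 := w3 g.snd
             have c5 := w4 C.a
             have c7 := w4 g.snd
             clear w3 w4 h1
             cases g <;> n2_auto))

set_option hygiene false in
/-- The linking refutation. -/
macro "n2_h3'" : tactic =>
  `(tactic| (intro g g' hl
             rw [linked_iff ‹HE _ _›] at hl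
             obtain ⟨hnn, hnot⟩ := hl
             unfold memI at hnot
             push Not at hnot
             obtain ⟨w1, w2, w3, w4⟩ := hnot
             have hna := hnn C.a
             have hnb := hnn C.b
             have hnw := hnn C.w
             have hn1 := hnn g.snd
             have hn2 := hnn g'.snd
             have c1 := w3 C.b
             have c2 := w3 C.w
             have c4 := w3 g.snd
             have c5 := w3 g'.snd
             have c6 := w4 C.a
             have c8 := w4 g.snd
             have c9 := w4 g'.snd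
             clear w3 w4 hnn
             cases g <;> cases g' <;> first | rfl | n2_auto))

end Groth.Agent.Lib.Helper72.Nest2
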