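import Mathlib
import Groth.Agent.Lib.Helper72.Nest2B

/-! The ideal `x_a · (x_y : y ≠ z) + x_b · (x_y : y ≠ a, w, z)`: non-zero pieces, part C. -/

set_option autoImplicit false
set_option linter.unusedSectionVars false
set_option linter.unusedVariables false
set_option linter.unusedSimpArgs false
set_option maxHeartbeats 6400000
universe u

namespace Groth.Agent.Lib.Helper72.Nest2

open W4c1hilbpn MvPolynomial Groth.Agent.Lib.Helper28.HilbT Groth.Agent.Lib.Helper72.HilbDual
open Groth.Agent.Lib.Helper72.HomGen

variable {σ : Type*} [Fintype σ] [DecidableEq σ] {k : Type u} [Field k]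
variable {C : Cfg σ} {I : Ideal (MvPolynomial σ k)}

theorem finrank_d1 (hE : HE C I) :
    Module.finrank k (GenData I (gen (C := C)) (d1 C)) = 2 := by
  classical
  have key := finrank_genData' I (gen (C := C)) (d1 C) (J := Fin 2)
    (fun g => match g with
      | .aa => some 0 | .ab => some 1 | .aw => some 1 | .am _ _ => some 1 | _ => none)
    (fun j => match j with
      | 0 => .aa | 1 => .aw)
    (by intro j; fin_cases j <;> rfl) ?_ ?_ ?_ ?_
  · rw [key]; rfl
  · n2_h0'
  · intro g j hg
    rw [linked_iff hE]
    cases g with
    | aa =>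
      obtain rfl : j = 0 := by simpa using hg.symm
      n2_ok C.a C.a
    | ab =>
      obtain rfl : j = 1 := by simpa using hg.symm
      n2_ok C.a C.a
    | aw =>
      obtain rfl : j = 1 := by simpa using hg.symm
      n2_ok C.a C.a
    | bb => simp at hg
    | am i' hi' =>
      obtain rfl : j = 1 := by simpa using hg.symm
      n2_ok i' i'
    | bm i' hi' => simp at hg
  · intro g j hg
    rw [active_iff hE]
    cases g with
    | aa =>
      n2_ok C.a C.a
    | ab =>
      n2_ok C.a C.a
    | aw =>
      n2_ok C.a C.a
    | bb => simp at hg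
    | am i' hi' =>
      n2_ok i' i'
    | bm i' hi' => simp at hg
  · n2_h3'

theorem finrank_d2 (hE : HE C I) :
    Module.finrank k (GenData I (gen (C := C)) (d2 C)) = 1 := by
  classical
  have key := finrank_genData' I (gen (C := C)) (d2 C) (J := Unit)
    (fun g => match g with
      | .ab => some () | .aw => some () | .am _ _ => some () | _ => none)
    (fun _ => .aw) (fun _ => rfl) ?_ ?_ ?_ ?_
  · rw [key]; rfl
  · n2_h0'
  · intro g j hg
    rw [linked_iff hE]
    cases g with
    | aa => simp at hg
    | ab =>
      n2_ok C.a C.a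
    | aw =>
      n2_ok C.a C.a
    | bb => simp at hg
    | am i' hi' =>
      n2_ok i' i'
    | bm i' hi' => simp at hg
  · intro g j hg
    rw [active_iff hE]
    cases g with
    | aa => simp at hg
    | ab =>
      n2_ok C.a C.a
    | aw =>
      n2_ok C.a C.a
    | bb => simp at hg
    | am i' hi' =>
      n2_ok i' i'
    | bm i' hi' => simp at hg
  · n2_h3'

theorem finrank_d3 (hE : HE C I) (i : σ) (hi : C.M i) :
    Module.finrank k (GenData I (gen (C := C)) (d3 C i)) = 1 := by
  classical
  have key := finrank_genData' I (gen (C := C)) (d3 C i) (J := Unit)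
    (fun g => match g with
      | .aw => some () | .am _ _ => some () | _ => none)
    (fun _ => .aw) (fun _ => rfl) ?_ ?_ ?_ ?_
  · rw [key]; rfl
  · n2_h0 i
  · intro g j hg
    rw [linked_iff hE]
    cases g with
    | aa => simp at hg
    | ab => simp at hg
    | aw =>
      n2_ok i i
    | bb => simp at hg
    | am i' hi' =>
      n2_ok i i'
    | bm i' hi' => simp at hg
  · intro g j hg
    rw [active_iff hE]
    cases g with
    | aa => simp at hg
    | ab => simp at hg
    | aw =>
      n2_ok i i
    | bb => simp at hg
    | am i' hi' =>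
      n2_ok i i'
    | bm i' hi' => simp at hg
  · n2_h3 i

end Groth.Agent.Lib.Helper72.Nest2
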