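import Mathlib
import Groth.Agent.Lib.Helper72.Nest2B

/-! The ideal `x_a · (x_y : y ≠ z) + x_b · (x_y : y ≠ a, w, z)`: non-zero pieces, part E. -/

set_option autoImplicit false
set_option linter.unusedSectionVars false
set_option linter.unusedVariables false
set_option linter.unusedSimpArgs false
set_option maxHeartbeats 6400000
universe u

namespace Groth.Agent.Lib.Helper72.Nest2

open W4c1hilbpn MvPolynomial Groth.Agent.Lib.Helper28.HilbT Groth.Agent.Lib.Helper72.HilbDual
open Groth.Agent.Lib.Helper72.HomGen

variable {σ : Type*} [Fintype σ] [DecidableEq σ] {k : Type u} [Field k]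
variable {C : Cfg σ} {I : Ideal (MvPolynomial σ k)}

theorem finrank_d8 (hE : HE C I) (i : σ) (hi : C.M i) :
    Module.finrank k (GenData I (gen (C := C)) (d8 C i)) = 1 := by
  classical
  have key := finrank_genData' I (gen (C := C)) (d8 C i) (J := Unit)
    (fun g => match g with
      | .bm _ _ => some () | _ => none)
    (fun _ => .bm i hi) (fun _ => rfl) ?_ ?_ ?_ ?_
  · rw [key]; rfl
  · n2_h0 i
  · intro g j hg
    rw [linked_iff hE]
    cases g with
    | aa => simp at hg
    | ab => simp at hg
    | aw => simp at hg
    | bb => simp at hg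
    | am i' hi' => simp at hg
    | bm i' hi' =>
      n2_ok i i'
  · intro g j hg
    rw [active_iff hE]
    cases g with
    | aa => simp at hg
    | ab => simp at hg
    | aw => simp at hg
    | bb => simp at hg
    | am i' hi' => simp at hg
    | bm i' hi' =>
      n2_ok i i'
  · n2_h3 i

theorem finrank_d9 (hE : HE C I) (i : σ) (hi : C.M i) :
    Module.finrank k (GenData I (gen (C := C)) (d9 C i)) = 2 := by
  classical
  have key := finrank_genData' I (gen (C := C)) (d9 C i) (J := Fin 2)
    (fun g => if g.snd = i then (if g.fst = C.a then some 0 else some 1) else none)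
    (fun j => match j with
      | 0 => .am i hi | 1 => .bm i hi)
    (by intro j; fin_cases j <;> simp [Gen.fst, Gen.snd]) ?_ ?_ ?_ ?_
  · rw [key]; rfl
  · n2_h0 i
  · intro g j hg
    rw [linked_iff hE]
    by_cases hs : g.snd = i
    · cases g with
      | aa => n2_auto
      | ab => n2_auto
      | aw => n2_auto
      | bb => n2_auto
      | am i' hi' =>
        obtain rfl : i' = i := hs
        obtain rfl : j = 0 := by simpa [Gen.fst, Gen.snd] using hg.symm
        n2_ok i' i'
      | bm i' hi' =>
        obtain rfl : i' = i := hs
        obtain rfl : j = 1 := by simpa [Gen.fst, Gen.snd] using hg.symm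
        n2_ok i' i'
    · rw [if_neg hs] at hg
      simp at hg
  · intro g j hg
    rw [active_iff hE]
    by_cases hs : g.snd = i
    · cases g with
      | aa => n2_auto
      | ab => n2_auto
      | aw => n2_auto
      | bb => n2_auto
      | am i' hi' =>
        obtain rfl : i' = i := hs
        n2_ok i' i'
      | bm i' hi' =>
        obtain rfl : i' = i := hs
        n2_ok i' i'
    · rw [if_neg hs] at hg
      simp at hg
  · n2_h3 i

theorem finrank_d10 (hE : HE C I) (i : σ) (hi : C.M i) :
    Module.finrank k (GenData I (gen (C := C)) (d10 C i)) = 1 := by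
  classical
  have key := finrank_genData' I (gen (C := C)) (d10 C i) (J := Unit)
    (fun g => if g.fst = C.b ∧ g.snd = i then some () else none)
    (fun _ => .bm i hi) (fun _ => by simp [Gen.fst, Gen.snd]) ?_ ?_ ?_ ?_
  · rw [key]; rfl
  · n2_h0 i
  · intro g j hg
    rw [linked_iff hE]
    by_cases hs : g.fst = C.b ∧ g.snd = i
    · cases g with
      | aa => n2_auto
      | ab => n2_auto
      | aw => n2_auto
      | bb => n2_auto
      | am i' hi' => n2_auto
      | bm i' hi' =>
        obtain rfl : i' = i := hs.2
        n2_ok i' i'
    · rw [if_neg hs] at hg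
      simp at hg
  · intro g j hg
    rw [active_iff hE]
    by_cases hs : g.fst = C.b ∧ g.snd = i
    · cases g with
      | aa => n2_auto
      | ab => n2_auto
      | aw => n2_auto
      | bb => n2_auto
      | am i' hi' => n2_auto
      | bm i' hi' =>
        obtain rfl : i' = i := hs.2
        n2_ok i' i'
    · rw [if_neg hs] at hg
      simp at hg
  · n2_h3 i

end Groth.Agent.Lib.Helper72.Nest2
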