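import Mathlib
import Groth.Agent.Lib.Helper72.HomGenC

/-! The ideal `(x_a, x_b) · (x_y : y ≠ z)`: set-up. -/

set_option autoImplicit false
set_option linter.unusedSectionVars false
universe u

namespace Groth.Agent.Lib.Helper72.Nest

open W4c1hilbpn MvPolynomial Groth.Agent.Lib.Helper28.HilbT Groth.Agent.Lib.Helper72.HilbDual
open Groth.Agent.Lib.Helper72.HomGen

variable {σ : Type*} [Fintype σ] [DecidableEq σ] {k : Type u} [Field k]

/-- Two special variables `a`, `b`, a free variable `z`, and the remaining variables `M`. -/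
structure Cfg (σ : Type*) where
  a : σ
  b : σ
  z : σ
  M : σ → Prop
  hab : a ≠ b
  haz : a ≠ z
  hbz : b ≠ z
  hM : ∀ x, M x ↔ x ≠ a ∧ x ≠ b ∧ x ≠ z

/-- Exchange the roles of `a` and `b`. -/
def Cfg.swap (C : Cfg σ) : Cfg σ :=
  ⟨C.b, C.a, C.z, C.M, C.hab.symm, C.hbz, C.haz, fun x => by rw [C.hM]; tauto⟩

variable (C : Cfg σ)

/-- The generators. -/
inductive Gen : Type _
  | aa | ab | bb
  | am (i : σ) (hi : C.M i)
  | bm (i : σ) (hi : C.M i)

instance : Finite (Gen C) := by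
  classical
  let f : Gen C → Fin 3 ⊕ ({x // C.M x} ⊕ {x // C.M x}) := fun g =>
    match g with
    | .aa => Sum.inl 0
    | .ab => Sum.inl 1
    | .bb => Sum.inl 2
    | .am i hi => Sum.inr (Sum.inl ⟨i, hi⟩)
    | .bm i hi => Sum.inr (Sum.inr ⟨i, hi⟩)
  apply Finite.of_injective f
  intro g g' h
  cases g <;> cases g' <;> simp [f] at h <;> first | rfl | (subst h; rfl)

variable {C}

/-- First index of a generator. -/
def Gen.fst : Gen C → σ
  | .aa => C.a | .ab => C.a | .bb => C.b | .am _ _ => C.a | .bm _ _ => C.b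

/-- Second index of a generator. -/
def Gen.snd : Gen C → σ
  | .aa => C.a | .ab => C.b | .bb => C.b | .am i _ => i | .bm i _ => i

/-- Exponent vector of a generator. -/
noncomputable def gen (g : Gen C) : σ →₀ ℕ := gen2 g.fst g.snd

variable (C)

/-- Membership in the ideal, for integer vectors. -/
def memI (v : σ → ℤ) : Prop :=
  2 ≤ v C.a ∨ 2 ≤ v C.b ∨ ∃ x y, (x = C.a ∨ x = C.b) ∧ y ≠ C.z ∧ x ≠ y ∧ 1 ≤ v x ∧ 1 ≤ v y

lemma memI_swap (v : σ → ℤ) : memI C.swap v ↔ memI C v := by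
  unfold memI Cfg.swap
  constructor
  · rintro (h | h | ⟨x, y, hx, hy, hxy, h1, h2⟩)
    · exact Or.inr (Or.inl h)
    · exact Or.inl h
    · exact Or.inr (Or.inr ⟨x, y, hx.symm, hy, hxy, h1, h2⟩)
  · rintro (h | h | ⟨x, y, hx, hy, hxy, h1, h2⟩)
    · exact Or.inr (Or.inl h)
    · exact Or.inl h
    · exact Or.inr (Or.inr ⟨x, y, hx.symm, hy, hxy, h1, h2⟩)

lemma not_memI_of_zero {v : σ → ℤ} (ha : v C.a ≤ 0) (hb : v C.b ≤ 0) : ¬ memI C v := by
  rintro (h | h | ⟨x, y, hx | hx, -, -, h1, -⟩)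
  · omega
  · omega
  · rw [hx] at h1; omega
  · rw [hx] at h1; omega

lemma not_memI_of_single_a {v : σ → ℤ} (ha : v C.a ≤ 1) (hb : v C.b ≤ 0)
    (h0 : ∀ y, y ≠ C.z → y ≠ C.a → v y ≤ 0) : ¬ memI C v := by
  rintro (h | h | ⟨x, y, hx | hx, hy, hxy, h1, h2⟩)
  · omega
  · omega
  · rw [hx] at hxy
    have := h0 y hy (Ne.symm hxy)
    omega
  · rw [hx] at h1; omega

lemma not_memI_of_single_b {v : σ → ℤ} (ha : v C.a ≤ 0) (hb : v C.b ≤ 1)
    (h0 : ∀ y, y ≠ C.z → y ≠ C.b → v y ≤ 0) : ¬ memI C v := by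
  rintro (h | h | ⟨x, y, hx | hx, hy, hxy, h1, h2⟩)
  · omega
  · omega
  · rw [hx] at h1; omega
  · rw [hx] at hxy
    have := h0 y hy (Ne.symm hxy)
    omega

variable (I : Ideal (MvPolynomial σ k))

/-- The hypothesis describing the monomials of `I`. -/
def HE : Prop := ∀ β : σ →₀ ℕ, β ∈ exps I ↔ memI C (fun x => (β x : ℤ))

variable {C I}

lemma HE.swap (hE : HE C I) : HE C.swap I := fun β => by rw [hE β, memI_swap]

lemma gen_apply (g : Gen C) (x : σ) :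
    gen g x = (if g.fst = x then 1 else 0) + (if g.snd = x then 1 else 0) := gen2_apply _ _ _

lemma memI_nat (β : σ →₀ ℕ) : memI C (fun x => (β x : ℤ)) ↔
    (2 ≤ β C.a ∨ 2 ≤ β C.b ∨
      ∃ x y, (x = C.a ∨ x = C.b) ∧ y ≠ C.z ∧ x ≠ y ∧ 1 ≤ β x ∧ 1 ≤ β y) := by
  unfold memI
  simp only []
  constructor
  · rintro (h | h | ⟨x, y, hx, hy, hxy, h1, h2⟩)
    · exact Or.inl (by exact_mod_cast h)
    · exact Or.inr (Or.inl (by exact_mod_cast h))
    · exact Or.inr (Or.inr ⟨x, y, hx, hy, hxy, by exact_mod_cast h1, by exact_mod_cast h2⟩)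
  · rintro (h | h | ⟨x, y, hx, hy, hxy, h1, h2⟩)
    · exact Or.inl (by exact_mod_cast h)
    · exact Or.inr (Or.inl (by exact_mod_cast h))
    · exact Or.inr (Or.inr ⟨x, y, hx, hy, hxy, by exact_mod_cast h1, by exact_mod_cast h2⟩)

lemma hG (hE : HE C I) (β : σ →₀ ℕ) : β ∈ exps I ↔ ∃ γ : Gen C, gen γ ≤ β := by
  rw [hE β, memI_nat]
  constructor
  · rintro (h | h | ⟨x, y, hx | hx, hy, hxy, h1, h2⟩)
    · refine ⟨.aa, ?_⟩
      unfold gen
      rw [gen2_le_iff]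
      exact ⟨fun h' => absurd rfl h', fun _ => h⟩
    · refine ⟨.bb, ?_⟩
      unfold gen
      rw [gen2_le_iff]
      exact ⟨fun h' => absurd rfl h', fun _ => h⟩
    · subst hx
      by_cases hyb : y = C.b
      · subst hyb
        refine ⟨.ab, ?_⟩
        unfold gen
        rw [gen2_le_iff]
        exact ⟨fun _ => ⟨h1, h2⟩, fun h' => absurd h' C.hab⟩
      · refine ⟨.am y ((C.hM y).mpr ⟨Ne.symm hxy, hyb, hy⟩), ?_⟩
        unfold gen
        rw [gen2_le_iff]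
        exact ⟨fun _ => ⟨h1, h2⟩, fun h' => absurd h' hxy⟩
    · subst hx
      by_cases hya : y = C.a
      · subst hya
        refine ⟨.ab, ?_⟩
        unfold gen
        rw [gen2_le_iff]
        exact ⟨fun _ => ⟨h2, h1⟩, fun h' => absurd h' C.hab⟩
      · refine ⟨.bm y ((C.hM y).mpr ⟨hya, Ne.symm hxy, hy⟩), ?_⟩
        unfold gen
        rw [gen2_le_iff]
        exact ⟨fun _ => ⟨h1, h2⟩, fun h' => absurd h' hxy⟩
  · rintro ⟨γ, hγ⟩
    unfold gen at hγ
    rw [gen2_le_iff] at hγ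
    obtain ⟨h1, h2⟩ := hγ
    cases γ with
    | aa => exact Or.inl (h2 rfl)
    | ab =>
      obtain ⟨h3, h4⟩ := h1 C.hab
      exact Or.inr (Or.inr ⟨C.a, C.b, Or.inl rfl, C.hbz, C.hab, h3, h4⟩)
    | bb => exact Or.inr (Or.inl (h2 rfl))
    | am i hi =>
      obtain ⟨hia, hib, hiz⟩ := (C.hM i).mp hi
      obtain ⟨h3, h4⟩ := h1 (Ne.symm hia)
      exact Or.inr (Or.inr ⟨C.a, i, Or.inl rfl, hiz, Ne.symm hia, h3, h4⟩)
    | bm i hi =>
      obtain ⟨hia, hib, hiz⟩ := (C.hM i).mp hi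
      obtain ⟨h3, h4⟩ := h1 (Ne.symm hib)
      exact Or.inr (Or.inr ⟨C.b, i, Or.inr rfl, hiz, Ne.symm hib, h3, h4⟩)

lemma active_iff (hE : HE C I) (α : σ → ℤ) (β : σ →₀ ℕ) :
    Active I α β ↔ (∀ x, 0 ≤ (β x : ℤ) + α x) ∧ ¬ memI C (fun x => (β x : ℤ) + α x) := by
  unfold Active
  constructor
  · rintro ⟨h1, h2⟩
    refine ⟨h1, fun h => h2 ?_⟩
    rw [hE]
    have : (fun x => ((toN (up β α) x : ℕ) : ℤ)) = fun x => (β x : ℤ) + α x := by
      funext x
      rw [toN_apply, Int.toNat_of_nonneg (h1 x), up_apply]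
    rw [this]
    exact h
  · rintro ⟨h1, h2⟩
    refine ⟨h1, fun h => h2 ?_⟩
    rw [hE] at h
    have : (fun x => ((toN (up β α) x : ℕ) : ℤ)) = fun x => (β x : ℤ) + α x := by
      funext x
      have h1' : 0 ≤ up β α x := h1 x
      rw [toN_apply, Int.toNat_of_nonneg h1', up_apply]
    rw [this] at h
    exact h

lemma linked_iff (hE : HE C I) (α : σ → ℤ) (β β' : σ →₀ ℕ) :
    Linked I α β β' ↔ (∀ x, 0 ≤ ((max (β x) (β' x) : ℕ) : ℤ) + α x) ∧
      ¬ memI C (fun x => ((max (β x) (β' x) : ℕ) : ℤ) + α x) := by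
  unfold Linked
  rw [active_iff hE]
  simp only [Finsupp.sup_apply]

end Groth.Agent.Lib.Helper72.Nest
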