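import Mathlib
import Groth.Agent.Lib.Helper72.NestA

/-! The ideal `(x_a, x_b) · (x_y : y ≠ z)`: the non-zero graded pieces of degree `0`. -/

set_option autoImplicit false
set_option linter.unusedSectionVars false
set_option linter.unusedVariables false
universe u

namespace Groth.Agent.Lib.Helper72.Nest

open W4c1hilbpn MvPolynomial Groth.Agent.Lib.Helper28.HilbT Groth.Agent.Lib.Helper72.HilbDual
open Groth.Agent.Lib.Helper72.HomGen

variable {σ : Type*} [Fintype σ] [DecidableEq σ] {k : Type u} [Field k]
variable {C : Cfg σ} {I : Ideal (MvPolynomial σ k)}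

attribute [simp] Cfg.hab Cfg.haz Cfg.hbz

@[simp] lemma Cfg.hba (C : Cfg σ) : C.b ≠ C.a := C.hab.symm
@[simp] lemma Cfg.hza (C : Cfg σ) : C.z ≠ C.a := C.haz.symm
@[simp] lemma Cfg.hzb (C : Cfg σ) : C.z ≠ C.b := C.hbz.symm
@[simp] lemma Cfg.M_ne_a {i : σ} (hi : C.M i) : i ≠ C.a := ((C.hM i).mp hi).1
@[simp] lemma Cfg.M_ne_b {i : σ} (hi : C.M i) : i ≠ C.b := ((C.hM i).mp hi).2.1
@[simp] lemma Cfg.M_ne_z {i : σ} (hi : C.M i) : i ≠ C.z := ((C.hM i).mp hi).2.2
@[simp] lemma Cfg.a_ne_M {i : σ} (hi : C.M i) : C.a ≠ i := ((C.hM i).mp hi).1.symm
@[simp] lemma Cfg.b_ne_M {i : σ} (hi : C.M i) : C.b ≠ i := ((C.hM i).mp hi).2.1.symm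
@[simp] lemma Cfg.z_ne_M {i : σ} (hi : C.M i) : C.z ≠ i := ((C.hM i).mp hi).2.2.symm
@[simp] lemma Cfg.not_M_a (C : Cfg σ) : ¬ C.M C.a := fun h => Cfg.M_ne_a h rfl
@[simp] lemma Cfg.not_M_b (C : Cfg σ) : ¬ C.M C.b := fun h => Cfg.M_ne_b h rfl
@[simp] lemma Cfg.not_M_z (C : Cfg σ) : ¬ C.M C.z := fun h => Cfg.M_ne_z h rfl

lemma add_nonneg' {m : ℕ} {t : ℤ} (ht : 0 ≤ t) : 0 ≤ (m : ℤ) + t := by
  have : (0 : ℤ) ≤ (m : ℤ) := Int.natCast_nonneg _
  omega

/-- `e_z - e_a`. -/
def degA2 (C : Cfg σ) : σ → ℤ := Pi.single C.z 1 - Pi.single C.a 1

/-- `-2 e_a + e_b + e_z`. -/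
def degA1 (C : Cfg σ) : σ → ℤ := Pi.single C.b 1 + Pi.single C.z 1 - Pi.single C.a 2

/-- `e_i - e_a`. -/
def degA3 (C : Cfg σ) (i : σ) : σ → ℤ := Pi.single i 1 - Pi.single C.a 1

/-- `e_b + e_z - e_a - e_i`. -/
def degA4 (C : Cfg σ) (i : σ) : σ → ℤ :=
  Pi.single C.b 1 + Pi.single C.z 1 - Pi.single C.a 1 - Pi.single i 1

/-- `e_z - e_i`. -/
def degA7 (C : Cfg σ) (i : σ) : σ → ℤ := Pi.single C.z 1 - Pi.single i 1

lemma gen_apply' (g : Gen C) (x : σ) :
    gen g x = (if x = g.fst then 1 else 0) + (if x = g.snd then 1 else 0) := by
  rw [gen_apply]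
  simp only [eq_comm]

/-- Evaluation tactic. -/
macro "nest_auto" : tactic =>
  `(tactic| ((simp_all [gen_apply', Gen.fst, Gen.snd, Pi.single_apply, degA1, degA2, degA3, degA4,
    degA7]) <;> try omega))

/-- Prove `¬ memI v` by case analysis. -/
macro "nest_notmem" : tactic =>
  `(tactic| (unfold memI; push Not; refine ⟨?_, ?_, ?_⟩
             · nest_auto
             · nest_auto
             · rintro x y hx hyz hxy h1
               rcases hx with hx | hx <;> subst hx <;>
                 by_cases h2 : y = C.a <;> by_cases h3 : y = C.b <;> nest_auto))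


/-- Prove nonnegativity of `v` by case analysis on the special points. -/
macro "nest_nonneg" : tactic =>
  `(tactic| (intro x
             by_cases hxa : x = C.a <;> by_cases hxb : x = C.b <;> by_cases hxz : x = C.z <;>
               nest_auto))

/-- The linking refutation: all `25` pairs of generators. -/
macro "nest_h3" : tactic =>
  `(tactic| (intro g g' hl
             rw [linked_iff ‹HE _ _›] at hl
             obtain ⟨hnn, hnot⟩ := hl
             unfold memI at hnot
             push Not at hnot
             obtain ⟨w1, w2, w3⟩ := hnot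
             have hna := hnn C.a
             have hnb := hnn C.b
             have hn1 := hnn g.snd
             have hn2 := hnn g'.snd
             have c1 := w3 C.a C.b
             have c2 := w3 C.a g.snd
             have c3 := w3 C.a g'.snd
             have c4 := w3 C.b g.snd
             have c5 := w3 C.b g'.snd
             have c6 := w3 C.b C.a
             clear w3 hnn
             cases g <;> cases g' <;> first | rfl | (exfalso; nest_auto)))

theorem finrank_A2 (hE : HE C I) (i0 : σ) (hi0 : C.M i0) :
    Module.finrank k (GenData I (gen (C := C)) (degA2 C)) = 3 := by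
  classical
  have key := finrank_genData' I (gen (C := C)) (degA2 C) (J := Fin 3)
    (fun g => match g with
      | .aa => some 0 | .ab => some 1 | .am _ _ => some 2 | _ => none)
    (fun j => match j with
      | 0 => .aa | 1 => .ab | 2 => .am i0 hi0)
    (by intro j; fin_cases j <;> rfl) ?_ ?_ ?_ ?_
  · rw [key]; rfl
  · intro g hg
    left
    rw [active_iff hE]
    rintro ⟨h1, -⟩
    have h2 := h1 C.a
    cases g <;> nest_auto
  · intro g j hg
    rw [linked_iff hE]
    cases g with
    | aa =>
      obtain rfl : j = 0 := by simpa using hg.symm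
      exact ⟨by nest_nonneg, by nest_notmem⟩
    | ab =>
      obtain rfl : j = 1 := by simpa using hg.symm
      exact ⟨by nest_nonneg, by nest_notmem⟩
    | bb => simp at hg
    | am i hi =>
      obtain rfl : j = 2 := by simpa using hg.symm
      exact ⟨by nest_nonneg, by nest_notmem⟩
    | bm i hi => simp at hg
  · intro g j hg
    rw [active_iff hE]
    cases g with
    | aa => exact ⟨by nest_nonneg, by nest_notmem⟩
    | ab => exact ⟨by nest_nonneg, by nest_notmem⟩
    | bb => simp at hg
    | am i hi => exact ⟨by nest_nonneg, by nest_notmem⟩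
    | bm i hi => simp at hg
  · nest_h3

/-- Inactivity of the unclassified generators (with an auxiliary point `i`). -/
macro "nest_h0" i:term : tactic =>
  `(tactic| (intro g hg
             left
             rw [active_iff ‹HE _ _›]
             rintro ⟨h1, h2⟩
             unfold memI at h2
             push Not at h2
             obtain ⟨w1, w2, w3⟩ := h2
             have hna := h1 C.a
             have hnb := h1 C.b
             have hni := h1 $i
             have c1 := w3 C.a C.b
             have c2 := w3 C.a $i
             have c3 := w3 C.b $i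
             have c4 := w3 C.a g.snd
             have c5 := w3 C.b g.snd
             clear w3 h1
             by_cases hs : g.snd = $i <;> cases g <;> nest_auto))

/-- The linking refutation with an auxiliary point `i`. -/
macro "nest_h3i" i:term : tactic =>
  `(tactic| (intro g g' hl
             rw [linked_iff ‹HE _ _›] at hl
             obtain ⟨hnn, hnot⟩ := hl
             unfold memI at hnot
             push Not at hnot
             obtain ⟨w1, w2, w3⟩ := hnot
             have hna := hnn C.a
             have hnb := hnn C.b
             have hni := hnn $i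
             have hn1 := hnn g.snd
             have hn2 := hnn g'.snd
             have c1 := w3 C.a C.b
             have c2 := w3 C.a g.snd
             have c3 := w3 C.a g'.snd
             have c4 := w3 C.b g.snd
             have c5 := w3 C.b g'.snd
             have c6 := w3 C.b C.a
             have c7 := w3 C.a $i
             have c8 := w3 C.b $i
             clear w3 hnn
             by_cases hs : g.snd = $i <;> by_cases hs' : g'.snd = $i <;>
               cases g <;> cases g' <;> first | rfl | nest_auto))

macro "nest_nonneg_i" i:term : tactic =>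
  `(tactic| (intro x
             by_cases hxa : x = C.a <;> by_cases hxb : x = C.b <;> by_cases hxz : x = C.z <;>
               by_cases hxi : x = $i <;> nest_auto))

macro "nest_notmem_i" i:term : tactic =>
  `(tactic| (unfold memI; push Not; refine ⟨?_, ?_, ?_⟩
             · nest_auto
             · nest_auto
             · rintro x y hx hyz hxy h1
               rcases hx with hx | hx <;> subst hx <;>
                 by_cases h2 : y = C.a <;> by_cases h3 : y = C.b <;> by_cases h4 : y = $i <;>
                   nest_auto))

theorem finrank_A1 (hE : HE C I) :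
    Module.finrank k (GenData I (gen (C := C)) (degA1 C)) = 1 := by
  classical
  have key := finrank_genData' I (gen (C := C)) (degA1 C) (J := Unit)
    (fun g => match g with
      | .aa => some () | _ => none)
    (fun _ => .aa) (fun _ => rfl) ?_ ?_ ?_ ?_
  · rw [key]; rfl
  · nest_h0 C.a
  · intro g j hg
    rw [linked_iff hE]
    cases g with
    | aa => exact ⟨by nest_nonneg, by nest_notmem⟩
    | ab => simp at hg
    | bb => simp at hg
    | am i hi => simp at hg
    | bm i hi => simp at hg
  · intro g j hg
    rw [active_iff hE]
    cases g with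
    | aa => exact ⟨by nest_nonneg, by nest_notmem⟩
    | ab => simp at hg
    | bb => simp at hg
    | am i hi => simp at hg
    | bm i hi => simp at hg
  · nest_h3

theorem finrank_A3 (hE : HE C I) (i : σ) (hi : C.M i) :
    Module.finrank k (GenData I (gen (C := C)) (degA3 C i)) = 1 := by
  classical
  have key := finrank_genData' I (gen (C := C)) (degA3 C i) (J := Unit)
    (fun g => match g with
      | .am _ _ => some () | _ => none)
    (fun _ => .am i hi) (fun _ => rfl) ?_ ?_ ?_ ?_
  · rw [key]; rfl
  · nest_h0 i
  · intro g j hg
    rw [linked_iff hE]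
    cases g with
    | aa => simp at hg
    | ab => simp at hg
    | bb => simp at hg
    | am i' hi' => exact ⟨by nest_nonneg_i i, by nest_notmem_i i⟩
    | bm i hi => simp at hg
  · intro g j hg
    rw [active_iff hE]
    cases g with
    | aa => simp at hg
    | ab => simp at hg
    | bb => simp at hg
    | am i' hi' => exact ⟨by nest_nonneg_i i, by nest_notmem_i i⟩
    | bm i hi => simp at hg
  · nest_h3i i

theorem finrank_A4 (hE : HE C I) (i : σ) (hi : C.M i) :
    Module.finrank k (GenData I (gen (C := C)) (degA4 C i)) = 1 := by
  classical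
  have key := finrank_genData' I (gen (C := C)) (degA4 C i) (J := Unit)
    (fun g => if g.fst = C.a ∧ g.snd = i then some () else none)
    (fun _ => .am i hi) (fun _ => by simp [Gen.fst, Gen.snd]) ?_ ?_ ?_ ?_
  · rw [key]; rfl
  · nest_h0 i
  · intro g j hg
    rw [linked_iff hE]
    by_cases hs : g.fst = C.a ∧ g.snd = i
    · cases g with
      | aa => nest_auto
      | ab => nest_auto
      | bb => nest_auto
      | am i' hi' =>
        obtain rfl : i' = i := hs.2
        exact ⟨by nest_nonneg_i i', by nest_notmem_i i'⟩
      | bm i' hi' => nest_auto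
    · rw [if_neg hs] at hg
      simp at hg
  · intro g j hg
    rw [active_iff hE]
    by_cases hs : g.fst = C.a ∧ g.snd = i
    · cases g with
      | aa => nest_auto
      | ab => nest_auto
      | bb => nest_auto
      | am i' hi' =>
        obtain rfl : i' = i := hs.2
        exact ⟨by nest_nonneg_i i', by nest_notmem_i i'⟩
      | bm i' hi' => nest_auto
    · rw [if_neg hs] at hg
      simp at hg
  · nest_h3i i

set_option maxHeartbeats 3200000 in
theorem finrank_A7 (hE : HE C I) (i : σ) (hi : C.M i) :
    Module.finrank k (GenData I (gen (C := C)) (degA7 C i)) = 2 := by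
  classical
  have key := finrank_genData' I (gen (C := C)) (degA7 C i) (J := Fin 2)
    (fun g => if g.snd = i then (if g.fst = C.a then some 0 else some 1) else none)
    (fun j => match j with
      | 0 => .am i hi | 1 => .bm i hi)
    (by intro j; fin_cases j <;> simp [Gen.fst, Gen.snd]) ?_ ?_ ?_ ?_
  · rw [key]; rfl
  · nest_h0 i
  · intro g j hg
    rw [linked_iff hE]
    by_cases hs : g.snd = i
    · cases g with
      | aa => nest_auto
      | ab => nest_auto
      | bb => nest_auto
      | am i' hi' =>
        obtain rfl : i' = i := hs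
        obtain rfl : j = 0 := by simpa [Gen.fst, Gen.snd] using hg.symm
        exact ⟨by nest_nonneg_i i', by nest_notmem_i i'⟩
      | bm i' hi' =>
        obtain rfl : i' = i := hs
        obtain rfl : j = 1 := by simpa [Gen.fst, Gen.snd] using hg.symm
        exact ⟨by nest_nonneg_i i', by nest_notmem_i i'⟩
    · rw [if_neg hs] at hg
      simp at hg
  · intro g j hg
    rw [active_iff hE]
    by_cases hs : g.snd = i
    · cases g with
      | aa => nest_auto
      | ab => nest_auto
      | bb => nest_auto
      | am i' hi' =>
        obtain rfl : i' = i := hs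
        exact ⟨by nest_nonneg_i i', by nest_notmem_i i'⟩
      | bm i' hi' =>
        obtain rfl : i' = i := hs
        exact ⟨by nest_nonneg_i i', by nest_notmem_i i'⟩
    · rw [if_neg hs] at hg
      simp at hg
  · nest_h3i i

end Groth.Agent.Lib.Helper72.Nest
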