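import Mathlib
import Groth.Agent.Lib.Helper72.NestB

/-! The ideal `(x_a, x_b) · (x_y : y ≠ z)`: the other graded pieces of degree `0` vanish. -/

set_option autoImplicit false
set_option linter.unusedSectionVars false
set_option linter.unusedVariables false
universe u

namespace Groth.Agent.Lib.Helper72.Nest

open W4c1hilbpn MvPolynomial Groth.Agent.Lib.Helper28.HilbT Groth.Agent.Lib.Helper72.HilbDual
open Groth.Agent.Lib.Helper72.HomGen

variable {σ : Type*} [Fintype σ] [DecidableEq σ] {k : Type u} [Field k]
variable {C : Cfg σ} {I : Ideal (MvPolynomial σ k)}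

lemma sum_gen (γ : Gen C) : ∑ x, ((gen γ x : ℕ) : ℤ) = 2 := by
  simp only [gen_apply', Nat.cast_add, Nat.cast_ite, Nat.cast_one, Nat.cast_zero]
  rw [Finset.sum_add_distrib, Finset.sum_ite_eq', Finset.sum_ite_eq']
  simp

lemma exists_pos_of_sum_pos (m : σ → ℤ) (hsum : 0 < ∑ x, m x) : ∃ l, 1 ≤ m l := by
  by_contra hcon
  push Not at hcon
  have : ∑ x, m x ≤ 0 := Finset.sum_nonpos fun x _ => by have := hcon x; omega
  omega

lemma exists_two_singles (m : σ → ℤ) (hnn : ∀ x, 0 ≤ m x) (hsum : ∑ x, m x = 2) :
    ∃ l l', ∀ x, m x = (if x = l then 1 else 0) + (if x = l' then 1 else 0) := by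
  obtain ⟨l, hl⟩ := exists_pos_of_sum_pos m (by omega)
  have h1 : ∑ x, (m x - if x = l then 1 else 0) = 1 := by
    rw [Finset.sum_sub_distrib, Finset.sum_ite_eq']
    simp [hsum]
  have hnn1 : ∀ x, 0 ≤ m x - if x = l then 1 else 0 := by
    intro x
    by_cases hx : x = l
    · rw [if_pos hx, hx]; omega
    · rw [if_neg hx]; have := hnn x; omega
  obtain ⟨l', hl'⟩ := exists_pos_of_sum_pos (fun x => m x - if x = l then 1 else 0) (by omega)
  have h2 : ∑ x, ((m x - if x = l then 1 else 0) - if x = l' then 1 else 0) = 0 := by
    rw [Finset.sum_sub_distrib, Finset.sum_ite_eq', h1]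
    simp
  have hnn2 : ∀ x, 0 ≤ (m x - if x = l then 1 else 0) - if x = l' then 1 else 0 := by
    intro x
    by_cases hx : x = l'
    · rw [if_pos hx, hx]
      have : (1 : ℤ) ≤ m l' - if l' = l then 1 else 0 := hl'
      omega
    · rw [if_neg hx]; have := hnn1 x; omega
  have h3 := (Finset.sum_eq_zero_iff_of_nonneg (fun x _ => hnn2 x)).mp h2
  refine ⟨l, l', fun x => ?_⟩
  have := h3 x (Finset.mem_univ x)
  omega

/-- The list of degrees with non-zero piece. -/
def InList (C : Cfg σ) (α : σ → ℤ) : Prop :=
  α = degA1 C ∨ α = degA1 C.swap ∨ α = degA2 C ∨ α = degA2 C.swap ∨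
    (∃ i, C.M i ∧ α = degA3 C i) ∨ (∃ i, C.M i ∧ α = degA3 C.swap i) ∨
    (∃ i, C.M i ∧ α = degA4 C i) ∨ (∃ i, C.M i ∧ α = degA4 C.swap i) ∨
    (∃ i, C.M i ∧ α = degA7 C i)

lemma inList_swap {α : σ → ℤ} (h : InList C.swap α) : InList C α := by
  have e7 : ∀ i, degA7 C.swap i = degA7 C i := fun i => rfl
  rcases h with h | h | h | h | h | h | h | h | ⟨i, hi, h⟩
  · exact Or.inr (Or.inl h)
  · exact Or.inl h
  · exact Or.inr (Or.inr (Or.inr (Or.inl h)))
  · exact Or.inr (Or.inr (Or.inl h))
  · exact Or.inr (Or.inr (Or.inr (Or.inr (Or.inr (Or.inl h)))))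
  · exact Or.inr (Or.inr (Or.inr (Or.inr (Or.inl h))))
  · exact Or.inr (Or.inr (Or.inr (Or.inr (Or.inr (Or.inr (Or.inr (Or.inl h)))))))
  · exact Or.inr (Or.inr (Or.inr (Or.inr (Or.inr (Or.inr (Or.inl h))))))
  · exact Or.inr (Or.inr (Or.inr (Or.inr (Or.inr (Or.inr (Or.inr (Or.inr ⟨i, hi, h⟩)))))))

/-- Linking with a generator such that the shifted least common multiple has no `a`, `b`. -/
lemma linked_of_zero (hE : HE C I) {α : σ → ℤ} {γ γ' : Gen C} (hact : Active I α (gen γ))
    (ha : ((max (gen γ C.a) (gen γ' C.a) : ℕ) : ℤ) + α C.a ≤ 0)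
    (hb : ((max (gen γ C.b) (gen γ' C.b) : ℕ) : ℤ) + α C.b ≤ 0) :
    Linked I α (gen γ) (gen γ') := by
  rw [linked_iff hE]
  rw [active_iff hE] at hact
  refine ⟨fun x => ?_, not_memI_of_zero C ha hb⟩
  have h1 := hact.1 x
  have h2 : ((gen γ x : ℕ) : ℤ) ≤ ((max (gen γ x) (gen γ' x) : ℕ) : ℤ) := by
    exact_mod_cast le_max_left _ _
  omega

lemma linked_of_single_a (hE : HE C I) {α : σ → ℤ} {γ γ' : Gen C} (hact : Active I α (gen γ))
    (ha : ((max (gen γ C.a) (gen γ' C.a) : ℕ) : ℤ) + α C.a ≤ 1)
    (hb : ((max (gen γ C.b) (gen γ' C.b) : ℕ) : ℤ) + α C.b ≤ 0)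
    (h0 : ∀ y, y ≠ C.z → y ≠ C.a → ((max (gen γ y) (gen γ' y) : ℕ) : ℤ) + α y ≤ 0) :
    Linked I α (gen γ) (gen γ') := by
  rw [linked_iff hE]
  rw [active_iff hE] at hact
  refine ⟨fun x => ?_, not_memI_of_single_a C ha hb h0⟩
  have h1 := hact.1 x
  have h2 : ((gen γ x : ℕ) : ℤ) ≤ ((max (gen γ x) (gen γ' x) : ℕ) : ℤ) := by
    exact_mod_cast le_max_left _ _
  omega

lemma linked_of_single_b (hE : HE C I) {α : σ → ℤ} {γ γ' : Gen C} (hact : Active I α (gen γ))
    (ha : ((max (gen γ C.a) (gen γ' C.a) : ℕ) : ℤ) + α C.a ≤ 0)
    (hb : ((max (gen γ C.b) (gen γ' C.b) : ℕ) : ℤ) + α C.b ≤ 1)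
    (h0 : ∀ y, y ≠ C.z → y ≠ C.b → ((max (gen γ y) (gen γ' y) : ℕ) : ℤ) + α y ≤ 0) :
    Linked I α (gen γ) (gen γ') := by
  rw [linked_iff hE]
  rw [active_iff hE] at hact
  refine ⟨fun x => ?_, not_memI_of_single_b C ha hb h0⟩
  have h1 := hact.1 x
  have h2 : ((gen γ x : ℕ) : ℤ) ≤ ((max (gen γ x) (gen γ' x) : ℕ) : ℤ) := by
    exact_mod_cast le_max_left _ _
  omega

/-- Evaluation with `Cfg.swap` unfolded. -/
macro "nest_auto'" : tactic =>
  `(tactic| ((simp_all [gen_apply', Gen.fst, Gen.snd, Pi.single_apply, degA1, degA2, degA3, degA4,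
    degA7, Cfg.swap]) <;> try omega))

set_option maxHeartbeats 1600000 in
/-- The core case analysis. -/
theorem inList_core (hE : HE C I) {α : σ → ℤ} {c : Gen C → k} (hc : c ∈ GenData I gen α)
    (γ : Gen C) (hγ : c γ ≠ 0) (hγa : γ.fst = C.a) (hact : Active I α (gen γ)) (l l' : σ)
    (hα : ∀ x, α x = (if x = l then 1 else 0) + (if x = l' then 1 else 0) - ((gen γ x : ℕ) : ℤ))
    (h : l' = C.z ∨ (C.M l ∧ C.M l')) : InList C α := by
  classical
  -- the standard kill: link to `am l` which is inactive
  have kill : ∀ (hl : C.M l) (p : σ),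
      ((max (gen γ C.a) (gen (Gen.am l hl) C.a) : ℕ) : ℤ) + α C.a ≤ 0 →
      ((max (gen γ C.b) (gen (Gen.am l hl) C.b) : ℕ) : ℤ) + α C.b ≤ 0 →
      ((gen (Gen.am l hl) p : ℕ) : ℤ) + α p < 0 → False := by
    intro hl p h1 h2 h3
    apply hγ
    have hlink : Linked I α (gen γ) (gen (Gen.am l hl)) := linked_of_zero hE hact h1 h2
    have hin : ¬ Active I α (gen (Gen.am l hl)) := by
      rw [active_iff hE]
      rintro ⟨h4, -⟩
      have := h4 p
      omega
    rw [hc.2 _ _ hlink, hc.1 _ hin]
  rcases h with rfl | ⟨hl, hl'⟩
  · -- `m = e_l + e_z`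
    by_cases hlz : l = C.z
    · -- `m = 2 e_z`
      subst hlz
      exfalso
      apply hγ
      cases γ with
      | aa =>
        have hlink : Linked I α (gen (Gen.aa : Gen C)) (gen (Gen.ab : Gen C)) := by
          apply linked_of_single_b hE hact
          · simp only [hα]; nest_auto
          · simp only [hα]; nest_auto
          · intro y hyz hyb
            simp only [hα]
            by_cases hya : y = C.a <;> nest_auto
        have hin : ¬ Active I α (gen (Gen.ab : Gen C)) := by
          rw [active_iff hE]
          rintro ⟨h4, -⟩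
          have := h4 C.a
          simp only [hα] at this
          nest_auto
        rw [hc.2 _ _ hlink, hc.1 _ hin]
      | ab =>
        have hlink : Linked I α (gen (Gen.ab : Gen C)) (gen (Gen.aa : Gen C)) := by
          apply linked_of_single_a hE hact
          · simp only [hα]; nest_auto
          · simp only [hα]; nest_auto
          · intro y hyz hya
            simp only [hα]
            by_cases hyb : y = C.b <;> nest_auto
        have hin : ¬ Active I α (gen (Gen.aa : Gen C)) := by
          rw [active_iff hE]
          rintro ⟨h4, -⟩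
          have := h4 C.b
          simp only [hα] at this
          nest_auto
        rw [hc.2 _ _ hlink, hc.1 _ hin]
      | bb => simp [Gen.fst] at hγa
      | am i hi =>
        have hlink : Linked I α (gen (Gen.am i hi)) (gen (Gen.aa : Gen C)) := by
          apply linked_of_single_a hE hact
          · simp only [hα]; nest_auto
          · simp only [hα]; nest_auto
          · intro y hyz hya
            simp only [hα]
            by_cases hyi : y = i <;> nest_auto
        have hin : ¬ Active I α (gen (Gen.aa : Gen C)) := by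
          rw [active_iff hE]
          rintro ⟨h4, -⟩
          have := h4 i
          simp only [hα] at this
          nest_auto
        rw [hc.2 _ _ hlink, hc.1 _ hin]
      | bm i hi => simp [Gen.fst] at hγa
    · by_cases hla : l = C.a
      · subst hla
        cases γ with
        | aa =>
          right; right; left
          funext x
          simp only [hα]
          by_cases hxa : x = C.a <;> by_cases hxz : x = C.z <;> nest_auto'
        | ab =>
          right; right; right; left
          funext x
          simp only [hα]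
          by_cases hxa : x = C.a <;> by_cases hxb : x = C.b <;> by_cases hxz : x = C.z <;> nest_auto'
        | bb => simp [Gen.fst] at hγa
        | am i hi =>
          right; right; right; right; right; right; right; right
          refine ⟨i, hi, ?_⟩
          funext x
          simp only [hα]
          by_cases hxa : x = C.a <;> by_cases hxi : x = i <;> by_cases hxz : x = C.z <;> nest_auto'
        | bm i hi => simp [Gen.fst] at hγa
      · by_cases hlb : l = C.b
        · subst hlb
          cases γ with
          | aa =>
            left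
            funext x
            simp only [hα]
            by_cases hxa : x = C.a <;> by_cases hxb : x = C.b <;> by_cases hxz : x = C.z <;> nest_auto'
          | ab =>
            right; right; left
            funext x
            simp only [hα]
            by_cases hxa : x = C.a <;> by_cases hxb : x = C.b <;> by_cases hxz : x = C.z <;> nest_auto'
          | bb => simp [Gen.fst] at hγa
          | am i hi =>
            right; right; right; right; right; right; left
            refine ⟨i, hi, ?_⟩
            funext x
            simp only [hα]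
            by_cases hxa : x = C.a <;> by_cases hxb : x = C.b <;> by_cases hxi : x = i <;>
              by_cases hxz : x = C.z <;> nest_auto'
          | bm i hi => simp [Gen.fst] at hγa
        · have hl : C.M l := (C.hM l).mpr ⟨hla, hlb, hlz⟩
          cases γ with
          | aa =>
            exfalso
            refine kill hl C.a ?_ ?_ ?_ <;> simp only [hα] <;> nest_auto
          | ab =>
            exfalso
            refine kill hl C.b ?_ ?_ ?_ <;> simp only [hα] <;> nest_auto
          | bb => simp [Gen.fst] at hγa
          | am i hi =>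
            by_cases hli : l = i
            · subst hli
              right; right; left
              funext x
              simp only [hα]
              by_cases hxa : x = C.a <;> by_cases hxi : x = l <;> by_cases hxz : x = C.z <;> nest_auto'
            · exfalso
              have hil : i ≠ l := Ne.symm hli
              refine kill hl i ?_ ?_ ?_ <;> simp only [hα] <;> nest_auto
          | bm i hi => simp [Gen.fst] at hγa
  · -- `m = e_l + e_l'` with `l, l' ∈ M`
    cases γ with
    | aa =>
      exfalso
      refine kill hl C.a ?_ ?_ ?_ <;> simp only [hα] <;> nest_auto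
    | ab =>
      exfalso
      refine kill hl C.b ?_ ?_ ?_ <;> simp only [hα] <;> nest_auto
    | bb => simp [Gen.fst] at hγa
    | am i hi =>
      by_cases hli : l = i
      · subst hli
        right; right; right; right; left
        refine ⟨l', hl', ?_⟩
        funext x
        simp only [hα]
        by_cases hxa : x = C.a <;> by_cases hxi : x = l <;> by_cases hxl : x = l' <;> nest_auto'
      · by_cases hli' : l' = i
        · subst hli'
          right; right; right; right; left
          refine ⟨l, hl, ?_⟩
          funext x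
          simp only [hα]
          by_cases hxa : x = C.a <;> by_cases hxi : x = l' <;> by_cases hxl : x = l <;> nest_auto'
        · exfalso
          have hil : i ≠ l := Ne.symm hli
          have hil' : i ≠ l' := Ne.symm hli'
          refine kill hl i ?_ ?_ ?_ <;> simp only [hα] <;> nest_auto
    | bm i hi => simp [Gen.fst] at hγa

end Groth.Agent.Lib.Helper72.Nest
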