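import Mathlib
import Groth.Agent.Lib.Helper72.Nest2B
import Groth.Agent.Lib.Helper72.NestC

/-! The ideal `x_a · (x_y : y ≠ z) + x_b · (x_y : y ≠ a, w, z)`: the other pieces vanish. -/

set_option autoImplicit false
set_option linter.unusedSectionVars false
set_option linter.unusedVariables false
set_option linter.unusedSimpArgs false
set_option linter.unreachableTactic false
set_option linter.unusedTactic false
set_option maxHeartbeats 6400000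
universe u

namespace Groth.Agent.Lib.Helper72.Nest2

open W4c1hilbpn MvPolynomial Groth.Agent.Lib.Helper28.HilbT Groth.Agent.Lib.Helper72.HilbDual
open Groth.Agent.Lib.Helper72.HomGen

variable {σ : Type*} [Fintype σ] [DecidableEq σ] {k : Type u} [Field k]
variable {C : Cfg σ} {I : Ideal (MvPolynomial σ k)}

lemma sum_gen (γ : Gen C) : ∑ x, ((gen γ x : ℕ) : ℤ) = 2 := by
  simp only [gen_apply', Nat.cast_add, Nat.cast_ite, Nat.cast_one, Nat.cast_zero]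
  rw [Finset.sum_add_distrib, Finset.sum_ite_eq', Finset.sum_ite_eq']
  simp

/-- The list of degrees with non-zero piece. -/
def InList (C : Cfg σ) (α : σ → ℤ) : Prop :=
  α = d1 C ∨ α = d2 C ∨ (∃ i, C.M i ∧ α = d3 C i) ∨ α = d4 C ∨ α = d5 C ∨ α = d6 C ∨ α = d7 C ∨
    (∃ i, C.M i ∧ α = d8 C i) ∨ (∃ i, C.M i ∧ α = d9 C i) ∨ (∃ i, C.M i ∧ α = d10 C i) ∨
    α = d11 C ∨ α = d12 C ∨ (∃ i, C.M i ∧ α = d13 C i)

lemma InList.mk1 {α : σ → ℤ} (h : α = d1 C) : InList C α := Or.inl h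
lemma InList.mk2 {α : σ → ℤ} (h : α = d2 C) : InList C α := Or.inr (Or.inl h)
lemma InList.mk3 {α : σ → ℤ} (i : σ) (hi : C.M i) (h : α = d3 C i) : InList C α :=
  Or.inr (Or.inr (Or.inl ⟨i, hi, h⟩))
lemma InList.mk4 {α : σ → ℤ} (h : α = d4 C) : InList C α := Or.inr (Or.inr (Or.inr (Or.inl h)))
lemma InList.mk5 {α : σ → ℤ} (h : α = d5 C) : InList C α :=
  Or.inr (Or.inr (Or.inr (Or.inr (Or.inl h))))
lemma InList.mk6 {α : σ → ℤ} (h : α = d6 C) : InList C α :=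
  Or.inr (Or.inr (Or.inr (Or.inr (Or.inr (Or.inl h)))))
lemma InList.mk7 {α : σ → ℤ} (h : α = d7 C) : InList C α :=
  Or.inr (Or.inr (Or.inr (Or.inr (Or.inr (Or.inr (Or.inl h))))))
lemma InList.mk8 {α : σ → ℤ} (i : σ) (hi : C.M i) (h : α = d8 C i) : InList C α :=
  Or.inr (Or.inr (Or.inr (Or.inr (Or.inr (Or.inr (Or.inr (Or.inl ⟨i, hi, h⟩)))))))
lemma InList.mk9 {α : σ → ℤ} (i : σ) (hi : C.M i) (h : α = d9 C i) : InList C α :=
  Or.inr (Or.inr (Or.inr (Or.inr (Or.inr (Or.inr (Or.inr (Or.inr (Or.inl ⟨i, hi, h⟩))))))))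
lemma InList.mk10 {α : σ → ℤ} (i : σ) (hi : C.M i) (h : α = d10 C i) : InList C α :=
  Or.inr (Or.inr (Or.inr (Or.inr (Or.inr (Or.inr (Or.inr (Or.inr (Or.inr (Or.inl ⟨i, hi, h⟩)))))))))
lemma InList.mk11 {α : σ → ℤ} (h : α = d11 C) : InList C α :=
  Or.inr (Or.inr (Or.inr (Or.inr (Or.inr (Or.inr (Or.inr (Or.inr (Or.inr (Or.inr (Or.inl h))))))))))
lemma InList.mk12 {α : σ → ℤ} (h : α = d12 C) : InList C α :=
  Or.inr (Or.inr (Or.inr (Or.inr (Or.inr (Or.inr (Or.inr (Or.inr (Or.inr (Or.inr (Or.inr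
    (Or.inl h)))))))))))
lemma InList.mk13 {α : σ → ℤ} (i : σ) (hi : C.M i) (h : α = d13 C i) : InList C α :=
  Or.inr (Or.inr (Or.inr (Or.inr (Or.inr (Or.inr (Or.inr (Or.inr (Or.inr (Or.inr (Or.inr
    (Or.inr ⟨i, hi, h⟩)))))))))))

lemma not_memI_of_zero {v : σ → ℤ} (ha : v C.a ≤ 0) (hb : v C.b ≤ 0) : ¬ memI C v := by
  rintro (h | h | ⟨y, -, -, h1, -⟩ | ⟨y, -, -, -, h1, -⟩) <;> omega

lemma not_memI_of_single_a {v : σ → ℤ} (ha : v C.a ≤ 1) (hb : v C.b ≤ 0)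
    (h0 : ∀ y, y ≠ C.a → y ≠ C.z → v y ≤ 0) : ¬ memI C v := by
  rintro (h | h | ⟨y, hya, hyz, h1, h2⟩ | ⟨y, -, -, -, h1, -⟩)
  · omega
  · omega
  · have := h0 y hya hyz
    omega
  · omega

lemma not_memI_of_single_b {v : σ → ℤ} (ha : v C.a ≤ 0) (hb : v C.b ≤ 1)
    (h0 : ∀ y, y ≠ C.b → y ≠ C.z → y ≠ C.w → v y ≤ 0) : ¬ memI C v := by
  rintro (h | h | ⟨y, hya, hyz, h1, h2⟩ | ⟨y, hyb, hyz, hyw, h1, h2⟩)
  · omega
  · omega
  · omega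
  · have := h0 y hyb hyz hyw
    omega

lemma nonneg_max (hE : HE C I) {α : σ → ℤ} {γ : Gen C} (hact : Active I α (gen γ)) (γ' : Gen C)
    (x : σ) : 0 ≤ ((max (gen γ x) (gen γ' x) : ℕ) : ℤ) + α x := by
  rw [active_iff hE] at hact
  have h1 := hact.1 x
  have h2 : ((gen γ x : ℕ) : ℤ) ≤ ((max (gen γ x) (gen γ' x) : ℕ) : ℤ) := by
    exact_mod_cast le_max_left _ _
  omega

lemma kill_of (hE : HE C I) {α : σ → ℤ} {c : Gen C → k} (hc : c ∈ GenData I gen α)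
    {γ : Gen C} (hact : Active I α (gen γ)) (γ' : Gen C) (p : σ)
    (hnot : ¬ memI C (fun x => ((max (gen γ x) (gen γ' x) : ℕ) : ℤ) + α x))
    (hp : ((gen γ' p : ℕ) : ℤ) + α p < 0) : c γ = 0 := by
  have hlink : Linked I α (gen γ) (gen γ') := by
    rw [linked_iff hE]
    exact ⟨nonneg_max hE hact γ', hnot⟩
  have hin : ¬ Active I α (gen γ') := by
    rw [active_iff hE]
    rintro ⟨h4, -⟩
    have := h4 p
    omega
  rw [hc.2 _ _ hlink, hc.1 _ hin]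

lemma kill0 (hE : HE C I) {α : σ → ℤ} {c : Gen C → k} (hc : c ∈ GenData I gen α)
    {γ : Gen C} (hact : Active I α (gen γ)) (γ' : Gen C) (p : σ)
    (ha : ((max (gen γ C.a) (gen γ' C.a) : ℕ) : ℤ) + α C.a ≤ 0)
    (hb : ((max (gen γ C.b) (gen γ' C.b) : ℕ) : ℤ) + α C.b ≤ 0)
    (hp : ((gen γ' p : ℕ) : ℤ) + α p < 0) : c γ = 0 :=
  kill_of hE hc hact γ' p (not_memI_of_zero ha hb) hp

lemma killA (hE : HE C I) {α : σ → ℤ} {c : Gen C → k} (hc : c ∈ GenData I gen α)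
    {γ : Gen C} (hact : Active I α (gen γ)) (γ' : Gen C) (p : σ)
    (ha : ((max (gen γ C.a) (gen γ' C.a) : ℕ) : ℤ) + α C.a ≤ 1)
    (hb : ((max (gen γ C.b) (gen γ' C.b) : ℕ) : ℤ) + α C.b ≤ 0)
    (h0 : ∀ y, y ≠ C.a → y ≠ C.z → ((max (gen γ y) (gen γ' y) : ℕ) : ℤ) + α y ≤ 0)
    (hp : ((gen γ' p : ℕ) : ℤ) + α p < 0) : c γ = 0 :=
  kill_of hE hc hact γ' p (not_memI_of_single_a ha hb h0) hp

lemma killB (hE : HE C I) {α : σ → ℤ} {c : Gen C → k} (hc : c ∈ GenData I gen α)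
    {γ : Gen C} (hact : Active I α (gen γ)) (γ' : Gen C) (p : σ)
    (ha : ((max (gen γ C.a) (gen γ' C.a) : ℕ) : ℤ) + α C.a ≤ 0)
    (hb : ((max (gen γ C.b) (gen γ' C.b) : ℕ) : ℤ) + α C.b ≤ 1)
    (h0 : ∀ y, y ≠ C.b → y ≠ C.z → y ≠ C.w →
      ((max (gen γ y) (gen γ' y) : ℕ) : ℤ) + α y ≤ 0)
    (hp : ((gen γ' p : ℕ) : ℤ) + α p < 0) : c γ = 0 :=
  kill_of hE hc hact γ' p (not_memI_of_single_b ha hb h0) hp

/-- The possible shapes of a quadratic monomial outside the ideal. -/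
def Shape (C : Cfg σ) (l l' : σ) : Prop :=
  (l = C.z ∧ l' = C.z) ∨ (l = C.w ∧ l' = C.z) ∨ (l = C.w ∧ l' = C.w) ∨ (C.M l ∧ l' = C.z) ∨
    (C.M l ∧ l' = C.w) ∨ (C.M l ∧ C.M l') ∨ (l = C.a ∧ l' = C.z) ∨ (l = C.b ∧ l' = C.z) ∨
    (l = C.b ∧ l' = C.w)

end Groth.Agent.Lib.Helper72.Nest2
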