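import Mathlib
import Groth.Agent.Lib.Helper72.Nest2G

/-! The ideal `x_a · (x_y : y ≠ z) + x_b · (x_y : y ≠ a, w, z)`: the other pieces vanish. -/

set_option autoImplicit false
set_option linter.unusedSectionVars false
set_option linter.unusedVariables false
set_option linter.unusedSimpArgs false
set_option linter.unreachableTactic false
set_option linter.unusedTactic false
set_option maxHeartbeats 6400000
universe u

namespace Groth.Agent.Lib.Helper72.Nest2

open W4c1hilbpn MvPolynomial Groth.Agent.Lib.Helper28.HilbT Groth.Agent.Lib.Helper72.HilbDual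
open Groth.Agent.Lib.Helper72.HomGen

variable {σ : Type*} [Fintype σ] [DecidableEq σ] {k : Type u} [Field k]
variable {C : Cfg σ} {I : Ideal (MvPolynomial σ k)}

theorem core_aa (hE : HE C I) (i0 : σ) (hi0 : C.M i0) {α : σ → ℤ} {c : Gen C → k}
    (hc : c ∈ GenData I gen α) (hγ : c (Gen.aa) ≠ 0)
    (hact : Active I α (gen (Gen.aa : Gen C))) (l l' : σ)
    (hα : ∀ x, α x = (if x = l then 1 else 0) + (if x = l' then 1 else 0) -
      ((gen (Gen.aa : Gen C) x : ℕ) : ℤ))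
    (h : Shape C l l') : InList C α := by
  classical
  rcases h with ⟨rfl, rfl⟩ | ⟨rfl, rfl⟩ | ⟨rfl, rfl⟩ | ⟨hl, rfl⟩ | ⟨hl, rfl⟩ | ⟨hl, hl'⟩ | ⟨rfl, rfl⟩ | ⟨rfl, rfl⟩ | ⟨rfl, rfl⟩
  · exfalso
    apply hγ
    refine kill0 hE hc hact (.aw) C.a ?_ ?_ ?_ <;> simp only [hα] <;> n2_auto
  · exfalso
    apply hγ
    refine kill0 hE hc hact (.aw) C.a ?_ ?_ ?_ <;> simp only [hα] <;> n2_auto
  · exfalso
    apply hγ
    refine kill0 hE hc hact (.aw) C.a ?_ ?_ ?_ <;> simp only [hα] <;> n2_auto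
  · exfalso
    apply hγ
    refine kill0 hE hc hact (.aw) C.a ?_ ?_ ?_ <;> simp only [hα] <;> n2_auto
  · exfalso
    apply hγ
    refine kill0 hE hc hact (.aw) C.a ?_ ?_ ?_ <;> simp only [hα] <;> n2_auto
  · exfalso
    apply hγ
    refine kill0 hE hc hact (.aw) C.a ?_ ?_ ?_ <;> simp only [hα] <;> n2_auto
  · refine InList.mk1 ?_
    funext x
    simp only [hα]
    n2_pt x C.a C.a
  · exfalso
    apply hγ
    refine killB hE hc hact (.aw) C.a ?_ ?_ ?_ ?_
    · simp only [hα]; n2_auto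
    · simp only [hα]; n2_auto
    · intro y hyb hyz hyw; simp only [hα]; n2_pt y C.a C.a
    · simp only [hα]; n2_auto
  · exfalso
    apply hγ
    refine killB hE hc hact (.aw) C.a ?_ ?_ ?_ ?_
    · simp only [hα]; n2_auto
    · simp only [hα]; n2_auto
    · intro y hyb hyz hyw; simp only [hα]; n2_pt y C.a C.a
    · simp only [hα]; n2_auto

theorem core_ab (hE : HE C I) (i0 : σ) (hi0 : C.M i0) {α : σ → ℤ} {c : Gen C → k}
    (hc : c ∈ GenData I gen α) (hγ : c (Gen.ab) ≠ 0)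
    (hact : Active I α (gen (Gen.ab : Gen C))) (l l' : σ)
    (hα : ∀ x, α x = (if x = l then 1 else 0) + (if x = l' then 1 else 0) -
      ((gen (Gen.ab : Gen C) x : ℕ) : ℤ))
    (h : Shape C l l') : InList C α := by
  classical
  rcases h with ⟨rfl, rfl⟩ | ⟨rfl, rfl⟩ | ⟨rfl, rfl⟩ | ⟨hl, rfl⟩ | ⟨hl, rfl⟩ | ⟨hl, hl'⟩ | ⟨rfl, rfl⟩ | ⟨rfl, rfl⟩ | ⟨rfl, rfl⟩
  · exfalso
    apply hγ
    refine kill0 hE hc hact (.aw) C.b ?_ ?_ ?_ <;> simp only [hα] <;> n2_auto
  · exfalso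
    apply hγ
    refine kill0 hE hc hact (.aw) C.b ?_ ?_ ?_ <;> simp only [hα] <;> n2_auto
  · exfalso
    apply hγ
    refine kill0 hE hc hact (.aw) C.b ?_ ?_ ?_ <;> simp only [hα] <;> n2_auto
  · exfalso
    apply hγ
    refine kill0 hE hc hact (.aw) C.b ?_ ?_ ?_ <;> simp only [hα] <;> n2_auto
  · exfalso
    apply hγ
    refine kill0 hE hc hact (.aw) C.b ?_ ?_ ?_ <;> simp only [hα] <;> n2_auto
  · exfalso
    apply hγ
    refine kill0 hE hc hact (.aw) C.b ?_ ?_ ?_ <;> simp only [hα] <;> n2_auto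
  · refine InList.mk6 ?_
    funext x
    simp only [hα]
    n2_pt x C.a C.a
  · refine InList.mk1 ?_
    funext x
    simp only [hα]
    n2_pt x C.a C.a
  · refine InList.mk2 ?_
    funext x
    simp only [hα]
    n2_pt x C.a C.a

end Groth.Agent.Lib.Helper72.Nest2
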