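import Mathlib
import Groth.Agent.Lib.Helper72.Nest2H
import Groth.Agent.Lib.Helper72.Nest2I
import Groth.Agent.Lib.Helper72.Nest2J
import Groth.Agent.Lib.Helper72.Nest2K

/-! The ideal `x_a · (x_y : y ≠ z) + x_b · (x_y : y ≠ a, w, z)`: classification of the pieces. -/

set_option autoImplicit false
set_option linter.unusedSectionVars false
set_option linter.unusedVariables false
set_option linter.unusedSimpArgs false
set_option maxHeartbeats 6400000
universe u

namespace Groth.Agent.Lib.Helper72.Nest2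

open W4c1hilbpn MvPolynomial Groth.Agent.Lib.Helper28.HilbT Groth.Agent.Lib.Helper72.HilbDual
open Groth.Agent.Lib.Helper72.HomGen

variable {σ : Type*} [Fintype σ] [DecidableEq σ] {k : Type u} [Field k]
variable {C : Cfg σ} {I : Ideal (MvPolynomial σ k)}

lemma type_cases (C : Cfg σ) (l : σ) : l = C.a ∨ l = C.b ∨ l = C.w ∨ l = C.z ∨ C.M l := by
  by_cases h1 : l = C.a
  · exact Or.inl h1
  by_cases h2 : l = C.b
  · exact Or.inr (Or.inl h2)
  by_cases h3 : l = C.w
  · exact Or.inr (Or.inr (Or.inl h3))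
  by_cases h4 : l = C.z
  · exact Or.inr (Or.inr (Or.inr (Or.inl h4)))
  exact Or.inr (Or.inr (Or.inr (Or.inr ((C.hM l).mpr ⟨h1, h2, h3, h4⟩))))

lemma shape_of_not_memI {m : σ → ℤ} {l l' : σ}
    (hm : ∀ x, m x = (if x = l then 1 else 0) + (if x = l' then 1 else 0))
    (hnot : ¬ memI C m) : Shape C l l' ∨ Shape C l' l := by
  unfold memI at hnot
  push Not at hnot
  obtain ⟨w1, w2, w3, w4⟩ := hnot
  have c1 := w3 l
  have c2 := w3 l'
  have c3 := w4 l
  have c4 := w4 l'
  clear w3 w4
  simp only [hm] at w1 w2 c1 c2 c3 c4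
  unfold Shape
  rcases type_cases C l with rfl | rfl | rfl | rfl | hl <;>
    rcases type_cases C l' with rfl | rfl | rfl | rfl | hl' <;>
      simp_all

theorem inList_of_ne_bot (hE : HE C I) (i0 : σ) (hi0 : C.M i0) {α : σ → ℤ}
    (hsum : ∑ x, α x = 0) (hne : GenData I (gen (C := C)) α ≠ ⊥) : InList C α := by
  rw [Ne, Submodule.eq_bot_iff] at hne
  push Not at hne
  obtain ⟨c, hc, hc0⟩ := hne
  have hex : ∃ γ, c γ ≠ 0 := by
    by_contra hcon
    push Not at hcon
    exact hc0 (funext hcon)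
  obtain ⟨γ, hγ⟩ := hex
  have hact : Active I α (gen γ) := by
    by_contra h
    exact hγ (hc.1 γ h)
  obtain ⟨hnn, hnot⟩ := (active_iff hE α (gen γ)).mp hact
  obtain ⟨l, l', hm⟩ := Nest.exists_two_singles (fun x => ((gen γ x : ℕ) : ℤ) + α x) hnn (by
    rw [Finset.sum_add_distrib, sum_gen, hsum]; norm_num)
  have hα : ∀ x, α x = (if x = l then 1 else 0) + (if x = l' then 1 else 0) -
      ((gen γ x : ℕ) : ℤ) := fun x => by
    have := hm x
    omega
  have hα' : ∀ x, α x = (if x = l' then 1 else 0) + (if x = l then 1 else 0) -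
      ((gen γ x : ℕ) : ℤ) := fun x => by
    rw [hα x]; ring
  rcases shape_of_not_memI hm hnot with h | h
  · cases γ with
    | aa => exact core_aa hE i0 hi0 hc hγ hact l l' hα h
    | ab => exact core_ab hE i0 hi0 hc hγ hact l l' hα h
    | aw => exact core_aw hE i0 hi0 hc hγ hact l l' hα h
    | bb => exact core_bb hE i0 hi0 hc hγ hact l l' hα h
    | am i hi => exact core_am hE i0 hi0 hc i hi hγ hact l l' hα h
    | bm i hi => exact core_bm hE i0 hi0 hc i hi hγ hact l l' hα h
  · cases γ with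
    | aa => exact core_aa hE i0 hi0 hc hγ hact l' l hα' h
    | ab => exact core_ab hE i0 hi0 hc hγ hact l' l hα' h
    | aw => exact core_aw hE i0 hi0 hc hγ hact l' l hα' h
    | bb => exact core_bb hE i0 hi0 hc hγ hact l' l hα' h
    | am i hi => exact core_am hE i0 hi0 hc i hi hγ hact l' l hα' h
    | bm i hi => exact core_bm hE i0 hi0 hc i hi hγ hact l' l hα' h

end Groth.Agent.Lib.Helper72.Nest2
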