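import Mathlib
import Groth.Agent.Lib.Helper72.Nest2L
import Groth.Agent.Lib.Helper72.Nest2C
import Groth.Agent.Lib.Helper72.Nest2D
import Groth.Agent.Lib.Helper72.Nest2E
import Groth.Agent.Lib.Helper72.Nest2F

/-! The ideal `x_a · (x_y : y ≠ z) + x_b · (x_y : y ≠ a, w, z)`: assembling the count. -/

set_option autoImplicit false
set_option linter.unusedSectionVars false
set_option linter.unusedVariables false
set_option linter.unusedSimpArgs false
set_option maxHeartbeats 6400000
universe u

namespace Groth.Agent.Lib.Helper72.Nest2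

open W4c1hilbpn MvPolynomial Groth.Agent.Lib.Helper28.HilbT Groth.Agent.Lib.Helper72.HilbDual
open Groth.Agent.Lib.Helper72.HomGen

variable {σ : Type*} [Fintype σ] [DecidableEq σ] {k : Type u} [Field k]
variable (C : Cfg σ) [DecidablePred C.M] {I : Ideal (MvPolynomial σ k)}

/-- The middle variables. -/
abbrev Mid : Type _ := {i : σ // C.M i}

/-- Index set of the non-zero pieces. -/
abbrev Idx : Type _ :=
  Unit ⊕ Unit ⊕ Mid C ⊕ Unit ⊕ Unit ⊕ Unit ⊕ Unit ⊕ Mid C ⊕ Mid C ⊕ Mid C ⊕ Unit ⊕ Unit ⊕ Mid C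

/-- The degree attached to an index. -/
def degOf : Idx C → σ → ℤ
  | .inl _ => d1 C
  | .inr (.inl _) => d2 C
  | .inr (.inr (.inl i)) => d3 C i.1
  | .inr (.inr (.inr (.inl _))) => d4 C
  | .inr (.inr (.inr (.inr (.inl _)))) => d5 C
  | .inr (.inr (.inr (.inr (.inr (.inl _))))) => d6 C
  | .inr (.inr (.inr (.inr (.inr (.inr (.inl _)))))) => d7 C
  | .inr (.inr (.inr (.inr (.inr (.inr (.inr (.inl i))))))) => d8 C i.1
  | .inr (.inr (.inr (.inr (.inr (.inr (.inr (.inr (.inl i)))))))) => d9 C i.1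
  | .inr (.inr (.inr (.inr (.inr (.inr (.inr (.inr (.inr (.inl i))))))))) => d10 C i.1
  | .inr (.inr (.inr (.inr (.inr (.inr (.inr (.inr (.inr (.inr (.inl _)))))))))) => d11 C
  | .inr (.inr (.inr (.inr (.inr (.inr (.inr (.inr (.inr (.inr (.inr (.inl _))))))))))) => d12 C
  | .inr (.inr (.inr (.inr (.inr (.inr (.inr (.inr (.inr (.inr (.inr (.inr i))))))))))) => d13 C i.1

/-- The values at `a`, `b`, `w`, `z` distinguishing the families. -/
def sig : Idx C → ℤ × ℤ × ℤ × ℤ
  | .inl _ => (-1, 0, 0, 1)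
  | .inr (.inl _) => (-1, 0, 1, 0)
  | .inr (.inr (.inl _)) => (-1, 0, 0, 0)
  | .inr (.inr (.inr (.inl _))) => (-1, 1, -1, 1)
  | .inr (.inr (.inr (.inr (.inl _)))) => (-1, 1, 0, 0)
  | .inr (.inr (.inr (.inr (.inr (.inl _))))) => (0, -1, 0, 1)
  | .inr (.inr (.inr (.inr (.inr (.inr (.inl _)))))) => (0, -1, 1, 0)
  | .inr (.inr (.inr (.inr (.inr (.inr (.inr (.inl _))))))) => (0, -1, 0, 0)
  | .inr (.inr (.inr (.inr (.inr (.inr (.inr (.inr (.inl _)))))))) => (0, 0, 0, 1)
  | .inr (.inr (.inr (.inr (.inr (.inr (.inr (.inr (.inr (.inl _))))))))) => (0, 0, 1, 0)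
  | .inr (.inr (.inr (.inr (.inr (.inr (.inr (.inr (.inr (.inr (.inl _)))))))))) => (0, 0, -1, 1)
  | .inr (.inr (.inr (.inr (.inr (.inr (.inr (.inr (.inr (.inr (.inr (.inl _))))))))))) => (1, -2, 0, 1)
  | .inr (.inr (.inr (.inr (.inr (.inr (.inr (.inr (.inr (.inr (.inr (.inr _))))))))))) => (1, -1, 0, 1)

lemma sig_eq (j : Idx C) :
    (degOf C j C.a, degOf C j C.b, degOf C j C.w, degOf C j C.z) = sig C j := by
  rcases j with j | j | j | j | j | j | j | j | j | j | j | j | j
  · simp [degOf, sig, d1, d2, d3, d4, d5, d6, d7, d8, d9, d10, d11, d12, d13, Pi.single_apply]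
  · simp [degOf, sig, d1, d2, d3, d4, d5, d6, d7, d8, d9, d10, d11, d12, d13, Pi.single_apply]
  · have := j.2
    simp [degOf, sig, d1, d2, d3, d4, d5, d6, d7, d8, d9, d10, d11, d12, d13, Pi.single_apply, this]
  · simp [degOf, sig, d1, d2, d3, d4, d5, d6, d7, d8, d9, d10, d11, d12, d13, Pi.single_apply]
  · simp [degOf, sig, d1, d2, d3, d4, d5, d6, d7, d8, d9, d10, d11, d12, d13, Pi.single_apply]
  · simp [degOf, sig, d1, d2, d3, d4, d5, d6, d7, d8, d9, d10, d11, d12, d13, Pi.single_apply]
  · simp [degOf, sig, d1, d2, d3, d4, d5, d6, d7, d8, d9, d10, d11, d12, d13, Pi.single_apply]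
  · have := j.2
    simp [degOf, sig, d1, d2, d3, d4, d5, d6, d7, d8, d9, d10, d11, d12, d13, Pi.single_apply, this]
  · have := j.2
    simp [degOf, sig, d1, d2, d3, d4, d5, d6, d7, d8, d9, d10, d11, d12, d13, Pi.single_apply, this]
  · have := j.2
    simp [degOf, sig, d1, d2, d3, d4, d5, d6, d7, d8, d9, d10, d11, d12, d13, Pi.single_apply, this]
  · simp [degOf, sig, d1, d2, d3, d4, d5, d6, d7, d8, d9, d10, d11, d12, d13, Pi.single_apply]
  · simp [degOf, sig, d1, d2, d3, d4, d5, d6, d7, d8, d9, d10, d11, d12, d13, Pi.single_apply]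
  · have := j.2
    simp [degOf, sig, d1, d2, d3, d4, d5, d6, d7, d8, d9, d10, d11, d12, d13, Pi.single_apply, this]

lemma degOf_injective : Function.Injective (degOf C) := by
  intro j j' h
  have hs : sig C j = sig C j' := by rw [← sig_eq, ← sig_eq, h]
  rcases j with j | j | j | j | j | j | j | j | j | j | j | j | j <;>
    rcases j' with j' | j' | j' | j' | j' | j' | j' | j' | j' | j' | j' | j' | j' <;>
    first
    | rfl
    | (exfalso; simp [sig] at hs; done)
    | (have hi := congrFun h j.1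
       have hi' := congrFun h j'.1
       have e : j = j' := by
         apply Subtype.ext
         by_contra hne
         have hne' : ¬ j'.1 = j.1 := fun h => hne h.symm
         have hj := j.2
         have hj' := j'.2
         simp [degOf, sig, d1, d2, d3, d4, d5, d6, d7, d8, d9, d10, d11, d12, d13, Pi.single_apply, hj, hj', hne, hne'] at hi hi'
       rw [e])

lemma sum_degOf (j : Idx C) : ∑ x, degOf C j x = 0 := by
  rcases j with j | j | j | j | j | j | j | j | j | j | j | j | j <;>
    simp [degOf, d1, d2, d3, d4, d5, d6, d7, d8, d9, d10, d11, d12, d13, Finset.sum_add_distrib,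
      Finset.sum_sub_distrib, Finset.sum_pi_single']

variable {C}

theorem finrank_hom0 (hI : IsMonomial I) (hE : HE C I) (hMne : ∃ i, C.M i) :
    Module.finrank k ↥(⨆ α : {α : σ → ℤ // ∑ x, α x = 0}, tPiece I α.1) =
      12 + 6 * Fintype.card (Mid C) := by
  classical
  obtain ⟨i0, hi0⟩ := hMne
  have hGG := hG hE
  have hfd : ∀ α, FiniteDimensional k (tPiece I α) := fun α =>
    finiteDimensional_tPiece_of_finite I (gen (C := C)) α hI hGG
  rw [finrank_iSup_indexed hI hfd (fun α => ∑ x, α x = 0) (degOf C) (degOf_injective C)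
    (sum_degOf C)]
  · have u1 : ∀ x : Unit, Module.finrank k (tPiece I (degOf C (.inl x))) = 2 := by
      intro _
      change Module.finrank k (tPiece I (d1 C)) = 2
      rw [finrank_tPiece_eq (gen (C := C)) _ hI hGG]; exact finrank_d1 hE
    have u2 : ∀ x : Unit, Module.finrank k (tPiece I (degOf C (.inr (.inl x)))) = 1 := by
      intro _
      change Module.finrank k (tPiece I (d2 C)) = 1
      rw [finrank_tPiece_eq (gen (C := C)) _ hI hGG]; exact finrank_d2 hE
    have u3 : ∀ i : Mid C, Module.finrank k (tPiece I (degOf C (.inr (.inr (.inl i))))) = 1 := by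
      intro i
      change Module.finrank k (tPiece I (d3 C i.1)) = 1
      rw [finrank_tPiece_eq (gen (C := C)) _ hI hGG]; exact finrank_d3 hE i.1 i.2
    have u4 : ∀ x : Unit, Module.finrank k (tPiece I (degOf C (.inr (.inr (.inr (.inl x)))))) = 1 := by
      intro _
      change Module.finrank k (tPiece I (d4 C)) = 1
      rw [finrank_tPiece_eq (gen (C := C)) _ hI hGG]; exact finrank_d4 hE
    have u5 : ∀ x : Unit, Module.finrank k (tPiece I (degOf C (.inr (.inr (.inr (.inr (.inl x))))))) = 1 := by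
      intro _
      change Module.finrank k (tPiece I (d5 C)) = 1
      rw [finrank_tPiece_eq (gen (C := C)) _ hI hGG]; exact finrank_d5 hE
    have u6 : ∀ x : Unit, Module.finrank k (tPiece I (degOf C (.inr (.inr (.inr (.inr (.inr (.inl x)))))))) = 3 := by
      intro _
      change Module.finrank k (tPiece I (d6 C)) = 3
      rw [finrank_tPiece_eq (gen (C := C)) _ hI hGG]; exact finrank_d6 hE i0 hi0
    have u7 : ∀ x : Unit, Module.finrank k (tPiece I (degOf C (.inr (.inr (.inr (.inr (.inr (.inr (.inl x))))))))) = 2 := by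
      intro _
      change Module.finrank k (tPiece I (d7 C)) = 2
      rw [finrank_tPiece_eq (gen (C := C)) _ hI hGG]; exact finrank_d7 hE i0 hi0
    have u8 : ∀ i : Mid C, Module.finrank k (tPiece I (degOf C (.inr (.inr (.inr (.inr (.inr (.inr (.inr (.inl i)))))))))) = 1 := by
      intro i
      change Module.finrank k (tPiece I (d8 C i.1)) = 1
      rw [finrank_tPiece_eq (gen (C := C)) _ hI hGG]; exact finrank_d8 hE i.1 i.2
    have u9 : ∀ i : Mid C, Module.finrank k (tPiece I (degOf C (.inr (.inr (.inr (.inr (.inr (.inr (.inr (.inr (.inl i))))))))))) = 2 := by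
      intro i
      change Module.finrank k (tPiece I (d9 C i.1)) = 2
      rw [finrank_tPiece_eq (gen (C := C)) _ hI hGG]; exact finrank_d9 hE i.1 i.2
    have u10 : ∀ i : Mid C, Module.finrank k (tPiece I (degOf C (.inr (.inr (.inr (.inr (.inr (.inr (.inr (.inr (.inr (.inl i)))))))))))) = 1 := by
      intro i
      change Module.finrank k (tPiece I (d10 C i.1)) = 1
      rw [finrank_tPiece_eq (gen (C := C)) _ hI hGG]; exact finrank_d10 hE i.1 i.2
    have u11 : ∀ x : Unit, Module.finrank k (tPiece I (degOf C (.inr (.inr (.inr (.inr (.inr (.inr (.inr (.inr (.inr (.inr (.inl x))))))))))))) = 1 := by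
      intro _
      change Module.finrank k (tPiece I (d11 C)) = 1
      rw [finrank_tPiece_eq (gen (C := C)) _ hI hGG]; exact finrank_d11 hE
    have u12 : ∀ x : Unit, Module.finrank k (tPiece I (degOf C (.inr (.inr (.inr (.inr (.inr (.inr (.inr (.inr (.inr (.inr (.inr (.inl x)))))))))))))) = 1 := by
      intro _
      change Module.finrank k (tPiece I (d12 C)) = 1
      rw [finrank_tPiece_eq (gen (C := C)) _ hI hGG]; exact finrank_d12 hE
    have u13 : ∀ i : Mid C, Module.finrank k (tPiece I (degOf C (.inr (.inr (.inr (.inr (.inr (.inr (.inr (.inr (.inr (.inr (.inr (.inr i)))))))))))))) = 1 := by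
      intro i
      change Module.finrank k (tPiece I (d13 C i.1)) = 1
      rw [finrank_tPiece_eq (gen (C := C)) _ hI hGG]; exact finrank_d13 hE i.1 i.2
    simp only [Fintype.sum_sum_type, u1, u2, u3, u4, u5, u6, u7, u8, u9, u10, u11, u12, u13,
      Finset.sum_const, Finset.card_univ, smul_eq_mul, mul_one, Fintype.card_unit]
    omega
  · intro α hα hnot
    apply tPiece_eq_bot_of_genData (gen (C := C)) α hI hGG
    by_contra hne
    rcases inList_of_ne_bot hE i0 hi0 hα hne with h | h | ⟨i, hi, h⟩ | h | h | h | h | ⟨i, hi, h⟩ | ⟨i, hi, h⟩ | ⟨i, hi, h⟩ | h | h | ⟨i, hi, h⟩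
    · exact hnot (.inl ()) h
    · exact hnot (.inr (.inl ())) h
    · exact hnot (.inr (.inr (.inl ⟨i, hi⟩))) h
    · exact hnot (.inr (.inr (.inr (.inl ())))) h
    · exact hnot (.inr (.inr (.inr (.inr (.inl ()))))) h
    · exact hnot (.inr (.inr (.inr (.inr (.inr (.inl ())))))) h
    · exact hnot (.inr (.inr (.inr (.inr (.inr (.inr (.inl ()))))))) h
    · exact hnot (.inr (.inr (.inr (.inr (.inr (.inr (.inr (.inl ⟨i, hi⟩)))))))) h
    · exact hnot (.inr (.inr (.inr (.inr (.inr (.inr (.inr (.inr (.inl ⟨i, hi⟩))))))))) h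
    · exact hnot (.inr (.inr (.inr (.inr (.inr (.inr (.inr (.inr (.inr (.inl ⟨i, hi⟩)))))))))) h
    · exact hnot (.inr (.inr (.inr (.inr (.inr (.inr (.inr (.inr (.inr (.inr (.inl ()))))))))))) h
    · exact hnot (.inr (.inr (.inr (.inr (.inr (.inr (.inr (.inr (.inr (.inr (.inr (.inl ())))))))))))) h
    · exact hnot (.inr (.inr (.inr (.inr (.inr (.inr (.inr (.inr (.inr (.inr (.inr (.inr ⟨i, hi⟩)))))))))))) h

end Groth.Agent.Lib.Helper72.Nest2
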