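import Mathlib
import Groth.Agent.Lib.Helper72.HomGenC

/-! The ideal `x_a · (x_y : y ≠ z) + (x_b ^ q)`: set-up. -/

set_option autoImplicit false
set_option linter.unusedSectionVars false
universe u

namespace Groth.Agent.Lib.Helper72.Nest3

open W4c1hilbpn MvPolynomial Groth.Agent.Lib.Helper28.HilbT Groth.Agent.Lib.Helper72.HilbDual
open Groth.Agent.Lib.Helper72.HomGen

variable {σ : Type*} [Fintype σ] [DecidableEq σ] {k : Type u} [Field k]

/-- Special variables `a`, `b`, a free variable `z`, the remaining variables `M`, an exponent. -/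
structure Cfg (σ : Type*) where
  a : σ
  b : σ
  z : σ
  M : σ → Prop
  q : ℕ
  hq : 2 ≤ q
  hab : a ≠ b
  haz : a ≠ z
  hbz : b ≠ z
  hM : ∀ x, M x ↔ x ≠ a ∧ x ≠ b ∧ x ≠ z

variable (C : Cfg σ)

/-- The generators. -/
inductive Gen : Type _
  | aa | ab | bq
  | am (i : σ) (hi : C.M i)

instance : Finite (Gen C) := by
  classical
  let f : Gen C → Fin 3 ⊕ {x // C.M x} := fun g =>
    match g with
    | .aa => Sum.inl 0
    | .ab => Sum.inl 1
    | .bq => Sum.inl 2
    | .am i hi => Sum.inr ⟨i, hi⟩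
  apply Finite.of_injective f
  intro g g' h
  cases g <;> cases g' <;> simp [f] at h <;> first | rfl | (subst h; rfl)

variable {C}

/-- A distinguished point of a generator. -/
def Gen.pt : Gen C → σ
  | .aa => C.a | .ab => C.b | .bq => C.b | .am i _ => i

/-- Exponent vector of a generator. -/
noncomputable def gen : Gen C → σ →₀ ℕ
  | .aa => gen2 C.a C.a
  | .ab => gen2 C.a C.b
  | .bq => Finsupp.single C.b C.q
  | .am i _ => gen2 C.a i

lemma gen_aa (x : σ) : gen (Gen.aa : Gen C) x = (if x = C.a then 2 else 0) := by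
  change gen2 C.a C.a x = _
  rw [gen2_apply]
  by_cases h : x = C.a
  · rw [if_pos h, if_pos h.symm]
  · rw [if_neg h, if_neg (fun h' => h h'.symm)]

lemma gen_ab (x : σ) :
    gen (Gen.ab : Gen C) x = (if x = C.a then 1 else 0) + (if x = C.b then 1 else 0) := by
  change gen2 C.a C.b x = _
  rw [gen2_apply]
  simp only [eq_comm]

lemma gen_am (i : σ) (hi : C.M i) (x : σ) :
    gen (Gen.am i hi : Gen C) x = (if x = C.a then 1 else 0) + (if x = i then 1 else 0) := by
  change gen2 C.a i x = _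
  rw [gen2_apply]
  simp only [eq_comm]

lemma gen_bq (x : σ) : gen (Gen.bq : Gen C) x = (if x = C.b then C.q else 0) := by
  change Finsupp.single C.b C.q x = _
  rw [Finsupp.single_apply]
  simp only [eq_comm]

variable (C)

/-- Membership in the ideal, for integer vectors. -/
def memI (v : σ → ℤ) : Prop :=
  2 ≤ v C.a ∨ (∃ y, y ≠ C.a ∧ y ≠ C.z ∧ 1 ≤ v C.a ∧ 1 ≤ v y) ∨ (C.q : ℤ) ≤ v C.b

variable (I : Ideal (MvPolynomial σ k))

/-- The hypothesis describing the monomials of `I`. -/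
def HE : Prop := ∀ β : σ →₀ ℕ, β ∈ exps I ↔ memI C (fun x => (β x : ℤ))

variable {C I}

lemma memI_nat (β : σ →₀ ℕ) : memI C (fun x => (β x : ℤ)) ↔
    (2 ≤ β C.a ∨ (∃ y, y ≠ C.a ∧ y ≠ C.z ∧ 1 ≤ β C.a ∧ 1 ≤ β y) ∨ C.q ≤ β C.b) := by
  unfold memI
  simp only []
  constructor
  · rintro (h | ⟨y, h1, h2, h3, h4⟩ | h)
    · exact Or.inl (by exact_mod_cast h)
    · exact Or.inr (Or.inl ⟨y, h1, h2, by exact_mod_cast h3, by exact_mod_cast h4⟩)
    · exact Or.inr (Or.inr (by exact_mod_cast h))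
  · rintro (h | ⟨y, h1, h2, h3, h4⟩ | h)
    · exact Or.inl (by exact_mod_cast h)
    · exact Or.inr (Or.inl ⟨y, h1, h2, by exact_mod_cast h3, by exact_mod_cast h4⟩)
    · exact Or.inr (Or.inr (by exact_mod_cast h))

lemma hG (hE : HE C I) (β : σ →₀ ℕ) : β ∈ exps I ↔ ∃ γ : Gen C, gen γ ≤ β := by
  rw [hE β, memI_nat]
  constructor
  · rintro (h | ⟨y, hya, hyz, h1, h2⟩ | h)
    · refine ⟨.aa, ?_⟩
      change gen2 C.a C.a ≤ β
      rw [gen2_le_iff]
      exact ⟨fun h' => absurd rfl h', fun _ => h⟩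
    · by_cases hyb : y = C.b
      · subst hyb
        refine ⟨.ab, ?_⟩
        change gen2 C.a C.b ≤ β
        rw [gen2_le_iff]
        exact ⟨fun _ => ⟨h1, h2⟩, fun h' => absurd h' C.hab⟩
      · refine ⟨.am y ((C.hM y).mpr ⟨hya, hyb, hyz⟩), ?_⟩
        change gen2 C.a y ≤ β
        rw [gen2_le_iff]
        exact ⟨fun _ => ⟨h1, h2⟩, fun h' => absurd h'.symm hya⟩
    · refine ⟨.bq, ?_⟩
      intro x
      rw [gen_bq]
      by_cases hx : x = C.b
      · rw [if_pos hx, hx]; exact h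
      · rw [if_neg hx]; exact Nat.zero_le _
  · rintro ⟨γ, hγ⟩
    cases γ with
    | aa =>
      change gen2 C.a C.a ≤ β at hγ
      rw [gen2_le_iff] at hγ
      exact Or.inl (hγ.2 rfl)
    | ab =>
      change gen2 C.a C.b ≤ β at hγ
      rw [gen2_le_iff] at hγ
      obtain ⟨h3, h4⟩ := hγ.1 C.hab
      exact Or.inr (Or.inl ⟨C.b, C.hab.symm, C.hbz, h3, h4⟩)
    | bq =>
      have := hγ C.b
      rw [gen_bq, if_pos rfl] at this
      exact Or.inr (Or.inr this)
    | am i hi =>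
      change gen2 C.a i ≤ β at hγ
      rw [gen2_le_iff] at hγ
      obtain ⟨hia, hib, hiz⟩ := (C.hM i).mp hi
      obtain ⟨h3, h4⟩ := hγ.1 (Ne.symm hia)
      exact Or.inr (Or.inl ⟨i, hia, hiz, h3, h4⟩)

lemma active_iff (hE : HE C I) (α : σ → ℤ) (β : σ →₀ ℕ) :
    Active I α β ↔ (∀ x, 0 ≤ (β x : ℤ) + α x) ∧ ¬ memI C (fun x => (β x : ℤ) + α x) := by
  unfold Active
  constructor
  · rintro ⟨h1, h2⟩
    refine ⟨h1, fun h => h2 ?_⟩
    rw [hE]
    have : (fun x => ((toN (up β α) x : ℕ) : ℤ)) = fun x => (β x : ℤ) + α x := by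
      funext x
      rw [toN_apply, Int.toNat_of_nonneg (h1 x), up_apply]
    rw [this]
    exact h
  · rintro ⟨h1, h2⟩
    refine ⟨h1, fun h => h2 ?_⟩
    rw [hE] at h
    have : (fun x => ((toN (up β α) x : ℕ) : ℤ)) = fun x => (β x : ℤ) + α x := by
      funext x
      have h1' : 0 ≤ up β α x := h1 x
      rw [toN_apply, Int.toNat_of_nonneg h1', up_apply]
    rw [this] at h
    exact h

lemma linked_iff (hE : HE C I) (α : σ → ℤ) (β β' : σ →₀ ℕ) :
    Linked I α β β' ↔ (∀ x, 0 ≤ ((max (β x) (β' x) : ℕ) : ℤ) + α x) ∧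
      ¬ memI C (fun x => ((max (β x) (β' x) : ℕ) : ℤ) + α x) := by
  unfold Linked
  rw [active_iff hE]
  simp only [Finsupp.sup_apply]

end Groth.Agent.Lib.Helper72.Nest3
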