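import Mathlib
import Groth.Agent.Lib.Helper72.Nest3A

/-! The ideal `x_a · (x_y : y ≠ z) + (x_b ^ q)`: degrees and tactics. -/

set_option autoImplicit false
set_option linter.unusedSectionVars false
set_option linter.unusedVariables false
set_option linter.unusedSimpArgs false
universe u

namespace Groth.Agent.Lib.Helper72.Nest3

open W4c1hilbpn MvPolynomial Groth.Agent.Lib.Helper28.HilbT Groth.Agent.Lib.Helper72.HilbDual
open Groth.Agent.Lib.Helper72.HomGen

variable {σ : Type*} [Fintype σ] [DecidableEq σ] {k : Type u} [Field k]
variable {C : Cfg σ} {I : Ideal (MvPolynomial σ k)}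

attribute [simp] Cfg.hab Cfg.haz Cfg.hbz

@[simp] lemma Cfg.hba (C : Cfg σ) : C.b ≠ C.a := C.hab.symm
@[simp] lemma Cfg.hza (C : Cfg σ) : C.z ≠ C.a := C.haz.symm
@[simp] lemma Cfg.hzb (C : Cfg σ) : C.z ≠ C.b := C.hbz.symm
@[simp] lemma Cfg.M_ne_a {i : σ} (hi : C.M i) : i ≠ C.a := ((C.hM i).mp hi).1
@[simp] lemma Cfg.M_ne_b {i : σ} (hi : C.M i) : i ≠ C.b := ((C.hM i).mp hi).2.1
@[simp] lemma Cfg.M_ne_z {i : σ} (hi : C.M i) : i ≠ C.z := ((C.hM i).mp hi).2.2
@[simp] lemma Cfg.a_ne_M {i : σ} (hi : C.M i) : C.a ≠ i := ((C.hM i).mp hi).1.symm
@[simp] lemma Cfg.b_ne_M {i : σ} (hi : C.M i) : C.b ≠ i := ((C.hM i).mp hi).2.1.symm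
@[simp] lemma Cfg.z_ne_M {i : σ} (hi : C.M i) : C.z ≠ i := ((C.hM i).mp hi).2.2.symm
@[simp] lemma Cfg.not_M_a (C : Cfg σ) : ¬ C.M C.a := fun h => Cfg.M_ne_a h rfl
@[simp] lemma Cfg.not_M_b (C : Cfg σ) : ¬ C.M C.b := fun h => Cfg.M_ne_b h rfl
@[simp] lemma Cfg.not_M_z (C : Cfg σ) : ¬ C.M C.z := fun h => Cfg.M_ne_z h rfl

/-- `e_z - e_a`. -/
def e1 (C : Cfg σ) : σ → ℤ := Pi.single C.z 1 - Pi.single C.a 1
/-- `e_i - e_a`. -/
def e2 (C : Cfg σ) (i : σ) : σ → ℤ := Pi.single i 1 - Pi.single C.a 1
/-- `e_b - e_a`. -/
def e3 (C : Cfg σ) : σ → ℤ := Pi.single C.b 1 - Pi.single C.a 1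
/-- `e_z - e_i`. -/
def e4 (C : Cfg σ) (i : σ) : σ → ℤ := Pi.single C.z 1 - Pi.single i 1
/-- `e_a + (q - 1) e_z - q e_b`. -/
def e5 (C : Cfg σ) : σ → ℤ :=
  Pi.single C.a 1 + Pi.single C.z ((C.q : ℤ) - 1) - Pi.single C.b (C.q : ℤ)
/-- `e_z - e_b`. -/
def e6 (C : Cfg σ) : σ → ℤ := Pi.single C.z 1 - Pi.single C.b 1

set_option hygiene false in
/-- Evaluation tactic. -/
macro "n3_auto" : tactic =>
  `(tactic| (have hq2 := C.hq
             (simp_all [gen_aa, gen_ab, gen_am, gen_bq, Gen.pt, Pi.single_apply, e1, e2, e3, e4, e5,
               e6]) <;> try omega))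

set_option hygiene false in
/-- Case split of a point against the special points and two auxiliary points. -/
macro "n3_pt" x:ident i:term:max j:term:max : tactic =>
  `(tactic| (by_cases hxa : $x = C.a
             · subst hxa; n3_auto
             by_cases hxb : $x = C.b
             · subst hxb; n3_auto
             by_cases hxz : $x = C.z
             · subst hxz; n3_auto
             by_cases hxi : $x = $i
             · subst hxi; n3_auto
             by_cases hxj : $x = $j
             · subst hxj; n3_auto
             n3_auto))

set_option hygiene false in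
/-- Nonnegativity with two auxiliary points. -/
macro "n3_nonneg" i:term:max j:term:max : tactic =>
  `(tactic| (intro x; n3_pt x $i $j))

set_option hygiene false in
/-- Non-membership with two auxiliary points. -/
macro "n3_notmem" i:term:max j:term:max : tactic =>
  `(tactic| (unfold memI; push Not; refine ⟨?_, ?_, ?_⟩
             · n3_auto
             · intro y hya hyz h1
               n3_pt y $i $j
             · n3_auto))

set_option hygiene false in
/-- Both. -/
macro "n3_ok" i:term:max j:term:max : tactic =>
  `(tactic| exact ⟨by n3_nonneg $i $j, by n3_notmem $i $j⟩)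

set_option hygiene false in
/-- Inactivity of the unclassified generators (with an auxiliary point `i`). -/
macro "n3_h0" i:term:max : tactic =>
  `(tactic| (intro g hg
             left
             rw [active_iff ‹HE _ _›]
             rintro ⟨h1, h2⟩
             unfold memI at h2
             push Not at h2
             obtain ⟨w1, w2, w3⟩ := h2
             have hna := h1 C.a
             have hnb := h1 C.b
             have hni := h1 $i
             have c1 := w2 C.b
             have c3 := w2 $i
             have c4 := w2 g.pt
             clear w2 h1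
             by_cases hs : g.pt = $i <;> cases g <;> n3_auto))

set_option hygiene false in
/-- The linking refutation with an auxiliary point `i`. -/
macro "n3_h3" i:term:max : tactic =>
  `(tactic| (intro g g' hl
             rw [linked_iff ‹HE _ _›] at hl
             obtain ⟨hnn, hnot⟩ := hl
             unfold memI at hnot
             push Not at hnot
             obtain ⟨w1, w2, w3⟩ := hnot
             have hna := hnn C.a
             have hnb := hnn C.b
             have hni := hnn $i
             have hn1 := hnn g.pt
             have hn2 := hnn g'.pt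
             have c1 := w2 C.b
             have c3 := w2 $i
             have c4 := w2 g.pt
             have c5 := w2 g'.pt
             clear w2 hnn
             by_cases hs : g.pt = $i <;> by_cases hs' : g'.pt = $i <;>
               cases g <;> cases g' <;> first | rfl | n3_auto))

set_option hygiene false in
/-- Inactivity of the unclassified generators. -/
macro "n3_h0'" : tactic =>
  `(tactic| (intro g hg
             left
             rw [active_iff ‹HE _ _›]
             rintro ⟨h1, h2⟩
             unfold memI at h2
             push Not at h2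
             obtain ⟨w1, w2, w3⟩ := h2
             have hna := h1 C.a
             have hnb := h1 C.b
             have c1 := w2 C.b
             have c4 := w2 g.pt
             clear w2 h1
             cases g <;> n3_auto))

set_option hygiene false in
/-- The linking refutation. -/
macro "n3_h3'" : tactic =>
  `(tactic| (intro g g' hl
             rw [linked_iff ‹HE _ _›] at hl
             obtain ⟨hnn, hnot⟩ := hl
             unfold memI at hnot
             push Not at hnot
             obtain ⟨w1, w2, w3⟩ := hnot
             have hna := hnn C.a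
             have hnb := hnn C.b
             have hn1 := hnn g.pt
             have hn2 := hnn g'.pt
             have c1 := w2 C.b
             have c4 := w2 g.pt
             have c5 := w2 g'.pt
             clear w2 hnn
             cases g <;> cases g' <;> first | rfl | n3_auto))

end Groth.Agent.Lib.Helper72.Nest3
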