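import Mathlib
import Groth.Agent.Lib.Helper72.Nest3B

/-! The ideal `x_a · (x_y : y ≠ z) + (x_b ^ q)`: the pieces `μ - j e_b`. -/

set_option autoImplicit false
set_option linter.unusedSectionVars false
set_option linter.unusedVariables false
set_option linter.unusedSimpArgs false
set_option maxHeartbeats 1600000
universe u

namespace Groth.Agent.Lib.Helper72.Nest3

open W4c1hilbpn MvPolynomial Groth.Agent.Lib.Helper28.HilbT Groth.Agent.Lib.Helper72.HilbDual
open Groth.Agent.Lib.Helper72.HomGen

variable {σ : Type*} [Fintype σ] [DecidableEq σ] {k : Type u} [Field k]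
variable {C : Cfg σ} {I : Ideal (MvPolynomial σ k)}

/-- Exponent data for the family `μ - j e_b`. -/
structure IsP7 (C : Cfg σ) (μ : σ → ℕ) : Prop where
  ha : μ C.a = 0
  hb : μ C.b = 0
  pos : 1 ≤ ∑ x, μ x
  le : ∑ x, μ x ≤ C.q
  hM : (∑ x, μ x = C.q ∨ ∑ x, μ x = 1) → ∃ i, C.M i ∧ 1 ≤ μ i

/-- The degree `μ - j e_b`. -/
def degP (C : Cfg σ) (μ : σ → ℕ) : σ → ℤ :=
  fun x => (μ x : ℤ) - (if x = C.b then ((∑ y, μ y : ℕ) : ℤ) else 0)

theorem finrank_P7 (hE : HE C I) (μ : σ → ℕ) (h : IsP7 C μ) :
    Module.finrank k (GenData I (gen (C := C)) (degP C μ)) = 1 := by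
  classical
  obtain ⟨j, hj⟩ : ∃ j : ℕ, j = ∑ x, μ x := ⟨_, rfl⟩
  have hα : ∀ x, degP C μ x = (μ x : ℤ) - (if x = C.b then (j : ℤ) else 0) := fun x => by
    rw [hj]; rfl
  have hj1 : 1 ≤ j := hj ▸ h.pos
  have hjq : j ≤ C.q := hj ▸ h.le
  have hq2 := C.hq
  have hμa := h.ha
  have hμb := h.hb
  have hactive : (∀ x, 0 ≤ ((gen (Gen.bq : Gen C) x : ℕ) : ℤ) + degP C μ x) ∧
      ¬ memI C (fun x => ((gen (Gen.bq : Gen C) x : ℕ) : ℤ) + degP C μ x) := by
    constructor
    · intro x
      rw [hα, gen_bq]
      by_cases hx : x = C.b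
      · subst hx
        simp only [if_true]
        have : (0 : ℤ) ≤ (μ C.b : ℤ) := Int.natCast_nonneg _
        omega
      · simp only [if_neg hx]
        have : (0 : ℤ) ≤ (μ x : ℤ) := Int.natCast_nonneg _
        simp
    · unfold memI
      push Not
      refine ⟨?_, ?_, ?_⟩
      · simp only [hα, gen_bq, if_neg C.hab, hμa]
        simp
      · intro y hya hyz h1
        exfalso
        simp only [hα, gen_bq, if_neg C.hab, hμa] at h1
        simp at h1
      · simp only [hα, gen_bq, if_true, hμb]
        push_cast
        omega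
  have key := finrank_genData' I (gen (C := C)) (degP C μ) (J := Unit)
    (fun g => match g with
      | .bq => some () | _ => none) (fun _ => .bq) (fun _ => rfl) ?_ ?_ ?_ ?_
  · rw [key]; rfl
  · intro g hg
    left
    rw [active_iff hE]
    rintro ⟨h1, h2⟩
    cases g with
    | aa =>
      have h3 := h1 C.b
      rw [hα, gen_aa] at h3
      simp only [if_neg C.hab.symm, if_true, hμb] at h3
      push_cast at h3
      omega
    | ab =>
      have h3 := h1 C.b
      rw [hα, gen_ab] at h3
      simp only [if_neg C.hab.symm, if_true, hμb] at h3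
      push_cast at h3
      have hj' : j = 1 := by omega
      obtain ⟨i, hi, hμi⟩ := h.hM (Or.inr (by rw [← hj]; exact hj'))
      apply h2
      right; left
      refine ⟨i, Cfg.M_ne_a hi, Cfg.M_ne_z hi, ?_, ?_⟩
      · simp only [hα, gen_ab, if_true, if_neg C.hab, hμa]
        simp
      · simp only [hα, gen_ab, if_neg (Cfg.M_ne_a hi), if_neg (Cfg.M_ne_b hi)]
        push_cast
        have : (1 : ℤ) ≤ (μ i : ℤ) := by exact_mod_cast hμi
        omega
    | bq => simp at hg
    | am i hi =>
      have h3 := h1 C.b
      rw [hα, gen_am] at h3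
      simp only [if_neg C.hab.symm, if_neg (Cfg.b_ne_M hi), if_true, hμb] at h3
      push_cast at h3
      omega
  · intro g j' hg
    cases g with
    | bq =>
      rw [linked_iff hE]
      simp only [max_self]
      exact hactive
    | aa => simp at hg
    | ab => simp at hg
    | am i hi => simp at hg
  · intro g j' hg
    cases g with
    | bq =>
      rw [active_iff hE]
      exact hactive
    | aa => simp at hg
    | ab => simp at hg
    | am i hi => simp at hg
  · -- linked implies same class
    have key2 : ∀ g : Gen C, g ≠ .bq →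
        memI C (fun x => ((max (gen (Gen.bq : Gen C) x) (gen g x) : ℕ) : ℤ) + degP C μ x) := by
      intro g hg
      cases g with
      | aa =>
        left
        simp only [hα, gen_bq, gen_aa, if_neg C.hab, if_true, hμa]
        simp
      | ab =>
        by_cases hjq' : j = C.q
        · obtain ⟨i, hi, hμi⟩ := h.hM (Or.inl (by rw [← hj]; exact hjq'))
          right; left
          refine ⟨i, Cfg.M_ne_a hi, Cfg.M_ne_z hi, ?_, ?_⟩
          · simp only [hα, gen_bq, gen_ab, if_neg C.hab, if_true, hμa]
            simp
          · simp only [hα, gen_bq, gen_ab, if_neg (Cfg.M_ne_a hi), if_neg (Cfg.M_ne_b hi)]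
            have : (1 : ℤ) ≤ (μ i : ℤ) := by exact_mod_cast hμi
            simp
            omega
        · right; left
          refine ⟨C.b, C.hab.symm, C.hbz, ?_, ?_⟩
          · simp only [hα, gen_bq, gen_ab, if_neg C.hab, if_true, hμa]
            simp
          · simp only [hα, gen_bq, gen_ab, if_neg C.hab.symm, if_true, hμb]
            have h5 : max C.q (0 + 1) = C.q := by omega
            rw [h5]
            push_cast
            omega
      | bq => exact absurd rfl hg
      | am i hi =>
        right; left
        refine ⟨i, Cfg.M_ne_a hi, Cfg.M_ne_z hi, ?_, ?_⟩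
        · simp only [hα, gen_bq, gen_am, if_neg C.hab, if_true, hμa, if_neg (Cfg.a_ne_M hi)]
          simp
        · simp only [hα, gen_bq, gen_am, if_neg (Cfg.M_ne_a hi), if_neg (Cfg.M_ne_b hi), if_true]
          have : (0 : ℤ) ≤ (μ i : ℤ) := Int.natCast_nonneg _
          simp
    intro g g' hl
    rw [linked_iff hE] at hl
    by_cases hg : g = .bq
    · by_cases hg' : g' = .bq
      · rw [hg, hg']
      · exfalso
        subst hg
        exact hl.2 (key2 g' hg')
    · by_cases hg' : g' = .bq
      · exfalso
        subst hg'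
        apply hl.2
        have := key2 g hg
        simp only [max_comm] at this ⊢
        exact this
      · cases g <;> cases g' <;> first | rfl | exact absurd rfl hg | exact absurd rfl hg'

end Groth.Agent.Lib.Helper72.Nest3
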