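import Mathlib
import Groth.Agent.Lib.Helper72.Nest3G

/-! The ideal `x_a · (x_y : y ≠ z) + (x_b ^ q)`: the generator `x_b ^ q`. -/

set_option autoImplicit false
set_option linter.unusedSectionVars false
set_option linter.unusedVariables false
set_option linter.unusedSimpArgs false
set_option maxHeartbeats 1600000
universe u

namespace Groth.Agent.Lib.Helper72.Nest3

open W4c1hilbpn MvPolynomial Groth.Agent.Lib.Helper28.HilbT Groth.Agent.Lib.Helper72.HilbDual
open Groth.Agent.Lib.Helper72.HomGen

variable {σ : Type*} [Fintype σ] [DecidableEq σ] {k : Type u} [Field k]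
variable {C : Cfg σ} {I : Ideal (MvPolynomial σ k)}

lemma type_cases (C : Cfg σ) (l : σ) : l = C.a ∨ l = C.b ∨ l = C.z ∨ C.M l := by
  by_cases h1 : l = C.a
  · exact Or.inl h1
  by_cases h2 : l = C.b
  · exact Or.inr (Or.inl h2)
  by_cases h4 : l = C.z
  · exact Or.inr (Or.inr (Or.inl h4))
  exact Or.inr (Or.inr (Or.inr ((C.hM l).mpr ⟨h1, h2, h4⟩)))

lemma sum_three (f : σ → ℤ) {a b z : σ} (hab : a ≠ b) (haz : a ≠ z) (hbz : b ≠ z)
    (h : ∀ x, x ≠ a → x ≠ b → x ≠ z → f x = 0) : ∑ x, f x = f a + f b + f z := by
  have key : ∀ x, f x = (if x = a then f a else 0) + (if x = b then f b else 0) +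
      (if x = z then f z else 0) := by
    intro x
    by_cases hxa : x = a
    · subst hxa
      rw [if_pos rfl, if_neg hab, if_neg haz]; ring
    by_cases hxb : x = b
    · subst hxb
      rw [if_neg hxa, if_pos rfl, if_neg hbz]; ring
    by_cases hxz : x = z
    · subst hxz
      rw [if_neg hxa, if_neg hxb, if_pos rfl]; ring
    · rw [if_neg hxa, if_neg hxb, if_neg hxz, h x hxa hxb hxz]; ring
  rw [Finset.sum_congr rfl (fun x _ => key x), Finset.sum_add_distrib, Finset.sum_add_distrib,
    Finset.sum_ite_eq', Finset.sum_ite_eq', Finset.sum_ite_eq']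
  simp

theorem core_bq (hE : HE C I) {α : σ → ℤ} {c : Gen C → k} (hc : c ∈ GenData I gen α)
    (hγ : c Gen.bq ≠ 0) (hact : Active I α (gen (Gen.bq : Gen C))) (hsum : ∑ x, α x = 0) :
    InList C α := by
  classical
  have hq2 := C.hq
  obtain ⟨hnn, hnot⟩ := (active_iff hE α _).mp hact
  unfold memI at hnot
  push Not at hnot
  obtain ⟨w1, w2, w3⟩ := hnot
  simp only [gen_bq] at hnn w1 w2 w3
  simp only [if_neg C.hab, if_true] at w1 w2 w3
  have hA0 : 0 ≤ α C.a := by
    have := hnn C.a
    rw [if_neg C.hab] at this
    simpa using this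
  have hA2 : α C.a < 2 := by simpa using w1
  have hB0 : 0 ≤ (C.q : ℤ) + α C.b := by
    have := hnn C.b
    rw [if_pos rfl] at this
    exact this
  have hX : ∀ x, x ≠ C.b → 0 ≤ α x := by
    intro x hx
    have := hnn x
    rw [if_neg hx] at this
    simpa using this
  by_cases hA1 : 1 ≤ α C.a
  · -- `α = e5`
    have hAe : α C.a = 1 := by omega
    have hBe : α C.b = -(C.q : ℤ) := by
      have := w2 C.b C.hab.symm C.hbz
      rw [if_pos rfl] at this
      have h5 := this (by simpa using hA1)
      omega
    have hMe : ∀ x, C.M x → α x = 0 := by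
      intro x hx
      have := w2 x (Cfg.M_ne_a hx) (Cfg.M_ne_z hx)
      rw [if_neg (Cfg.M_ne_b hx)] at this
      have h5 := this (by simpa using hA1)
      have h6 := hX x (Cfg.M_ne_b hx)
      simp at h5
      omega
    have hZe : α C.z = (C.q : ℤ) - 1 := by
      have := sum_three α C.hab C.haz C.hbz (fun x h1 h2 h3 =>
        hMe x ((C.hM x).mpr ⟨h1, h2, h3⟩))
      rw [hsum, hAe, hBe] at this
      omega
    refine InList.mk5 ?_
    funext x
    rcases type_cases C x with rfl | rfl | rfl | hx
    · rw [hAe]; simp [e5, Pi.single_apply]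
    · rw [hBe]; simp [e5, Pi.single_apply]
    · rw [hZe]; simp [e5, Pi.single_apply]
    · rw [hMe x hx]; simp [e5, Pi.single_apply, hx]
  · have hAe : α C.a = 0 := by omega
    obtain ⟨μ, hμdef⟩ : ∃ μ : σ → ℕ, μ = fun x => if x = C.b then 0 else (α x).toNat := ⟨_, rfl⟩
    have hμb : μ C.b = 0 := by rw [hμdef]; simp
    have hμa : μ C.a = 0 := by rw [hμdef]; simp [hAe]
    have hμx : ∀ x, x ≠ C.b → (μ x : ℤ) = α x := by
      intro x hx
      rw [hμdef]
      simp only [if_neg hx]
      exact Int.toNat_of_nonneg (hX x hx)
    have hμ : ∀ x, α x = (μ x : ℤ) + (if x = C.b then α C.b else 0) := by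
      intro x
      by_cases hx : x = C.b
      · subst hx
        rw [hμb, if_pos rfl]; simp
      · rw [if_neg hx, hμx x hx]; simp
    have hS : ((∑ x, μ x : ℕ) : ℤ) = -α C.b := by
      have h5 : ∑ x, α x = ∑ x, ((μ x : ℤ) + (if x = C.b then α C.b else 0)) :=
        Finset.sum_congr rfl (fun x _ => hμ x)
      rw [hsum, Finset.sum_add_distrib, Finset.sum_ite_eq'] at h5
      simp only [Finset.mem_univ, if_true] at h5
      rw [Nat.cast_sum]
      omega
    have hj1 : 1 ≤ ∑ x, μ x := by
      have : (1 : ℤ) ≤ ((∑ x, μ x : ℕ) : ℤ) := by rw [hS]; omega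
      exact_mod_cast this
    have hjq : ∑ x, μ x ≤ C.q := by
      have : ((∑ x, μ x : ℕ) : ℤ) ≤ (C.q : ℤ) := by rw [hS]; omega
      exact_mod_cast this
    have hdeg : α = degP C μ := by
      funext x
      unfold degP
      rw [hS, hμ x]
      by_cases hx : x = C.b
      · rw [if_pos hx, if_pos hx]; ring
      · rw [if_neg hx, if_neg hx]; ring
    by_cases hex : ∃ i, C.M i ∧ 1 ≤ μ i
    · exact InList.mk7 μ ⟨hμa, hμb, hj1, hjq, fun _ => hex⟩ hdeg
    · push Not at hex
      have hμM : ∀ x, C.M x → μ x = 0 := fun x hx => by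
        have := hex x hx
        omega
      have hSz : ∑ x, μ x = μ C.z := by
        apply Finset.sum_eq_single C.z
        · intro x _ hxz
          rcases type_cases C x with rfl | rfl | rfl | hx
          · exact hμa
          · exact hμb
          · exact absurd rfl hxz
          · exact hμM x hx
        · intro h
          exact absurd (Finset.mem_univ _) h
      by_cases h1 : ∑ x, μ x = 1
      · refine InList.mk6 ?_
        rw [hdeg]
        funext x
        unfold degP
        rw [h1]
        rcases type_cases C x with rfl | rfl | rfl | hx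
        · rw [hμa]; simp [e6, Pi.single_apply]
        · rw [hμb]; simp [e6, Pi.single_apply]
        · rw [← hSz, h1]; simp [e6, Pi.single_apply]
        · rw [hμM x hx]; simp [e6, Pi.single_apply, hx]
      · by_cases hq' : ∑ x, μ x = C.q
        · exfalso
          apply hγ
          have hBe : α C.b = -(C.q : ℤ) := by
            rw [hq'] at hS
            omega
          refine kill_of hE hc hact .ab C.b ?_ ?_
          · unfold memI
            push Not
            refine ⟨?_, ?_, ?_⟩
            · simp only [gen_bq, gen_ab, if_neg C.hab, if_pos rfl, hAe]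
              simp
            · intro y hya hyz _
              rcases type_cases C y with rfl | rfl | rfl | hy
              · exact absurd rfl hya
              · simp only [gen_bq, gen_ab, if_neg C.hab.symm, if_pos rfl, if_true, zero_add, hBe]
                have h5 : max C.q 1 = C.q := by omega
                rw [h5]
                omega
              · exact absurd rfl hyz
              · simp only [gen_bq, gen_ab, if_neg (Cfg.M_ne_a hy), if_neg (Cfg.M_ne_b hy)]
                rw [← hμx y (Cfg.M_ne_b hy), hμM y hy]
                simp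
            · simp only [gen_bq, gen_ab, if_neg C.hab.symm, if_pos rfl, if_true, zero_add, hBe]
              have h5 : max C.q 1 = C.q := by omega
              rw [h5]
              omega
          · rw [gen_ab, if_neg C.hab.symm, if_pos rfl, hBe]
            push_cast
            omega
        · refine InList.mk7 μ ⟨hμa, hμb, hj1, hjq, fun h => ?_⟩ hdeg
          rcases h with h | h
          · exact absurd h hq'
          · exact absurd h h1

end Groth.Agent.Lib.Helper72.Nest3
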