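import Mathlib
import Groth.Agent.Lib.Helper72.Nest3H
import Groth.Agent.Lib.Helper72.Nest3I
import Groth.Agent.Lib.Helper72.Nest3J

/-! The ideal `x_a · (x_y : y ≠ z) + (x_b ^ q)`: classification of the pieces. -/

set_option autoImplicit false
set_option linter.unusedSectionVars false
set_option linter.unusedVariables false
set_option linter.unusedSimpArgs false
set_option maxHeartbeats 6400000
universe u

namespace Groth.Agent.Lib.Helper72.Nest3

open W4c1hilbpn MvPolynomial Groth.Agent.Lib.Helper28.HilbT Groth.Agent.Lib.Helper72.HilbDual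
open Groth.Agent.Lib.Helper72.HomGen

variable {σ : Type*} [Fintype σ] [DecidableEq σ] {k : Type u} [Field k]
variable {C : Cfg σ} {I : Ideal (MvPolynomial σ k)}

lemma sum_gen_two (γ : Gen C) (hγ : γ ≠ .bq) : ∑ x, ((gen γ x : ℕ) : ℤ) = 2 := by
  cases γ with
  | aa =>
    simp only [gen_aa, Nat.cast_ite, Nat.cast_zero]
    rw [Finset.sum_ite_eq']
    simp
  | ab =>
    simp only [gen_ab, Nat.cast_add, Nat.cast_ite, Nat.cast_one, Nat.cast_zero]
    rw [Finset.sum_add_distrib, Finset.sum_ite_eq', Finset.sum_ite_eq']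
    simp
  | bq => exact absurd rfl hγ
  | am i hi =>
    simp only [gen_am, Nat.cast_add, Nat.cast_ite, Nat.cast_one, Nat.cast_zero]
    rw [Finset.sum_add_distrib, Finset.sum_ite_eq', Finset.sum_ite_eq']
    simp

lemma shape_of_not_memI {m : σ → ℤ} {l l' : σ}
    (hm : ∀ x, m x = (if x = l then 1 else 0) + (if x = l' then 1 else 0))
    (hnot : ¬ memI C m) : Shape C l l' ∨ Shape C l' l := by
  have hq2 := C.hq
  unfold memI at hnot
  push Not at hnot
  obtain ⟨w1, w2, w3⟩ := hnot
  have c1 := w2 l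
  have c2 := w2 l'
  clear w2
  simp only [hm] at w1 w3 c1 c2
  unfold Shape
  rcases type_cases C l with rfl | rfl | rfl | hl <;>
    rcases type_cases C l' with rfl | rfl | rfl | hl' <;>
      (simp_all <;> try omega)

theorem inList_of_ne_bot (hE : HE C I) (i0 : σ) (hi0 : C.M i0)
    (hcase : (∃ i i', C.M i ∧ C.M i' ∧ i ≠ i') ∨ 4 ≤ C.q) {α : σ → ℤ}
    (hsum : ∑ x, α x = 0) (hne : GenData I (gen (C := C)) α ≠ ⊥) : InList C α := by
  rw [Ne, Submodule.eq_bot_iff] at hne
  push Not at hne
  obtain ⟨c, hc, hc0⟩ := hne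
  have hex : ∃ γ, c γ ≠ 0 := by
    by_contra hcon
    push Not at hcon
    exact hc0 (funext hcon)
  obtain ⟨γ, hγ⟩ := hex
  have hact : Active I α (gen γ) := by
    by_contra h
    exact hγ (hc.1 γ h)
  by_cases hbq : γ = .bq
  · subst hbq
    exact core_bq hE hc hγ hact hsum
  obtain ⟨hnn, hnot⟩ := (active_iff hE α (gen γ)).mp hact
  obtain ⟨l, l', hm⟩ := Nest.exists_two_singles (fun x => ((gen γ x : ℕ) : ℤ) + α x) hnn (by
    rw [Finset.sum_add_distrib, sum_gen_two γ hbq, hsum]; norm_num)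
  have hα : ∀ x, α x = (if x = l then 1 else 0) + (if x = l' then 1 else 0) -
      ((gen γ x : ℕ) : ℤ) := fun x => by
    have := hm x
    omega
  have hα' : ∀ x, α x = (if x = l' then 1 else 0) + (if x = l then 1 else 0) -
      ((gen γ x : ℕ) : ℤ) := fun x => by
    rw [hα x]; ring
  have hk : ∀ i, (∃ i', C.M i' ∧ i' ≠ i) ∨ 4 ≤ C.q := by
    intro i
    rcases hcase with ⟨i1, i2, h1, h2, h12⟩ | h
    · left
      by_cases h : i1 = i
      · exact ⟨i2, h2, fun h' => h12 (h.trans h'.symm)⟩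
      · exact ⟨i1, h1, h⟩
    · exact Or.inr h
  rcases shape_of_not_memI hm hnot with h | h
  · cases γ with
    | aa => exact core_aa hE i0 hi0 hc hγ hact l l' hα h
    | ab => exact core_ab hE i0 hi0 hc hγ hact l l' hα h
    | bq => exact absurd rfl hbq
    | am i hi => exact core_am hE i0 hi0 hc i hi (hk i) hγ hact l l' hα h
  · cases γ with
    | aa => exact core_aa hE i0 hi0 hc hγ hact l' l hα' h
    | ab => exact core_ab hE i0 hi0 hc hγ hact l' l hα' h
    | bq => exact absurd rfl hbq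
    | am i hi => exact core_am hE i0 hi0 hc i hi (hk i) hγ hact l' l hα' h

end Groth.Agent.Lib.Helper72.Nest3
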