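import Mathlib
import Groth.Agent.Lib.Helper72.Nest3K

/-! The ideal `x_a · (x_y : y ≠ z) + (x_b ^ q)`: counting the family `μ - j e_b`. -/

set_option autoImplicit false
set_option linter.unusedSectionVars false
set_option linter.unusedVariables false
set_option linter.unusedSimpArgs false
set_option maxHeartbeats 1600000
universe u

namespace Groth.Agent.Lib.Helper72.Nest3

open W4c1hilbpn MvPolynomial Groth.Agent.Lib.Helper28.HilbT Groth.Agent.Lib.Helper72.HilbDual
open Groth.Agent.Lib.Helper72.HomGen

variable {σ : Type*} [Fintype σ] [DecidableEq σ] {k : Type u} [Field k]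
variable (C : Cfg σ) {I : Ideal (MvPolynomial σ k)}

/-- Exponents in the variables other than `a`, of total degree `q`. -/
noncomputable def AA : Finset (σ →₀ ℕ) := (Finset.univ.erase C.a).finsuppAntidiag C.q

lemma mem_AA (f : σ →₀ ℕ) : f ∈ AA C ↔ f C.a = 0 ∧ ∑ x, f x = C.q := by
  unfold AA
  rw [Finset.mem_finsuppAntidiag]
  constructor
  · rintro ⟨h1, h2⟩
    have ha : f C.a = 0 := by
      by_contra hne
      have : C.a ∈ f.support := Finsupp.mem_support_iff.mpr hne
      exact (Finset.mem_erase.mp (h2 this)).1 rfl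
    refine ⟨ha, ?_⟩
    rw [← Finset.add_sum_erase Finset.univ (fun x => f x) (Finset.mem_univ C.a), ha, zero_add]
    exact h1
  · rintro ⟨ha, h1⟩
    refine ⟨?_, ?_⟩
    · rw [← Finset.add_sum_erase Finset.univ (fun x => f x) (Finset.mem_univ C.a), ha,
        zero_add] at h1
      exact h1
    · intro x hx
      rw [Finset.mem_erase]
      refine ⟨?_, Finset.mem_univ _⟩
      rintro rfl
      exact (Finsupp.mem_support_iff.mp hx) ha

lemma card_AA : (AA C).card = Nat.choose (Fintype.card σ - 1 + C.q - 1) C.q := by
  unfold AA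
  rw [Finset.card_finsuppAntidiag_nat_eq_choose, Finset.card_erase_of_mem (Finset.mem_univ _),
    Finset.card_univ]

/-- The condition cutting out the family. -/
def PP (f : σ →₀ ℕ) : Prop :=
  f C.b < C.q ∧ ((f C.b = 0 ∨ f C.b + 1 = C.q) → ∃ i, C.M i ∧ 1 ≤ f i)

lemma sum_three' (f : σ → ℕ) {a b z : σ} (hab : a ≠ b) (haz : a ≠ z) (hbz : b ≠ z)
    (h : ∀ x, x ≠ a → x ≠ b → x ≠ z → f x = 0) : ∑ x, f x = f a + f b + f z := by
  have key : ∀ x, f x = (if x = a then f a else 0) + (if x = b then f b else 0) +
      (if x = z then f z else 0) := by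
    intro x
    by_cases hxa : x = a
    · subst hxa
      rw [if_pos rfl, if_neg hab, if_neg haz]; simp
    by_cases hxb : x = b
    · subst hxb
      rw [if_neg hxa, if_pos rfl, if_neg hbz]; simp
    by_cases hxz : x = z
    · subst hxz
      rw [if_neg hxa, if_neg hxb, if_pos rfl]; simp
    · rw [if_neg hxa, if_neg hxb, if_neg hxz, h x hxa hxb hxz]
  rw [Finset.sum_congr rfl (fun x _ => key x), Finset.sum_add_distrib, Finset.sum_add_distrib,
    Finset.sum_ite_eq', Finset.sum_ite_eq', Finset.sum_ite_eq']
  simp

lemma eq_zero_of_sum_eq (f : σ → ℕ) (b : σ) (h : ∑ x, f x = f b) (x : σ) (hx : x ≠ b) :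
    f x = 0 := by
  rw [← Finset.add_sum_erase Finset.univ f (Finset.mem_univ b)] at h
  have h0 : ∑ x ∈ Finset.univ.erase b, f x = 0 := by omega
  exact (Finset.sum_eq_zero_iff.mp h0) x (Finset.mem_erase.mpr ⟨hx, Finset.mem_univ _⟩)

/-- The three exceptional exponents. -/
noncomputable def f0 : σ →₀ ℕ := Finsupp.single C.b C.q
/-- The three exceptional exponents. -/
noncomputable def f1 : σ →₀ ℕ := Finsupp.single C.b (C.q - 1) + Finsupp.single C.z 1
/-- The three exceptional exponents. -/
noncomputable def f2 : σ →₀ ℕ := Finsupp.single C.z C.q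

open Classical in
/-- The family. -/
noncomputable def BB : Finset (σ →₀ ℕ) := (AA C).filter (fun f => PP C f)

open Classical in
lemma mem_BB (f : σ →₀ ℕ) : f ∈ BB C ↔ (f C.a = 0 ∧ ∑ x, f x = C.q) ∧ PP C f := by
  unfold BB
  rw [Finset.mem_filter, mem_AA]

open Classical in
lemma filter_not_PP : (AA C).filter (fun f => ¬ PP C f) = {f0 C, f1 C, f2 C} := by
  have hq2 := C.hq
  ext f
  rw [Finset.mem_filter, mem_AA, Finset.mem_insert, Finset.mem_insert, Finset.mem_singleton]
  constructor
  · rintro ⟨⟨ha, hs⟩, hP⟩
    unfold PP at hP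
    by_cases hb : f C.b < C.q
    · have hP' : (f C.b = 0 ∨ f C.b + 1 = C.q) ∧ ∀ i, C.M i → f i = 0 := by
        by_contra hcon
        apply hP
        refine ⟨hb, fun h => ?_⟩
        by_contra hne
        apply hcon
        refine ⟨h, fun i hi => ?_⟩
        by_contra hi0
        exact hne ⟨i, hi, by omega⟩
      obtain ⟨h1, hM⟩ := hP'
      have h3 := sum_three' (fun x => f x) C.hab C.haz C.hbz (fun x h1 h2 h3 =>
        hM x ((C.hM x).mpr ⟨h1, h2, h3⟩))
      rw [hs, ha] at h3
      rcases h1 with h1 | h1
      · right; right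
        ext x
        unfold f2
        rw [Finsupp.single_apply]
        rcases type_cases C x with rfl | rfl | rfl | hx
        · rw [if_neg C.haz.symm, ha]
        · rw [if_neg C.hbz.symm, h1]
        · rw [if_pos rfl]; omega
        · rw [if_neg (Cfg.z_ne_M hx), hM x hx]
      · right; left
        ext x
        unfold f1
        rw [Finsupp.add_apply, Finsupp.single_apply, Finsupp.single_apply]
        rcases type_cases C x with rfl | rfl | rfl | hx
        · rw [if_neg C.hab.symm, if_neg C.haz.symm, ha]; rfl
        · rw [if_pos rfl, if_neg C.hbz.symm]; omega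
        · rw [if_neg C.hbz, if_pos rfl]; omega
        · rw [if_neg (Cfg.b_ne_M hx), if_neg (Cfg.z_ne_M hx), hM x hx]; rfl
    · left
      have hle : f C.b ≤ ∑ x, f x :=
        Finset.single_le_sum (f := fun x => f x) (fun _ _ => Nat.zero_le _) (Finset.mem_univ C.b)
      have hbq : f C.b = C.q := by omega
      have h0 := eq_zero_of_sum_eq (fun x => f x) C.b (by rw [hs, hbq])
      ext x
      unfold f0
      rw [Finsupp.single_apply]
      by_cases hx : x = C.b
      · subst hx
        rw [if_pos rfl, hbq]
      · rw [if_neg (fun h => hx h.symm)]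
        exact h0 x hx
  · rintro (rfl | rfl | rfl)
    · refine ⟨⟨?_, ?_⟩, ?_⟩
      · unfold f0; rw [Finsupp.single_apply, if_neg C.hab.symm]
      · unfold f0
        rw [Finset.sum_eq_single C.b]
        · rw [Finsupp.single_apply, if_pos rfl]
        · intro x _ hx
          rw [Finsupp.single_apply, if_neg (fun h => hx h.symm)]
        · intro h; exact absurd (Finset.mem_univ _) h
      · unfold PP f0
        rw [Finsupp.single_apply, if_pos rfl]
        intro h
        omega
    · have e1 : ∀ x, f1 C x = (if x = C.b then C.q - 1 else 0) + (if x = C.z then 1 else 0) := by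
        intro x
        unfold f1
        rw [Finsupp.add_apply, Finsupp.single_apply, Finsupp.single_apply]
        simp only [eq_comm]
      refine ⟨⟨?_, ?_⟩, ?_⟩
      · rw [e1, if_neg C.hab, if_neg C.haz]
      · simp only [e1]
        rw [Finset.sum_add_distrib, Finset.sum_ite_eq', Finset.sum_ite_eq']
        simp
        omega
      · unfold PP
        rw [e1, if_pos rfl, if_neg C.hbz]
        rintro ⟨-, h2⟩
        obtain ⟨i, hi, h3⟩ := h2 (Or.inr (by omega))
        rw [e1, if_neg (Cfg.M_ne_b hi), if_neg (Cfg.M_ne_z hi)] at h3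
        omega
    · have e1 : ∀ x, f2 C x = (if x = C.z then C.q else 0) := by
        intro x
        unfold f2
        rw [Finsupp.single_apply]
        simp only [eq_comm]
      refine ⟨⟨?_, ?_⟩, ?_⟩
      · rw [e1, if_neg C.haz]
      · simp only [e1]
        rw [Finset.sum_ite_eq']
        simp
      · unfold PP
        rw [e1, if_neg C.hbz]
        rintro ⟨-, h2⟩
        obtain ⟨i, hi, h3⟩ := h2 (Or.inl rfl)
        rw [e1, if_neg (Cfg.M_ne_z hi)] at h3
        omega

open Classical in
lemma card_BB : (BB C).card + 3 = (AA C).card := by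
  have hq2 := C.hq
  unfold BB
  rw [← Finset.card_filter_add_card_filter_not (s := AA C) (fun f => PP C f), filter_not_PP]
  congr 1
  have hb0 : f0 C C.b = C.q := by unfold f0; rw [Finsupp.single_apply, if_pos rfl]
  have hb1 : f1 C C.b = C.q - 1 := by
    unfold f1
    rw [Finsupp.add_apply, Finsupp.single_apply, Finsupp.single_apply, if_pos rfl,
      if_neg C.hbz.symm, add_zero]
  have hb2 : f2 C C.b = 0 := by unfold f2; rw [Finsupp.single_apply, if_neg C.hbz.symm]
  have h01 : f0 C ≠ f1 C := fun h => by
    have := congrArg (fun f => f C.b) h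
    simp only [hb0, hb1] at this
    omega
  have h02 : f0 C ≠ f2 C := fun h => by
    have := congrArg (fun f => f C.b) h
    simp only [hb0, hb2] at this
    omega
  have h12 : f1 C ≠ f2 C := fun h => by
    have := congrArg (fun f => f C.b) h
    simp only [hb1, hb2] at this
    omega
  rw [Finset.card_insert_of_notMem, Finset.card_insert_of_notMem, Finset.card_singleton]
  · intro h
    exact h12 (Finset.mem_singleton.mp h)
  · intro h
    rcases Finset.mem_insert.mp h with h | h
    · exact h01 h
    · exact h02 (Finset.mem_singleton.mp h)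

end Groth.Agent.Lib.Helper72.Nest3
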