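import Mathlib
import Groth.Agent.Lib.Helper72.Nest3L
import Groth.Agent.Lib.Helper72.Nest3C
import Groth.Agent.Lib.Helper72.Nest3D
import Groth.Agent.Lib.Helper72.Nest3E

/-! The ideal `x_a · (x_y : y ≠ z) + (x_b ^ q)`: assembling the count. -/

set_option autoImplicit false
set_option linter.unusedSectionVars false
set_option linter.unusedVariables false
set_option linter.unusedSimpArgs false
set_option maxHeartbeats 6400000
universe u

namespace Groth.Agent.Lib.Helper72.Nest3

open W4c1hilbpn MvPolynomial Groth.Agent.Lib.Helper28.HilbT Groth.Agent.Lib.Helper72.HilbDual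
open Groth.Agent.Lib.Helper72.HomGen

variable {σ : Type*} [Fintype σ] [DecidableEq σ] {k : Type u} [Field k]
variable (C : Cfg σ) [DecidablePred C.M] {I : Ideal (MvPolynomial σ k)}

/-- The middle variables. -/
abbrev Mid : Type _ := {i : σ // C.M i}

/-- Index set of the non-zero pieces of bounded shape. -/
abbrev Idx0 : Type _ := Unit ⊕ Mid C ⊕ Unit ⊕ Mid C ⊕ Unit ⊕ Unit

/-- The degree attached to an index. -/
def degOf0 : Idx0 C → σ → ℤ
  | .inl _ => e1 C
  | .inr (.inl i) => e2 C i.1
  | .inr (.inr (.inl _)) => e3 C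
  | .inr (.inr (.inr (.inl i))) => e4 C i.1
  | .inr (.inr (.inr (.inr (.inl _)))) => e5 C
  | .inr (.inr (.inr (.inr (.inr _)))) => e6 C

/-- The values at `a`, `b`, `z` distinguishing the families. -/
def sig0 : Idx0 C → ℤ × ℤ × ℤ
  | .inl _ => (-1, 0, 1)
  | .inr (.inl _) => (-1, 0, 0)
  | .inr (.inr (.inl _)) => (-1, 1, 0)
  | .inr (.inr (.inr (.inl _))) => (0, 0, 1)
  | .inr (.inr (.inr (.inr (.inl _)))) => (1, -(C.q : ℤ), (C.q : ℤ) - 1)
  | .inr (.inr (.inr (.inr (.inr _)))) => (0, -1, 1)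

lemma sig0_eq (j : Idx0 C) : (degOf0 C j C.a, degOf0 C j C.b, degOf0 C j C.z) = sig0 C j := by
  rcases j with j | j | j | j | j | j
  · simp [degOf0, sig0, e1, e2, e3, e4, e5, e6, Pi.single_apply]
  · have := j.2
    simp [degOf0, sig0, e1, e2, e3, e4, e5, e6, Pi.single_apply, this]
  · simp [degOf0, sig0, e1, e2, e3, e4, e5, e6, Pi.single_apply]
  · have := j.2
    simp [degOf0, sig0, e1, e2, e3, e4, e5, e6, Pi.single_apply, this]
  · simp [degOf0, sig0, e1, e2, e3, e4, e5, e6, Pi.single_apply]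
  · simp [degOf0, sig0, e1, e2, e3, e4, e5, e6, Pi.single_apply]

lemma degOf0_injective : Function.Injective (degOf0 C) := by
  intro j j' h
  have hs : sig0 C j = sig0 C j' := by rw [← sig0_eq, ← sig0_eq, h]
  rcases j with j | j | j | j | j | j <;>
    rcases j' with j' | j' | j' | j' | j' | j' <;>
    first
    | rfl
    | (exfalso; simp [sig0] at hs; done)
    | (have hi := congrFun h j.1
       have hi' := congrFun h j'.1
       have e : j = j' := by
         apply Subtype.ext
         by_contra hne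
         have hne' : ¬ j'.1 = j.1 := fun h => hne h.symm
         have hj := j.2
         have hj' := j'.2
         simp [degOf0, e1, e2, e3, e4, e5, e6, Pi.single_apply, hj, hj', hne, hne'] at hi hi'
       rw [e])

lemma sum_degOf0 (j : Idx0 C) : ∑ x, degOf0 C j x = 0 := by
  rcases j with j | j | j | j | j | j <;>
    simp [degOf0, e1, e2, e3, e4, e5, e6, Finset.sum_add_distrib, Finset.sum_sub_distrib,
      Finset.sum_pi_single']

/-- The degree attached to an exponent of the family. -/
def degF (f : σ →₀ ℕ) : σ → ℤ := fun x => if x = C.b then (f C.b : ℤ) - (C.q : ℤ) else (f x : ℤ)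

lemma degF_injective : Function.Injective (degF C) := by
  intro f f' h
  ext x
  have := congrFun h x
  unfold degF at this
  by_cases hx : x = C.b
  · subst hx
    rw [if_pos rfl, if_pos rfl] at this
    have : (f C.b : ℤ) = (f' C.b : ℤ) := by omega
    exact_mod_cast this
  · rw [if_neg hx, if_neg hx] at this
    exact_mod_cast this

/-- The exponent `μ` attached to `f`. -/
def toμ (f : σ →₀ ℕ) : σ → ℕ := fun x => if x = C.b then 0 else f x

lemma sum_toμ (f : σ →₀ ℕ) : ∑ x, toμ C f x + f C.b = ∑ x, f x := by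
  rw [← Finset.add_sum_erase Finset.univ (fun x => toμ C f x) (Finset.mem_univ C.b),
    ← Finset.add_sum_erase Finset.univ (fun x => f x) (Finset.mem_univ C.b)]
  have : ∑ x ∈ Finset.univ.erase C.b, toμ C f x = ∑ x ∈ Finset.univ.erase C.b, f x := by
    apply Finset.sum_congr rfl
    intro x hx
    unfold toμ
    rw [if_neg (Finset.mem_erase.mp hx).1]
  rw [this]
  unfold toμ
  rw [if_pos rfl]
  omega

lemma isP7_toμ {f : σ →₀ ℕ} (hf : f ∈ BB C) : IsP7 C (toμ C f) := by
  obtain ⟨⟨ha, hs⟩, hb, hP⟩ := (mem_BB C f).mp hf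
  have h1 := sum_toμ C f
  rw [hs] at h1
  refine ⟨?_, ?_, ?_, ?_, ?_⟩
  · unfold toμ; rw [if_neg C.hab]; exact ha
  · unfold toμ; rw [if_pos rfl]
  · omega
  · omega
  · intro h
    obtain ⟨i, hi, h2⟩ := hP (by omega)
    refine ⟨i, hi, ?_⟩
    unfold toμ
    rw [if_neg (Cfg.M_ne_b hi)]
    exact h2

lemma degF_eq {f : σ →₀ ℕ} (hf : f ∈ BB C) : degF C f = degP C (toμ C f) := by
  obtain ⟨⟨ha, hs⟩, hb, hP⟩ := (mem_BB C f).mp hf
  have h1 := sum_toμ C f
  rw [hs] at h1
  funext x
  unfold degF degP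
  by_cases hx : x = C.b
  · subst hx
    rw [if_pos rfl, if_pos rfl]
    have : toμ C f C.b = 0 := by unfold toμ; rw [if_pos rfl]
    rw [this]
    have h2 : ((∑ y, toμ C f y : ℕ) : ℤ) + (f C.b : ℤ) = (C.q : ℤ) := by exact_mod_cast h1
    push_cast at h2 ⊢
    omega
  · rw [if_neg hx, if_neg hx]
    unfold toμ
    rw [if_neg hx]
    simp

/-- The exponent `f` attached to `μ`. -/
noncomputable def toF (μ : σ → ℕ) : σ →₀ ℕ :=
  Finsupp.equivFunOnFinite.symm (fun x => if x = C.b then C.q - ∑ y, μ y else μ x)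

lemma toF_apply (μ : σ → ℕ) (x : σ) :
    toF C μ x = if x = C.b then C.q - ∑ y, μ y else μ x := rfl

lemma toF_mem {μ : σ → ℕ} (h : IsP7 C μ) : toF C μ ∈ BB C := by
  rw [mem_BB]
  have hb : toF C μ C.b = C.q - ∑ y, μ y := by rw [toF_apply, if_pos rfl]
  have hsum : ∑ x, toF C μ x = C.q := by
    rw [← Finset.add_sum_erase Finset.univ (fun x => toF C μ x) (Finset.mem_univ C.b), hb]
    have h2 : ∑ x ∈ Finset.univ.erase C.b, toF C μ x = ∑ x ∈ Finset.univ.erase C.b, μ x := by
      apply Finset.sum_congr rfl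
      intro x hx
      rw [toF_apply, if_neg (Finset.mem_erase.mp hx).1]
    have h3 : ∑ x, μ x = μ C.b + ∑ x ∈ Finset.univ.erase C.b, μ x :=
      (Finset.add_sum_erase Finset.univ (fun x => μ x) (Finset.mem_univ C.b)).symm
    rw [h2]
    have := h.le
    have := h.hb
    omega
  refine ⟨⟨?_, hsum⟩, ?_, ?_⟩
  · rw [toF_apply, if_neg C.hab]; exact h.ha
  · rw [hb]
    have := h.pos
    have := C.hq
    omega
  · intro h1
    rw [hb] at h1
    have := h.pos
    have := h.le
    obtain ⟨i, hi, h2⟩ := h.hM (by omega)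
    refine ⟨i, hi, ?_⟩
    rw [toF_apply, if_neg (Cfg.M_ne_b hi)]
    exact h2

lemma degF_toF {μ : σ → ℕ} (h : IsP7 C μ) : degF C (toF C μ) = degP C μ := by
  funext x
  unfold degF degP
  by_cases hx : x = C.b
  · subst hx
    rw [if_pos rfl, if_pos rfl, toF_apply, if_pos rfl, h.hb]
    have := h.le
    push_cast [Nat.cast_sub this]
    omega
  · rw [if_neg hx, if_neg hx, toF_apply, if_neg hx]
    simp

lemma sum_degF {f : σ →₀ ℕ} (hf : f ∈ BB C) : ∑ x, degF C f x = 0 := by
  obtain ⟨⟨ha, hs⟩, hb, hP⟩ := (mem_BB C f).mp hf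
  have key : ∀ x, degF C f x = (f x : ℤ) - (if x = C.b then (C.q : ℤ) else 0) := by
    intro x
    unfold degF
    by_cases hx : x = C.b
    · subst hx; rw [if_pos rfl, if_pos rfl]
    · rw [if_neg hx, if_neg hx]; simp
  rw [Finset.sum_congr rfl (fun x _ => key x), Finset.sum_sub_distrib, Finset.sum_ite_eq']
  simp only [Finset.mem_univ, if_true]
  have : ((∑ x, f x : ℕ) : ℤ) = (C.q : ℤ) := by exact_mod_cast hs
  push_cast at this
  omega

/-- The full index set. -/
abbrev Idx : Type _ := Idx0 C ⊕ {f : σ →₀ ℕ // f ∈ BB C}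

/-- The degree attached to an index. -/
def degOf : Idx C → σ → ℤ := Sum.elim (degOf0 C) (fun f => degF C f.1)

lemma degOf_injective : Function.Injective (degOf C) := by
  apply Function.Injective.sumElim (degOf0_injective C)
  · intro f f' h
    exact Subtype.ext (degF_injective C h)
  · intro j f h
    obtain ⟨⟨ha, hs⟩, hb, hP⟩ := (mem_BB C f.1).mp f.2
    have h1 := congrFun h C.a
    have h2 := congrFun h C.b
    have hs := sig0_eq C j
    have hFa : degF C f.1 C.a = 0 := by
      unfold degF; rw [if_neg C.hab, ha]; simp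
    have hFb : degF C f.1 C.b = (f.1 C.b : ℤ) - (C.q : ℤ) := by
      unfold degF; rw [if_pos rfl]
    rw [hFa] at h1
    rw [hFb] at h2
    rw [h1, h2] at hs
    have hbq : (f.1 C.b : ℤ) < (C.q : ℤ) := by exact_mod_cast hb
    rcases j with j | j | j | j | j | j
    · simp [sig0] at hs
    · simp [sig0] at hs
    · simp [sig0] at hs
    · simp [sig0] at hs
      omega
    · simp [sig0] at hs
    · simp [sig0] at hs
      obtain ⟨i, hi, h3⟩ := hP (Or.inr (by omega))
      have h4 := congrFun h i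
      have hFi : degF C f.1 i = (f.1 i : ℤ) := by
        unfold degF; rw [if_neg (Cfg.M_ne_b hi)]
      rw [hFi] at h4
      simp [degOf0, e6, Pi.single_apply, hi] at h4
      omega

lemma sum_degOf (j : Idx C) : ∑ x, degOf C j x = 0 := by
  rcases j with j | f
  · exact sum_degOf0 C j
  · exact sum_degF C f.2

variable {C}

theorem finrank_hom0 (hI : IsMonomial I) (hE : HE C I) (hMne : ∃ i, C.M i)
    (hcase : (∃ i i', C.M i ∧ C.M i' ∧ i ≠ i') ∨ 4 ≤ C.q) :
    Module.finrank k ↥(⨆ α : {α : σ → ℤ // ∑ x, α x = 0}, tPiece I α.1) =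
      6 + 2 * Fintype.card (Mid C) + (BB C).card := by
  classical
  obtain ⟨i0, hi0⟩ := hMne
  have hGG := hG hE
  have hfd : ∀ α, FiniteDimensional k (tPiece I α) := fun α =>
    finiteDimensional_tPiece_of_finite I (gen (C := C)) α hI hGG
  rw [finrank_iSup_indexed hI hfd (fun α => ∑ x, α x = 0) (degOf C) (degOf_injective C)
    (sum_degOf C)]
  · have u1 : ∀ x : Unit, Module.finrank k (tPiece I (degOf C (.inl (.inl x)))) = 2 := by
      intro _
      change Module.finrank k (tPiece I (e1 C)) = 2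
      rw [finrank_tPiece_eq (gen (C := C)) _ hI hGG]; exact finrank_e1 hE
    have u2 : ∀ i : Mid C, Module.finrank k (tPiece I (degOf C (.inl (.inr (.inl i))))) = 1 := by
      intro i
      change Module.finrank k (tPiece I (e2 C i.1)) = 1
      rw [finrank_tPiece_eq (gen (C := C)) _ hI hGG]; exact finrank_e2 hE i.1 i.2
    have u3 : ∀ x : Unit,
        Module.finrank k (tPiece I (degOf C (.inl (.inr (.inr (.inl x)))))) = 1 := by
      intro _
      change Module.finrank k (tPiece I (e3 C)) = 1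
      rw [finrank_tPiece_eq (gen (C := C)) _ hI hGG]; exact finrank_e3 hE i0 hi0
    have u4 : ∀ i : Mid C,
        Module.finrank k (tPiece I (degOf C (.inl (.inr (.inr (.inr (.inl i))))))) = 1 := by
      intro i
      change Module.finrank k (tPiece I (e4 C i.1)) = 1
      rw [finrank_tPiece_eq (gen (C := C)) _ hI hGG]; exact finrank_e4 hE i.1 i.2
    have u5 : ∀ x : Unit,
        Module.finrank k (tPiece I (degOf C (.inl (.inr (.inr (.inr (.inr (.inl x)))))))) = 1 := by
      intro _
      change Module.finrank k (tPiece I (e5 C)) = 1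
      rw [finrank_tPiece_eq (gen (C := C)) _ hI hGG]; exact finrank_e5 hE
    have u6 : ∀ x : Unit,
        Module.finrank k (tPiece I (degOf C (.inl (.inr (.inr (.inr (.inr (.inr x)))))))) = 2 := by
      intro _
      change Module.finrank k (tPiece I (e6 C)) = 2
      rw [finrank_tPiece_eq (gen (C := C)) _ hI hGG]; exact finrank_e6 hE
    have u7 : ∀ f : {f : σ →₀ ℕ // f ∈ BB C},
        Module.finrank k (tPiece I (degOf C (.inr f))) = 1 := by
      intro f
      change Module.finrank k (tPiece I (degF C f.1)) = 1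
      rw [finrank_tPiece_eq (gen (C := C)) _ hI hGG, degF_eq C f.2]
      exact finrank_P7 hE _ (isP7_toμ C f.2)
    simp only [Fintype.sum_sum_type, u1, u2, u3, u4, u5, u6, u7,
      Finset.sum_const, Finset.card_univ, smul_eq_mul, mul_one, Fintype.card_unit,
      Fintype.card_coe]
    omega
  · intro α hα hnot
    apply tPiece_eq_bot_of_genData (gen (C := C)) α hI hGG
    by_contra hne
    rcases inList_of_ne_bot hE i0 hi0 hcase hα hne with h | ⟨i, hi, h⟩ | h | ⟨i, hi, h⟩ | h | h |
      ⟨μ, hμ, h⟩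
    · exact hnot (.inl (.inl ())) h
    · exact hnot (.inl (.inr (.inl ⟨i, hi⟩))) h
    · exact hnot (.inl (.inr (.inr (.inl ())))) h
    · exact hnot (.inl (.inr (.inr (.inr (.inl ⟨i, hi⟩))))) h
    · exact hnot (.inl (.inr (.inr (.inr (.inr (.inl ()))))))  h
    · exact hnot (.inl (.inr (.inr (.inr (.inr (.inr ())))))) h
    · refine hnot (.inr ⟨toF C μ, toF_mem C hμ⟩) ?_
      rw [h]
      exact (degF_toF C hμ).symm

end Groth.Agent.Lib.Helper72.Nest3
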