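import Mathlib
import Groth.Agent.Lib.Helper72.Nest4A

/-! The ideal `x_a · (x_y : y ≠ z) + x_b ^ q · (x_b, x_i : i ∈ M)`: degrees and tactics. -/

set_option autoImplicit false
set_option linter.unusedSectionVars false
set_option linter.unusedVariables false
set_option linter.unusedSimpArgs false
universe u

namespace Groth.Agent.Lib.Helper72.Nest4

open W4c1hilbpn MvPolynomial Groth.Agent.Lib.Helper28.HilbT Groth.Agent.Lib.Helper72.HilbDual
open Groth.Agent.Lib.Helper72.HomGen

variable {σ : Type*} [Fintype σ] [DecidableEq σ] {k : Type u} [Field k]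
variable {C : Cfg σ} {I : Ideal (MvPolynomial σ k)}

attribute [simp] Cfg.hab Cfg.haz Cfg.hbz

@[simp] lemma Cfg.hba (C : Cfg σ) : C.b ≠ C.a := C.hab.symm
@[simp] lemma Cfg.hza (C : Cfg σ) : C.z ≠ C.a := C.haz.symm
@[simp] lemma Cfg.hzb (C : Cfg σ) : C.z ≠ C.b := C.hbz.symm
@[simp] lemma Cfg.M_ne_a {i : σ} (hi : C.M i) : i ≠ C.a := (C.hM i hi).1
@[simp] lemma Cfg.M_ne_b {i : σ} (hi : C.M i) : i ≠ C.b := (C.hM i hi).2.1
@[simp] lemma Cfg.M_ne_z {i : σ} (hi : C.M i) : i ≠ C.z := (C.hM i hi).2.2.1
@[simp] lemma Cfg.a_ne_M {i : σ} (hi : C.M i) : C.a ≠ i := (C.hM i hi).1.symm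
@[simp] lemma Cfg.b_ne_M {i : σ} (hi : C.M i) : C.b ≠ i := (C.hM i hi).2.1.symm
@[simp] lemma Cfg.z_ne_M {i : σ} (hi : C.M i) : C.z ≠ i := (C.hM i hi).2.2.1.symm
@[simp] lemma Cfg.W_ne_a {i : σ} (hi : C.W i) : i ≠ C.a := (C.hW i hi).1
@[simp] lemma Cfg.W_ne_b {i : σ} (hi : C.W i) : i ≠ C.b := (C.hW i hi).2.1
@[simp] lemma Cfg.W_ne_z {i : σ} (hi : C.W i) : i ≠ C.z := (C.hW i hi).2.2
@[simp] lemma Cfg.a_ne_W {i : σ} (hi : C.W i) : C.a ≠ i := (C.hW i hi).1.symm
@[simp] lemma Cfg.b_ne_W {i : σ} (hi : C.W i) : C.b ≠ i := (C.hW i hi).2.1.symm
@[simp] lemma Cfg.z_ne_W {i : σ} (hi : C.W i) : C.z ≠ i := (C.hW i hi).2.2.symm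
@[simp] lemma Cfg.not_W_of_M {i : σ} (hi : C.M i) : ¬ C.W i := (C.hM i hi).2.2.2
@[simp] lemma Cfg.not_M_of_W {i : σ} (hi : C.W i) : ¬ C.M i := fun h => (C.hM i h).2.2.2 hi
@[simp] lemma Cfg.M_ne_W {i j : σ} (hi : C.M i) (hj : C.W j) : i ≠ j := by
  rintro rfl
  exact Cfg.not_W_of_M hi hj
@[simp] lemma Cfg.W_ne_M {i j : σ} (hi : C.M i) (hj : C.W j) : j ≠ i := by
  rintro rfl
  exact Cfg.not_W_of_M hi hj
@[simp] lemma Cfg.not_M_a (C : Cfg σ) : ¬ C.M C.a := fun h => Cfg.M_ne_a h rfl
@[simp] lemma Cfg.not_M_b (C : Cfg σ) : ¬ C.M C.b := fun h => Cfg.M_ne_b h rfl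
@[simp] lemma Cfg.not_M_z (C : Cfg σ) : ¬ C.M C.z := fun h => Cfg.M_ne_z h rfl
@[simp] lemma Cfg.not_W_a (C : Cfg σ) : ¬ C.W C.a := fun h => Cfg.W_ne_a h rfl
@[simp] lemma Cfg.not_W_b (C : Cfg σ) : ¬ C.W C.b := fun h => Cfg.W_ne_b h rfl
@[simp] lemma Cfg.not_W_z (C : Cfg σ) : ¬ C.W C.z := fun h => Cfg.W_ne_z h rfl

/-- The first variable of a generator. -/
def Gen.fst : Gen C → σ
  | .aa => C.a | .ab => C.a | .bb => C.b | .am _ _ => C.a | .aw _ _ => C.a | .bm _ _ => C.b

/-- `e_z - e_a`. -/
def d1 (C : Cfg σ) : σ → ℤ := Pi.single C.z 1 - Pi.single C.a 1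
/-- `e_y - e_a`. -/
def d2 (C : Cfg σ) (y : σ) : σ → ℤ := Pi.single y 1 - Pi.single C.a 1
/-- `e_b - e_a`. -/
def d4 (C : Cfg σ) : σ → ℤ := Pi.single C.b 1 - Pi.single C.a 1
/-- `e_z - e_b`. -/
def d5 (C : Cfg σ) : σ → ℤ := Pi.single C.z 1 - Pi.single C.b 1
/-- `e_y - e_b`. -/
def d6 (C : Cfg σ) (y : σ) : σ → ℤ := Pi.single y 1 - Pi.single C.b 1
/-- `e_z - e_y`. -/
def d8 (C : Cfg σ) (y : σ) : σ → ℤ := Pi.single C.z 1 - Pi.single y 1
/-- `e_w - e_i`. -/
def d9 (C : Cfg σ) (i w : σ) : σ → ℤ := Pi.single w 1 - Pi.single i 1
/-- `e_a + q e_z - (q + 1) e_b`. -/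
def d11 (C : Cfg σ) : σ → ℤ :=
  Pi.single C.a 1 + Pi.single C.z (C.q : ℤ) - Pi.single C.b ((C.q : ℤ) + 1)
/-- `e_a + q e_z - q e_b - e_i`. -/
def d12 (C : Cfg σ) (i : σ) : σ → ℤ :=
  Pi.single C.a 1 + Pi.single C.z (C.q : ℤ) - Pi.single C.b (C.q : ℤ) - Pi.single i 1

set_option hygiene false in
/-- Evaluation tactic. -/
macro "n4_auto" : tactic =>
  `(tactic| (have hq1 := C.hq
             (simp_all [gen_aa, gen_ab, gen_am, gen_aw, gen_bb, gen_bm, Gen.pt, Gen.fst,
               Pi.single_apply, d1, d2, d4, d5, d6, d8, d9, d11, d12]) <;> try omega))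

set_option hygiene false in
/-- Evaluation tactic, substituting equalities between points first. -/
macro "n4_autos" : tactic =>
  `(tactic| (have hq1 := C.hq
             try simp only [Gen.pt] at *
             try subst_vars
             (simp_all [gen_aa, gen_ab, gen_am, gen_aw, gen_bb, gen_bm, Gen.pt, Gen.fst,
               Pi.single_apply, d1, d2, d4, d5, d6, d8, d9, d11, d12]) <;> try omega))

set_option hygiene false in
/-- Case split of a point against the special points and three auxiliary points. -/
macro "n4_pt" x:ident i:term:max j:term:max l:term:max : tactic =>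
  `(tactic| (by_cases hxa : $x = C.a
             · subst hxa; n4_auto
             by_cases hxb : $x = C.b
             · subst hxb; n4_auto
             by_cases hxz : $x = C.z
             · subst hxz; n4_auto
             by_cases hxi : $x = $i
             · subst hxi; n4_auto
             by_cases hxj : $x = $j
             · subst hxj; n4_auto
             by_cases hxl : $x = $l
             · subst hxl; n4_auto
             n4_auto))

set_option hygiene false in
/-- Nonnegativity with auxiliary points. -/
macro "n4_nonneg" i:term:max j:term:max l:term:max : tactic =>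
  `(tactic| (intro x; n4_pt x $i $j $l))

set_option hygiene false in
/-- Non-membership with auxiliary points. -/
macro "n4_notmem" i:term:max j:term:max l:term:max : tactic =>
  `(tactic| (unfold memI; push Not; refine ⟨?_, ?_, ?_, ?_⟩
             · n4_auto
             · intro y hya hyz h1
               n4_pt y $i $j $l
             · n4_auto
             · intro y hyM h1
               n4_pt y $i $j $l))

set_option hygiene false in
/-- Both. -/
macro "n4_ok" i:term:max j:term:max l:term:max : tactic =>
  `(tactic| exact ⟨by n4_nonneg $i $j $l, by n4_notmem $i $j $l⟩)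

set_option hygiene false in
/-- Inactivity of the unclassified generators (with auxiliary points). -/
macro "n4_h0" i:term:max j:term:max : tactic =>
  `(tactic| (intro g hg
             left
             rw [active_iff ‹HE _ _›]
             rintro ⟨h1, h2⟩
             unfold memI at h2
             push Not at h2
             obtain ⟨w1, w2, w3, w4⟩ := h2
             have hna := h1 C.a
             have hnb := h1 C.b
             have hni := h1 $i
             have hnj := h1 $j
             have c1 := w2 C.b
             have c2 := w2 $i
             have c3 := w2 $j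
             have c4 := w2 g.pt
             have c5 := w4 $i
             have c6 := w4 $j
             have c7 := w4 g.pt
             clear w2 w4 h1
             by_cases hs : g.pt = $i <;> by_cases hs2 : g.pt = $j <;> cases g <;> n4_autos))

set_option hygiene false in
/-- The linking refutation with auxiliary points. -/
macro "n4_h3" i:term:max j:term:max : tactic =>
  `(tactic| (intro g g' hl
             rw [linked_iff ‹HE _ _›] at hl
             obtain ⟨hnn, hnot⟩ := hl
             unfold memI at hnot
             push Not at hnot
             obtain ⟨w1, w2, w3, w4⟩ := hnot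
             have hna := hnn C.a
             have hnb := hnn C.b
             have hni := hnn $i
             have hnj := hnn $j
             have hn1 := hnn g.pt
             have hn2 := hnn g'.pt
             have c1 := w2 C.b
             have c2 := w2 $i
             have c3 := w2 $j
             have c4 := w2 g.pt
             have c5 := w2 g'.pt
             have c6 := w4 $i
             have c7 := w4 $j
             have c8 := w4 g.pt
             have c9 := w4 g'.pt
             clear w2 w4 hnn
             by_cases hs : g.pt = $i <;> by_cases hs' : g'.pt = $i <;>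
             by_cases hs2 : g.pt = $j <;> by_cases hs2' : g'.pt = $j <;>
               cases g <;> cases g' <;> first | rfl | n4_autos))

set_option hygiene false in
/-- Inactivity of the unclassified generators. -/
macro "n4_h0'" : tactic =>
  `(tactic| (intro g hg
             left
             rw [active_iff ‹HE _ _›]
             rintro ⟨h1, h2⟩
             unfold memI at h2
             push Not at h2
             obtain ⟨w1, w2, w3, w4⟩ := h2
             have hna := h1 C.a
             have hnb := h1 C.b
             have c1 := w2 C.b
             have c4 := w2 g.pt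
             have c7 := w4 g.pt
             clear w2 w4 h1
             cases g <;> n4_autos))

set_option hygiene false in
/-- The linking refutation. -/
macro "n4_h3'" : tactic =>
  `(tactic| (intro g g' hl
             rw [linked_iff ‹HE _ _›] at hl
             obtain ⟨hnn, hnot⟩ := hl
             unfold memI at hnot
             push Not at hnot
             obtain ⟨w1, w2, w3, w4⟩ := hnot
             have hna := hnn C.a
             have hnb := hnn C.b
             have hn1 := hnn g.pt
             have hn2 := hnn g'.pt
             have c1 := w2 C.b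
             have c4 := w2 g.pt
             have c5 := w2 g'.pt
             have c8 := w4 g.pt
             have c9 := w4 g'.pt
             clear w2 w4 hnn
             cases g <;> cases g' <;> first | rfl | n4_autos))

set_option hygiene false in
/-- The linking refutation with one auxiliary point. -/
macro "n4_h3i" i:term:max : tactic =>
  `(tactic| (intro g g' hl
             rw [linked_iff ‹HE _ _›] at hl
             obtain ⟨hnn, hnot⟩ := hl
             unfold memI at hnot
             push Not at hnot
             obtain ⟨w1, w2, w3, w4⟩ := hnot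
             have hna := hnn C.a
             have hnb := hnn C.b
             have hni := hnn $i
             have hn1 := hnn g.pt
             have hn2 := hnn g'.pt
             have c1 := w2 C.b
             have c2 := w2 $i
             have c4 := w2 g.pt
             have c5 := w2 g'.pt
             have c6 := w4 $i
             have c8 := w4 g.pt
             have c9 := w4 g'.pt
             clear w2 w4 hnn
             by_cases hs : g.pt = $i <;> by_cases hs' : g'.pt = $i <;>
               cases g <;> cases g' <;> first | rfl | n4_autos))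

set_option hygiene false in
/-- Inactivity of the unclassified generators (with one auxiliary point). -/
macro "n4_h0i" i:term:max : tactic =>
  `(tactic| (intro g hg
             left
             rw [active_iff ‹HE _ _›]
             rintro ⟨h1, h2⟩
             unfold memI at h2
             push Not at h2
             obtain ⟨w1, w2, w3, w4⟩ := h2
             have hna := h1 C.a
             have hnb := h1 C.b
             have hni := h1 $i
             have c1 := w2 C.b
             have c2 := w2 $i
             have c4 := w2 g.pt
             have c5 := w4 $i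
             have c7 := w4 g.pt
             clear w2 w4 h1
             by_cases hs : g.pt = $i <;> cases g <;> n4_autos))

end Groth.Agent.Lib.Helper72.Nest4
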