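import Mathlib
import Groth.Agent.Lib.Helper72.Nest4B

/-! Two-block ideal: variants of the tactics with an explicit disjointness step. -/

set_option autoImplicit false
set_option linter.unusedSectionVars false
set_option linter.unusedVariables false
set_option linter.unusedSimpArgs false
universe u

namespace Groth.Agent.Lib.Helper72.Nest4

open W4c1hilbpn MvPolynomial Groth.Agent.Lib.Helper28.HilbT Groth.Agent.Lib.Helper72.HilbDual
open Groth.Agent.Lib.Helper72.HomGen

variable {σ : Type*} [Fintype σ] [DecidableEq σ] {k : Type u} [Field k]
variable {C : Cfg σ} {I : Ideal (MvPolynomial σ k)}

set_option hygiene false in
/-- Evaluation tactic, substituting equalities between points first. -/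
macro "n4_autosX" : tactic =>
  `(tactic| (have hq1 := C.hq
             try simp only [Gen.pt] at *
             try subst_vars
             first
             | (exfalso; solve_by_elim [Cfg.not_W_of_M]; done)
             | ((simp_all [gen_aa, gen_ab, gen_am, gen_aw, gen_bb, gen_bm, Gen.pt, Gen.fst,
                 Pi.single_apply, d1, d2, d4, d5, d6, d8, d9, d11, d12]) <;> try omega)))

set_option hygiene false in
/-- Inactivity of the unclassified generators (with auxiliary points). -/
macro "n4_h0X" i:term:max j:term:max : tactic =>
  `(tactic| (intro g hg
             left
             rw [active_iff ‹HE _ _›]
             rintro ⟨h1, h2⟩
             unfold memI at h2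
             push Not at h2
             obtain ⟨w1, w2, w3, w4⟩ := h2
             have hna := h1 C.a
             have hnb := h1 C.b
             have hni := h1 $i
             have hnj := h1 $j
             have c1 := w2 C.b
             have c2 := w2 $i
             have c3 := w2 $j
             have c4 := w2 g.pt
             have c5 := w4 $i
             have c6 := w4 $j
             have c7 := w4 g.pt
             clear w2 w4 h1
             by_cases hs : g.pt = $i <;> by_cases hs2 : g.pt = $j <;> cases g <;> n4_autosX))

set_option hygiene false in
/-- The linking refutation with auxiliary points. -/
macro "n4_h3X" i:term:max j:term:max : tactic =>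
  `(tactic| (intro g g' hl
             rw [linked_iff ‹HE _ _›] at hl
             obtain ⟨hnn, hnot⟩ := hl
             unfold memI at hnot
             push Not at hnot
             obtain ⟨w1, w2, w3, w4⟩ := hnot
             have hna := hnn C.a
             have hnb := hnn C.b
             have hni := hnn $i
             have hnj := hnn $j
             have hn1 := hnn g.pt
             have hn2 := hnn g'.pt
             have c1 := w2 C.b
             have c2 := w2 $i
             have c3 := w2 $j
             have c4 := w2 g.pt
             have c5 := w2 g'.pt
             have c6 := w4 $i
             have c7 := w4 $j
             have c8 := w4 g.pt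
             have c9 := w4 g'.pt
             clear w2 w4 hnn
             by_cases hs : g.pt = $i <;> by_cases hs' : g'.pt = $i <;>
             by_cases hs2 : g.pt = $j <;> by_cases hs2' : g'.pt = $j <;>
               cases g <;> cases g' <;> first | rfl | n4_autosX))

set_option hygiene false in
/-- Inactivity of the unclassified generators. -/
macro "n4_h0'X" : tactic =>
  `(tactic| (intro g hg
             left
             rw [active_iff ‹HE _ _›]
             rintro ⟨h1, h2⟩
             unfold memI at h2
             push Not at h2
             obtain ⟨w1, w2, w3, w4⟩ := h2
             have hna := h1 C.a
             have hnb := h1 C.b
             have c1 := w2 C.b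
             have c4 := w2 g.pt
             have c7 := w4 g.pt
             clear w2 w4 h1
             cases g <;> n4_autosX))

set_option hygiene false in
/-- The linking refutation. -/
macro "n4_h3'X" : tactic =>
  `(tactic| (intro g g' hl
             rw [linked_iff ‹HE _ _›] at hl
             obtain ⟨hnn, hnot⟩ := hl
             unfold memI at hnot
             push Not at hnot
             obtain ⟨w1, w2, w3, w4⟩ := hnot
             have hna := hnn C.a
             have hnb := hnn C.b
             have hn1 := hnn g.pt
             have hn2 := hnn g'.pt
             have c1 := w2 C.b
             have c4 := w2 g.pt
             have c5 := w2 g'.pt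
             have c8 := w4 g.pt
             have c9 := w4 g'.pt
             clear w2 w4 hnn
             cases g <;> cases g' <;> first | rfl | n4_autosX))

set_option hygiene false in
/-- The linking refutation with one auxiliary point. -/
macro "n4_h3iX" i:term:max : tactic =>
  `(tactic| (intro g g' hl
             rw [linked_iff ‹HE _ _›] at hl
             obtain ⟨hnn, hnot⟩ := hl
             unfold memI at hnot
             push Not at hnot
             obtain ⟨w1, w2, w3, w4⟩ := hnot
             have hna := hnn C.a
             have hnb := hnn C.b
             have hni := hnn $i
             have hn1 := hnn g.pt
             have hn2 := hnn g'.pt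
             have c1 := w2 C.b
             have c2 := w2 $i
             have c4 := w2 g.pt
             have c5 := w2 g'.pt
             have c6 := w4 $i
             have c8 := w4 g.pt
             have c9 := w4 g'.pt
             clear w2 w4 hnn
             by_cases hs : g.pt = $i <;> by_cases hs' : g'.pt = $i <;>
               cases g <;> cases g' <;> first | rfl | n4_autosX))

set_option hygiene false in
/-- Inactivity of the unclassified generators (with one auxiliary point). -/
macro "n4_h0iX" i:term:max : tactic =>
  `(tactic| (intro g hg
             left
             rw [active_iff ‹HE _ _›]
             rintro ⟨h1, h2⟩
             unfold memI at h2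
             push Not at h2
             obtain ⟨w1, w2, w3, w4⟩ := h2
             have hna := h1 C.a
             have hnb := h1 C.b
             have hni := h1 $i
             have c1 := w2 C.b
             have c2 := w2 $i
             have c4 := w2 g.pt
             have c5 := w4 $i
             have c7 := w4 g.pt
             clear w2 w4 h1
             by_cases hs : g.pt = $i <;> cases g <;> n4_autosX))

end Groth.Agent.Lib.Helper72.Nest4
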