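import Mathlib
import Groth.Agent.Lib.Helper72.Nest4B

/-! Two-block ideal: non-zero pieces of bounded shape, part C. -/

set_option autoImplicit false
set_option linter.unusedSectionVars false
set_option linter.unusedVariables false
set_option linter.unusedSimpArgs false
set_option maxHeartbeats 12800000
universe u

namespace Groth.Agent.Lib.Helper72.Nest4

open W4c1hilbpn MvPolynomial Groth.Agent.Lib.Helper28.HilbT Groth.Agent.Lib.Helper72.HilbDual
open Groth.Agent.Lib.Helper72.HomGen

variable {σ : Type*} [Fintype σ] [DecidableEq σ] {k : Type u} [Field k]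
variable {C : Cfg σ} {I : Ideal (MvPolynomial σ k)}

theorem finrank_f1 (hE : HE C I) (j0 : σ) (hj0 : C.W j0) :
    Module.finrank k (GenData I (gen (C := C)) (d1 C)) = 2 := by
  classical
  have key := finrank_genData' I (gen (C := C)) (d1 C) (J := Fin 2)
    (fun g => match g with
      | .aa => some 0 | .ab => some 1 | .am _ _ => some 1 | .aw _ _ => some 1 | _ => none)
    (fun j => match j with
      | 0 => .aa | 1 => .aw j0 hj0)
    (by intro j; fin_cases j <;> rfl) ?_ ?_ ?_ ?_
  · rw [key]; rfl
  · n4_h0'
  · intro g j hg
    rw [linked_iff hE]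
    cases g with
    | aa =>
      obtain rfl : j = 0 := by simpa using hg.symm
      n4_ok C.a C.a C.a
    | ab =>
      obtain rfl : j = 1 := by simpa using hg.symm
      n4_ok j0 j0 j0
    | bb => simp at hg
    | am i' hi' =>
      obtain rfl : j = 1 := by simpa using hg.symm
      have hne0a := Cfg.M_ne_W hi' hj0
      have hne0b := Cfg.W_ne_M hi' hj0
      n4_ok i' j0 j0
    | aw j' hj' =>
      obtain rfl : j = 1 := by simpa using hg.symm
      n4_ok j' j0 j0
    | bm i' hi' => simp at hg
  · intro g j hg
    rw [active_iff hE]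
    cases g with
    | aa =>
      n4_ok C.a C.a C.a
    | ab =>
      n4_ok C.a C.a C.a
    | bb => simp at hg
    | am i' hi' =>
      n4_ok i' i' i'
    | aw j' hj' =>
      n4_ok j' j' j'
    | bm i' hi' => simp at hg
  · n4_h3'

theorem finrank_f2 (hE : HE C I) (w : σ) (hw : C.W w) :
    Module.finrank k (GenData I (gen (C := C)) (d2 C w)) = 1 := by
  classical
  have key := finrank_genData' I (gen (C := C)) (d2 C w) (J := Unit)
    (fun g => match g with
      | .ab => some () | .am _ _ => some () | .aw _ _ => some () | _ => none)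
    (fun _ => .aw w hw) (fun _ => rfl) ?_ ?_ ?_ ?_
  · rw [key]; rfl
  · n4_h0i w
  · intro g j hg
    rw [linked_iff hE]
    cases g with
    | aa => simp at hg
    | ab =>
      n4_ok w w w
    | bb => simp at hg
    | am i' hi' =>
      have hne0a := Cfg.M_ne_W hi' hw
      have hne0b := Cfg.W_ne_M hi' hw
      n4_ok w i' i'
    | aw j' hj' =>
      n4_ok w j' j'
    | bm i' hi' => simp at hg
  · intro g j hg
    rw [active_iff hE]
    cases g with
    | aa => simp at hg
    | ab =>
      n4_ok w w w
    | bb => simp at hg
    | am i' hi' =>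
      have hne0a := Cfg.M_ne_W hi' hw
      have hne0b := Cfg.W_ne_M hi' hw
      n4_ok w i' i'
    | aw j' hj' =>
      n4_ok w j' j'
    | bm i' hi' => simp at hg
  · n4_h3i w

end Groth.Agent.Lib.Helper72.Nest4
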