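import Mathlib
import Groth.Agent.Lib.Helper72.Nest4B

/-! Two-block ideal: non-zero pieces of bounded shape, part D. -/

set_option autoImplicit false
set_option linter.unusedSectionVars false
set_option linter.unusedVariables false
set_option linter.unusedSimpArgs false
set_option maxHeartbeats 12800000
universe u

namespace Groth.Agent.Lib.Helper72.Nest4

open W4c1hilbpn MvPolynomial Groth.Agent.Lib.Helper28.HilbT Groth.Agent.Lib.Helper72.HilbDual
open Groth.Agent.Lib.Helper72.HomGen

variable {σ : Type*} [Fintype σ] [DecidableEq σ] {k : Type u} [Field k]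
variable {C : Cfg σ} {I : Ideal (MvPolynomial σ k)}

theorem finrank_f3_one (hE : HE C I) (i : σ) (hi : C.M i) (j0 : σ) (hj0 : C.W j0) (hq1' : C.q = 1) :
    Module.finrank k (GenData I (gen (C := C)) (d2 C i)) = 1 := by
  classical
  have key := finrank_genData' I (gen (C := C)) (d2 C i) (J := Unit)
    (fun g => match g with
      | .am _ _ => some () | .aw _ _ => some () | _ => none)
    (fun _ => .aw j0 hj0) (fun _ => rfl) ?_ ?_ ?_ ?_
  · rw [key]; rfl
  · n4_h0i i
  · intro g j hg
    rw [linked_iff hE]
    cases g with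
    | aa => simp at hg
    | ab => simp at hg
    | bb => simp at hg
    | am i' hi' =>
      have hne0a := Cfg.M_ne_W hi hj0
      have hne0b := Cfg.W_ne_M hi hj0
      have hne1a := Cfg.M_ne_W hi' hj0
      have hne1b := Cfg.W_ne_M hi' hj0
      n4_ok i i' j0
    | aw j' hj' =>
      have hne0a := Cfg.M_ne_W hi hj'
      have hne0b := Cfg.W_ne_M hi hj'
      have hne1a := Cfg.M_ne_W hi hj0
      have hne1b := Cfg.W_ne_M hi hj0
      n4_ok i j' j0
    | bm i' hi' => simp at hg
  · intro g j hg
    rw [active_iff hE]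
    cases g with
    | aa => simp at hg
    | ab => simp at hg
    | bb => simp at hg
    | am i' hi' =>
      n4_ok i i' i'
    | aw j' hj' =>
      have hne0a := Cfg.M_ne_W hi hj'
      have hne0b := Cfg.W_ne_M hi hj'
      n4_ok i j' j'
    | bm i' hi' => simp at hg
  · n4_h3i i

theorem finrank_f3_ge (hE : HE C I) (i : σ) (hi : C.M i) (j0 : σ) (hj0 : C.W j0) (hq2 : 2 ≤ C.q) :
    Module.finrank k (GenData I (gen (C := C)) (d2 C i)) = 1 := by
  classical
  have key := finrank_genData' I (gen (C := C)) (d2 C i) (J := Unit)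
    (fun g => match g with
      | .ab => some () | .am _ _ => some () | .aw _ _ => some () | _ => none)
    (fun _ => .aw j0 hj0) (fun _ => rfl) ?_ ?_ ?_ ?_
  · rw [key]; rfl
  · n4_h0i i
  · intro g j hg
    rw [linked_iff hE]
    cases g with
    | aa => simp at hg
    | ab =>
      have hne0a := Cfg.M_ne_W hi hj0
      have hne0b := Cfg.W_ne_M hi hj0
      n4_ok i j0 j0
    | bb => simp at hg
    | am i' hi' =>
      have hne0a := Cfg.M_ne_W hi hj0
      have hne0b := Cfg.W_ne_M hi hj0
      have hne1a := Cfg.M_ne_W hi' hj0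
      have hne1b := Cfg.W_ne_M hi' hj0
      n4_ok i i' j0
    | aw j' hj' =>
      have hne0a := Cfg.M_ne_W hi hj'
      have hne0b := Cfg.W_ne_M hi hj'
      have hne1a := Cfg.M_ne_W hi hj0
      have hne1b := Cfg.W_ne_M hi hj0
      n4_ok i j' j0
    | bm i' hi' => simp at hg
  · intro g j hg
    rw [active_iff hE]
    cases g with
    | aa => simp at hg
    | ab =>
      n4_ok i i i
    | bb => simp at hg
    | am i' hi' =>
      n4_ok i i' i'
    | aw j' hj' =>
      have hne0a := Cfg.M_ne_W hi hj'
      have hne0b := Cfg.W_ne_M hi hj'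
      n4_ok i j' j'
    | bm i' hi' => simp at hg
  · n4_h3i i

theorem finrank_f3 (hE : HE C I) (i : σ) (hi : C.M i) (j0 : σ) (hj0 : C.W j0) :
    Module.finrank k (GenData I (gen (C := C)) (d2 C i)) = 1 := by
  by_cases h : C.q = 1
  · exact finrank_f3_one hE i hi j0 hj0 h
  · exact finrank_f3_ge hE i hi j0 hj0 (by have := C.hq; omega)

end Groth.Agent.Lib.Helper72.Nest4
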