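import Mathlib
import Groth.Agent.Lib.Helper72.Nest4B

/-! Two-block ideal: non-zero pieces of bounded shape, part E. -/

set_option autoImplicit false
set_option linter.unusedSectionVars false
set_option linter.unusedVariables false
set_option linter.unusedSimpArgs false
set_option maxHeartbeats 12800000
universe u

namespace Groth.Agent.Lib.Helper72.Nest4

open W4c1hilbpn MvPolynomial Groth.Agent.Lib.Helper28.HilbT Groth.Agent.Lib.Helper72.HilbDual
open Groth.Agent.Lib.Helper72.HomGen

variable {σ : Type*} [Fintype σ] [DecidableEq σ] {k : Type u} [Field k]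
variable {C : Cfg σ} {I : Ideal (MvPolynomial σ k)}

theorem finrank_f4_one (hE : HE C I) (j0 : σ) (hj0 : C.W j0) (hq1' : C.q = 1) :
    Module.finrank k (GenData I (gen (C := C)) (d4 C)) = 1 := by
  classical
  have key := finrank_genData' I (gen (C := C)) (d4 C) (J := Unit)
    (fun g => match g with
      | .aw _ _ => some () | _ => none)
    (fun _ => .aw j0 hj0) (fun _ => rfl) ?_ ?_ ?_ ?_
  · rw [key]; rfl
  · n4_h0'
  · intro g j hg
    rw [linked_iff hE]
    cases g with
    | aa => simp at hg
    | ab => simp at hg
    | bb => simp at hg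
    | am i' hi' => simp at hg
    | aw j' hj' =>
      n4_ok j' j0 j0
    | bm i' hi' => simp at hg
  · intro g j hg
    rw [active_iff hE]
    cases g with
    | aa => simp at hg
    | ab => simp at hg
    | bb => simp at hg
    | am i' hi' => simp at hg
    | aw j' hj' =>
      n4_ok j' j' j'
    | bm i' hi' => simp at hg
  · n4_h3'

theorem finrank_f4_ge (hE : HE C I) (j0 : σ) (hj0 : C.W j0) (hq2 : 2 ≤ C.q) :
    Module.finrank k (GenData I (gen (C := C)) (d4 C)) = 1 := by
  classical
  have key := finrank_genData' I (gen (C := C)) (d4 C) (J := Unit)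
    (fun g => match g with
      | .ab => some () | .am _ _ => some () | .aw _ _ => some () | _ => none)
    (fun _ => .aw j0 hj0) (fun _ => rfl) ?_ ?_ ?_ ?_
  · rw [key]; rfl
  · n4_h0'
  · intro g j hg
    rw [linked_iff hE]
    cases g with
    | aa => simp at hg
    | ab =>
      n4_ok j0 j0 j0
    | bb => simp at hg
    | am i' hi' =>
      have hne0a := Cfg.M_ne_W hi' hj0
      have hne0b := Cfg.W_ne_M hi' hj0
      n4_ok i' j0 j0
    | aw j' hj' =>
      n4_ok j' j0 j0
    | bm i' hi' => simp at hg
  · intro g j hg
    rw [active_iff hE]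
    cases g with
    | aa => simp at hg
    | ab =>
      n4_ok C.a C.a C.a
    | bb => simp at hg
    | am i' hi' =>
      n4_ok i' i' i'
    | aw j' hj' =>
      n4_ok j' j' j'
    | bm i' hi' => simp at hg
  · n4_h3'

theorem finrank_f5 (hE : HE C I) (i0 : σ) (hi0 : C.M i0) :
    Module.finrank k (GenData I (gen (C := C)) (d5 C)) = 3 := by
  classical
  have key := finrank_genData' I (gen (C := C)) (d5 C) (J := Fin 3)
    (fun g => match g with
      | .ab => some 0 | .bb => some 1 | .bm _ _ => some 2 | _ => none)
    (fun j => match j with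
      | 0 => .ab | 1 => .bb | 2 => .bm i0 hi0)
    (by intro j; fin_cases j <;> rfl) ?_ ?_ ?_ ?_
  · rw [key]; rfl
  · n4_h0'
  · intro g j hg
    rw [linked_iff hE]
    cases g with
    | aa => simp at hg
    | ab =>
      obtain rfl : j = 0 := by simpa using hg.symm
      n4_ok C.a C.a C.a
    | bb =>
      obtain rfl : j = 1 := by simpa using hg.symm
      n4_ok C.a C.a C.a
    | am i' hi' => simp at hg
    | aw j' hj' => simp at hg
    | bm i' hi' =>
      obtain rfl : j = 2 := by simpa using hg.symm
      n4_ok i' i0 i0
  · intro g j hg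
    rw [active_iff hE]
    cases g with
    | aa => simp at hg
    | ab =>
      n4_ok C.a C.a C.a
    | bb =>
      n4_ok C.a C.a C.a
    | am i' hi' => simp at hg
    | aw j' hj' => simp at hg
    | bm i' hi' =>
      n4_ok i' i' i'
  · n4_h3'

theorem finrank_f4 (hE : HE C I) (j0 : σ) (hj0 : C.W j0) :
    Module.finrank k (GenData I (gen (C := C)) (d4 C)) = 1 := by
  by_cases h : C.q = 1
  · exact finrank_f4_one hE j0 hj0 h
  · exact finrank_f4_ge hE j0 hj0 (by have := C.hq; omega)

end Groth.Agent.Lib.Helper72.Nest4
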