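import Mathlib
import Groth.Agent.Lib.Helper72.Nest4B

/-! Two-block ideal: non-zero pieces of bounded shape, part H. -/

set_option autoImplicit false
set_option linter.unusedSectionVars false
set_option linter.unusedVariables false
set_option linter.unusedSimpArgs false
set_option maxHeartbeats 12800000
universe u

namespace Groth.Agent.Lib.Helper72.Nest4

open W4c1hilbpn MvPolynomial Groth.Agent.Lib.Helper28.HilbT Groth.Agent.Lib.Helper72.HilbDual
open Groth.Agent.Lib.Helper72.HomGen

variable {σ : Type*} [Fintype σ] [DecidableEq σ] {k : Type u} [Field k]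
variable {C : Cfg σ} {I : Ideal (MvPolynomial σ k)}

theorem finrank_f9 (hE : HE C I) (i : σ) (hi : C.M i) (w : σ) (hw : C.W w) :
    Module.finrank k (GenData I (gen (C := C)) (d9 C i w)) = 1 := by
  classical
  have key := finrank_genData' I (gen (C := C)) (d9 C i w) (J := Unit)
    (fun g => if g.fst = C.b ∧ g.pt = i then some () else none)
    (fun _ => .bm i hi) (fun _ => by simp [Gen.fst, Gen.pt]) ?_ ?_ ?_ ?_
  · rw [key]; rfl
  · n4_h0 i w
  · intro g j hg
    rw [linked_iff hE]
    by_cases hs : g.fst = C.b ∧ g.pt = i
    · cases g with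
      | aa => exact absurd hs.1 C.hab
      | ab => exact absurd hs.1 C.hab
      | bb => exact absurd hs.2 (Cfg.b_ne_M hi)
      | am i' hi' => exact absurd hs.1 C.hab
      | aw j' hj' => exact absurd hs.1 C.hab
      | bm i' hi' =>
        obtain rfl : i' = i := hs.2
        have hne1 := Cfg.M_ne_W hi hw
        have hne2 := Cfg.W_ne_M hi hw
        n4_ok i' w w
    · rw [if_neg hs] at hg
      simp at hg
  · intro g j hg
    rw [active_iff hE]
    by_cases hs : g.fst = C.b ∧ g.pt = i
    · cases g with
      | aa => exact absurd hs.1 C.hab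
      | ab => exact absurd hs.1 C.hab
      | bb => exact absurd hs.2 (Cfg.b_ne_M hi)
      | am i' hi' => exact absurd hs.1 C.hab
      | aw j' hj' => exact absurd hs.1 C.hab
      | bm i' hi' =>
        obtain rfl : i' = i := hs.2
        have hne1 := Cfg.M_ne_W hi hw
        have hne2 := Cfg.W_ne_M hi hw
        n4_ok i' w w
    · rw [if_neg hs] at hg
      simp at hg
  · n4_h3 i w

end Groth.Agent.Lib.Helper72.Nest4
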