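import Mathlib
import Groth.Agent.Lib.Helper72.Nest4B

/-! Two-block ideal: non-zero pieces of bounded shape, part J (general family). -/

set_option autoImplicit false
set_option linter.unusedSectionVars false
set_option linter.unusedVariables false
set_option linter.unusedSimpArgs false
set_option maxHeartbeats 12800000
universe u

namespace Groth.Agent.Lib.Helper72.Nest4

open W4c1hilbpn MvPolynomial Groth.Agent.Lib.Helper28.HilbT Groth.Agent.Lib.Helper72.HilbDual
open Groth.Agent.Lib.Helper72.HomGen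

variable {σ : Type*} [Fintype σ] [DecidableEq σ] {k : Type u} [Field k]
variable {C : Cfg σ} {I : Ideal (MvPolynomial σ k)}

/-- Exponent data for the family `μ - j e_b`, `2 ≤ j ≤ q`. -/
structure IsB (C : Cfg σ) (μ : σ → ℕ) : Prop where
  ha : μ C.a = 0
  hb : μ C.b = 0
  two : 2 ≤ ∑ x, μ x
  le : ∑ x, μ x ≤ C.q

/-- The degree `μ - j e_b`. -/
def degP (C : Cfg σ) (μ : σ → ℕ) : σ → ℤ :=
  fun x => (μ x : ℤ) - (if x = C.b then ((∑ y, μ y : ℕ) : ℤ) else 0)

theorem finrank_B (hE : HE C I) (μ : σ → ℕ) (h : IsB C μ) :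
    Module.finrank k (GenData I (gen (C := C)) (degP C μ)) = 1 := by
  classical
  obtain ⟨jj, hjj⟩ : ∃ jj : ℕ, jj = ∑ x, μ x := ⟨_, rfl⟩
  have hα : ∀ x, degP C μ x = (μ x : ℤ) - (if x = C.b then (jj : ℤ) else 0) := fun x => by
    rw [hjj]; rfl
  have hj2 : 2 ≤ jj := hjj ▸ h.two
  have hjq : jj ≤ C.q := hjj ▸ h.le
  have hμa := h.ha
  have hμb := h.hb
  clear hjj h
  have key := finrank_genData' I (gen (C := C)) (degP C μ) (J := Unit)
    (fun g => match g with
      | .bb => some () | .bm _ _ => some () | _ => none)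
    (fun _ => .bb) (fun _ => rfl) ?_ ?_ ?_ ?_
  · rw [key]; rfl
  · n4_h0'
  · intro g j hg
    rw [linked_iff hE]
    cases g with
    | aa => simp at hg
    | ab => simp at hg
    | bb =>
      n4_ok C.a C.a C.a
    | am i' hi' => simp at hg
    | aw j' hj' => simp at hg
    | bm i' hi' =>
      n4_ok i' i' i'
  · intro g j hg
    rw [active_iff hE]
    cases g with
    | aa => simp at hg
    | ab => simp at hg
    | bb =>
      n4_ok C.a C.a C.a
    | am i' hi' => simp at hg
    | aw j' hj' => simp at hg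
    | bm i' hi' =>
      n4_ok i' i' i'
  · n4_h3'

end Groth.Agent.Lib.Helper72.Nest4
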