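import Mathlib
import Groth.Agent.Lib.Helper72.Nest4J
import Groth.Agent.Lib.Helper72.NestC

/-! Two-block ideal: the other pieces vanish. -/

set_option autoImplicit false
set_option linter.unusedSectionVars false
set_option linter.unusedVariables false
set_option linter.unusedSimpArgs false
set_option linter.unreachableTactic false
set_option linter.unusedTactic false
set_option maxHeartbeats 12800000
universe u

namespace Groth.Agent.Lib.Helper72.Nest4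

open W4c1hilbpn MvPolynomial Groth.Agent.Lib.Helper28.HilbT Groth.Agent.Lib.Helper72.HilbDual
open Groth.Agent.Lib.Helper72.HomGen

variable {σ : Type*} [Fintype σ] [DecidableEq σ] {k : Type u} [Field k]
variable {C : Cfg σ} {I : Ideal (MvPolynomial σ k)}

/-- The list of degrees with non-zero piece. -/
def InList (C : Cfg σ) (α : σ → ℤ) : Prop :=
  α = d1 C ∨ (∃ w, C.W w ∧ α = d2 C w) ∨ (∃ i, C.M i ∧ α = d2 C i) ∨ α = d4 C ∨ α = d5 C ∨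
    (∃ w, C.W w ∧ α = d6 C w) ∨ (∃ i, C.M i ∧ α = d6 C i) ∨ (∃ i, C.M i ∧ α = d8 C i) ∨
    (∃ i w, C.M i ∧ C.W w ∧ α = d9 C i w) ∨ (∃ w, C.W w ∧ α = d8 C w) ∨ α = d11 C ∨
    (∃ i, C.M i ∧ α = d12 C i) ∨ (∃ μ, IsB C μ ∧ α = degP C μ)

lemma InList.mk1 {α : σ → ℤ} (h : α = d1 C) : InList C α := Or.inl h
lemma InList.mk2 {α : σ → ℤ} (w : σ) (hw : C.W w) (h : α = d2 C w) : InList C α :=
  Or.inr (Or.inl ⟨w, hw, h⟩)
lemma InList.mk3 {α : σ → ℤ} (i : σ) (hi : C.M i) (h : α = d2 C i) : InList C α :=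
  Or.inr (Or.inr (Or.inl ⟨i, hi, h⟩))
lemma InList.mk4 {α : σ → ℤ} (h : α = d4 C) : InList C α := Or.inr (Or.inr (Or.inr (Or.inl h)))
lemma InList.mk5 {α : σ → ℤ} (h : α = d5 C) : InList C α :=
  Or.inr (Or.inr (Or.inr (Or.inr (Or.inl h))))
lemma InList.mk6 {α : σ → ℤ} (w : σ) (hw : C.W w) (h : α = d6 C w) : InList C α :=
  Or.inr (Or.inr (Or.inr (Or.inr (Or.inr (Or.inl ⟨w, hw, h⟩)))))
lemma InList.mk7 {α : σ → ℤ} (i : σ) (hi : C.M i) (h : α = d6 C i) : InList C α :=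
  Or.inr (Or.inr (Or.inr (Or.inr (Or.inr (Or.inr (Or.inl ⟨i, hi, h⟩))))))
lemma InList.mk8 {α : σ → ℤ} (i : σ) (hi : C.M i) (h : α = d8 C i) : InList C α :=
  Or.inr (Or.inr (Or.inr (Or.inr (Or.inr (Or.inr (Or.inr (Or.inl ⟨i, hi, h⟩)))))))
lemma InList.mk9 {α : σ → ℤ} (i w : σ) (hi : C.M i) (hw : C.W w) (h : α = d9 C i w) :
    InList C α :=
  Or.inr (Or.inr (Or.inr (Or.inr (Or.inr (Or.inr (Or.inr (Or.inr (Or.inl ⟨i, w, hi, hw, h⟩))))))))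
lemma InList.mk10 {α : σ → ℤ} (w : σ) (hw : C.W w) (h : α = d8 C w) : InList C α :=
  Or.inr (Or.inr (Or.inr (Or.inr (Or.inr (Or.inr (Or.inr (Or.inr (Or.inr (Or.inl ⟨w, hw, h⟩)))))))))
lemma InList.mk11 {α : σ → ℤ} (h : α = d11 C) : InList C α :=
  Or.inr (Or.inr (Or.inr (Or.inr (Or.inr (Or.inr (Or.inr (Or.inr (Or.inr (Or.inr (Or.inl h))))))))))
lemma InList.mk12 {α : σ → ℤ} (i : σ) (hi : C.M i) (h : α = d12 C i) : InList C α :=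
  Or.inr (Or.inr (Or.inr (Or.inr (Or.inr (Or.inr (Or.inr (Or.inr (Or.inr (Or.inr (Or.inr
    (Or.inl ⟨i, hi, h⟩)))))))))))
lemma InList.mk13 {α : σ → ℤ} (μ : σ → ℕ) (hμ : IsB C μ) (h : α = degP C μ) : InList C α :=
  Or.inr (Or.inr (Or.inr (Or.inr (Or.inr (Or.inr (Or.inr (Or.inr (Or.inr (Or.inr (Or.inr
    (Or.inr ⟨μ, hμ, h⟩)))))))))))

lemma not_memI_L {v : σ → ℤ} (ha : v C.a ≤ 0) (hb : v C.b < (C.q : ℤ)) : ¬ memI C v := by
  rintro (h | ⟨y, -, -, h1, -⟩ | h | ⟨i, -, h1, -⟩) <;> omega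

lemma not_memI_R {v : σ → ℤ} (ha : v C.a ≤ 0) (hb : v C.b ≤ (C.q : ℤ))
    (hM : ∀ i, C.M i → v i ≤ 0) : ¬ memI C v := by
  rintro (h | ⟨y, -, -, h1, -⟩ | h | ⟨i, hi, h1, h2⟩)
  · omega
  · omega
  · omega
  · have := hM i hi
    omega

lemma nonneg_max (hE : HE C I) {α : σ → ℤ} {γ : Gen C} (hact : Active I α (gen γ)) (γ' : Gen C)
    (x : σ) : 0 ≤ ((max (gen γ x) (gen γ' x) : ℕ) : ℤ) + α x := by
  rw [active_iff hE] at hact
  have h1 := hact.1 x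
  have h2 : ((gen γ x : ℕ) : ℤ) ≤ ((max (gen γ x) (gen γ' x) : ℕ) : ℤ) := by
    exact_mod_cast le_max_left _ _
  omega

lemma kill_of (hE : HE C I) {α : σ → ℤ} {c : Gen C → k} (hc : c ∈ GenData I gen α)
    {γ : Gen C} (hact : Active I α (gen γ)) (γ' : Gen C) (p : σ)
    (hnot : ¬ memI C (fun x => ((max (gen γ x) (gen γ' x) : ℕ) : ℤ) + α x))
    (hp : ((gen γ' p : ℕ) : ℤ) + α p < 0) : c γ = 0 := by
  have hlink : Linked I α (gen γ) (gen γ') := by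
    rw [linked_iff hE]
    exact ⟨nonneg_max hE hact γ', hnot⟩
  have hin : ¬ Active I α (gen γ') := by
    rw [active_iff hE]
    rintro ⟨h4, -⟩
    have := h4 p
    omega
  rw [hc.2 _ _ hlink, hc.1 _ hin]

lemma killL (hE : HE C I) {α : σ → ℤ} {c : Gen C → k} (hc : c ∈ GenData I gen α)
    {γ : Gen C} (hact : Active I α (gen γ)) (γ' : Gen C) (p : σ)
    (ha : ((max (gen γ C.a) (gen γ' C.a) : ℕ) : ℤ) + α C.a ≤ 0)
    (hb : ((max (gen γ C.b) (gen γ' C.b) : ℕ) : ℤ) + α C.b < (C.q : ℤ))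
    (hp : ((gen γ' p : ℕ) : ℤ) + α p < 0) : c γ = 0 :=
  kill_of hE hc hact γ' p (not_memI_L ha hb) hp

lemma killR (hE : HE C I) {α : σ → ℤ} {c : Gen C → k} (hc : c ∈ GenData I gen α)
    {γ : Gen C} (hact : Active I α (gen γ)) (γ' : Gen C) (p : σ)
    (ha : ((max (gen γ C.a) (gen γ' C.a) : ℕ) : ℤ) + α C.a ≤ 0)
    (hb : ((max (gen γ C.b) (gen γ' C.b) : ℕ) : ℤ) + α C.b ≤ (C.q : ℤ))
    (hM : ∀ i, C.M i → ((max (gen γ i) (gen γ' i) : ℕ) : ℤ) + α i ≤ 0)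
    (hp : ((gen γ' p : ℕ) : ℤ) + α p < 0) : c γ = 0 :=
  kill_of hE hc hact γ' p (not_memI_R ha hb hM) hp

/-- The possible shapes of a quadratic monomial outside the ideal. -/
def Shape (C : Cfg σ) (l l' : σ) : Prop :=
  (l = C.a ∧ l' = C.z) ∨ (l = C.b ∧ l' = C.b ∧ 2 ≤ C.q) ∨ (l = C.b ∧ C.M l' ∧ 2 ≤ C.q) ∨
    (l = C.b ∧ C.W l') ∨ (l = C.b ∧ l' = C.z) ∨ (C.M l ∧ C.M l') ∨ (C.M l ∧ C.W l') ∨
    (C.M l ∧ l' = C.z) ∨ (C.W l ∧ C.W l') ∨ (C.W l ∧ l' = C.z) ∨ (l = C.z ∧ l' = C.z)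

end Groth.Agent.Lib.Helper72.Nest4
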