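import Mathlib
import Groth.Agent.Lib.Helper72.Nest4K

/-! Two-block ideal: the other pieces vanish. -/

set_option autoImplicit false
set_option linter.unusedSectionVars false
set_option linter.unusedVariables false
set_option linter.unusedSimpArgs false
set_option linter.unreachableTactic false
set_option linter.unusedTactic false
set_option maxHeartbeats 12800000
universe u

namespace Groth.Agent.Lib.Helper72.Nest4

open W4c1hilbpn MvPolynomial Groth.Agent.Lib.Helper28.HilbT Groth.Agent.Lib.Helper72.HilbDual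
open Groth.Agent.Lib.Helper72.HomGen

variable {σ : Type*} [Fintype σ] [DecidableEq σ] {k : Type u} [Field k]
variable {C : Cfg σ} {I : Ideal (MvPolynomial σ k)}

theorem core_aa (hE : HE C I) (i0 : σ) (hi0 : C.M i0) (j0 : σ) (hj0 : C.W j0)
    {α : σ → ℤ} {c : Gen C → k}
    (hc : c ∈ GenData I gen α) (hγ : c (Gen.aa) ≠ 0)
    (hact : Active I α (gen (Gen.aa : Gen C))) (l l' : σ)
    (hα : ∀ x, α x = (if x = l then 1 else 0) + (if x = l' then 1 else 0) -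
      ((gen (Gen.aa : Gen C) x : ℕ) : ℤ))
    (h : Shape C l l') : InList C α := by
  classical
  rcases h with ⟨rfl, rfl⟩ | ⟨rfl, rfl, hq2⟩ | ⟨rfl, hl', hq2⟩ | ⟨rfl, hl'⟩ | ⟨rfl, rfl⟩ | ⟨hl, hl'⟩ | ⟨hl, hl'⟩ | ⟨hl, rfl⟩ | ⟨hl, hl'⟩ | ⟨hl, rfl⟩ | ⟨rfl, rfl⟩
  · have hnes0a := Cfg.M_ne_W hi0 hj0
    have hnes0b := Cfg.W_ne_M hi0 hj0
    refine InList.mk1 ?_
    funext x
    simp only [hα]
    n4_pt x C.a C.a C.a
  · have hnes0a := Cfg.M_ne_W hi0 hj0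
    have hnes0b := Cfg.W_ne_M hi0 hj0
    exfalso
    apply hγ
    refine killR hE hc hact (.aw j0 hj0) C.a ?_ ?_ ?_ ?_
    · simp only [hα]; n4_auto
    · simp only [hα]; n4_auto
    · intro y hyM; simp only [hα]; n4_pt y j0 j0 j0
    · simp only [hα]; n4_auto
  · have hnes0a := Cfg.M_ne_W hl' hj0
    have hnes0b := Cfg.W_ne_M hl' hj0
    have hnes1a := Cfg.M_ne_W hi0 hj0
    have hnes1b := Cfg.W_ne_M hi0 hj0
    exfalso
    apply hγ
    refine killL hE hc hact (.aw j0 hj0) C.a ?_ ?_ ?_ <;> simp only [hα] <;> n4_auto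
  · have hnes0a := Cfg.M_ne_W hi0 hl'
    have hnes0b := Cfg.W_ne_M hi0 hl'
    have hnes1a := Cfg.M_ne_W hi0 hj0
    have hnes1b := Cfg.W_ne_M hi0 hj0
    exfalso
    apply hγ
    refine killR hE hc hact (.aw j0 hj0) C.a ?_ ?_ ?_ ?_
    · simp only [hα]; n4_auto
    · simp only [hα]; n4_auto
    · intro y hyM; simp only [hα]; n4_pt y l' j0 j0
    · simp only [hα]; n4_auto
  · have hnes0a := Cfg.M_ne_W hi0 hj0
    have hnes0b := Cfg.W_ne_M hi0 hj0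
    exfalso
    apply hγ
    refine killR hE hc hact (.aw j0 hj0) C.a ?_ ?_ ?_ ?_
    · simp only [hα]; n4_auto
    · simp only [hα]; n4_auto
    · intro y hyM; simp only [hα]; n4_pt y j0 j0 j0
    · simp only [hα]; n4_auto
  · have hnes0a := Cfg.M_ne_W hl hj0
    have hnes0b := Cfg.W_ne_M hl hj0
    have hnes1a := Cfg.M_ne_W hl' hj0
    have hnes1b := Cfg.W_ne_M hl' hj0
    have hnes2a := Cfg.M_ne_W hi0 hj0
    have hnes2b := Cfg.W_ne_M hi0 hj0
    exfalso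
    apply hγ
    refine killL hE hc hact (.aw j0 hj0) C.a ?_ ?_ ?_ <;> simp only [hα] <;> n4_auto
  · have hnes0a := Cfg.M_ne_W hl hl'
    have hnes0b := Cfg.W_ne_M hl hl'
    have hnes1a := Cfg.M_ne_W hl hj0
    have hnes1b := Cfg.W_ne_M hl hj0
    have hnes2a := Cfg.M_ne_W hi0 hl'
    have hnes2b := Cfg.W_ne_M hi0 hl'
    have hnes3a := Cfg.M_ne_W hi0 hj0
    have hnes3b := Cfg.W_ne_M hi0 hj0
    exfalso
    apply hγ
    refine killL hE hc hact (.aw j0 hj0) C.a ?_ ?_ ?_ <;> simp only [hα] <;> n4_auto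
  · have hnes0a := Cfg.M_ne_W hl hj0
    have hnes0b := Cfg.W_ne_M hl hj0
    have hnes1a := Cfg.M_ne_W hi0 hj0
    have hnes1b := Cfg.W_ne_M hi0 hj0
    exfalso
    apply hγ
    refine killL hE hc hact (.aw j0 hj0) C.a ?_ ?_ ?_ <;> simp only [hα] <;> n4_auto
  · have hnes0a := Cfg.M_ne_W hi0 hl
    have hnes0b := Cfg.W_ne_M hi0 hl
    have hnes1a := Cfg.M_ne_W hi0 hl'
    have hnes1b := Cfg.W_ne_M hi0 hl'
    have hnes2a := Cfg.M_ne_W hi0 hj0
    have hnes2b := Cfg.W_ne_M hi0 hj0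
    exfalso
    apply hγ
    refine killL hE hc hact (.aw j0 hj0) C.a ?_ ?_ ?_ <;> simp only [hα] <;> n4_auto
  · have hnes0a := Cfg.M_ne_W hi0 hl
    have hnes0b := Cfg.W_ne_M hi0 hl
    have hnes1a := Cfg.M_ne_W hi0 hj0
    have hnes1b := Cfg.W_ne_M hi0 hj0
    exfalso
    apply hγ
    refine killL hE hc hact (.aw j0 hj0) C.a ?_ ?_ ?_ <;> simp only [hα] <;> n4_auto
  · have hnes0a := Cfg.M_ne_W hi0 hj0
    have hnes0b := Cfg.W_ne_M hi0 hj0
    exfalso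
    apply hγ
    refine killL hE hc hact (.aw j0 hj0) C.a ?_ ?_ ?_ <;> simp only [hα] <;> n4_auto

theorem core_ab (hE : HE C I) (i0 : σ) (hi0 : C.M i0) (j0 : σ) (hj0 : C.W j0)
    {α : σ → ℤ} {c : Gen C → k}
    (hc : c ∈ GenData I gen α) (hγ : c (Gen.ab) ≠ 0)
    (hact : Active I α (gen (Gen.ab : Gen C))) (l l' : σ)
    (hα : ∀ x, α x = (if x = l then 1 else 0) + (if x = l' then 1 else 0) -
      ((gen (Gen.ab : Gen C) x : ℕ) : ℤ))
    (h : Shape C l l') : InList C α := by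
  classical
  rcases h with ⟨rfl, rfl⟩ | ⟨rfl, rfl, hq2⟩ | ⟨rfl, hl', hq2⟩ | ⟨rfl, hl'⟩ | ⟨rfl, rfl⟩ | ⟨hl, hl'⟩ | ⟨hl, hl'⟩ | ⟨hl, rfl⟩ | ⟨hl, hl'⟩ | ⟨hl, rfl⟩ | ⟨rfl, rfl⟩
  · have hnes0a := Cfg.M_ne_W hi0 hj0
    have hnes0b := Cfg.W_ne_M hi0 hj0
    refine InList.mk5 ?_
    funext x
    simp only [hα]
    n4_pt x C.a C.a C.a
  · have hnes0a := Cfg.M_ne_W hi0 hj0
    have hnes0b := Cfg.W_ne_M hi0 hj0
    refine InList.mk4 ?_
    funext x
    simp only [hα]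
    n4_pt x C.a C.a C.a
  · have hnes0a := Cfg.M_ne_W hl' hj0
    have hnes0b := Cfg.W_ne_M hl' hj0
    have hnes1a := Cfg.M_ne_W hi0 hj0
    have hnes1b := Cfg.W_ne_M hi0 hj0
    refine InList.mk3 l' (by assumption) ?_
    funext x
    simp only [hα]
    n4_pt x l' l' l'
  · have hnes0a := Cfg.M_ne_W hi0 hl'
    have hnes0b := Cfg.W_ne_M hi0 hl'
    have hnes1a := Cfg.M_ne_W hi0 hj0
    have hnes1b := Cfg.W_ne_M hi0 hj0
    refine InList.mk2 l' (by assumption) ?_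
    funext x
    simp only [hα]
    n4_pt x l' l' l'
  · have hnes0a := Cfg.M_ne_W hi0 hj0
    have hnes0b := Cfg.W_ne_M hi0 hj0
    refine InList.mk1 ?_
    funext x
    simp only [hα]
    n4_pt x C.a C.a C.a
  · have hnes0a := Cfg.M_ne_W hl hj0
    have hnes0b := Cfg.W_ne_M hl hj0
    have hnes1a := Cfg.M_ne_W hl' hj0
    have hnes1b := Cfg.W_ne_M hl' hj0
    have hnes2a := Cfg.M_ne_W hi0 hj0
    have hnes2b := Cfg.W_ne_M hi0 hj0
    exfalso
    apply hγ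
    refine killL hE hc hact (.aw j0 hj0) C.b ?_ ?_ ?_ <;> simp only [hα] <;> n4_auto
  · have hnes0a := Cfg.M_ne_W hl hl'
    have hnes0b := Cfg.W_ne_M hl hl'
    have hnes1a := Cfg.M_ne_W hl hj0
    have hnes1b := Cfg.W_ne_M hl hj0
    have hnes2a := Cfg.M_ne_W hi0 hl'
    have hnes2b := Cfg.W_ne_M hi0 hl'
    have hnes3a := Cfg.M_ne_W hi0 hj0
    have hnes3b := Cfg.W_ne_M hi0 hj0
    exfalso
    apply hγ
    refine killL hE hc hact (.aw j0 hj0) C.b ?_ ?_ ?_ <;> simp only [hα] <;> n4_auto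
  · have hnes0a := Cfg.M_ne_W hl hj0
    have hnes0b := Cfg.W_ne_M hl hj0
    have hnes1a := Cfg.M_ne_W hi0 hj0
    have hnes1b := Cfg.W_ne_M hi0 hj0
    exfalso
    apply hγ
    refine killL hE hc hact (.aw j0 hj0) C.b ?_ ?_ ?_ <;> simp only [hα] <;> n4_auto
  · have hnes0a := Cfg.M_ne_W hi0 hl
    have hnes0b := Cfg.W_ne_M hi0 hl
    have hnes1a := Cfg.M_ne_W hi0 hl'
    have hnes1b := Cfg.W_ne_M hi0 hl'
    have hnes2a := Cfg.M_ne_W hi0 hj0
    have hnes2b := Cfg.W_ne_M hi0 hj0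
    exfalso
    apply hγ
    refine killL hE hc hact (.aw j0 hj0) C.b ?_ ?_ ?_ <;> simp only [hα] <;> n4_auto
  · have hnes0a := Cfg.M_ne_W hi0 hl
    have hnes0b := Cfg.W_ne_M hi0 hl
    have hnes1a := Cfg.M_ne_W hi0 hj0
    have hnes1b := Cfg.W_ne_M hi0 hj0
    exfalso
    apply hγ
    refine killL hE hc hact (.aw j0 hj0) C.b ?_ ?_ ?_ <;> simp only [hα] <;> n4_auto
  · have hnes0a := Cfg.M_ne_W hi0 hj0
    have hnes0b := Cfg.W_ne_M hi0 hj0
    exfalso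
    apply hγ
    refine killL hE hc hact (.aw j0 hj0) C.b ?_ ?_ ?_ <;> simp only [hα] <;> n4_auto

end Groth.Agent.Lib.Helper72.Nest4
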