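import Mathlib
import Groth.Agent.Lib.Helper72.Nest4K
import Groth.Agent.Lib.Helper72.Nest3L

/-! Two-block ideal: the generators `x_b ^ (q + 1)` and `x_b ^ q x_i`. -/

set_option autoImplicit false
set_option linter.unusedSectionVars false
set_option linter.unusedVariables false
set_option linter.unusedSimpArgs false
set_option maxHeartbeats 1600000
universe u

namespace Groth.Agent.Lib.Helper72.Nest4

open W4c1hilbpn MvPolynomial Groth.Agent.Lib.Helper28.HilbT Groth.Agent.Lib.Helper72.HilbDual
open Groth.Agent.Lib.Helper72.HomGen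

variable {σ : Type*} [Fintype σ] [DecidableEq σ] {k : Type u} [Field k]
variable {C : Cfg σ} {I : Ideal (MvPolynomial σ k)}

/-- Positive part away from a pivot. -/
lemma exists_mu (α : σ → ℤ) (p : σ) (hsum : ∑ x, α x = 0) (hX : ∀ x, x ≠ p → 0 ≤ α x) :
    ∃ μ : σ → ℕ, μ p = 0 ∧ (∀ x, x ≠ p → (μ x : ℤ) = α x) ∧
      ((∑ x, μ x : ℕ) : ℤ) = -α p := by
  refine ⟨fun x => if x = p then 0 else (α x).toNat, by simp, ?_, ?_⟩
  · intro x hx
    simp only [if_neg hx]
    exact Int.toNat_of_nonneg (hX x hx)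
  · have hμ : ∀ x, α x = ((if x = p then 0 else (α x).toNat : ℕ) : ℤ) +
        (if x = p then α p else 0) := by
      intro x
      by_cases hx : x = p
      · subst hx; simp
      · simp only [if_neg hx]
        rw [Int.toNat_of_nonneg (hX x hx)]; simp
    have h5 : ∑ x, α x = ∑ x, (((if x = p then 0 else (α x).toNat : ℕ) : ℤ) +
        (if x = p then α p else 0)) := Finset.sum_congr rfl (fun x _ => hμ x)
    rw [hsum, Finset.sum_add_distrib, Finset.sum_ite_eq'] at h5
    simp only [Finset.mem_univ, if_true] at h5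
    rw [Nat.cast_sum]
    omega

lemma single_of_sum_one (μ : σ → ℕ) (h : ∑ x, μ x = 1) :
    ∃ y, μ y = 1 ∧ ∀ x, x ≠ y → μ x = 0 := by
  have hex : ∃ y, 1 ≤ μ y := by
    by_contra hcon
    push Not at hcon
    have : ∑ x, μ x = 0 := Finset.sum_eq_zero (fun x _ => by have := hcon x; omega)
    omega
  obtain ⟨y, hy⟩ := hex
  have hle : μ y ≤ ∑ x, μ x :=
    Finset.single_le_sum (f := μ) (fun _ _ => Nat.zero_le _) (Finset.mem_univ y)
  have hy1 : μ y = 1 := by omega
  exact ⟨y, hy1, Nest3.eq_zero_of_sum_eq μ y (by rw [h, hy1])⟩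

lemma sum_four (f : σ → ℤ) {a b c z : σ} (hab : a ≠ b) (hac : a ≠ c) (haz : a ≠ z)
    (hbc : b ≠ c) (hbz : b ≠ z) (hcz : c ≠ z)
    (h : ∀ x, x ≠ a → x ≠ b → x ≠ c → x ≠ z → f x = 0) : ∑ x, f x = f a + f b + f c + f z := by
  have key : ∀ x, f x = (if x = a then f a else 0) + (if x = b then f b else 0) +
      (if x = c then f c else 0) + (if x = z then f z else 0) := by
    intro x
    by_cases hxa : x = a
    · subst hxa
      rw [if_pos rfl, if_neg hab, if_neg hac, if_neg haz]; ring
    by_cases hxb : x = b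
    · subst hxb
      rw [if_neg hxa, if_pos rfl, if_neg hbc, if_neg hbz]; ring
    by_cases hxc : x = c
    · subst hxc
      rw [if_neg hxa, if_neg hxb, if_pos rfl, if_neg hcz]; ring
    by_cases hxz : x = z
    · subst hxz
      rw [if_neg hxa, if_neg hxb, if_neg hxc, if_pos rfl]; ring
    · rw [if_neg hxa, if_neg hxb, if_neg hxc, if_neg hxz, h x hxa hxb hxc hxz]; ring
  rw [Finset.sum_congr rfl (fun x _ => key x), Finset.sum_add_distrib, Finset.sum_add_distrib,
    Finset.sum_add_distrib, Finset.sum_ite_eq', Finset.sum_ite_eq', Finset.sum_ite_eq',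
    Finset.sum_ite_eq']
  simp

/-- The outcome `α = e_y - e_p` for `y` in `W ∪ {z}` or `M`. -/
lemma eq_single_sub (α : σ → ℤ) (p : σ) (μ : σ → ℕ) (hμp : μ p = 0)
    (hμx : ∀ x, x ≠ p → (μ x : ℤ) = α x) (hp : α p = -1) (y : σ) (hy1 : μ y = 1)
    (hy0 : ∀ x, x ≠ y → μ x = 0) : α = Pi.single y 1 - Pi.single p 1 := by
  have hyp : y ≠ p := by
    rintro rfl
    omega
  funext x
  simp only [Pi.sub_apply, Pi.single_apply]
  by_cases hx : x = p
  · subst hx
    rw [if_neg (Ne.symm hyp), if_pos rfl, hp]; ring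
  · rw [if_neg hx, ← hμx x hx]
    by_cases hxy : x = y
    · subst hxy
      rw [if_pos rfl, hy1]; simp
    · rw [if_neg hxy, hy0 x hxy]; simp

theorem core_bb (hE : HE C I) (i0 : σ) (hi0 : C.M i0) {α : σ → ℤ} {c : Gen C → k}
    (hc : c ∈ GenData I gen α)
    (hγ : c Gen.bb ≠ 0) (hact : Active I α (gen (Gen.bb : Gen C))) (hsum : ∑ x, α x = 0) :
    InList C α := by
  classical
  have hq1 := C.hq
  obtain ⟨hnn, hnot⟩ := (active_iff hE α _).mp hact
  unfold memI at hnot
  push Not at hnot
  obtain ⟨w1, w2, w3, w4⟩ := hnot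
  simp only [gen_bb] at hnn w1 w2 w3 w4
  simp only [if_neg C.hab, if_true] at w1 w2 w3 w4
  have hA0 : 0 ≤ α C.a := by
    have := hnn C.a
    rw [if_neg C.hab] at this
    simpa using this
  have hA2 : α C.a < 2 := by simpa using w1
  have hB0 : 0 ≤ ((C.q : ℤ) + 1) + α C.b := by
    have := hnn C.b
    rw [if_pos rfl] at this
    push_cast at this
    exact this
  have hB1 : α C.b < 0 := by
    push_cast at w3
    omega
  have hX : ∀ x, x ≠ C.b → 0 ≤ α x := by
    intro x hx
    have := hnn x
    rw [if_neg hx] at this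
    simpa using this
  by_cases hA1 : 1 ≤ α C.a
  · -- `α = d11`
    have hAe : α C.a = 1 := by omega
    have hBe : α C.b = -((C.q : ℤ) + 1) := by
      have := w2 C.b C.hab.symm C.hbz
      rw [if_pos rfl] at this
      have h5 := this (by simpa using hA1)
      push_cast at h5
      omega
    have hMe : ∀ x, x ≠ C.a → x ≠ C.b → x ≠ C.z → α x = 0 := by
      intro x hxa hxb hxz
      have := w2 x hxa hxz
      rw [if_neg hxb] at this
      have h5 := this (by simpa using hA1)
      have h6 := hX x hxb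
      simp at h5
      omega
    have hZe : α C.z = (C.q : ℤ) := by
      have := Nest3.sum_three α C.hab C.haz C.hbz hMe
      rw [hsum, hAe, hBe] at this
      omega
    refine InList.mk11 ?_
    funext x
    rcases C.hcov x with rfl | rfl | rfl | hx | hx
    · rw [hAe]; simp [d11, Pi.single_apply]
    · rw [hBe]; simp [d11, Pi.single_apply]
    · rw [hZe]; simp [d11, Pi.single_apply]
    · rw [hMe x (Cfg.M_ne_a hx) (Cfg.M_ne_b hx) (Cfg.M_ne_z hx)]
      simp [d11, Pi.single_apply, Cfg.M_ne_a hx, Cfg.M_ne_b hx, Cfg.M_ne_z hx]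
    · rw [hMe x (Cfg.W_ne_a hx) (Cfg.W_ne_b hx) (Cfg.W_ne_z hx)]
      simp [d11, Pi.single_apply, Cfg.W_ne_a hx, Cfg.W_ne_b hx, Cfg.W_ne_z hx]
  · have hAe : α C.a = 0 := by omega
    obtain ⟨μ, hμb, hμx, hS⟩ := exists_mu α C.b hsum hX
    have hμa : μ C.a = 0 := by
      have := hμx C.a C.hab
      rw [hAe] at this
      exact_mod_cast this
    have hdeg : α = degP C μ := by
      funext x
      unfold degP
      rw [hS]
      by_cases hx : x = C.b
      · subst hx
        rw [if_pos rfl, hμb]; simp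
      · rw [if_neg hx, hμx x hx]; simp
    by_cases hj1 : ∑ x, μ x = 1
    · -- `α = e_y - e_b`
      obtain ⟨y, hy1, hy0⟩ := single_of_sum_one μ hj1
      have hBe : α C.b = -1 := by rw [hj1] at hS; omega
      have hform := eq_single_sub α C.b μ hμb hμx hBe y hy1 hy0
      have hyM : ¬ C.M y := by
        intro hy
        have := w4 y hy (by push_cast; omega)
        rw [if_neg (Cfg.M_ne_b hy), ← hμx y (Cfg.M_ne_b hy), hy1] at this
        simp at this
      rcases C.hcov y with rfl | rfl | rfl | hy | hy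
      · omega
      · omega
      · exact InList.mk5 hform
      · exact absurd hy hyM
      · exact InList.mk6 y hy hform
    · by_cases hj2 : ∑ x, μ x ≤ C.q
      · have h2 : 2 ≤ ∑ x, μ x := by
          have : (1 : ℤ) ≤ ((∑ x, μ x : ℕ) : ℤ) := by rw [hS]; omega
          have : 1 ≤ ∑ x, μ x := by exact_mod_cast this
          omega
        exact InList.mk13 μ ⟨hμa, hμb, h2, hj2⟩ hdeg
      · exfalso
        apply hγ
        have hBe : α C.b = -((C.q : ℤ) + 1) := by
          have h5 : (C.q : ℤ) + 1 ≤ ((∑ x, μ x : ℕ) : ℤ) := by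
            have : C.q + 1 ≤ ∑ x, μ x := by omega
            exact_mod_cast this
          rw [hS] at h5
          omega
        refine killL hE hc hact (.bm i0 hi0) C.b ?_ ?_ ?_
        · rw [gen_bb, gen_bm, if_neg C.hab, if_neg C.hab, if_neg (Cfg.a_ne_M hi0), hAe]
          simp
        · rw [gen_bb, gen_bm, if_pos rfl, if_pos rfl, if_neg (Cfg.b_ne_M hi0), hBe]
          have h5 : max (C.q + 1) (C.q + 0) = C.q + 1 := by omega
          rw [h5]
          push_cast
          omega
        · rw [gen_bm, if_pos rfl, if_neg (Cfg.b_ne_M hi0), hBe]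
          push_cast
          omega

end Groth.Agent.Lib.Helper72.Nest4
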