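import Mathlib
import Groth.Agent.Lib.Helper72.Nest4O

/-! Two-block ideal: the generators `x_b ^ q x_i`. -/

set_option autoImplicit false
set_option linter.unusedSectionVars false
set_option linter.unusedVariables false
set_option linter.unusedSimpArgs false
set_option maxHeartbeats 1600000
universe u

namespace Groth.Agent.Lib.Helper72.Nest4

open W4c1hilbpn MvPolynomial Groth.Agent.Lib.Helper28.HilbT Groth.Agent.Lib.Helper72.HilbDual
open Groth.Agent.Lib.Helper72.HomGen

variable {σ : Type*} [Fintype σ] [DecidableEq σ] {k : Type u} [Field k]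
variable {C : Cfg σ} {I : Ideal (MvPolynomial σ k)}

theorem core_bm (hE : HE C I) (i : σ) (hi : C.M i) {α : σ → ℤ} {c : Gen C → k}
    (hc : c ∈ GenData I gen α)
    (hγ : c (Gen.bm i hi) ≠ 0) (hact : Active I α (gen (Gen.bm i hi : Gen C)))
    (hsum : ∑ x, α x = 0) : InList C α := by
  classical
  have hq1 := C.hq
  have hia := Cfg.M_ne_a hi
  have hib := Cfg.M_ne_b hi
  have hiz := Cfg.M_ne_z hi
  obtain ⟨hnn, hnot⟩ := (active_iff hE α _).mp hact
  unfold memI at hnot
  push Not at hnot
  obtain ⟨w1, w2, w3, w4⟩ := hnot
  simp only [gen_bm] at hnn w1 w2 w3 w4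
  simp only [if_neg C.hab, if_neg (Cfg.a_ne_M hi), if_true, if_neg (Cfg.b_ne_M hi), add_zero,
    Nat.cast_zero, zero_add] at w1 w2 w3 w4
  have hA0 : 0 ≤ α C.a := by
    have := hnn C.a
    rw [if_neg C.hab, if_neg (Cfg.a_ne_M hi)] at this
    simpa using this
  have hA2 : α C.a < 2 := w1
  have hB0 : 0 ≤ (C.q : ℤ) + α C.b := by
    have := hnn C.b
    rw [if_pos rfl, if_neg (Cfg.b_ne_M hi)] at this
    simpa using this
  have hB1 : α C.b ≤ 0 := by omega
  have hI0 : 0 ≤ 1 + α i := by
    have := hnn i
    rw [if_neg hib, if_pos rfl] at this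
    simpa using this
  have hX : ∀ x, x ≠ C.b → x ≠ i → 0 ≤ α x := by
    intro x hx hx'
    have := hnn x
    rw [if_neg hx, if_neg hx'] at this
    simpa using this
  by_cases hA1 : 1 ≤ α C.a
  · -- `α = d12 i`
    have hAe : α C.a = 1 := by omega
    have hBe : α C.b = -(C.q : ℤ) := by
      have := w2 C.b C.hab.symm C.hbz hA1
      rw [if_pos rfl, if_neg (Cfg.b_ne_M hi)] at this
      push_cast at this
      omega
    have hIe : α i = -1 := by
      have := w2 i hia hiz hA1
      rw [if_neg hib, if_pos rfl] at this
      push_cast at this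
      omega
    have hMe : ∀ x, x ≠ C.a → x ≠ C.b → x ≠ i → x ≠ C.z → α x = 0 := by
      intro x hxa hxb hxi hxz
      have := w2 x hxa hxz hA1
      rw [if_neg hxb, if_neg hxi] at this
      have h6 := hX x hxb hxi
      simp at this
      omega
    have hZe : α C.z = (C.q : ℤ) := by
      have := sum_four α C.hab (Ne.symm hia) C.haz (Ne.symm hib) C.hbz hiz hMe
      rw [hsum, hAe, hBe, hIe] at this
      omega
    refine InList.mk12 i hi ?_
    funext x
    by_cases hxa : x = C.a
    · subst hxa
      rw [hAe]; simp [d12, Pi.single_apply, Ne.symm hia]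
    by_cases hxb : x = C.b
    · subst hxb
      rw [hBe]; simp [d12, Pi.single_apply, Ne.symm hib]
    by_cases hxz : x = C.z
    · subst hxz
      rw [hZe]; simp [d12, Pi.single_apply, Ne.symm hiz]
    by_cases hxi : x = i
    · subst hxi
      rw [hIe]; simp [d12, Pi.single_apply, hia, hib, hiz]
    · rw [hMe x hxa hxb hxi hxz]
      simp [d12, Pi.single_apply, hxa, hxb, hxz, hxi]
  · have hAe : α C.a = 0 := by omega
    by_cases hBq : α C.b = 0
    · -- `α = e_y - e_i`
      have hw4 : ∀ i', C.M i' → ((if i' = C.b then C.q else 0) + (if i' = i then 1 else 0) : ℕ) +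
          α i' < 1 := fun i' hi' => w4 i' hi' (by rw [hBq]; simp)
      have hIe : α i = -1 := by
        have := hw4 i hi
        rw [if_neg hib, if_pos rfl] at this
        push_cast at this
        omega
      have hXi : ∀ x, x ≠ i → 0 ≤ α x := by
        intro x hx
        by_cases hxb : x = C.b
        · subst hxb; omega
        · exact hX x hxb hx
      obtain ⟨μ, hμi, hμx, hS⟩ := exists_mu α i hsum hXi
      have hj1 : ∑ x, μ x = 1 := by
        rw [hIe] at hS
        have : ((∑ x, μ x : ℕ) : ℤ) = 1 := by omega
        exact_mod_cast this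
      obtain ⟨y, hy1, hy0⟩ := single_of_sum_one μ hj1
      have hform := eq_single_sub α i μ hμi hμx hIe y hy1 hy0
      have hyi : y ≠ i := by
        rintro rfl
        omega
      have hαy : α y = 1 := by
        rw [← hμx y hyi, hy1]; simp
      rcases C.hcov y with rfl | rfl | rfl | hy | hy
      · omega
      · omega
      · exact InList.mk8 i hi hform
      · exfalso
        have := hw4 y hy
        rw [if_neg (Cfg.M_ne_b hy), if_neg hyi, hαy] at this
        simp at this
      · exact InList.mk9 i y hi hy hform
    · have hBneg : α C.b ≤ -1 := by omega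
      by_cases hI : 0 ≤ α i
      · have hXb : ∀ x, x ≠ C.b → 0 ≤ α x := by
          intro x hx
          by_cases hxi : x = i
          · subst hxi; exact hI
          · exact hX x hx hxi
        obtain ⟨μ, hμb, hμx, hS⟩ := exists_mu α C.b hsum hXb
        have hμa : μ C.a = 0 := by
          have := hμx C.a C.hab
          rw [hAe] at this
          exact_mod_cast this
        have hdeg : α = degP C μ := by
          funext x
          unfold degP
          rw [hS]
          by_cases hx : x = C.b
          · subst hx
            rw [if_pos rfl, hμb]; simp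
          · rw [if_neg hx, hμx x hx]; simp
        have hjq : ∑ x, μ x ≤ C.q := by
          have : ((∑ x, μ x : ℕ) : ℤ) ≤ (C.q : ℤ) := by rw [hS]; omega
          exact_mod_cast this
        have hjpos : 1 ≤ ∑ x, μ x := by
          have : (1 : ℤ) ≤ ((∑ x, μ x : ℕ) : ℤ) := by rw [hS]; omega
          exact_mod_cast this
        by_cases hj1 : ∑ x, μ x = 1
        · obtain ⟨y, hy1, hy0⟩ := single_of_sum_one μ hj1
          have hBe : α C.b = -1 := by rw [hj1] at hS; omega
          have hform := eq_single_sub α C.b μ hμb hμx hBe y hy1 hy0
          rcases C.hcov y with rfl | rfl | rfl | hy | hy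
          · omega
          · omega
          · exact InList.mk5 hform
          · exact InList.mk7 y hy hform
          · exact InList.mk6 y hy hform
        · exact InList.mk13 μ ⟨hμa, hμb, by omega, hjq⟩ hdeg
      · have hIe : α i = -1 := by omega
        exfalso
        apply hγ
        by_cases hex : ∃ i', C.M i' ∧ 1 ≤ α i'
        · obtain ⟨i', hi', h1⟩ := hex
          have hne : i' ≠ i := by
            rintro rfl
            omega
          refine killL hE hc hact (.bm i' hi') i ?_ ?_ ?_
          · simp only [gen_bm, if_neg C.hab, if_neg (Cfg.a_ne_M hi), if_neg (Cfg.a_ne_M hi'), hAe]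
            simp
          · simp only [gen_bm, if_true, if_neg (Cfg.b_ne_M hi), if_neg (Cfg.b_ne_M hi'), add_zero,
              max_self]
            omega
          · simp only [gen_bm, if_neg hib, if_neg (Ne.symm hne), hIe]
            simp
        · push Not at hex
          refine killR hE hc hact .bb i ?_ ?_ ?_ ?_
          · simp only [gen_bm, gen_bb, if_neg C.hab, if_neg (Cfg.a_ne_M hi), hAe]
            simp
          · simp only [gen_bm, gen_bb, if_true, if_neg (Cfg.b_ne_M hi)]
            have h5 : max (C.q + 0) (C.q + 1) = C.q + 1 := by omega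
            rw [h5]
            push_cast
            omega
          · intro i' hi'
            simp only [gen_bm, gen_bb, if_neg (Cfg.M_ne_b hi')]
            by_cases hii : i' = i
            · subst hii
              rw [if_pos rfl, hIe]; simp
            · rw [if_neg hii]
              have := hex i' hi'
              simp
              omega
          · simp only [gen_bb, if_neg hib, hIe]
            simp

end Groth.Agent.Lib.Helper72.Nest4
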