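import Mathlib
import Groth.Agent.Lib.Helper72.Nest4L
import Groth.Agent.Lib.Helper72.Nest4M
import Groth.Agent.Lib.Helper72.Nest4N
import Groth.Agent.Lib.Helper72.Nest4P

/-! Two-block ideal: classification of the pieces. -/

set_option autoImplicit false
set_option linter.unusedSectionVars false
set_option linter.unusedVariables false
set_option linter.unusedSimpArgs false
set_option linter.unusedTactic false
set_option linter.unreachableTactic false
set_option maxHeartbeats 6400000
universe u

namespace Groth.Agent.Lib.Helper72.Nest4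

open W4c1hilbpn MvPolynomial Groth.Agent.Lib.Helper28.HilbT Groth.Agent.Lib.Helper72.HilbDual
open Groth.Agent.Lib.Helper72.HomGen

variable {σ : Type*} [Fintype σ] [DecidableEq σ] {k : Type u} [Field k]
variable {C : Cfg σ} {I : Ideal (MvPolynomial σ k)}

lemma sum_gen_two (γ : Gen C) (hγ : γ.fst = C.a) : ∑ x, ((gen γ x : ℕ) : ℤ) = 2 := by
  cases γ with
  | aa =>
    simp only [gen_aa, Nat.cast_ite, Nat.cast_zero]
    rw [Finset.sum_ite_eq']
    simp
  | ab =>
    simp only [gen_ab, Nat.cast_add, Nat.cast_ite, Nat.cast_one, Nat.cast_zero]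
    rw [Finset.sum_add_distrib, Finset.sum_ite_eq', Finset.sum_ite_eq']
    simp
  | bb => exact absurd hγ C.hab.symm
  | am i hi =>
    simp only [gen_am, Nat.cast_add, Nat.cast_ite, Nat.cast_one, Nat.cast_zero]
    rw [Finset.sum_add_distrib, Finset.sum_ite_eq', Finset.sum_ite_eq']
    simp
  | aw i hi =>
    simp only [gen_aw, Nat.cast_add, Nat.cast_ite, Nat.cast_one, Nat.cast_zero]
    rw [Finset.sum_add_distrib, Finset.sum_ite_eq', Finset.sum_ite_eq']
    simp
  | bm i hi => exact absurd hγ C.hab.symm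

lemma shape_of_not_memI {m : σ → ℤ} {l l' : σ}
    (hm : ∀ x, m x = (if x = l then 1 else 0) + (if x = l' then 1 else 0))
    (hnot : ¬ memI C m) : Shape C l l' ∨ Shape C l' l := by
  have hq1 := C.hq
  unfold memI at hnot
  push Not at hnot
  obtain ⟨w1, w2, w3, w4⟩ := hnot
  have c1 := w2 l
  have c2 := w2 l'
  have c3 := w4 l
  have c4 := w4 l'
  clear w2 w4
  simp only [hm] at w1 w3 c1 c2 c3 c4
  unfold Shape
  rcases C.hcov l with rfl | rfl | rfl | hl | hl <;>
    rcases C.hcov l' with rfl | rfl | rfl | hl' | hl' <;>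
      (try have hne1 := Cfg.M_ne_W hl hl'
       try have hne2 := Cfg.W_ne_M hl hl'
       try have hne3 := Cfg.M_ne_W hl' hl
       try have hne4 := Cfg.W_ne_M hl' hl
       simp_all <;> try omega)

theorem inList_of_ne_bot (hE : HE C I) (i0 : σ) (hi0 : C.M i0) (j0 : σ) (hj0 : C.W j0)
    (hcase : (∃ j j', C.W j ∧ C.W j' ∧ j ≠ j') ∨ 3 ≤ C.q) {α : σ → ℤ}
    (hsum : ∑ x, α x = 0) (hne : GenData I (gen (C := C)) α ≠ ⊥) : InList C α := by
  rw [Ne, Submodule.eq_bot_iff] at hne
  push Not at hne
  obtain ⟨c, hc, hc0⟩ := hne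
  have hex : ∃ γ, c γ ≠ 0 := by
    by_contra hcon
    push Not at hcon
    exact hc0 (funext hcon)
  obtain ⟨γ, hγ⟩ := hex
  have hact : Active I α (gen γ) := by
    by_contra h
    exact hγ (hc.1 γ h)
  by_cases hfst : γ.fst = C.a
  · obtain ⟨hnn, hnot⟩ := (active_iff hE α (gen γ)).mp hact
    obtain ⟨l, l', hm⟩ := Nest.exists_two_singles (fun x => ((gen γ x : ℕ) : ℤ) + α x) hnn (by
      rw [Finset.sum_add_distrib, sum_gen_two γ hfst, hsum]; norm_num)
    have hα : ∀ x, α x = (if x = l then 1 else 0) + (if x = l' then 1 else 0) -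
        ((gen γ x : ℕ) : ℤ) := fun x => by
      have := hm x
      omega
    have hα' : ∀ x, α x = (if x = l' then 1 else 0) + (if x = l then 1 else 0) -
        ((gen γ x : ℕ) : ℤ) := fun x => by
      rw [hα x]; ring
    have hk : ∀ j, (∃ j', C.W j' ∧ j' ≠ j) ∨ 3 ≤ C.q := by
      intro j
      rcases hcase with ⟨j1, j2, h1, h2, h12⟩ | h
      · left
        by_cases h : j1 = j
        · exact ⟨j2, h2, fun h' => h12 (h.trans h'.symm)⟩
        · exact ⟨j1, h1, h⟩
      · exact Or.inr h
    rcases shape_of_not_memI hm hnot with h | h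
    · cases γ with
      | aa => exact core_aa hE i0 hi0 j0 hj0 hc hγ hact l l' hα h
      | ab => exact core_ab hE i0 hi0 j0 hj0 hc hγ hact l l' hα h
      | bb => exact absurd hfst C.hab.symm
      | am i hi => exact core_am hE i0 hi0 j0 hj0 hc i hi hγ hact l l' hα h
      | aw j hj => exact core_aw hE i0 hi0 j0 hj0 hc j hj (hk j) hγ hact l l' hα h
      | bm i hi => exact absurd hfst C.hab.symm
    · cases γ with
      | aa => exact core_aa hE i0 hi0 j0 hj0 hc hγ hact l' l hα' h
      | ab => exact core_ab hE i0 hi0 j0 hj0 hc hγ hact l' l hα' h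
      | bb => exact absurd hfst C.hab.symm
      | am i hi => exact core_am hE i0 hi0 j0 hj0 hc i hi hγ hact l' l hα' h
      | aw j hj => exact core_aw hE i0 hi0 j0 hj0 hc j hj (hk j) hγ hact l' l hα' h
      | bm i hi => exact absurd hfst C.hab.symm
  · cases γ with
    | aa => exact absurd rfl hfst
    | ab => exact absurd rfl hfst
    | bb => exact core_bb hE i0 hi0 hc hγ hact hsum
    | am i hi => exact absurd rfl hfst
    | aw j hj => exact absurd rfl hfst
    | bm i hi => exact core_bm hE i hi hc hγ hact hsum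

end Groth.Agent.Lib.Helper72.Nest4
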