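import Mathlib
import Groth.Agent.Lib.Helper72.Nest4O

/-! Two-block ideal: counting the family `μ - j e_b`. -/

set_option autoImplicit false
set_option linter.unusedSectionVars false
set_option linter.unusedVariables false
set_option linter.unusedSimpArgs false
set_option maxHeartbeats 1600000
universe u

namespace Groth.Agent.Lib.Helper72.Nest4

open W4c1hilbpn MvPolynomial Groth.Agent.Lib.Helper28.HilbT Groth.Agent.Lib.Helper72.HilbDual
open Groth.Agent.Lib.Helper72.HomGen

variable {σ : Type*} [Fintype σ] [DecidableEq σ] {k : Type u} [Field k]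
variable (C : Cfg σ) {I : Ideal (MvPolynomial σ k)}

/-- Exponents in the variables other than `a`, of total degree `q`. -/
noncomputable def AA : Finset (σ →₀ ℕ) := (Finset.univ.erase C.a).finsuppAntidiag C.q

lemma mem_AA (f : σ →₀ ℕ) : f ∈ AA C ↔ f C.a = 0 ∧ ∑ x, f x = C.q := by
  unfold AA
  rw [Finset.mem_finsuppAntidiag]
  constructor
  · rintro ⟨h1, h2⟩
    have ha : f C.a = 0 := by
      by_contra hne
      have : C.a ∈ f.support := Finsupp.mem_support_iff.mpr hne
      exact (Finset.mem_erase.mp (h2 this)).1 rfl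
    refine ⟨ha, ?_⟩
    rw [← Finset.add_sum_erase Finset.univ (fun x => f x) (Finset.mem_univ C.a), ha, zero_add]
    exact h1
  · rintro ⟨ha, h1⟩
    refine ⟨?_, ?_⟩
    · rw [← Finset.add_sum_erase Finset.univ (fun x => f x) (Finset.mem_univ C.a), ha,
        zero_add] at h1
      exact h1
    · intro x hx
      rw [Finset.mem_erase]
      refine ⟨?_, Finset.mem_univ _⟩
      rintro rfl
      exact (Finsupp.mem_support_iff.mp hx) ha

lemma card_AA : (AA C).card = Nat.choose (Fintype.card σ - 1 + C.q - 1) C.q := by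
  unfold AA
  rw [Finset.card_finsuppAntidiag_nat_eq_choose, Finset.card_erase_of_mem (Finset.mem_univ _),
    Finset.card_univ]

/-- The family. -/
noncomputable def BB : Finset (σ →₀ ℕ) := (AA C).filter (fun f => f C.b + 2 ≤ C.q)

lemma mem_BB (f : σ →₀ ℕ) : f ∈ BB C ↔ (f C.a = 0 ∧ ∑ x, f x = C.q) ∧ f C.b + 2 ≤ C.q := by
  unfold BB
  rw [Finset.mem_filter, mem_AA]

/-- The exceptional exponents. -/
noncomputable def fy (y : σ) : σ →₀ ℕ := Finsupp.single C.b (C.q - 1) + Finsupp.single y 1

lemma fy_apply (y x : σ) :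
    fy C y x = (if x = C.b then C.q - 1 else 0) + (if x = y then 1 else 0) := by
  unfold fy
  rw [Finsupp.add_apply, Finsupp.single_apply, Finsupp.single_apply]
  simp only [eq_comm]

lemma fy_injective : Function.Injective (fy C) := by
  intro y y' h
  by_contra hne
  have := congrArg (fun f => f y) h
  simp only [fy_apply, if_true, if_neg hne] at this
  omega

lemma filter_not : (AA C).filter (fun f => ¬ (f C.b + 2 ≤ C.q)) =
    (Finset.univ.erase C.a).image (fy C) := by
  have hq1 := C.hq
  ext f
  rw [Finset.mem_filter, mem_AA, Finset.mem_image]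
  constructor
  · rintro ⟨⟨ha, hs⟩, hP⟩
    -- `g = f - (q - 1) e_b`
    obtain ⟨g, hg⟩ : ∃ g : σ → ℕ, g = fun x => if x = C.b then f C.b - (C.q - 1) else f x :=
      ⟨_, rfl⟩
    have hfg : ∀ x, f x = (if x = C.b then C.q - 1 else 0) + g x := by
      intro x
      rw [hg]
      by_cases hx : x = C.b
      · subst hx
        simp only [if_true]
        omega
      · simp only [if_neg hx]
        omega
    have hsum : ∑ x, g x = 1 := by
      have h5 : ∑ x, f x = ∑ x, ((if x = C.b then C.q - 1 else 0) + g x) :=
        Finset.sum_congr rfl (fun x _ => hfg x)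
      rw [hs, Finset.sum_add_distrib, Finset.sum_ite_eq'] at h5
      simp only [Finset.mem_univ, if_true] at h5
      omega
    obtain ⟨y, hy1, hy0⟩ := single_of_sum_one g hsum
    refine ⟨y, ?_, ?_⟩
    · rw [Finset.mem_erase]
      refine ⟨?_, Finset.mem_univ _⟩
      rintro rfl
      have := hfg C.a
      rw [ha, if_neg C.hab, hy1] at this
      omega
    · ext x
      rw [fy_apply, hfg x]
      by_cases hx : x = y
      · subst hx
        rw [hy1, if_pos rfl]
      · rw [hy0 x hx, if_neg hx]
  · rintro ⟨y, hy, rfl⟩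
    have hya : y ≠ C.a := (Finset.mem_erase.mp hy).1
    refine ⟨⟨?_, ?_⟩, ?_⟩
    · rw [fy_apply, if_neg C.hab, if_neg (Ne.symm hya)]
    · simp only [fy_apply]
      rw [Finset.sum_add_distrib, Finset.sum_ite_eq', Finset.sum_ite_eq']
      simp
      omega
    · rw [fy_apply, if_pos rfl]
      omega

lemma card_BB : (BB C).card + (Fintype.card σ - 1) = (AA C).card := by
  unfold BB
  rw [← Finset.card_filter_add_card_filter_not (s := AA C) (fun f => f C.b + 2 ≤ C.q),
    filter_not, Finset.card_image_of_injective _ (fy_injective C),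
    Finset.card_erase_of_mem (Finset.mem_univ _), Finset.card_univ]

end Groth.Agent.Lib.Helper72.Nest4
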