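import Mathlib
import Groth.Agent.Lib.Helper72.Nest4Q
import Groth.Agent.Lib.Helper72.Nest4R
import Groth.Agent.Lib.Helper72.Nest4C
import Groth.Agent.Lib.Helper72.Nest4D
import Groth.Agent.Lib.Helper72.Nest4E
import Groth.Agent.Lib.Helper72.Nest4F
import Groth.Agent.Lib.Helper72.Nest4G
import Groth.Agent.Lib.Helper72.Nest4H
import Groth.Agent.Lib.Helper72.Nest4I

/-! Two-block ideal: assembling the count. -/

set_option autoImplicit false
set_option linter.unusedSectionVars false
set_option linter.unusedVariables false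
set_option linter.unusedSimpArgs false
set_option linter.unusedTactic false
set_option linter.unreachableTactic false
set_option maxHeartbeats 6400000
universe u

namespace Groth.Agent.Lib.Helper72.Nest4

open W4c1hilbpn MvPolynomial Groth.Agent.Lib.Helper28.HilbT Groth.Agent.Lib.Helper72.HilbDual
open Groth.Agent.Lib.Helper72.HomGen

variable {σ : Type*} [Fintype σ] [DecidableEq σ] {k : Type u} [Field k]
variable (C : Cfg σ) [DecidablePred C.M] [DecidablePred C.W] {I : Ideal (MvPolynomial σ k)}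

/-- The middle variables. -/
abbrev Mid : Type _ := {i : σ // C.M i}

/-- The tail variables. -/
abbrev WW : Type _ := {i : σ // C.W i}

/-- Index set of the non-zero pieces of bounded shape. -/
abbrev Idx0 : Type _ :=
  Unit ⊕ WW C ⊕ Mid C ⊕ Unit ⊕ Unit ⊕ WW C ⊕ Mid C ⊕ Mid C ⊕ (Mid C × WW C) ⊕ WW C ⊕ Unit ⊕ Mid C

/-- The degree attached to an index. -/
def degOf0 : Idx0 C → σ → ℤ
  | .inl _ => d1 C
  | .inr (.inl i) => d2 C i.1
  | .inr (.inr (.inl i)) => d2 C i.1
  | .inr (.inr (.inr (.inl _))) => d4 C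
  | .inr (.inr (.inr (.inr (.inl _)))) => d5 C
  | .inr (.inr (.inr (.inr (.inr (.inl i))))) => d6 C i.1
  | .inr (.inr (.inr (.inr (.inr (.inr (.inl i)))))) => d6 C i.1
  | .inr (.inr (.inr (.inr (.inr (.inr (.inr (.inl i))))))) => d8 C i.1
  | .inr (.inr (.inr (.inr (.inr (.inr (.inr (.inr (.inl i)))))))) => d9 C i.1.1 i.2.1
  | .inr (.inr (.inr (.inr (.inr (.inr (.inr (.inr (.inr (.inl i))))))))) => d8 C i.1
  | .inr (.inr (.inr (.inr (.inr (.inr (.inr (.inr (.inr (.inr (.inl _)))))))))) => d11 C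
  | .inr (.inr (.inr (.inr (.inr (.inr (.inr (.inr (.inr (.inr (.inr i)))))))))) => d12 C i.1

/-- The values at `a`, `b`, `z` distinguishing the families. -/
def sig0 : Idx0 C → ℤ × ℤ × ℤ
  | .inl _ => (-1, 0, 1)
  | .inr (.inl _) => (-1, 0, 0)
  | .inr (.inr (.inl _)) => (-1, 0, 0)
  | .inr (.inr (.inr (.inl _))) => (-1, 1, 0)
  | .inr (.inr (.inr (.inr (.inl _)))) => (0, -1, 1)
  | .inr (.inr (.inr (.inr (.inr (.inl _))))) => (0, -1, 0)
  | .inr (.inr (.inr (.inr (.inr (.inr (.inl _)))))) => (0, -1, 0)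
  | .inr (.inr (.inr (.inr (.inr (.inr (.inr (.inl _))))))) => (0, 0, 1)
  | .inr (.inr (.inr (.inr (.inr (.inr (.inr (.inr (.inl _)))))))) => (0, 0, 0)
  | .inr (.inr (.inr (.inr (.inr (.inr (.inr (.inr (.inr (.inl _))))))))) => (0, 0, 1)
  | .inr (.inr (.inr (.inr (.inr (.inr (.inr (.inr (.inr (.inr (.inl _)))))))))) => (1, -((C.q : ℤ) + 1), (C.q : ℤ))
  | .inr (.inr (.inr (.inr (.inr (.inr (.inr (.inr (.inr (.inr (.inr _)))))))))) => (1, -(C.q : ℤ), (C.q : ℤ))

variable {C} in
lemma d2_inj {y y' : σ} (hy : y ≠ C.a) (h : d2 C y = d2 C y') : y = y' := by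
  have := congrFun h y
  simp only [d2, Pi.sub_apply, Pi.single_apply, if_true, if_neg hy] at this
  by_contra hne
  rw [if_neg hne] at this
  omega

variable {C} in
lemma d6_inj {y y' : σ} (hy : y ≠ C.b) (h : d6 C y = d6 C y') : y = y' := by
  have := congrFun h y
  simp only [d6, Pi.sub_apply, Pi.single_apply, if_true, if_neg hy] at this
  by_contra hne
  rw [if_neg hne] at this
  omega

variable {C} in
lemma d8_inj {y y' : σ} (hy : y ≠ C.z) (h : d8 C y = d8 C y') : y = y' := by
  have := congrFun h y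
  simp only [d8, Pi.sub_apply, Pi.single_apply, if_true, if_neg hy] at this
  by_contra hne
  rw [if_neg hne] at this
  omega

variable {C} in
lemma d9_inj {i w i' w' : σ} (hi : C.M i) (hw : C.W w) (hi' : C.M i') (hw' : C.W w')
    (h : d9 C i w = d9 C i' w') : i = i' ∧ w = w' := by
  have h1 := congrFun h w
  have h2 := congrFun h i
  simp only [d9, Pi.sub_apply, Pi.single_apply, if_true, if_neg (Cfg.W_ne_M hi hw),
    if_neg (Cfg.W_ne_M hi' hw)] at h1
  simp only [d9, Pi.sub_apply, Pi.single_apply, if_true, if_neg (Cfg.M_ne_W hi hw),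
    if_neg (Cfg.M_ne_W hi hw')] at h2
  constructor
  · by_contra hne
    rw [if_neg hne] at h2
    omega
  · by_contra hne
    rw [if_neg hne] at h1
    omega

lemma sig0_eq (j : Idx0 C) : (degOf0 C j C.a, degOf0 C j C.b, degOf0 C j C.z) = sig0 C j := by
  rcases j with j | j | j | j | j | j | j | j | j | j | j | j
  · simp [degOf0, d1, d2, d4, d5, d6, d8, d9, d11, d12, Pi.single_apply, sig0]
  · have := j.2
    simp [degOf0, d1, d2, d4, d5, d6, d8, d9, d11, d12, Pi.single_apply, sig0, this]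
  · have := j.2
    simp [degOf0, d1, d2, d4, d5, d6, d8, d9, d11, d12, Pi.single_apply, sig0, this]
  · simp [degOf0, d1, d2, d4, d5, d6, d8, d9, d11, d12, Pi.single_apply, sig0]
  · simp [degOf0, d1, d2, d4, d5, d6, d8, d9, d11, d12, Pi.single_apply, sig0]
  · have := j.2
    simp [degOf0, d1, d2, d4, d5, d6, d8, d9, d11, d12, Pi.single_apply, sig0, this]
  · have := j.2
    simp [degOf0, d1, d2, d4, d5, d6, d8, d9, d11, d12, Pi.single_apply, sig0, this]
  · have := j.2
    simp [degOf0, d1, d2, d4, d5, d6, d8, d9, d11, d12, Pi.single_apply, sig0, this]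
  · have h1 := j.1.2
    have h2 := j.2.2
    simp [degOf0, d1, d2, d4, d5, d6, d8, d9, d11, d12, Pi.single_apply, sig0, h1, h2]
  · have := j.2
    simp [degOf0, d1, d2, d4, d5, d6, d8, d9, d11, d12, Pi.single_apply, sig0, this]
  · simp [degOf0, d1, d2, d4, d5, d6, d8, d9, d11, d12, Pi.single_apply, sig0]
  · have := j.2
    simp [degOf0, d1, d2, d4, d5, d6, d8, d9, d11, d12, Pi.single_apply, sig0, this]

lemma degOf0_injective : Function.Injective (degOf0 C) := by
  intro j j' h
  have hs : sig0 C j = sig0 C j' := by rw [← sig0_eq, ← sig0_eq, h]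
  rcases j with j | j | j | j | j | j | j | j | j | j | j | j <;>
    rcases j' with j' | j' | j' | j' | j' | j' | j' | j' | j' | j' | j' | j' <;>
    first
    | rfl
    | (exfalso; simp [sig0] at hs; done)
    | (exfalso; simp [sig0] at hs; omega)
    | (exfalso; exact Cfg.W_ne_M j'.2 j.2 (d2_inj (Cfg.W_ne_a j.2) h))
    | (exfalso; exact Cfg.M_ne_W j.2 j'.2 (d2_inj (Cfg.M_ne_a j.2) h))
    | (exfalso; exact Cfg.W_ne_M j'.2 j.2 (d6_inj (Cfg.W_ne_b j.2) h))
    | (exfalso; exact Cfg.M_ne_W j.2 j'.2 (d6_inj (Cfg.M_ne_b j.2) h))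
    | (exfalso; exact Cfg.W_ne_M j'.2 j.2 (d8_inj (Cfg.W_ne_z j.2) h))
    | (exfalso; exact Cfg.M_ne_W j.2 j'.2 (d8_inj (Cfg.M_ne_z j.2) h))
    | (have e : j = j' := Subtype.ext (d2_inj (Cfg.W_ne_a j.2) h)
       rw [e])
    | (have e : j = j' := Subtype.ext (d2_inj (Cfg.M_ne_a j.2) h)
       rw [e])
    | (have e : j = j' := Subtype.ext (d6_inj (Cfg.W_ne_b j.2) h)
       rw [e])
    | (have e : j = j' := Subtype.ext (d6_inj (Cfg.M_ne_b j.2) h)
       rw [e])
    | (have e : j = j' := Subtype.ext (d8_inj (Cfg.W_ne_z j.2) h)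
       rw [e])
    | (have e : j = j' := Subtype.ext (d8_inj (Cfg.M_ne_z j.2) h)
       rw [e])
    | (obtain ⟨h1, h2⟩ := d9_inj j.1.2 j.2.2 j'.1.2 j'.2.2 h
       have e : j = j' := Prod.ext (Subtype.ext h1) (Subtype.ext h2)
       rw [e])
    | (have hi := congrFun h j.1
       have hi' := congrFun h j'.1
       have e : j = j' := by
         apply Subtype.ext
         by_contra hne
         have hne' : ¬ j'.1 = j.1 := fun h => hne h.symm
         have hj := j.2
         have hj' := j'.2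
         simp [degOf0, d1, d2, d4, d5, d6, d8, d9, d11, d12, Pi.single_apply, hj, hj', hne, hne'] at hi hi'
       rw [e])

lemma sum_degOf0 (j : Idx0 C) : ∑ x, degOf0 C j x = 0 := by
  rcases j with j | j | j | j | j | j | j | j | j | j | j | j <;>
    (simp [degOf0, d1, d2, d4, d5, d6, d8, d9, d11, d12, Finset.sum_add_distrib,
      Finset.sum_sub_distrib, Finset.sum_pi_single'] <;> try ring)

/-- The degree attached to an exponent of the family. -/
def degF (f : σ →₀ ℕ) : σ → ℤ := fun x => if x = C.b then (f C.b : ℤ) - (C.q : ℤ) else (f x : ℤ)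

lemma degF_injective : Function.Injective (degF C) := by
  intro f f' h
  ext x
  have := congrFun h x
  unfold degF at this
  by_cases hx : x = C.b
  · subst hx
    rw [if_pos rfl, if_pos rfl] at this
    have : (f C.b : ℤ) = (f' C.b : ℤ) := by omega
    exact_mod_cast this
  · rw [if_neg hx, if_neg hx] at this
    exact_mod_cast this

/-- The exponent `μ` attached to `f`. -/
def toμ (f : σ →₀ ℕ) : σ → ℕ := fun x => if x = C.b then 0 else f x

lemma sum_toμ (f : σ →₀ ℕ) : ∑ x, toμ C f x + f C.b = ∑ x, f x := by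
  rw [← Finset.add_sum_erase Finset.univ (fun x => toμ C f x) (Finset.mem_univ C.b),
    ← Finset.add_sum_erase Finset.univ (fun x => f x) (Finset.mem_univ C.b)]
  have : ∑ x ∈ Finset.univ.erase C.b, toμ C f x = ∑ x ∈ Finset.univ.erase C.b, f x := by
    apply Finset.sum_congr rfl
    intro x hx
    unfold toμ
    rw [if_neg (Finset.mem_erase.mp hx).1]
  rw [this]
  unfold toμ
  rw [if_pos rfl]
  omega

lemma isB_toμ {f : σ →₀ ℕ} (hf : f ∈ BB C) : IsB C (toμ C f) := by
  obtain ⟨⟨ha, hs⟩, hb⟩ := (mem_BB C f).mp hf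
  have h1 := sum_toμ C f
  rw [hs] at h1
  refine ⟨?_, ?_, ?_, ?_⟩
  · unfold toμ; rw [if_neg C.hab]; exact ha
  · unfold toμ; rw [if_pos rfl]
  · omega
  · omega

lemma degF_eq {f : σ →₀ ℕ} (hf : f ∈ BB C) : degF C f = degP C (toμ C f) := by
  obtain ⟨⟨ha, hs⟩, hb⟩ := (mem_BB C f).mp hf
  have h1 := sum_toμ C f
  rw [hs] at h1
  funext x
  unfold degF degP
  by_cases hx : x = C.b
  · subst hx
    rw [if_pos rfl, if_pos rfl]
    have : toμ C f C.b = 0 := by unfold toμ; rw [if_pos rfl]
    rw [this]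
    have h2 : ((∑ y, toμ C f y : ℕ) : ℤ) + (f C.b : ℤ) = (C.q : ℤ) := by exact_mod_cast h1
    push_cast at h2 ⊢
    omega
  · rw [if_neg hx, if_neg hx]
    unfold toμ
    rw [if_neg hx]
    simp

/-- The exponent `f` attached to `μ`. -/
noncomputable def toF (μ : σ → ℕ) : σ →₀ ℕ :=
  Finsupp.equivFunOnFinite.symm (fun x => if x = C.b then C.q - ∑ y, μ y else μ x)

lemma toF_apply (μ : σ → ℕ) (x : σ) :
    toF C μ x = if x = C.b then C.q - ∑ y, μ y else μ x := rfl

lemma toF_mem {μ : σ → ℕ} (h : IsB C μ) : toF C μ ∈ BB C := by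
  rw [mem_BB]
  have hb : toF C μ C.b = C.q - ∑ y, μ y := by rw [toF_apply, if_pos rfl]
  have hsum : ∑ x, toF C μ x = C.q := by
    rw [← Finset.add_sum_erase Finset.univ (fun x => toF C μ x) (Finset.mem_univ C.b), hb]
    have h2 : ∑ x ∈ Finset.univ.erase C.b, toF C μ x = ∑ x ∈ Finset.univ.erase C.b, μ x := by
      apply Finset.sum_congr rfl
      intro x hx
      rw [toF_apply, if_neg (Finset.mem_erase.mp hx).1]
    have h3 : ∑ x, μ x = μ C.b + ∑ x ∈ Finset.univ.erase C.b, μ x :=
      (Finset.add_sum_erase Finset.univ (fun x => μ x) (Finset.mem_univ C.b)).symm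
    rw [h2]
    have := h.le
    have := h.hb
    omega
  refine ⟨⟨?_, hsum⟩, ?_⟩
  · rw [toF_apply, if_neg C.hab]; exact h.ha
  · rw [hb]
    have := h.two
    have := h.le
    omega

lemma degF_toF {μ : σ → ℕ} (h : IsB C μ) : degF C (toF C μ) = degP C μ := by
  funext x
  unfold degF degP
  by_cases hx : x = C.b
  · subst hx
    rw [if_pos rfl, if_pos rfl, toF_apply, if_pos rfl, h.hb]
    have := h.le
    push_cast [Nat.cast_sub this]
    omega
  · rw [if_neg hx, if_neg hx, toF_apply, if_neg hx]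
    simp

lemma sum_degF {f : σ →₀ ℕ} (hf : f ∈ BB C) : ∑ x, degF C f x = 0 := by
  obtain ⟨⟨ha, hs⟩, hb⟩ := (mem_BB C f).mp hf
  have key : ∀ x, degF C f x = (f x : ℤ) - (if x = C.b then (C.q : ℤ) else 0) := by
    intro x
    unfold degF
    by_cases hx : x = C.b
    · subst hx; rw [if_pos rfl, if_pos rfl]
    · rw [if_neg hx, if_neg hx]; simp
  rw [Finset.sum_congr rfl (fun x _ => key x), Finset.sum_sub_distrib, Finset.sum_ite_eq']
  simp only [Finset.mem_univ, if_true]
  have : ((∑ x, f x : ℕ) : ℤ) = (C.q : ℤ) := by exact_mod_cast hs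
  push_cast at this
  omega

/-- The full index set. -/
abbrev Idx : Type _ := Idx0 C ⊕ {f : σ →₀ ℕ // f ∈ BB C}

/-- The degree attached to an index. -/
def degOf : Idx C → σ → ℤ := Sum.elim (degOf0 C) (fun f => degF C f.1)

lemma degOf_injective : Function.Injective (degOf C) := by
  apply Function.Injective.sumElim (degOf0_injective C)
  · intro f f' h
    exact Subtype.ext (degF_injective C h)
  · intro j f h
    obtain ⟨⟨ha, hs⟩, hb⟩ := (mem_BB C f.1).mp f.2
    have h1 := congrFun h C.a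
    have h2 := congrFun h C.b
    have hs := sig0_eq C j
    have hFa : degF C f.1 C.a = 0 := by
      unfold degF; rw [if_neg C.hab, ha]; simp
    have hFb : degF C f.1 C.b = (f.1 C.b : ℤ) - (C.q : ℤ) := by
      unfold degF; rw [if_pos rfl]
    rw [hFa] at h1
    rw [hFb] at h2
    rw [h1, h2] at hs
    have hbq : (f.1 C.b : ℤ) + 2 ≤ (C.q : ℤ) := by exact_mod_cast hb
    rcases j with j | j | j | j | j | j | j | j | j | j | j | j <;> (simp [sig0] at hs <;> omega)

lemma sum_degOf (j : Idx C) : ∑ x, degOf C j x = 0 := by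
  rcases j with j | f
  · exact sum_degOf0 C j
  · exact sum_degF C f.2

variable {C}

theorem finrank_hom0 (hI : IsMonomial I) (hE : HE C I) (hMne : ∃ i, C.M i) (hWne : ∃ j, C.W j)
    (hcase : (∃ j j', C.W j ∧ C.W j' ∧ j ≠ j') ∨ 3 ≤ C.q) :
    Module.finrank k ↥(⨆ α : {α : σ → ℤ // ∑ x, α x = 0}, tPiece I α.1) =
      7 + 4 * Fintype.card (WW C) + 5 * Fintype.card (Mid C) +
        Fintype.card (Mid C) * Fintype.card (WW C) + (BB C).card := by
  classical
  obtain ⟨i0, hi0⟩ := hMne
  obtain ⟨j0, hj0⟩ := hWne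
  have hGG := hG hE
  have hfd : ∀ α, FiniteDimensional k (tPiece I α) := fun α =>
    finiteDimensional_tPiece_of_finite I (gen (C := C)) α hI hGG
  rw [finrank_iSup_indexed hI hfd (fun α => ∑ x, α x = 0) (degOf C) (degOf_injective C)
    (sum_degOf C)]
  · have u1 : ∀ x : Unit,
        Module.finrank k (tPiece I (degOf C (.inl (.inl x)))) = 2 := by
      intro _
      change Module.finrank k (tPiece I (d1 C)) = 2
      rw [finrank_tPiece_eq (gen (C := C)) _ hI hGG]; exact finrank_f1 hE j0 hj0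
    have u2 : ∀ i : WW C,
        Module.finrank k (tPiece I (degOf C (.inl (.inr (.inl i))))) = 1 := by
      intro i
      change Module.finrank k (tPiece I (d2 C i.1)) = 1
      rw [finrank_tPiece_eq (gen (C := C)) _ hI hGG]; exact finrank_f2 hE i.1 i.2
    have u3 : ∀ i : Mid C,
        Module.finrank k (tPiece I (degOf C (.inl (.inr (.inr (.inl i)))))) = 1 := by
      intro i
      change Module.finrank k (tPiece I (d2 C i.1)) = 1
      rw [finrank_tPiece_eq (gen (C := C)) _ hI hGG]; exact finrank_f3 hE i.1 i.2 j0 hj0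
    have u4 : ∀ x : Unit,
        Module.finrank k (tPiece I (degOf C (.inl (.inr (.inr (.inr (.inl x))))))) = 1 := by
      intro _
      change Module.finrank k (tPiece I (d4 C)) = 1
      rw [finrank_tPiece_eq (gen (C := C)) _ hI hGG]; exact finrank_f4 hE j0 hj0
    have u5 : ∀ x : Unit,
        Module.finrank k (tPiece I (degOf C (.inl (.inr (.inr (.inr (.inr (.inl x)))))))) = 3 := by
      intro _
      change Module.finrank k (tPiece I (d5 C)) = 3
      rw [finrank_tPiece_eq (gen (C := C)) _ hI hGG]; exact finrank_f5 hE i0 hi0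
    have u6 : ∀ i : WW C,
        Module.finrank k (tPiece I (degOf C (.inl (.inr (.inr (.inr (.inr (.inr (.inl i))))))))) = 2 := by
      intro i
      change Module.finrank k (tPiece I (d6 C i.1)) = 2
      rw [finrank_tPiece_eq (gen (C := C)) _ hI hGG]; exact finrank_f6 hE i.1 i.2 i0 hi0
    have u7 : ∀ i : Mid C,
        Module.finrank k (tPiece I (degOf C (.inl (.inr (.inr (.inr (.inr (.inr (.inr (.inl i)))))))))) = 1 := by
      intro i
      change Module.finrank k (tPiece I (d6 C i.1)) = 1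
      rw [finrank_tPiece_eq (gen (C := C)) _ hI hGG]; exact finrank_f7 hE i.1 i.2
    have u8 : ∀ i : Mid C,
        Module.finrank k (tPiece I (degOf C (.inl (.inr (.inr (.inr (.inr (.inr (.inr (.inr (.inl i))))))))))) = 2 := by
      intro i
      change Module.finrank k (tPiece I (d8 C i.1)) = 2
      rw [finrank_tPiece_eq (gen (C := C)) _ hI hGG]; exact finrank_f8 hE i.1 i.2
    have u9 : ∀ i : (Mid C × WW C),
        Module.finrank k (tPiece I (degOf C (.inl (.inr (.inr (.inr (.inr (.inr (.inr (.inr (.inr (.inl i)))))))))))) = 1 := by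
      intro i
      change Module.finrank k (tPiece I (d9 C i.1.1 i.2.1)) = 1
      rw [finrank_tPiece_eq (gen (C := C)) _ hI hGG]; exact finrank_f9 hE i.1.1 i.1.2 i.2.1 i.2.2
    have u10 : ∀ i : WW C,
        Module.finrank k (tPiece I (degOf C (.inl (.inr (.inr (.inr (.inr (.inr (.inr (.inr (.inr (.inr (.inl i))))))))))))) = 1 := by
      intro i
      change Module.finrank k (tPiece I (d8 C i.1)) = 1
      rw [finrank_tPiece_eq (gen (C := C)) _ hI hGG]; exact finrank_f10 hE i.1 i.2
    have u11 : ∀ x : Unit,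
        Module.finrank k (tPiece I (degOf C (.inl (.inr (.inr (.inr (.inr (.inr (.inr (.inr (.inr (.inr (.inr (.inl x)))))))))))))) = 1 := by
      intro _
      change Module.finrank k (tPiece I (d11 C)) = 1
      rw [finrank_tPiece_eq (gen (C := C)) _ hI hGG]; exact finrank_f11 hE
    have u12 : ∀ i : Mid C,
        Module.finrank k (tPiece I (degOf C (.inl (.inr (.inr (.inr (.inr (.inr (.inr (.inr (.inr (.inr (.inr (.inr i)))))))))))))) = 1 := by
      intro i
      change Module.finrank k (tPiece I (d12 C i.1)) = 1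
      rw [finrank_tPiece_eq (gen (C := C)) _ hI hGG]; exact finrank_f12 hE i.1 i.2
    have uB : ∀ f : {f : σ →₀ ℕ // f ∈ BB C},
        Module.finrank k (tPiece I (degOf C (.inr f))) = 1 := by
      intro f
      change Module.finrank k (tPiece I (degF C f.1)) = 1
      rw [finrank_tPiece_eq (gen (C := C)) _ hI hGG, degF_eq C f.2]
      exact finrank_B hE _ (isB_toμ C f.2)
    simp only [Fintype.sum_sum_type, u1, u2, u3, u4, u5, u6, u7, u8, u9, u10, u11, u12, uB,
      Finset.sum_const, Finset.card_univ, smul_eq_mul, mul_one, Fintype.card_unit,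
      Fintype.card_coe, Fintype.card_prod]
    first | ring | (ring_nf; omega)
  · intro α hα hnot
    apply tPiece_eq_bot_of_genData (gen (C := C)) α hI hGG
    by_contra hne
    rcases inList_of_ne_bot hE i0 hi0 j0 hj0 hcase hα hne with h | ⟨w, hw, h⟩ | ⟨i, hi, h⟩ | h | h |
      ⟨w, hw, h⟩ | ⟨i, hi, h⟩ | ⟨i, hi, h⟩ | ⟨i, w, hi, hw, h⟩ | ⟨w, hw, h⟩ | h | ⟨i, hi, h⟩ |
      ⟨μ, hμ, h⟩
    · exact hnot (.inl (.inl ())) h
    · exact hnot (.inl (.inr (.inl ⟨w, hw⟩))) h
    · exact hnot (.inl (.inr (.inr (.inl ⟨i, hi⟩)))) h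
    · exact hnot (.inl (.inr (.inr (.inr (.inl ()))))) h
    · exact hnot (.inl (.inr (.inr (.inr (.inr (.inl ())))))) h
    · exact hnot (.inl (.inr (.inr (.inr (.inr (.inr (.inl ⟨w, hw⟩))))))) h
    · exact hnot (.inl (.inr (.inr (.inr (.inr (.inr (.inr (.inl ⟨i, hi⟩)))))))) h
    · exact hnot (.inl (.inr (.inr (.inr (.inr (.inr (.inr (.inr (.inl ⟨i, hi⟩))))))))) h
    · exact hnot (.inl (.inr (.inr (.inr (.inr (.inr (.inr (.inr (.inr (.inl (⟨i, hi⟩, ⟨w, hw⟩))))))))))) h
    · exact hnot (.inl (.inr (.inr (.inr (.inr (.inr (.inr (.inr (.inr (.inr (.inl ⟨w, hw⟩))))))))))) h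
    · exact hnot (.inl (.inr (.inr (.inr (.inr (.inr (.inr (.inr (.inr (.inr (.inr (.inl ())))))))))))) h
    · exact hnot (.inl (.inr (.inr (.inr (.inr (.inr (.inr (.inr (.inr (.inr (.inr (.inr ⟨i, hi⟩)))))))))))) h
    · refine hnot (.inr ⟨toF C μ, toF_mem C hμ⟩) ?_
      rw [h]
      exact (degF_toF C hμ).symm

end Groth.Agent.Lib.Helper72.Nest4
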