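import Mathlib
import Groth.Agent.Lib.Helper72.NestC

/-! The ideal `(x_a, x_b) · (x_y : y ≠ z)`: the dimension of `Hom(I, S/I)_0`. -/

set_option autoImplicit false
set_option linter.unusedSectionVars false
set_option linter.unusedVariables false
universe u

namespace Groth.Agent.Lib.Helper72.Nest

open W4c1hilbpn MvPolynomial Groth.Agent.Lib.Helper28.HilbT Groth.Agent.Lib.Helper72.HilbDual
open Groth.Agent.Lib.Helper72.HomGen

variable {σ : Type*} [Fintype σ] [DecidableEq σ] {k : Type u} [Field k]
variable {C : Cfg σ} {I : Ideal (MvPolynomial σ k)}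

lemma not_special {m : σ → ℤ} {p q : σ}
    (hm : ∀ x, m x = (if x = p then 1 else 0) + (if x = q then 1 else 0))
    (hnot : ¬ memI C m) (hq : q ≠ C.z) : p ≠ C.a ∧ p ≠ C.b := by
  constructor
  · rintro rfl
    apply hnot
    by_cases h : q = C.a
    · left
      rw [hm, h]
      simp
    · right; right
      refine ⟨C.a, q, Or.inl rfl, hq, Ne.symm h, ?_, ?_⟩
      · rw [hm]; simp; split_ifs <;> simp
      · rw [hm]; simp; split_ifs <;> simp
  · rintro rfl
    apply hnot
    by_cases h : q = C.b
    · right; left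
      rw [hm, h]
      simp
    · right; right
      refine ⟨C.b, q, Or.inr rfl, hq, Ne.symm h, ?_, ?_⟩
      · rw [hm]; simp; split_ifs <;> simp
      · rw [hm]; simp; split_ifs <;> simp

theorem inList_of_ne_zero (hE : HE C I) {α : σ → ℤ} (hsum : ∑ x, α x = 0) {c : Gen C → k}
    (hc : c ∈ GenData I gen α) (γ : Gen C) (hγ : c γ ≠ 0) (hγa : γ.fst = C.a) : InList C α := by
  have hact : Active I α (gen γ) := by
    by_contra h
    exact hγ (hc.1 γ h)
  obtain ⟨hnn, hnot⟩ := (active_iff hE α (gen γ)).mp hact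
  obtain ⟨l, l', hm⟩ := exists_two_singles (fun x => ((gen γ x : ℕ) : ℤ) + α x) hnn (by
    rw [Finset.sum_add_distrib, sum_gen, hsum]; norm_num)
  have hα : ∀ x, α x = (if x = l then 1 else 0) + (if x = l' then 1 else 0) -
      ((gen γ x : ℕ) : ℤ) := fun x => by
    have := hm x
    omega
  have hα' : ∀ x, α x = (if x = l' then 1 else 0) + (if x = l then 1 else 0) -
      ((gen γ x : ℕ) : ℤ) := fun x => by
    rw [hα x]; ring
  by_cases h1 : l' = C.z
  · exact inList_core hE hc γ hγ hγa hact l l' hα (Or.inl h1)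
  · by_cases h2 : l = C.z
    · exact inList_core hE hc γ hγ hγa hact l' l hα' (Or.inl h2)
    · have hm' : ∀ x, ((gen γ x : ℕ) : ℤ) + α x =
          (if x = l' then 1 else 0) + (if x = l then 1 else 0) := fun x => by
        rw [hm x]; ring
      obtain ⟨e1, e2⟩ := not_special hm hnot h1
      obtain ⟨e3, e4⟩ := not_special hm' hnot h2
      exact inList_core hE hc γ hγ hγa hact l l' hα
        (Or.inr ⟨(C.hM l).mpr ⟨e1, e2, h2⟩, (C.hM l').mpr ⟨e3, e4, h1⟩⟩)

/-- Transport of generators from the swapped configuration. -/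
def swapGen : Gen C.swap → Gen C
  | .aa => .bb | .ab => .ab | .bb => .aa | .am i hi => .bm i hi | .bm i hi => .am i hi

lemma gen_swapGen (g : Gen C.swap) : gen (swapGen g) = gen g := by
  cases g
  · rfl
  · change gen2 C.a C.b = gen2 C.b C.a
    unfold gen2
    rw [add_comm]
  · rfl
  · rfl
  · rfl

theorem inList_of_ne_bot (hE : HE C I) {α : σ → ℤ} (hsum : ∑ x, α x = 0)
    (hne : GenData I (gen (C := C)) α ≠ ⊥) : InList C α := by
  rw [Ne, Submodule.eq_bot_iff] at hne
  push Not at hne
  obtain ⟨c, hc, hc0⟩ := hne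
  have hex : ∃ γ, c γ ≠ 0 := by
    by_contra hcon
    push Not at hcon
    exact hc0 (funext hcon)
  obtain ⟨γ, hγ⟩ := hex
  by_cases hγa : γ.fst = C.a
  · exact inList_of_ne_zero hE hsum hc γ hγ hγa
  · -- use the swapped configuration
    apply inList_swap
    have hc' : (fun g => c (swapGen g)) ∈ GenData I (gen (C := C.swap)) α := by
      refine ⟨fun g hg => hc.1 _ ?_, fun g g' hl => hc.2 _ _ ?_⟩
      · rw [gen_swapGen]; exact hg
      · rw [gen_swapGen, gen_swapGen]; exact hl
    cases γ with
    | aa => exact absurd rfl hγa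
    | ab => exact absurd rfl hγa
    | bb => exact inList_of_ne_zero hE.swap hsum hc' .aa hγ rfl
    | am i hi => exact absurd rfl hγa
    | bm i hi => exact inList_of_ne_zero hE.swap hsum hc' (.am i hi) hγ rfl

end Groth.Agent.Lib.Helper72.Nest
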