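import Mathlib
import Groth.Agent.Lib.Helper72.NestD

/-! The ideal `(x_a, x_b) · (x_y : y ≠ z)`: assembling the count. -/

set_option autoImplicit false
set_option linter.unusedSectionVars false
set_option linter.unusedVariables false
set_option linter.unusedSimpArgs false
universe u

namespace Groth.Agent.Lib.Helper72.Nest

open W4c1hilbpn MvPolynomial Groth.Agent.Lib.Helper28.HilbT Groth.Agent.Lib.Helper72.HilbDual
open Groth.Agent.Lib.Helper72.HomGen

variable {σ : Type*} [Fintype σ] [DecidableEq σ] {k : Type u} [Field k]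
variable (C : Cfg σ) [DecidablePred C.M] {I : Ideal (MvPolynomial σ k)}

/-- The middle variables. -/
abbrev Mid : Type _ := {i : σ // C.M i}

/-- Index set of the non-zero pieces. -/
abbrev Idx : Type _ :=
  Unit ⊕ Unit ⊕ Unit ⊕ Unit ⊕ Mid C ⊕ Mid C ⊕ Mid C ⊕ Mid C ⊕ Mid C

/-- The degree attached to an index. -/
def degOf : Idx C → σ → ℤ
  | .inl _ => degA1 C
  | .inr (.inl _) => degA1 C.swap
  | .inr (.inr (.inl _)) => degA2 C
  | .inr (.inr (.inr (.inl _))) => degA2 C.swap
  | .inr (.inr (.inr (.inr (.inl i)))) => degA3 C i.1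
  | .inr (.inr (.inr (.inr (.inr (.inl i))))) => degA3 C.swap i.1
  | .inr (.inr (.inr (.inr (.inr (.inr (.inl i)))))) => degA4 C i.1
  | .inr (.inr (.inr (.inr (.inr (.inr (.inr (.inl i))))))) => degA4 C.swap i.1
  | .inr (.inr (.inr (.inr (.inr (.inr (.inr (.inr i))))))) => degA7 C i.1

/-- The values at `a`, `b`, `z` distinguishing the families. -/
def sig : Idx C → ℤ × ℤ × ℤ
  | .inl _ => (-2, 1, 1)
  | .inr (.inl _) => (1, -2, 1)
  | .inr (.inr (.inl _)) => (-1, 0, 1)
  | .inr (.inr (.inr (.inl _))) => (0, -1, 1)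
  | .inr (.inr (.inr (.inr (.inl _)))) => (-1, 0, 0)
  | .inr (.inr (.inr (.inr (.inr (.inl _))))) => (0, -1, 0)
  | .inr (.inr (.inr (.inr (.inr (.inr (.inl _)))))) => (-1, 1, 1)
  | .inr (.inr (.inr (.inr (.inr (.inr (.inr (.inl _))))))) => (1, -1, 1)
  | .inr (.inr (.inr (.inr (.inr (.inr (.inr (.inr _))))))) => (0, 0, 1)

lemma sig_eq (j : Idx C) : (degOf C j C.a, degOf C j C.b, degOf C j C.z) = sig C j := by
  rcases j with j | j | j | j | j | j | j | j | j
  · simp [degOf, sig, degA1, degA2, degA3, degA4, degA7, Cfg.swap, Pi.single_apply]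
  · simp [degOf, sig, degA1, degA2, degA3, degA4, degA7, Cfg.swap, Pi.single_apply]
  · simp [degOf, sig, degA1, degA2, degA3, degA4, degA7, Cfg.swap, Pi.single_apply]
  · simp [degOf, sig, degA1, degA2, degA3, degA4, degA7, Cfg.swap, Pi.single_apply]
  · have := j.2
    simp [degOf, sig, degA1, degA2, degA3, degA4, degA7, Cfg.swap, Pi.single_apply, this]
  · have := j.2
    simp [degOf, sig, degA1, degA2, degA3, degA4, degA7, Cfg.swap, Pi.single_apply, this]
  · have := j.2
    simp [degOf, sig, degA1, degA2, degA3, degA4, degA7, Cfg.swap, Pi.single_apply, this]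
  · have := j.2
    simp [degOf, sig, degA1, degA2, degA3, degA4, degA7, Cfg.swap, Pi.single_apply, this]
  · have := j.2
    simp [degOf, sig, degA1, degA2, degA3, degA4, degA7, Cfg.swap, Pi.single_apply, this]

lemma degOf_injective : Function.Injective (degOf C) := by
  intro j j' h
  have hs : sig C j = sig C j' := by rw [← sig_eq, ← sig_eq, h]
  rcases j with j | j | j | j | j | j | j | j | j <;>
    rcases j' with j' | j' | j' | j' | j' | j' | j' | j' | j' <;>
    first
    | rfl
    | (exfalso; simp [sig] at hs; done)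
    | (have hi := congrFun h j.1
       have hi' := congrFun h j'.1
       have e : j = j' := by
         apply Subtype.ext
         by_contra hne
         have hne' : ¬ j'.1 = j.1 := fun h => hne h.symm
         simp [degOf, degA3, degA4, degA7, Cfg.swap, Pi.single_apply, j.2, j'.2, hne, hne'] at hi hi'
       rw [e])

lemma sum_degOf (j : Idx C) : ∑ x, degOf C j x = 0 := by
  rcases j with j | j | j | j | j | j | j | j | j <;>
    simp [degOf, degA1, degA2, degA3, degA4, degA7, Cfg.swap, Finset.sum_add_distrib,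
      Finset.sum_sub_distrib, Finset.sum_pi_single']

variable {C}

theorem finrank_hom0 (hI : IsMonomial I) (hE : HE C I) (hMne : ∃ i, C.M i) :
    Module.finrank k ↥(⨆ α : {α : σ → ℤ // ∑ x, α x = 0}, tPiece I α.1) =
      8 + 6 * Fintype.card (Mid C) := by
  classical
  obtain ⟨i0, hi0⟩ := hMne
  have hGG := hG hE
  have hGG' := hG hE.swap
  have hfd : ∀ α, FiniteDimensional k (tPiece I α) := fun α =>
    finiteDimensional_tPiece_of_finite I (gen (C := C)) α hI hGG
  rw [finrank_iSup_indexed hI hfd (fun α => ∑ x, α x = 0) (degOf C) (degOf_injective C)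
    (sum_degOf C)]
  · have t1 : Module.finrank k (tPiece I (degA1 C)) = 1 := by
      rw [finrank_tPiece_eq (gen (C := C)) _ hI hGG]; exact finrank_A1 hE
    have t1' : Module.finrank k (tPiece I (degA1 C.swap)) = 1 := by
      rw [finrank_tPiece_eq (gen (C := C.swap)) _ hI hGG']; exact finrank_A1 hE.swap
    have t2 : Module.finrank k (tPiece I (degA2 C)) = 3 := by
      rw [finrank_tPiece_eq (gen (C := C)) _ hI hGG]; exact finrank_A2 hE i0 hi0
    have t2' : Module.finrank k (tPiece I (degA2 C.swap)) = 3 := by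
      rw [finrank_tPiece_eq (gen (C := C.swap)) _ hI hGG']; exact finrank_A2 hE.swap i0 hi0
    have t3 : ∀ i : Mid C, Module.finrank k (tPiece I (degA3 C i.1)) = 1 := fun i => by
      rw [finrank_tPiece_eq (gen (C := C)) _ hI hGG]; exact finrank_A3 hE i.1 i.2
    have t3' : ∀ i : Mid C, Module.finrank k (tPiece I (degA3 C.swap i.1)) = 1 := fun i => by
      rw [finrank_tPiece_eq (gen (C := C.swap)) _ hI hGG']; exact finrank_A3 hE.swap i.1 i.2
    have t4 : ∀ i : Mid C, Module.finrank k (tPiece I (degA4 C i.1)) = 1 := fun i => by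
      rw [finrank_tPiece_eq (gen (C := C)) _ hI hGG]; exact finrank_A4 hE i.1 i.2
    have t4' : ∀ i : Mid C, Module.finrank k (tPiece I (degA4 C.swap i.1)) = 1 := fun i => by
      rw [finrank_tPiece_eq (gen (C := C.swap)) _ hI hGG']; exact finrank_A4 hE.swap i.1 i.2
    have t7 : ∀ i : Mid C, Module.finrank k (tPiece I (degA7 C i.1)) = 2 := fun i => by
      rw [finrank_tPiece_eq (gen (C := C)) _ hI hGG]; exact finrank_A7 hE i.1 i.2
    have u1 : ∀ x : Unit, Module.finrank k (tPiece I (degOf C (.inl x))) = 1 := fun _ => t1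
    have u1' : ∀ x : Unit, Module.finrank k (tPiece I (degOf C (.inr (.inl x)))) = 1 :=
      fun _ => t1'
    have u2 : ∀ x : Unit, Module.finrank k (tPiece I (degOf C (.inr (.inr (.inl x))))) = 3 :=
      fun _ => t2
    have u2' : ∀ x : Unit,
        Module.finrank k (tPiece I (degOf C (.inr (.inr (.inr (.inl x)))))) = 3 :=
      fun _ => t2'
    have u3 : ∀ i : Mid C,
        Module.finrank k (tPiece I (degOf C (.inr (.inr (.inr (.inr (.inl i))))))) = 1 := t3
    have u3' : ∀ i : Mid C,
        Module.finrank k (tPiece I (degOf C (.inr (.inr (.inr (.inr (.inr (.inl i)))))))) = 1 :=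
      t3'
    have u4 : ∀ i : Mid C,
        Module.finrank k
          (tPiece I (degOf C (.inr (.inr (.inr (.inr (.inr (.inr (.inl i))))))))) = 1 := t4
    have u4' : ∀ i : Mid C,
        Module.finrank k
          (tPiece I (degOf C (.inr (.inr (.inr (.inr (.inr (.inr (.inr (.inl i)))))))))) = 1 :=
      t4'
    have u7 : ∀ i : Mid C,
        Module.finrank k
          (tPiece I (degOf C (.inr (.inr (.inr (.inr (.inr (.inr (.inr (.inr i)))))))))) = 2 :=
      t7
    simp only [Fintype.sum_sum_type, u1, u1', u2, u2', u3, u3', u4, u4', u7,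
      Finset.sum_const, Finset.card_univ, smul_eq_mul, mul_one, Fintype.card_unit]
    omega
  · intro α hα hnot
    apply tPiece_eq_bot_of_genData (gen (C := C)) α hI hGG
    by_contra hne
    rcases inList_of_ne_bot hE hα hne with h | h | h | h | ⟨i, hi, h⟩ | ⟨i, hi, h⟩ |
      ⟨i, hi, h⟩ | ⟨i, hi, h⟩ | ⟨i, hi, h⟩
    · exact hnot (.inl ()) h
    · exact hnot (.inr (.inl ())) h
    · exact hnot (.inr (.inr (.inl ()))) h
    · exact hnot (.inr (.inr (.inr (.inl ())))) h
    · exact hnot (.inr (.inr (.inr (.inr (.inl ⟨i, hi⟩))))) h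
    · exact hnot (.inr (.inr (.inr (.inr (.inr (.inl ⟨i, hi⟩)))))) h
    · exact hnot (.inr (.inr (.inr (.inr (.inr (.inr (.inl ⟨i, hi⟩))))))) h
    · exact hnot (.inr (.inr (.inr (.inr (.inr (.inr (.inr (.inl ⟨i, hi⟩)))))))) h
    · exact hnot (.inr (.inr (.inr (.inr (.inr (.inr (.inr (.inr ⟨i, hi⟩)))))))) h

end Groth.Agent.Lib.Helper72.Nest
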