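import Mathlib
import Groth.Prelude.Def_W4bk4bump814p2PDiff

set_option autoImplicit false
set_option linter.unusedSectionVars false
universe u v

namespace Groth.Agent.Lib.Helper72.PDiff

open W4bk4bump814p2

variable (K : Type u) (A : Type v) [Field K] (p : ℕ) [Fact p.Prime] [CharP K p]
  [CommRing A] [Algebra K A]

include K in
lemma p_eq_zero : (p : A) = 0 := by
  have : (p : A) = algebraMap K A (p : K) := (map_natCast (algebraMap K A) p).symm
  rw [this, CharP.cast_eq_zero K p, map_zero]

include K in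
lemma choose_cast (i : ℕ) : ∀ k : ℕ, k < p ^ i → (((p ^ i - 1).choose k : ℕ) : A) = (-1) ^ k := by
  have hp : p.Prime := Fact.out
  have hpos : 0 < p ^ i := pow_pos hp.pos i
  intro k
  induction k with
  | zero => intro _; simp
  | succ k ih =>
    intro hk
    have h1 := ih (by omega)
    have hdvd : p ∣ (p ^ i).choose (k + 1) :=
      hp.dvd_choose_pow (by omega) (by omega)
    have h2 : (((p ^ i).choose (k + 1) : ℕ) : A) = 0 := by
      obtain ⟨c, hc⟩ := hdvd
      rw [hc, Nat.cast_mul, p_eq_zero K A p, zero_mul]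
    have h3 : (p ^ i).choose (k + 1) = (p ^ i - 1).choose k + (p ^ i - 1).choose (k + 1) := by
      obtain ⟨n, hn⟩ : ∃ n, p ^ i = n + 1 := ⟨p ^ i - 1, by omega⟩
      rw [hn, Nat.add_sub_cancel, Nat.choose_succ_succ]
    rw [h3, Nat.cast_add, h1] at h2
    rw [pow_succ]
    linear_combination h2

lemma delta_zero (i : ℕ) : delta K A p i 0 = 0 := by
  unfold delta
  rw [map_zero, smul_zero]

lemma zero_mem (i : ℕ) : (0 : Ω[A⁄K]) ∈ sigma K A p i := by
  induction i with
  | zero => simp
  | succ i ih =>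
    rw [mem_sigma_succ]
    exact ⟨0, by rw [delta_zero, sub_zero]; exact ih⟩

lemma sigma_mono_succ (i : ℕ) : sigma K A p i ⊆ sigma K A p (i + 1) := by
  intro ω hω
  rw [mem_sigma_succ]
  exact ⟨0, by rw [delta_zero, sub_zero]; exact hω⟩

lemma sigma_mono {i j : ℕ} (h : i ≤ j) : sigma K A p i ⊆ sigma K A p j := by
  induction h with
  | refl => exact subset_rfl
  | step _ ih => exact ih.trans (sigma_mono_succ K A p _)

lemma delta_mem (i : ℕ) (x : A) : delta K A p i x ∈ sigma K A p (i + 1) := by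
  rw [mem_sigma_succ]
  exact ⟨x, by rw [sub_self]; exact zero_mem K A p i⟩

lemma delta_mem_of_lt {i j : ℕ} (h : j < i) (x : A) : delta K A p j x ∈ sigma K A p i :=
  sigma_mono K A p h (delta_mem K A p j x)

include K in
lemma neg_one_pow_pred (i : ℕ) : ((-1 : A)) ^ (p ^ i - 1) = 1 := by
  have hp : p.Prime := Fact.out
  have hpos : 0 < p ^ i := pow_pos hp.pos i
  have := choose_cast K A p i (p ^ i - 1) (by omega)
  rw [Nat.choose_self, Nat.cast_one] at this
  exact this.symm

lemma delta_neg (i : ℕ) (x : A) : delta K A p i (-x) = - delta K A p i x := by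
  unfold delta
  rw [map_neg, smul_neg, neg_pow, neg_one_pow_pred K A p i, one_mul]

lemma neg_mem (i : ℕ) : ∀ ω : Ω[A⁄K], ω ∈ sigma K A p i → -ω ∈ sigma K A p i := by
  induction i with
  | zero =>
    intro ω hω
    simp only [sigma_zero, Set.mem_singleton_iff] at hω ⊢
    rw [hω, neg_zero]
  | succ i ih =>
    intro ω hω
    rw [mem_sigma_succ] at hω ⊢
    obtain ⟨x, hx⟩ := hω
    refine ⟨-x, ?_⟩
    rw [delta_neg]
    have e : -ω - -delta K A p i x = -(ω - delta K A p i x) := by abel
    rw [e]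
    exact ih _ hx

lemma delta_algebraMap_mul (a : ℕ) (b : K) (m : A) :
    delta K A p a (algebraMap K A b * m) =
      (algebraMap K A b ^ (p ^ a)) • delta K A p a m := by
  have hp : p.Prime := Fact.out
  have hpos : 0 < p ^ a := pow_pos hp.pos a
  obtain ⟨P, hP⟩ : ∃ P, p ^ a = P + 1 := ⟨p ^ a - 1, by omega⟩
  unfold delta
  rw [Derivation.leibniz, Derivation.map_algebraMap, smul_zero, add_zero, smul_smul, smul_smul,
    hP, Nat.add_sub_cancel]
  congr 1
  ring

/-- The elementary term. -/
lemma T_eq (a P J L : ℕ) (hP : p ^ a = P + 1) (x y : A) (b : K) :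
    delta K A p a (algebraMap K A b * (x ^ (J + 1) * y ^ (L + 1))) =
      (algebraMap K A b ^ (p ^ a) * ((J + 1 : ℕ) : A) * x ^ ((J + 1) * P + J) *
          y ^ ((L + 1) * (P + 1))) • KaehlerDifferential.D K A x +
      (algebraMap K A b ^ (p ^ a) * ((L + 1 : ℕ) : A) * x ^ ((J + 1) * (P + 1)) *
          y ^ ((L + 1) * P + L)) • KaehlerDifferential.D K A y := by
  rw [delta_algebraMap_mul]
  unfold delta
  rw [hP, Nat.add_sub_cancel, Derivation.leibniz, Derivation.leibniz_pow, Derivation.leibniz_pow,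
    Nat.add_sub_cancel, Nat.add_sub_cancel, ← Nat.cast_smul_eq_nsmul A (L + 1),
    ← Nat.cast_smul_eq_nsmul A (J + 1)]
  simp only [smul_add, smul_smul]
  rw [add_comm]
  congr 1 <;> congr 1 <;> ring

/-- The `k`-th term of the defect. -/
noncomputable def T (n : ℕ) (x y : A) (k : ℕ) : Ω[A⁄K] :=
  ((-1) ^ k * x ^ k * y ^ (n - k)) • KaehlerDifferential.D K A x +
    ((-1) ^ (k + 1) * x ^ (k + 1) * y ^ (n - (k + 1))) • KaehlerDifferential.D K A y

lemma defect_eq [PerfectField K] (i n : ℕ) (hn : p ^ i = n + 1) (x y : A) :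
    delta K A p i (x + y) - delta K A p i x - delta K A p i y =
      ∑ k ∈ Finset.range n, T K A n x y k := by
  have h1 : (x + y) ^ n = ∑ k ∈ Finset.range (n + 1), (-1) ^ k * x ^ k * y ^ (n - k) := by
    rw [add_pow]
    refine Finset.sum_congr rfl fun k hk => ?_
    have hk' : k < p ^ i := by rw [hn]; exact Finset.mem_range.mp hk
    have := choose_cast K A p i k hk'
    rw [hn, Nat.add_sub_cancel] at this
    rw [this]; ring
  have hneg : ((-1 : A)) ^ n = 1 := by
    have := neg_one_pow_pred K A p i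
    rwa [hn, Nat.add_sub_cancel] at this
  have e1 : (x + y) ^ n = ∑ k ∈ Finset.range n, (-1) ^ k * x ^ k * y ^ (n - k) + x ^ n := by
    rw [h1, Finset.sum_range_succ, Nat.sub_self, pow_zero, mul_one, hneg, one_mul]
  have e2 : (x + y) ^ n =
      ∑ k ∈ Finset.range n, (-1) ^ (k + 1) * x ^ (k + 1) * y ^ (n - (k + 1)) + y ^ n := by
    rw [h1, Finset.sum_range_succ' _ n, pow_zero, pow_zero, one_mul, Nat.sub_zero, one_mul]
  have hx : (x + y) ^ n • KaehlerDifferential.D K A x =
      ∑ k ∈ Finset.range n, ((-1) ^ k * x ^ k * y ^ (n - k)) • KaehlerDifferential.D K A x +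
        x ^ n • KaehlerDifferential.D K A x := by
    rw [e1, add_smul, Finset.sum_smul]
  have hy : (x + y) ^ n • KaehlerDifferential.D K A y =
      ∑ k ∈ Finset.range n, ((-1) ^ (k + 1) * x ^ (k + 1) * y ^ (n - (k + 1))) •
        KaehlerDifferential.D K A y + y ^ n • KaehlerDifferential.D K A y := by
    rw [e2, add_smul, Finset.sum_smul]
  unfold delta
  rw [hn, Nat.add_sub_cancel, map_add, smul_add, hx, hy]
  unfold T
  rw [Finset.sum_add_distrib]
  abel

lemma T_mem [PerfectField K] (i n : ℕ) (hn : p ^ i = n + 1) (x y : A) (k : ℕ) (hk : k < n) :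
    T K A n x y k ∈ sigma K A p i := by
  have hp : p.Prime := Fact.out
  have : ExpChar K p := ExpChar.prime hp
  obtain ⟨a, j', hj', hj⟩ := Nat.exists_eq_pow_mul_and_not_dvd (n := k + 1) (by omega) p hp.ne_one
  have hj'pos : 0 < j' := by
    rcases Nat.eq_zero_or_pos j' with h | h
    · rw [h] at hj'; exact absurd (dvd_zero p) hj'
    · exact h
  have hai : a < i := by
    have h1 : p ^ a ≤ k + 1 := by
      rw [hj]; exact Nat.le_mul_of_pos_right _ hj'pos
    have h2 : p ^ a < p ^ i := by omega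
    exact (Nat.pow_lt_pow_iff_right hp.one_lt).mp h2
  have hpa : 0 < p ^ a := pow_pos hp.pos a
  obtain ⟨P, hP⟩ : ∃ P, p ^ a = P + 1 := ⟨p ^ a - 1, by omega⟩
  obtain ⟨J, hJ⟩ : ∃ J, j' = J + 1 := ⟨j' - 1, by omega⟩
  -- `p ^ i = p ^ a * p ^ (i - a)`
  have hsplit : p ^ i = p ^ a * p ^ (i - a) := by
    rw [← pow_add]; congr 1; omega
  -- `l'`
  have hlt : j' < p ^ (i - a) := by
    have : p ^ a * j' < p ^ a * p ^ (i - a) := by rw [← hsplit, ← hj]; omega
    exact Nat.lt_of_mul_lt_mul_left this
  obtain ⟨L, hL⟩ : ∃ L, p ^ (i - a) = j' + (L + 1) := ⟨p ^ (i - a) - j' - 1, by omega⟩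
  have hnk : n - k = (L + 1) * (P + 1) := by
    have : n + 1 = (P + 1) * (J + 1 + (L + 1)) := by
      rw [← hn, hsplit, hP, hL, hJ]
    have h2 : k + 1 = (P + 1) * (J + 1) := by rw [hj, hP, hJ]
    have h3 : n + 1 = (k + 1) + (P + 1) * (L + 1) := by rw [this, h2]; ring
    have : n - k = (P + 1) * (L + 1) := by omega
    rw [this]; ring
  have hk1 : k = (J + 1) * P + J := by
    have h2 : k + 1 = (P + 1) * (J + 1) := by rw [hj, hP, hJ]
    have : (P + 1) * (J + 1) = (J + 1) * P + J + 1 := by ring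
    omega
  have hk2 : k + 1 = (J + 1) * (P + 1) := by rw [hj, hP, hJ]; ring
  have hnk2 : n - (k + 1) = (L + 1) * P + L := by
    have : (L + 1) * (P + 1) = (L + 1) * P + L + 1 := by ring
    omega
  -- the scalar
  have hj'K : ((j' : ℕ) : K) ≠ 0 := by
    intro h
    exact hj' ((CharP.cast_eq_zero_iff K p j').mp h)
  obtain ⟨b, hb⟩ := (bijective_iterateFrobenius K p a).2 ((-1) ^ k * ((j' : ℕ) : K)⁻¹)
  rw [iterateFrobenius_def] at hb
  have hmem := delta_mem_of_lt K A p hai (algebraMap K A b * (x ^ (J + 1) * y ^ (L + 1)))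
  rw [T_eq K A p a P J L hP x y b] at hmem
  have hc : algebraMap K A b ^ (p ^ a) * ((J + 1 : ℕ) : A) = (-1) ^ k := by
    rw [← map_pow, hb, ← hJ, ← map_natCast (algebraMap K A) j', ← map_mul, mul_assoc,
      inv_mul_cancel₀ hj'K, mul_one, map_pow, map_neg, map_one]
  have hLJ : ((L + 1 : ℕ) : A) = -((J + 1 : ℕ) : A) := by
    have h0 : ((p ^ (i - a) : ℕ) : A) = 0 := by
      obtain ⟨e, he⟩ : ∃ e, i - a = e + 1 := ⟨i - a - 1, by omega⟩
      rw [he, pow_succ, Nat.cast_mul, p_eq_zero K A p, mul_zero]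
    rw [hL, hJ, Nat.cast_add] at h0
    linear_combination h0
  have hc2 : algebraMap K A b ^ (p ^ a) * ((L + 1 : ℕ) : A) = (-1) ^ (k + 1) := by
    rw [hLJ, pow_succ]; linear_combination (-1 : A) * hc
  rw [hc, hc2, ← hk1, ← hk2, ← hnk, ← hnk2] at hmem
  exact hmem

variable [PerfectField K]

lemma add_mem (i : ℕ) : ∀ ω ω' : Ω[A⁄K], ω ∈ sigma K A p i → ω' ∈ sigma K A p i →
    ω + ω' ∈ sigma K A p i := by
  have hp : p.Prime := Fact.out
  induction i with
  | zero =>
    intro ω ω' hω hω'
    simp only [sigma_zero, Set.mem_singleton_iff] at hω hω' ⊢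
    rw [hω, hω', add_zero]
  | succ i ih =>
    intro ω ω' hω hω'
    rw [mem_sigma_succ] at hω hω' ⊢
    obtain ⟨x, hx⟩ := hω
    obtain ⟨x', hx'⟩ := hω'
    refine ⟨x + x', ?_⟩
    have hpos : 0 < p ^ i := pow_pos hp.pos i
    obtain ⟨n, hn⟩ : ∃ n, p ^ i = n + 1 := ⟨p ^ i - 1, by omega⟩
    have hdef : delta K A p i (x + x') - delta K A p i x - delta K A p i x' ∈ sigma K A p i := by
      rw [defect_eq K A p i n hn]
      have : ∀ s : Finset ℕ, (∀ k ∈ s, k < n) → ∑ k ∈ s, T K A n x x' k ∈ sigma K A p i := by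
        intro s
        induction s using Finset.induction_on with
        | empty => intro _; rw [Finset.sum_empty]; exact zero_mem K A p i
        | insert c s hc ihs =>
          intro h
          rw [Finset.sum_insert hc]
          exact ih _ _ (T_mem K A p i n hn x x' c (h c (Finset.mem_insert_self _ _)))
            (ihs fun k hk => h k (Finset.mem_insert_of_mem hk))
      exact this _ fun k hk => Finset.mem_range.mp hk
    have h2 := ih _ _ (ih _ _ hx hx') (neg_mem K A p i _ hdef)
    have e : ω - delta K A p i x + (ω' - delta K A p i x') +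
        -(delta K A p i (x + x') - delta K A p i x - delta K A p i x') =
        ω + ω' - delta K A p i (x + x') := by abel
    rwa [e] at h2

lemma defect_mem (i : ℕ) (x y : A) :
    delta K A p i (x + y) - delta K A p i x - delta K A p i y ∈ sigma K A p i := by
  have hp : p.Prime := Fact.out
  have hpos : 0 < p ^ i := pow_pos hp.pos i
  obtain ⟨n, hn⟩ : ∃ n, p ^ i = n + 1 := ⟨p ^ i - 1, by omega⟩
  rw [defect_eq K A p i n hn]
  have : ∀ s : Finset ℕ, (∀ k ∈ s, k < n) → ∑ k ∈ s, T K A n x y k ∈ sigma K A p i := by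
    intro s
    induction s using Finset.induction_on with
    | empty => intro _; rw [Finset.sum_empty]; exact zero_mem K A p i
    | insert c s hc ihs =>
      intro h
      rw [Finset.sum_insert hc]
      exact add_mem K A p i _ _ (T_mem K A p i n hn x y c (h c (Finset.mem_insert_self _ _)))
        (ihs fun k hk => h k (Finset.mem_insert_of_mem hk))
  exact this _ fun k hk => Finset.mem_range.mp hk

lemma smul_mem (i : ℕ) : ∀ (c : K) (ω : Ω[A⁄K]), ω ∈ sigma K A p i → c • ω ∈ sigma K A p i := by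
  have hp : p.Prime := Fact.out
  have : ExpChar K p := ExpChar.prime hp
  induction i with
  | zero =>
    intro c ω hω
    simp only [sigma_zero, Set.mem_singleton_iff] at hω ⊢
    rw [hω, smul_zero]
  | succ i ih =>
    intro c ω hω
    rw [mem_sigma_succ] at hω ⊢
    obtain ⟨x, hx⟩ := hω
    obtain ⟨b, hb⟩ := (bijective_iterateFrobenius K p i).2 c
    rw [iterateFrobenius_def] at hb
    refine ⟨algebraMap K A b * x, ?_⟩
    rw [delta_algebraMap_mul, ← map_pow, hb, algebraMap_smul, ← smul_sub]
    exact ih c _ hx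

/-- `sigma i` as a `K`-submodule. -/
noncomputable def sigmaSub (i : ℕ) : Submodule K (Ω[A⁄K]) where
  carrier := sigma K A p i
  add_mem' := fun ha hb => add_mem K A p i _ _ ha hb
  zero_mem' := zero_mem K A p i
  smul_mem' := fun c _ h => smul_mem K A p i c _ h

lemma sigma_eq_closure (i : ℕ) :
    sigma K A p i =
      (AddSubgroup.closure (⋃ j ∈ Finset.range i, Set.range (delta K A p j)) : Set (Ω[A⁄K])) := by
  apply Set.Subset.antisymm
  · induction i with
    | zero =>
      intro ω hω
      simp only [sigma_zero, Set.mem_singleton_iff] at hω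
      rw [hω]
      exact AddSubgroup.zero_mem _
    | succ i ih =>
      intro ω hω
      rw [mem_sigma_succ] at hω
      obtain ⟨x, hx⟩ := hω
      have hmono : AddSubgroup.closure (⋃ j ∈ Finset.range i, Set.range (delta K A p j)) ≤
          AddSubgroup.closure (⋃ j ∈ Finset.range (i + 1), Set.range (delta K A p j)) := by
        apply AddSubgroup.closure_mono
        intro z hz
        simp only [Set.mem_iUnion, Finset.mem_range, Set.mem_range] at hz ⊢
        obtain ⟨j, hj, hz⟩ := hz
        exact ⟨j, by omega, hz⟩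
      have h1 := hmono (ih hx)
      have h2 : delta K A p i x ∈
          AddSubgroup.closure (⋃ j ∈ Finset.range (i + 1), Set.range (delta K A p j)) := by
        apply AddSubgroup.subset_closure
        simp only [Set.mem_iUnion, Finset.mem_range, Set.mem_range]
        exact ⟨i, by omega, x, rfl⟩
      have := AddSubgroup.add_mem _ h1 h2
      rwa [sub_add_cancel] at this
  · have : AddSubgroup.closure (⋃ j ∈ Finset.range i, Set.range (delta K A p j)) ≤
        (sigmaSub K A p i).toAddSubgroup := by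
      rw [AddSubgroup.closure_le]
      intro z hz
      simp only [Set.mem_iUnion, Finset.mem_range, Set.mem_range] at hz
      obtain ⟨j, hj, x, rfl⟩ := hz
      exact delta_mem_of_lt K A p hj x
    exact this

end Groth.Agent.Lib.Helper72.PDiff
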