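import Mathlib

set_option autoImplicit false

namespace Groth.Agent.Lib.Helper72.RootExch

open Function

variable {idx M N : Type} [AddCommGroup M] [AddCommGroup N] {P : RootPairing idx ℤ M N}

lemma closure_sum (b : P.Base) (m : M)
    (hm : m ∈ AddSubmonoid.closure (P.root '' (b.support : Set idx))) :
    ∃ f : idx → ℕ, m = ∑ j ∈ b.support, f j • P.root j := by
  classical
  refine AddSubmonoid.closure_induction ?_ ⟨0, by simp⟩ ?_ hm
  · rintro - ⟨j, hj, rfl⟩
    refine ⟨Pi.single j 1, ?_⟩
    rw [Finset.sum_eq_single_of_mem j hj]
    · simp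
    · intro k _ hkj
      simp [hkj]
  · intro _ _ _ _ ⟨f, hf'⟩ ⟨g, hg'⟩
    exact ⟨f + g, by simp [hf', hg', add_smul, Finset.sum_add_distrib]⟩

lemma isPos_of_mem (b : P.Base) {a : idx}
    (h : P.root a ∈ AddSubmonoid.closure (P.root '' (b.support : Set idx))) : b.IsPos a := by
  obtain ⟨f, hf⟩ := closure_sum b _ h
  have h2 : P.root a = ∑ j ∈ b.support, (fun j => (f j : ℤ)) j • P.root j := by
    rw [hf]
    apply Finset.sum_congr rfl
    intro j _
    simp
  rw [RootPairing.Base.isPos_iff', RootPairing.Base.height_eq_sum h2]
  apply Finset.sum_nonneg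
  intro j _
  exact Int.natCast_nonneg _

lemma not_isPos_of_neg_mem (b : P.Base) {a : idx}
    (h : -P.root a ∈ AddSubmonoid.closure (P.root '' (b.support : Set idx))) : ¬ b.IsPos a := by
  obtain ⟨f, hf⟩ := closure_sum b _ h
  have h2 : P.root a = ∑ j ∈ b.support, (fun j => -(f j : ℤ)) j • P.root j := by
    rw [← neg_neg (P.root a), hf, ← Finset.sum_neg_distrib]
    apply Finset.sum_congr rfl
    intro j _
    simp
  rw [RootPairing.Base.isPos_iff, RootPairing.Base.height_eq_sum h2, not_lt]
  apply Finset.sum_nonpos
  intro j _
  simp

/-- conjugation of reflection permutations -/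
lemma reflectionPerm_reflectionPerm (i j : idx) :
    P.reflectionPerm (P.reflectionPerm j i) =
      P.reflectionPerm j * P.reflectionPerm i * P.reflectionPerm j := by
  ext k
  apply P.root.injective
  simp only [Equiv.Perm.mul_apply, RootPairing.root_reflectionPerm]
  rw [RootPairing.reflection_reflectionPerm]
  rfl

variable [Finite idx] [P.IsReduced]

theorem exchange (b : P.Base) : ∀ (l : List idx), (∀ a ∈ l, a ∈ b.support) →
    ∀ c : idx, b.IsPos c → ¬ b.IsPos (((l.map P.reflectionPerm).prod).symm c) →
    ∃ i : ℕ, i < l.length ∧
      P.reflectionPerm c * ((l.take (i + 1)).map P.reflectionPerm).prod =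
        ((l.take i).map P.reflectionPerm).prod := by
  intro l
  induction l with
  | nil =>
    intro _ c hc hneg
    exfalso
    apply hneg
    have : ((List.map P.reflectionPerm ([] : List idx)).prod).symm c = c := rfl
    rw [this]
    exact hc
  | cons α l' ih =>
    intro hl c hc hneg
    have hα : α ∈ b.support := hl α (List.mem_cons_self)
    have hl' : ∀ a ∈ l', a ∈ b.support := fun a ha => hl a (List.mem_cons_of_mem _ ha)
    by_cases hcα : c = α
    · refine ⟨0, by simp, ?_⟩
      subst hcα
      simp only [zero_add, List.take_succ_cons, List.take_zero, List.map_cons, List.map_nil,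
        List.prod_cons, List.prod_nil, mul_one]
      have := P.reflectionPerm_sq c
      rwa [sq] at this
    · have hc' : b.IsPos (P.reflectionPerm α c) := hc.reflectionPerm hα hcα
      have hneg' : ¬ b.IsPos (((l'.map P.reflectionPerm).prod).symm (P.reflectionPerm α c)) := by
        intro h
        apply hneg
        have : ((List.map P.reflectionPerm (α :: l')).prod).symm c =
            ((l'.map P.reflectionPerm).prod).symm (P.reflectionPerm α c) := by
          rw [List.map_cons, List.prod_cons]
          show (P.reflectionPerm α * _)⁻¹ c = _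
          rw [mul_inv_rev, Equiv.Perm.mul_apply, P.reflectionPerm_inv]
          rfl
        rw [this]
        exact h
      obtain ⟨i, hi, hEq⟩ := ih hl' _ hc' hneg'
      refine ⟨i + 1, by simpa using hi, ?_⟩
      rw [reflectionPerm_reflectionPerm] at hEq
      simp only [List.take_succ_cons, List.map_cons, List.prod_cons]
      have hsq : P.reflectionPerm α * P.reflectionPerm α = 1 := by
        have := P.reflectionPerm_sq α
        rwa [sq] at this
      calc P.reflectionPerm c * (P.reflectionPerm α * (List.map P.reflectionPerm (List.take (i + 1) l')).prod)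
          = P.reflectionPerm α * (P.reflectionPerm α * P.reflectionPerm c * P.reflectionPerm α *
              (List.map P.reflectionPerm (List.take (i + 1) l')).prod) := by
            simp only [← mul_assoc, hsq, one_mul]
        _ = _ := by rw [hEq]

end Groth.Agent.Lib.Helper72.RootExch
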