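import Mathlib
import Groth.Agent.Lib.Helper27.WeylBase
import Groth.Agent.Lib.Helper27.WeylLen
import Groth.Agent.Lib.Helper72.RootExch

set_option autoImplicit false
set_option linter.unusedSectionVars false

namespace Groth.Agent.Lib.Helper72.ParabPos

open Groth.Agent.Lib.Helper27.Weyl Groth.Agent.Lib.Helper72.RootExch RootPairing

variable {idx M N : Type} [Finite idx] [AddCommGroup M] [AddCommGroup N]

lemma torsionFree_left (P : RootPairing idx ℤ M N) : IsAddTorsionFree M := by
  have : Module.IsReflexive ℤ M := .of_isPerfPair P.toLinearMap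
  exact .of_isTorsionFree ℤ M

lemma torsionFree_right (P : RootPairing idx ℤ M N) : IsAddTorsionFree N :=
  torsionFree_left P.flip

variable {P : RootPairing idx ℤ M N}

lemma root_neg (i : idx) : P.root (P.reflectionPerm i i) = -P.root i := by simp

lemma neg_neg_idx (i : idx) :
    P.reflectionPerm (P.reflectionPerm i i) (P.reflectionPerm i i) = i := by
  apply P.root.injective
  rw [root_neg, root_neg, neg_neg]

/-- reflection in a simple root preserves positivity of the other positive roots;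
no reducedness assumption -/
lemma isPos_refl (b : P.Base) {i j : idx} (hi : b.IsPos i) (hj : j ∈ b.support) (hij : i ≠ j) :
    b.IsPos (P.reflectionPerm j i) := by
  classical
  have tM := torsionFree_left P
  have tN := torsionFree_right P
  obtain ⟨f, hfs, hf, hf'⟩ := b.exists_root_eq_sum_int i
  have hfpos : 0 < f := by
    rcases hf with h | h
    · exact h
    · exfalso
      rw [RootPairing.Base.isPos_iff, RootPairing.Base.height_eq_sum hf'] at hi
      have : ∑ j ∈ b.support, f j ≤ 0 := Finset.sum_nonpos (fun t _ => h.le t)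
      omega
  have hex : ∃ t ∈ b.support, t ≠ j ∧ 0 < f t := by
    by_contra hcon
    push Not at hcon
    have h1 : P.root i = f j • P.root j := by
      rw [hf', Finset.sum_eq_single_of_mem j hj]
      intro t ht htj
      have h0 : 0 ≤ f t := hfpos.le t
      rw [le_antisymm (hcon t ht htj) h0, zero_smul]
    have h2 := b.eq_one_or_neg_one_of_mem_support_of_smul_mem j hj (f j) ⟨i, h1⟩
    rcases h2 with h2 | h2
    · rw [h2, one_smul] at h1
      exact hij (P.root.injective h1)
    · have h0 : 0 ≤ f j := hfpos.le j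
      rw [h2] at h0
      omega
  obtain ⟨t, ht, htj, hft⟩ := hex
  have h3 : P.root (P.reflectionPerm j i) =
      ∑ k ∈ b.support, ((f - Pi.single j (P.pairingIn ℤ i j) : idx → ℤ) k) • P.root k := by
    rw [root_reflectionPerm, reflection_apply_root' ℤ]
    simp only [Pi.sub_apply, sub_smul, Finset.sum_sub_distrib, ← hf']
    congr 1
    rw [Finset.sum_eq_single_of_mem j hj]
    · simp
    · intro k _ hk
      simp [hk]
  obtain ⟨g, hgs, hg, hg'⟩ := b.exists_root_eq_sum_int (P.reflectionPerm j i)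
  have h4 := coeff_unique b (hg'.symm.trans h3)
  have hgt : 0 < g t := by
    rw [h4 t ht]
    simp [htj, hft]
  have hgpos : 0 < g := by
    rcases hg with h | h
    · exact h
    · exact absurd hgt (not_lt.mpr (h.le t))
  rw [RootPairing.Base.isPos_iff, RootPairing.Base.height_eq_sum hg']
  exact Finset.sum_pos' (fun k _ => hgpos.le k) ⟨t, ht, hgt⟩

lemma isPos_refl_iff (b : P.Base) {i j : idx} (hj : j ∈ b.support) (h1 : i ≠ j)
    (h2 : i ≠ P.reflectionPerm j j) : b.IsPos (P.reflectionPerm j i) ↔ b.IsPos i := by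
  constructor
  · intro h
    have h3 : P.reflectionPerm j i ≠ j := by
      intro h4
      apply h2
      calc i = P.reflectionPerm j (P.reflectionPerm j i) := (P.reflectionPerm_self j i).symm
        _ = P.reflectionPerm j j := by rw [h4]
    have := isPos_refl b h hj h3
    rwa [P.reflectionPerm_self] at this
  · intro h
    exact isPos_refl b h hj h1

/-- a parabolic subset contains a system of positive roots -/
lemma exists_base_of_parabolic (Q : Set idx)
    (hcl : ∀ a b c : idx, a ∈ Q → b ∈ Q → P.root a + P.root b = P.root c → c ∈ Q)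
    (hpar : ∀ a, a ∈ Q ∨ P.reflectionPerm a a ∈ Q) (n : ℕ) :
    ∀ b : P.Base, {i | b.IsPos i ∧ i ∉ Q}.ncard = n → ∃ b' : P.Base, ∀ i, b'.IsPos i → i ∈ Q := by
  induction n with
  | zero =>
    intro b h
    have hfin : {i | b.IsPos i ∧ i ∉ Q}.Finite := Set.toFinite _
    rw [Set.ncard_eq_zero hfin] at h
    refine ⟨b, fun i hi => ?_⟩
    by_contra hn
    have : i ∈ {i | b.IsPos i ∧ i ∉ Q} := ⟨hi, hn⟩
    rw [h] at this
    exact this
  | succ n ih =>
    intro b h
    have hne : {i | b.IsPos i ∧ i ∉ Q}.Nonempty := by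
      rw [← Set.ncard_pos]; omega
    obtain ⟨i0, hi0, hi0'⟩ := hne
    have hsimple : ∃ j ∈ b.support, j ∉ Q := by
      by_contra hcon
      push Not at hcon
      apply hi0'
      exact hi0.induction_on_add (p := (· ∈ Q)) hcon
        (fun i j k hk hi hj => hcl i j k hi (hcon j hj) hk.symm)
    obtain ⟨j, hj, hjQ⟩ := hsimple
    have hjpos : b.IsPos j := RootPairing.Base.isPos_of_mem_support hj
    have hnegQ : P.reflectionPerm j j ∈ Q := (hpar j).resolve_left hjQ
    have key : {i | (smulBase (Equiv.reflection P j) b).IsPos i ∧ i ∉ Q} =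
        {i | b.IsPos i ∧ i ∉ Q} \ {j} := by
      ext i
      simp only [Set.mem_ofPred_eq, Set.mem_sdiff, Set.mem_singleton_iff]
      rw [isPos_smulBase', Equiv.reflection_inv, reflection_smul_idx]
      by_cases hij : i = j
      · subst hij
        simp [not_isPos_neg b hjpos]
      · by_cases hij' : i = P.reflectionPerm j j
        · subst hij'
          have h1 : ¬ b.IsPos (P.reflectionPerm j j) := not_isPos_neg b hjpos
          simp [h1, hnegQ]
        · have h1 := isPos_refl_iff b hj hij hij'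
          simp [h1, hij]
    have hcard : {i | (smulBase (Equiv.reflection P j) b).IsPos i ∧ i ∉ Q}.ncard = n := by
      have hmem : j ∈ {i | b.IsPos i ∧ i ∉ Q} := ⟨hjpos, hjQ⟩
      rw [key, Set.ncard_sdiff_singleton_of_mem hmem, h]; rfl
    exact ih _ hcard

theorem main (P : RootPairing idx ℤ M N) (R₁ R₂ : Set idx)
    (h₁ : ∀ a b c : idx, a ∈ R₁ → b ∈ R₁ → P.root a + P.root b = P.root c → c ∈ R₁)
    (h₂ : ∀ a b c : idx, a ∈ R₂ → b ∈ R₂ → P.root a + P.root b = P.root c → c ∈ R₂)
    (hb₁ : ∃ b : P.Base, {a | P.root a ∈ AddSubmonoid.closure (P.root '' (b.support : Set idx))} ⊆ R₁)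
    (hb₂ : ∃ b : P.Base, {a | P.root a ∈ AddSubmonoid.closure (P.root '' (b.support : Set idx))} ⊆ R₂)
    (hunion : R₁ ∪ R₂ = Set.univ) :
    ∃ b : P.Base, {a | P.root a ∈ AddSubmonoid.closure (P.root '' (b.support : Set idx))} ⊆
      {a | a ∈ R₁ ∧ ∃ c ∈ R₂, P.root a = -P.root c} := by
  obtain ⟨b₁, hb₁⟩ := hb₁
  obtain ⟨b₂, hb₂⟩ := hb₂
  have hpar₁ : ∀ a, a ∈ R₁ ∨ P.reflectionPerm a a ∈ R₁ := by
    intro a
    rcases b₁.root_mem_or_neg_mem a with h | h
    · exact Or.inl (hb₁ h)
    · refine Or.inr (hb₁ ?_)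
      rw [Set.mem_ofPred_eq, root_neg]
      exact h
  have hpar₂ : ∀ a, a ∈ R₂ ∨ P.reflectionPerm a a ∈ R₂ := by
    intro a
    rcases b₂.root_mem_or_neg_mem a with h | h
    · exact Or.inl (hb₂ h)
    · refine Or.inr (hb₂ ?_)
      rw [Set.mem_ofPred_eq, root_neg]
      exact h
  let Q : Set idx := {a | a ∈ R₁ ∧ P.reflectionPerm a a ∈ R₂}
  have hcl : ∀ a b c : idx, a ∈ Q → b ∈ Q → P.root a + P.root b = P.root c → c ∈ Q := by
    intro a b c ha hb hc
    refine ⟨h₁ a b c ha.1 hb.1 hc, h₂ _ _ _ ha.2 hb.2 ?_⟩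
    rw [root_neg, root_neg, root_neg, ← hc]
    abel
  have hpar : ∀ a, a ∈ Q ∨ P.reflectionPerm a a ∈ Q := by
    intro a
    by_contra hcon
    push Not at hcon
    obtain ⟨hc1, hc2⟩ := hcon
    have hu : ∀ x, x ∈ R₁ ∨ x ∈ R₂ := fun x => by
      have : x ∈ R₁ ∪ R₂ := hunion ▸ Set.mem_univ x
      exact this
    by_cases ha1 : a ∈ R₁
    · by_cases ha2 : P.reflectionPerm a a ∈ R₂
      · exact hc1 ⟨ha1, ha2⟩
      · have h3 : a ∈ R₂ := by
          rcases hpar₂ (P.reflectionPerm a a) with h | h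
          · exact absurd h ha2
          · rwa [neg_neg_idx] at h
        have h4 : P.reflectionPerm a a ∈ R₁ := (hu _).resolve_right ha2
        exact hc2 ⟨h4, by rwa [neg_neg_idx]⟩
    · have h3 : P.reflectionPerm a a ∈ R₁ := (hpar₁ a).resolve_left ha1
      have h4 : a ∈ R₂ := (hu a).resolve_left ha1
      exact hc2 ⟨h3, by rwa [neg_neg_idx]⟩
  obtain ⟨b', hb'⟩ := exists_base_of_parabolic Q hcl hpar _ b₁ rfl
  refine ⟨b', fun a ha => ?_⟩
  have haQ : a ∈ Q := hb' a (isPos_of_mem b' ha)
  exact ⟨haQ.1, P.reflectionPerm a a, haQ.2, by rw [root_neg, neg_neg]⟩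

end Groth.Agent.Lib.Helper72.ParabPos
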