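import Mathlib.FieldTheory.IsPerfectClosure
import Mathlib.RingTheory.Flat.EquationalCriterion
import Mathlib.RingTheory.RingHom.Flat
import Mathlib.RingTheory.RingHom.FaithfullyFlat
import Mathlib.RingTheory.Spectrum.Prime.Homeomorph

/-!
Helper lemmas on perfect closures (helper72).
-/

set_option autoImplicit false

namespace Groth.Agent.Lib.Helper72

open Module

section

variable {K L : Type*} [CommRing K] [CommRing L] (i : K →+* L) (p : ℕ)

/-- In a `p`-radical extension, a finite family of elements has a uniform `p^n`-th power landing in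
the image. -/
theorem exists_uniform_pow [IsPRadical i p] {ι : Type*} [Finite ι] (x : ι → L) :
    ∃ (n : ℕ) (y : ι → K), ∀ k, i (y k) = x k ^ p ^ n := by
  classical
  have : Fintype ι := Fintype.ofFinite ι
  have h := fun k => IsPRadical.pow_mem i p (x k)
  choose n y hy using h
  refine ⟨Finset.univ.sup n, fun k => y k ^ p ^ (Finset.univ.sup n - n k), fun k => ?_⟩
  have hle : n k ≤ Finset.univ.sup n := Finset.le_sup (f := n) (Finset.mem_univ k)
  rw [map_pow, hy k, ← pow_mul, ← pow_add, Nat.add_sub_cancel' hle]

/-- uniform version with a lower bound on the exponent -/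
theorem exists_uniform_pow_ge [IsPRadical i p] {ι : Type*} [Finite ι] (x : ι → L) (m : ℕ) :
    ∃ (n : ℕ) (y : ι → K), m ≤ n ∧ ∀ k, i (y k) = x k ^ p ^ n := by
  obtain ⟨n, y, hy⟩ := exists_uniform_pow i p x
  refine ⟨n + m, fun k => y k ^ p ^ m, Nat.le_add_left _ _, fun k => ?_⟩
  rw [map_pow, hy k, ← pow_mul, ← pow_add]

end

section

variable (R : Type*) [CommRing R] (p : ℕ) [Fact p.Prime] [CharP R p] [PerfectRing R p]

/-- `p^n`-th root in a perfect ring. -/
noncomputable def proot (n : ℕ) : R ≃+* R := (iterateFrobeniusEquiv R p n).symm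

variable {R}

theorem proot_pow (n : ℕ) (y : R) : (proot R p n y) ^ p ^ n = y := by
  have := (iterateFrobeniusEquiv R p n).apply_symm_apply y
  rwa [iterateFrobeniusEquiv_apply, iterateFrobenius_def] at this

theorem pow_proot (n : ℕ) (y : R) : proot R p n (y ^ p ^ n) = y := by
  have := (iterateFrobeniusEquiv R p n).symm_apply_apply y
  rwa [iterateFrobeniusEquiv_apply, iterateFrobenius_def] at this

theorem pow_p_pow_injective (n : ℕ) : Function.Injective fun y : R => y ^ p ^ n := by
  intro y z h
  have := (iterateFrobeniusEquiv R p n).injective (a₁ := y) (a₂ := z)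
  apply this
  simpa [iterateFrobeniusEquiv_apply, iterateFrobenius_def] using h

end

section

variable {K L : Type*} [CommRing K] [CommRing L] (i : K →+* L) (p : ℕ) [Fact p.Prime]

/-- A `p`-radical ring map induces a homeomorphism on prime spectra. -/
theorem isHomeomorph_comap_of_isPRadical [IsPRadical i p] :
    IsHomeomorph (PrimeSpectrum.comap i) := by
  have hp : p.Prime := Fact.out
  refine PrimeSpectrum.isHomeomorph_comap i (fun x => ?_) ?_
  · obtain ⟨n, y, hy⟩ := IsPRadical.pow_mem i p x
    exact ⟨p ^ n, pow_pos hp.pos _, y, hy⟩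
  · exact (IsPRadical.ker_le i p).trans pNilradical_le_nilradical

end

end Groth.Agent.Lib.Helper72
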