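import Mathlib.RingTheory.MvPolynomial.Homogeneous
import Mathlib.Algebra.Order.Antidiag.FinsuppEquiv
import Mathlib.LinearAlgebra.Basis.VectorSpace
import Mathlib.LinearAlgebra.Dimension.Constructions
import Mathlib.LinearAlgebra.FiniteDimensional.Lemmas
import Mathlib.RingTheory.MvPolynomial.Basic

/-!
Forms vanishing at finite sets of rational points: linear forms as polynomials,
dimension of the space of forms of a given degree, separating products of linear forms.
-/

namespace Groth.Agent.Lib.Helper72.PlanePoints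

open MvPolynomial

universe u

variable {k : Type u} [Field k] {m : ℕ}

/-- A linear functional on `k^m` as a homogeneous polynomial of degree one. -/
noncomputable def linPoly (ℓ : (Fin m → k) →ₗ[k] k) : MvPolynomial (Fin m) k :=
  ∑ i, C (ℓ (Pi.single i 1)) * X i

lemma aeval_linPoly (ℓ : (Fin m → k) →ₗ[k] k) (v : Fin m → k) :
    aeval v (linPoly ℓ) = ℓ v := by
  simp only [linPoly, map_sum, map_mul, aeval_C, aeval_X, Algebra.algebraMap_self, RingHom.id_apply]
  conv_rhs => rw [← Finset.univ_sum_single v]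
  rw [map_sum]
  refine Finset.sum_congr rfl fun i _ ↦ ?_
  have : (Pi.single i (v i) : Fin m → k) = v i • Pi.single i (1 : k) := by
    ext j
    by_cases h : j = i
    · subst h; simp
    · simp [Pi.single_eq_of_ne h]
  rw [this, map_smul, smul_eq_mul, mul_comm]

lemma isHomogeneous_linPoly (ℓ : (Fin m → k) →ₗ[k] k) : (linPoly ℓ).IsHomogeneous 1 := by
  unfold linPoly
  refine IsHomogeneous.sum _ _ _ fun i _ ↦ ?_
  have := (isHomogeneous_C (Fin m) (ℓ (Pi.single i 1))).mul (isHomogeneous_X k i)
  simpa using this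

/-- a product of linear forms indexed by a finset. -/
lemma isHomogeneous_prod_linPoly {ι : Type*} (s : Finset ι)
    (ℓ : ι → (Fin m → k) →ₗ[k] k) :
    (∏ i ∈ s, linPoly (ℓ i)).IsHomogeneous s.card := by
  have := IsHomogeneous.prod s (fun i ↦ linPoly (ℓ i)) (fun _ ↦ 1)
    (fun i _ ↦ isHomogeneous_linPoly (ℓ i))
  simpa using this

lemma aeval_prod_linPoly {ι : Type*} (s : Finset ι)
    (ℓ : ι → (Fin m → k) →ₗ[k] k) (v : Fin m → k) :
    aeval v (∏ i ∈ s, linPoly (ℓ i)) = ∏ i ∈ s, ℓ i v := by
  rw [map_prod]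
  exact Finset.prod_congr rfl fun i _ ↦ aeval_linPoly _ _

/-- number of exponent vectors of given degree. -/
lemma card_degree_eq (m d : ℕ) :
    Nat.card {e : Fin m →₀ ℕ | e.degree = d} = (m + d - 1).choose d := by
  have h : {e : Fin m →₀ ℕ | e.degree = d} =
      ((Finset.univ : Finset (Fin m)).finsuppAntidiag d : Set (Fin m →₀ ℕ)) := by
    ext e
    simp only [Set.mem_setOf_eq, Finset.mem_coe, Finset.mem_finsuppAntidiag, Finset.subset_univ,
      and_true, Finsupp.degree_eq_sum]
  rw [h, Nat.card_coe_set_eq, Set.ncard_coe_finset, Finset.card_finsuppAntidiag_nat_eq_choose]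
  simp

theorem finrank_homogeneousSubmodule (m d : ℕ) :
    Module.finrank k (homogeneousSubmodule (Fin m) k d) = (m + d - 1).choose d := by
  rw [homogeneousSubmodule_eq_finsupp_supported]
  have b := basisRestrictSupport k {e : Fin m →₀ ℕ | e.degree = d}
  have : Module.finrank k (restrictSupport k {e : Fin m →₀ ℕ | e.degree = d}) =
      (m + d - 1).choose d := by
    rw [Module.finrank_eq_nat_card_basis b, card_degree_eq]
  exact this

lemma finite_degree_eq (m d : ℕ) : Finite {e : Fin m →₀ ℕ | e.degree = d} := by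
  have h : {e : Fin m →₀ ℕ | e.degree = d} =
      ((Finset.univ : Finset (Fin m)).finsuppAntidiag d : Set (Fin m →₀ ℕ)) := by
    ext e
    simp only [Set.mem_setOf_eq, Finset.mem_coe, Finset.mem_finsuppAntidiag, Finset.subset_univ,
      and_true, Finsupp.degree_eq_sum]
  rw [h]
  exact Finset.finite_toSet _

instance (m d : ℕ) : Module.Finite k (homogeneousSubmodule (Fin m) k d) := by
  rw [homogeneousSubmodule_eq_finsupp_supported]
  have := finite_degree_eq m d
  exact Module.Finite.of_basis (basisRestrictSupport k {e : Fin m →₀ ℕ | e.degree = d})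

/-- the space of forms of degree `d` vanishing on a finite set. -/
noncomputable abbrev vanishing (d : ℕ) (Λ : Finset (Fin m → k)) :
    Submodule k (MvPolynomial (Fin m) k) :=
  homogeneousSubmodule (Fin m) k d ⊓ ⨅ v ∈ Λ, LinearMap.ker (aeval v).toLinearMap

lemma mem_vanishing {d : ℕ} {Λ : Finset (Fin m → k)} {F : MvPolynomial (Fin m) k} :
    F ∈ vanishing d Λ ↔ F.IsHomogeneous d ∧ ∀ v ∈ Λ, aeval v F = 0 := by
  simp [vanishing, Submodule.mem_iInf]

/-- evaluation of forms of degree `d` at the points of `Λ`. -/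
noncomputable def evalMap (d : ℕ) (Λ : Finset (Fin m → k)) :
    homogeneousSubmodule (Fin m) k d →ₗ[k] (Λ → k) where
  toFun F v := aeval v.1 F.1
  map_add' F G := by ext v; simp
  map_smul' c F := by ext v; simp

lemma ker_evalMap (d : ℕ) (Λ : Finset (Fin m → k)) :
    LinearMap.ker (evalMap d Λ) =
      Submodule.comap (homogeneousSubmodule (Fin m) k d).subtype (vanishing d Λ) := by
  ext F
  simp only [LinearMap.mem_ker, Submodule.mem_comap, Submodule.subtype_apply, mem_vanishing]
  constructor
  · intro h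
    exact ⟨F.2, fun v hv ↦ congrFun h ⟨v, hv⟩⟩
  · rintro ⟨-, h⟩
    ext ⟨v, hv⟩
    exact h v hv

lemma finrank_vanishing (d : ℕ) (Λ : Finset (Fin m → k)) :
    Module.finrank k (vanishing d Λ) = Module.finrank k (LinearMap.ker (evalMap d Λ)) := by
  rw [ker_evalMap]
  exact (Submodule.comapSubtypeEquivOfLe (p := vanishing d Λ)
    (q := homogeneousSubmodule (Fin m) k d) inf_le_left).finrank_eq.symm

/-- If for each point of `Λ` there is a form of degree `d` vanishing at the other points
but not at it, the evaluation map is surjective. -/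
lemma evalMap_surjective (d : ℕ) (Λ : Finset (Fin m → k))
    (h : ∀ v ∈ Λ, ∃ G : MvPolynomial (Fin m) k, G.IsHomogeneous d ∧ aeval v G ≠ 0 ∧
      ∀ w ∈ Λ, w ≠ v → aeval w G = 0) :
    Function.Surjective (evalMap d Λ) := by
  classical
  choose G hG1 hG2 hG3 using h
  intro t
  let F : homogeneousSubmodule (Fin m) k d :=
    ∑ v : Λ, (t v / aeval v.1 (G v.1 v.2)) • ⟨G v.1 v.2, hG1 v.1 v.2⟩
  refine ⟨F, ?_⟩
  ext w
  simp only [F, map_sum, map_smul, Finset.sum_apply, Pi.smul_apply, smul_eq_mul]
  rw [Finset.sum_eq_single w]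
  · change t w / aeval w.1 (G w.1 w.2) * aeval w.1 (G w.1 w.2) = t w
    exact div_mul_cancel₀ _ (hG2 w.1 w.2)
  · intro v _ hvw
    change t v / aeval v.1 (G v.1 v.2) * aeval w.1 (G v.1 v.2) = 0
    rw [hG3 v.1 v.2 w.1 w.2 (fun h ↦ hvw (Subtype.ext h.symm)), mul_zero]
  · intro h; exact absurd (Finset.mem_univ w) h

end Groth.Agent.Lib.Helper72.PlanePoints
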