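import Mathlib
import Groth.Prelude.Def_LocRes

set_option autoImplicit false
universe u v w

namespace Groth.Agent.Lib.Helper72.ResPow

open PowerSeries

/-- Universal identity over a torsion-free ring. -/
lemma ident_torsionFree (R₀ : Type*) [CommRing R₀]
    (htf : ∀ (k : ℕ) (r : R₀), k ≠ 0 → k • r = 0 → r = 0)
    (P : R₀⟦X⟧) (n N : ℕ) (hn : 1 ≤ n) (hN : 1 ≤ N) (m : ℤ) (hm : (N : ℤ) = -m * n) :
    coeff (N - 1) (P ^ (n - 1) * d⁄dX R₀ P) + m • coeff N (P ^ n) = 0 := by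
  apply htf n _ (by omega)
  have h1 : d⁄dX R₀ (P ^ n) = n • (P ^ (n - 1) * d⁄dX R₀ P) := by
    rw [Derivation.leibniz_pow, smul_eq_mul]
  have h2 := coeff_derivative (P ^ n) (N - 1)
  rw [h1, map_nsmul, Nat.sub_add_cancel hN] at h2
  rw [smul_add, h2]
  have hc : (((N - 1 : ℕ) : R₀) + 1) = (N : R₀) := by
    rw [← Nat.cast_one (R := R₀), ← Nat.cast_add, Nat.sub_add_cancel hN]
  rw [hc]
  have hN' : (N : R₀) = -(m : R₀) * n := by
    have := congrArg (Int.cast : ℤ → R₀) hm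
    push_cast at this
    exact this
  rw [hN', zsmul_eq_mul, nsmul_eq_mul]
  ring

/-- derivative commutes with `map`. -/
lemma derivative_map {R S : Type*} [CommRing R] [CommRing S] (ψ : R →+* S) (P : R⟦X⟧) :
    d⁄dX S (PowerSeries.map ψ P) = PowerSeries.map ψ (d⁄dX R P) := by
  ext k
  rw [coeff_derivative, coeff_map, coeff_map, coeff_derivative, map_mul, map_add, map_natCast,
    map_one]

/-- The identity over an arbitrary commutative ring, by specialization. -/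
lemma ident (F : Type*) [CommRing F] (P : F⟦X⟧) (n N : ℕ) (hn : 1 ≤ n) (hN : 1 ≤ N) (m : ℤ)
    (hm : (N : ℤ) = -m * n) :
    coeff (N - 1) (P ^ (n - 1) * d⁄dX F P) + m • coeff N (P ^ n) = 0 := by
  let R₀ := MvPolynomial ℕ ℤ
  let U : R₀⟦X⟧ := PowerSeries.mk fun i => (MvPolynomial.X i : R₀)
  let ψ : R₀ →+* F := MvPolynomial.eval₂Hom (Int.castRingHom F) fun i => coeff i P
  have hU : PowerSeries.map ψ U = P := by
    ext i
    rw [coeff_map, coeff_mk]
    exact MvPolynomial.eval₂Hom_X' _ _ i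
  have htf : ∀ (k : ℕ) (r : R₀), k ≠ 0 → k • r = 0 → r = 0 := by
    intro k r hk h
    rw [nsmul_eq_mul] at h
    rcases mul_eq_zero.mp h with h | h
    · exact absurd (Nat.cast_eq_zero.mp h) hk
    · exact h
  have := congrArg ψ (ident_torsionFree R₀ htf U n N hn hN m hm)
  rw [map_add, map_zsmul, map_zero, ← coeff_map, ← coeff_map, map_mul, map_pow, map_pow,
    ← derivative_map, hU] at this
  exact this

open HahnSeries LaurentSeries in
/-- The residue of `g ^ (n-1) dg` vanishes for natural `n ≥ 1`. -/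
theorem res_pow (F : Type*) [Field F] (g : F⸨X⸩) (n : ℕ) (hn : 1 ≤ n) :
    (g ^ (n - 1) * LocRes.D F g).coeff (-1) = 0 := by
  obtain ⟨m, hm⟩ : ∃ m : ℤ, m = g.order := ⟨_, rfl⟩
  obtain ⟨P, hP⟩ : ∃ P : F⟦X⟧, P = g.powerSeriesPart := ⟨_, rfl⟩
  have hg : (single m 1 : F⸨X⸩) * (P : F⸨X⸩) = g := by
    rw [hm, hP]; exact g.single_order_mul_powerSeriesPart
  have h1 : g ^ (n - 1) = (single ((n - 1) • m) 1 : F⸨X⸩) * ((P ^ (n - 1) : F⟦X⟧) : F⸨X⸩) := by
    rw [← hg, mul_pow, single_pow, one_pow, PowerSeries.coe_pow]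
  have h2 : LocRes.D F g = (single m 1 : F⸨X⸩) * ((d⁄dX F P : F⟦X⟧) : F⸨X⸩) +
      (single (m - 1) (m • (1 : F)) : F⸨X⸩) * (P : F⸨X⸩) := by
    rw [LocRes.D_apply, ← hg, LocRes.derivative_single_mul, LocRes.derivative_coe]
  have h3 : g ^ (n - 1) * LocRes.D F g =
      (single ((n - 1) • m + m) (1 : F) : F⸨X⸩) * ((P ^ (n - 1) * d⁄dX F P : F⟦X⟧) : F⸨X⸩) +
      (single ((n - 1) • m + (m - 1)) (m • (1 : F)) : F⸨X⸩) * ((P ^ n : F⟦X⟧) : F⸨X⸩) := by
    have e1 : (single ((n - 1) • m + m) (1 : F) : F⸨X⸩) =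
        single ((n - 1) • m) 1 * single m 1 := by rw [single_mul_single, one_mul]
    have e2 : (single ((n - 1) • m + (m - 1)) (m • (1 : F)) : F⸨X⸩) =
        single ((n - 1) • m) 1 * single (m - 1) (m • (1 : F)) := by
      rw [single_mul_single, one_mul]
    have e3 : P ^ n = P ^ (n - 1) * P := by
      rw [← pow_succ, Nat.sub_add_cancel hn]
    rw [h1, h2, e1, e2, e3, PowerSeries.coe_mul, PowerSeries.coe_mul]
    ring
  rw [h3, HahnSeries.coeff_add, coeff_single_mul, coeff_single_mul, one_mul,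
    PowerSeries.coeff_coe, PowerSeries.coeff_coe]
  have hnm : ((n - 1 : ℕ) : ℤ) = (n : ℤ) - 1 := by
    rw [Nat.cast_sub hn]; simp
  have i1 : -1 - ((n - 1) • m + m) = -1 - (n : ℤ) * m := by
    rw [nsmul_eq_mul, hnm]; ring
  have i2 : -1 - ((n - 1) • m + (m - 1)) = -(n : ℤ) * m := by
    rw [nsmul_eq_mul, hnm]; ring
  rw [i1, i2]
  by_cases hcase : -1 - (n : ℤ) * m < 0
  · rw [if_pos hcase, zero_add]
    by_cases hcase2 : -(n : ℤ) * m < 0
    · rw [if_pos hcase2, mul_zero]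
    · have hz : (n : ℤ) * m = 0 := by omega
      have hm0 : m = 0 := by
        rcases mul_eq_zero.mp hz with h | h
        · exfalso; have : (n : ℤ) ≥ 1 := by exact_mod_cast hn
          omega
        · exact h
      rw [hm0, zero_smul, zero_mul]
  · have hcase2 : ¬ (-(n : ℤ) * m < 0) := by omega
    rw [if_neg hcase, if_neg hcase2]
    obtain ⟨N, hN⟩ : ∃ N : ℕ, (N : ℤ) = -(n : ℤ) * m := ⟨(-(n : ℤ) * m).natAbs, by
      rw [Int.natAbs_of_nonneg (by omega)]⟩
    have hN1 : 1 ≤ N := by omega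
    have hid := ident F P n N hn hN1 m (by rw [hN]; ring)
    have a1 : (-1 - (n : ℤ) * m).natAbs = N - 1 := by omega
    have a2 : (-(n : ℤ) * m).natAbs = N := by omega
    rw [a1, a2]
    rw [zsmul_eq_mul] at hid
    rw [zsmul_eq_mul, mul_one]
    exact hid

end Groth.Agent.Lib.Helper72.ResPow
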