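import Mathlib

set_option autoImplicit false
set_option linter.unusedSectionVars false
universe u v w

namespace Groth.Agent.Lib.Helper72.RootBlock

open Set Submodule

variable {ι : Type u} [Finite ι] {k : Type v} [Field k] [CharZero k]
    {M : Type w} [AddCommGroup M] [Module k M] {N : Type w} [AddCommGroup N] [Module k N]
    {P : RootPairing ι k M N} [P.IsCrystallographic]

/-- a nonnegative combination of simple roots with a nonzero coefficient at `x` is not in the
span of simple roots different from `x` -/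
lemma not_mem_span_of_coeff_ne_zero [DecidableEq ι] (b : P.Base) (s : Finset ι) (hs : s ⊆ b.support)
    (c : ι → ℕ) (x : ι) (hx : x ∈ s) (hcx : c x ≠ 0) (T : Set ι) (hT : T ⊆ b.support) (hxT : x ∉ T) :
    ∑ z ∈ s, c z • P.root z ∉ span k (P.root '' T) := by
  intro hmem
  have hTsub : T ⊆ (b.support : Set ι) \ {x} := fun z hz =>
    ⟨hT hz, fun h => hxT (by rw [← (show z = x from h)]; exact hz)⟩
  have h1 : ∑ z ∈ s.erase x, c z • P.root z ∈ span k (P.root '' ((b.support : Set ι) \ {x})) := by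
    refine sum_mem fun z hz => ?_
    rw [Finset.mem_erase] at hz
    rw [← Nat.cast_smul_eq_nsmul k]
    exact smul_mem _ _ (subset_span ⟨z, ⟨hs hz.2, hz.1⟩, rfl⟩)
  have h2 : (c x : k) • P.root x ∈ span k (P.root '' ((b.support : Set ι) \ {x})) := by
    have : (c x : k) • P.root x =
        ∑ z ∈ s, c z • P.root z - ∑ z ∈ s.erase x, c z • P.root z := by
      rw [← Finset.add_sum_erase s _ hx, Nat.cast_smul_eq_nsmul]; abel
    rw [this]
    exact sub_mem (span_mono (image_mono hTsub) hmem) h1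
  have h3 := b.linearIndepOn_root.eq_zero_of_smul_mem_span (hs hx) _ h2
  exact hcx (Nat.cast_eq_zero.mp h3)

lemma pairingIn_eq_sum (P : RootPairing ι k M N) [P.IsCrystallographic] {s : Finset ι} {c : ι → ℕ}
    {j : ι} (hj : P.root j = ∑ z ∈ s, c z • P.root z) (y : ι) :
    P.pairingIn ℤ j y = ∑ z ∈ s, (c z : ℤ) * P.pairingIn ℤ z y := by
  apply FaithfulSMul.algebraMap_injective ℤ k
  rw [P.algebraMap_pairingIn, map_sum]
  simp only [map_mul, P.algebraMap_pairingIn, map_natCast]
  rw [← P.root_coroot'_eq_pairing, hj, map_sum]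
  simp

lemma sum_neg (b : P.Base) (s : Finset ι) (hs : s ⊆ b.support)
    (c : ι → ℕ) (x : ι) (hx : x ∈ s) (hcx : c x ≠ 0) (y : ι) (hy : y ∈ b.support)
    (hcy : y ∈ s → c y = 0) (hxy : P.pairingIn ℤ x y ≠ 0) :
    ∑ z ∈ s, (c z : ℤ) * P.pairingIn ℤ z y < 0 := by
  have hne : x ≠ y := fun h => hcx (h ▸ hcy (h ▸ hx))
  have hle : ∀ z ∈ s, (c z : ℤ) * P.pairingIn ℤ z y ≤ 0 := by
    intro z hz
    by_cases hzy : z = y
    · rw [hzy, hcy (hzy ▸ hz)]; simp
    · exact mul_nonpos_of_nonneg_of_nonpos (by positivity) (b.pairingIn_le_zero_of_ne hzy (hs hz) hy)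
  have hlt : (c x : ℤ) * P.pairingIn ℤ x y < 0 := by
    have h1 : P.pairingIn ℤ x y < 0 :=
      lt_of_le_of_ne (b.pairingIn_le_zero_of_ne hne (hs hx) hy) hxy
    have h2 : (0 : ℤ) < c x := by exact_mod_cast Nat.pos_of_ne_zero hcx
    exact mul_neg_of_pos_of_neg h2 h1
  calc ∑ z ∈ s, (c z : ℤ) * P.pairingIn ℤ z y < ∑ z ∈ s, (0 : ℤ) :=
        Finset.sum_lt_sum hle ⟨x, hx, hlt⟩
    _ = 0 := Finset.sum_const_zero

theorem main [DecidableEq ι] (P : RootPairing ι k M N) [P.IsCrystallographic] [P.IsReduced]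
    [P.IsIrreducible] (b : P.Base)
    (I A B : Finset ι) (hcover : I ∪ A ∪ B = b.support) (hIA : Disjoint I A) (hIB : Disjoint I B)
    (hAB : Disjoint A B) (hA : A.Nonempty) (hB : B.Nonempty) :
    ∃ l ∈ A, ∃ j : ι, P.root j ∈ AddSubmonoid.closure (P.root '' ↑(I ∪ B)) ∧
      P.root j ∉ Submodule.span k (P.root '' ↑I) ∧ P.pairingIn ℤ j l < 0 := by
  by_contra hcon
  push Not at hcon
  obtain ⟨a0, ha0⟩ := hA
  obtain ⟨b0, hb0⟩ := hB
  have hIBs : I ∪ B ⊆ b.support := by
    rw [← hcover]
    intro z hz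
    rcases Finset.mem_union.mp hz with h | h
    · exact Finset.mem_union_left _ (Finset.mem_union_left _ h)
    · exact Finset.mem_union_right _ h
  have hAs : A ⊆ b.support := by
    rw [← hcover]
    intro z hz
    exact Finset.mem_union_left _ (Finset.mem_union_right _ hz)
  have hIs : (↑I : Set ι) ⊆ b.support := fun z hz => hIBs (Finset.mem_union_left _ hz)
  -- general facts about a nonnegative combination
  have hclos : ∀ (j : ι) (c : ι → ℕ), P.root j = ∑ z ∈ I ∪ B, c z • P.root z →
      P.root j ∈ AddSubmonoid.closure (P.root '' ↑(I ∪ B)) := by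
    intro j c hj
    rw [hj]
    exact sum_mem fun z hz => nsmul_mem (AddSubmonoid.subset_closure
      (Set.mem_image_of_mem _ (Finset.mem_coe.mpr hz))) _
  have hnspan : ∀ (j : ι) (c : ι → ℕ), P.root j = ∑ z ∈ I ∪ B, c z • P.root z →
      (∃ z ∈ B, c z ≠ 0) → P.root j ∉ Submodule.span k (P.root '' ↑I) := by
    intro j c hj ⟨z, hzB, hcz⟩
    rw [hj]
    exact not_mem_span_of_coeff_ne_zero b (I ∪ B) hIBs c z (Finset.mem_union_right _ hzB) hcz _ hIs
      (fun h => Finset.disjoint_left.mp hIB h hzB)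
  let p : b.support → Prop := fun x => (x : ι) ∈ I ∪ B ∧ ∃ (j : ι) (c : ι → ℕ),
      P.root j = ∑ z ∈ I ∪ B, c z • P.root z ∧ (∃ z ∈ B, c z ≠ 0) ∧ c x ≠ 0
  have hb0IB : b0 ∈ I ∪ B := Finset.mem_union_right _ hb0
  have hstart : p ⟨b0, hIBs hb0IB⟩ := by
    refine ⟨hb0IB, b0, Pi.single b0 1, ?_, ⟨b0, hb0, by simp⟩, by simp⟩
    rw [Finset.sum_eq_single b0]
    · simp
    · intro z _ hz
      simp [hz]
    · intro h
      exact absurd hb0IB h
  have hstep : ∀ i j : b.support, p i → b.cartanMatrix j i ≠ 0 → p j := by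
    rintro ⟨x, hx⟩ ⟨y, hy⟩ ⟨hxIB, j, c, hj, hcB, hcx⟩ hcart
    have hxy : P.pairingIn ℤ x y ≠ 0 := by
      intro h
      apply hcart
      rw [RootPairing.Base.cartanMatrix_apply_eq_zero_iff_symm]
      exact h
    by_cases hyA : y ∈ A
    · have hynIB : y ∉ I ∪ B := by
        intro h
        rcases Finset.mem_union.mp h with h | h
        · exact Finset.disjoint_left.mp hIA h hyA
        · exact Finset.disjoint_left.mp hAB hyA h
      have hneg : P.pairingIn ℤ j y < 0 := by
        rw [pairingIn_eq_sum P hj y]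
        exact sum_neg b (I ∪ B) hIBs c x hxIB hcx y hy (fun h => absurd h hynIB) hxy
      exact absurd (hcon y hyA j (hclos j c hj) (hnspan j c hj hcB)) (not_le.mpr hneg)
    have hyIB : y ∈ I ∪ B := by
      have : y ∈ I ∪ A ∪ B := hcover ▸ hy
      rcases Finset.mem_union.mp this with h | h
      · rcases Finset.mem_union.mp h with h | h
        · exact Finset.mem_union_left _ h
        · exact absurd h hyA
      · exact Finset.mem_union_right _ h
    by_cases hcy : c y = 0
    · have hneg : P.pairingIn ℤ j y < 0 := by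
        rw [pairingIn_eq_sum P hj y]
        exact sum_neg b (I ∪ B) hIBs c x hxIB hcx y hy (fun _ => hcy) hxy
      have hne : P.root j ≠ -P.root y := by
        intro h
        have hxy' : x ≠ y := fun h => hcx (h ▸ hcy)
        refine not_mem_span_of_coeff_ne_zero b (I ∪ B) hIBs c x hxIB hcx {y}
          (by simpa using hy) (by simpa using hxy') ?_
        rw [← hj, h, Set.image_singleton]
        exact neg_mem (mem_span_singleton_self _)
      obtain ⟨j', hj'⟩ := P.root_add_root_mem_of_pairingIn_neg hneg hne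
      refine ⟨hyIB, j', c + Pi.single y 1, ?_, ?_, by simp [hcy]⟩
      · rw [hj']
        simp only [Pi.add_apply, add_smul, Finset.sum_add_distrib, ← hj]
        congr 1
        rw [Finset.sum_eq_single y]
        · simp
        · intro z _ hz
          simp [hz]
        · intro h
          exact absurd hyIB h
      · obtain ⟨z, hzB, hcz⟩ := hcB
        refine ⟨z, hzB, ?_⟩
        simp only [Pi.add_apply]
        omega
    · exact ⟨hyIB, j, c, hj, hcB, hcy⟩
  have hfin : p ⟨a0, hAs ha0⟩ := b.induction_on_cartanMatrix p hstart hstep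
  obtain ⟨h, -⟩ := hfin
  rcases Finset.mem_union.mp h with h | h
  · exact Finset.disjoint_left.mp hIA h ha0
  · exact Finset.disjoint_left.mp hAB ha0 h

end Groth.Agent.Lib.Helper72.RootBlock
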