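import Mathlib

/-!
Irreducibility of `F(X₁ T, …, X_r T)` in `k[X][T]` and over `k(X)`.
-/

namespace Groth.Agent.Lib.Helper72.ScaleIrred
open Polynomial

variable {k : Type*} [Field k] {r : ℕ}

/-- scaling endomorphism -/
noncomputable def scale (ν : k) : MvPolynomial (Fin r) k →ₐ[k] MvPolynomial (Fin r) k :=
  MvPolynomial.aeval (fun j => MvPolynomial.X j * MvPolynomial.C ν)

lemma scale_comp (ν μ : k) (h : ν * μ = 1) :
    (scale (r := r) ν).comp (scale μ) = AlgHom.id k _ := by
  apply MvPolynomial.algHom_ext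
  intro j
  simp only [scale, AlgHom.comp_apply, MvPolynomial.aeval_X, map_mul, MvPolynomial.aeval_C,
    MvPolynomial.algebraMap_eq, AlgHom.id_apply]
  rw [mul_assoc, ← MvPolynomial.C_mul, h, MvPolynomial.C_1, mul_one]

noncomputable def scaleEquiv (ν : k) (hν : ν ≠ 0) :
    MvPolynomial (Fin r) k ≃ₐ[k] MvPolynomial (Fin r) k :=
  AlgEquiv.ofAlgHom (scale ν) (scale ν⁻¹) (scale_comp ν ν⁻¹ (mul_inv_cancel₀ hν))
    (scale_comp ν⁻¹ ν (inv_mul_cancel₀ hν))

lemma irreducible_scale (ν : k) (hν : ν ≠ 0) (F : MvPolynomial (Fin r) k) (hF : Irreducible F) :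
    Irreducible (scale ν F) :=
  (MulEquiv.irreducible_iff (scaleEquiv (r := r) ν hν)).mpr hF

/-- the polynomial `F(X T)` -/
noncomputable def G (F : MvPolynomial (Fin r) k) : (MvPolynomial (Fin r) k)[X] :=
  MvPolynomial.eval₂ (Polynomial.C.comp MvPolynomial.C)
    (fun j => Polynomial.C (MvPolynomial.X j) * Polynomial.X) F

lemma eval_G (F : MvPolynomial (Fin r) k) (ν : k) :
    (G F).eval (MvPolynomial.C ν) = scale ν F := by
  unfold G scale
  rw [← Polynomial.coe_evalRingHom, MvPolynomial.eval₂_comp_left, MvPolynomial.aeval_def]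
  congr 1
  · ext a; simp
  · funext j; simp

lemma map_cc_G (F : MvPolynomial (Fin r) k) :
    (G F).map MvPolynomial.constantCoeff = Polynomial.C (MvPolynomial.constantCoeff F) := by
  unfold G
  rw [← Polynomial.coe_mapRingHom, MvPolynomial.eval₂_comp_left]
  have h1 : (Polynomial.mapRingHom (MvPolynomial.constantCoeff (σ := Fin r) (R := k))).comp
      (Polynomial.C.comp MvPolynomial.C) = Polynomial.C := by
    ext a; simp
  have h2 : (⇑(Polynomial.mapRingHom (MvPolynomial.constantCoeff (σ := Fin r) (R := k))) ∘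
      fun j => Polynomial.C (MvPolynomial.X j) * Polynomial.X) = fun _ => 0 := by
    funext j; simp
  rw [h1, h2, MvPolynomial.eval₂_zero'_apply]

lemma coeff_zero_G (F : MvPolynomial (Fin r) k) :
    (G F).coeff 0 = MvPolynomial.C (MvPolynomial.constantCoeff F) := by
  have h1 : (G F).coeff 0 = (G F).eval (MvPolynomial.C 0) := by
    rw [Polynomial.coeff_zero_eq_eval_zero, MvPolynomial.C_0]
  rw [h1, eval_G]
  unfold scale
  have : (fun j : Fin r => (MvPolynomial.X j : MvPolynomial (Fin r) k) * MvPolynomial.C 0) =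
      fun _ => 0 := by
    funext j; simp
  rw [this, MvPolynomial.aeval_zero', MvPolynomial.algebraMap_eq]

lemma isPrimitive_G (F : MvPolynomial (Fin r) k) (hF0 : MvPolynomial.constantCoeff F ≠ 0) :
    (G F).IsPrimitive := by
  rw [Polynomial.isPrimitive_iff_isUnit_of_C_dvd]
  intro a ha
  rw [Polynomial.C_dvd_iff_dvd_coeff] at ha
  have h0 := ha 0
  rw [coeff_zero_G] at h0
  have hu : IsUnit (MvPolynomial.C (MvPolynomial.constantCoeff F) : MvPolynomial (Fin r) k) :=
    (IsUnit.mk0 _ hF0).map MvPolynomial.C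
  exact isUnit_of_dvd_unit h0 hu

lemma coeff_const_of_infinite (A : (MvPolynomial (Fin r) k)[X]) (S : Set k) (hS : S.Infinite)
    (hA : ∀ ν ∈ S, IsUnit (A.eval (MvPolynomial.C ν))) :
    ∀ i α, α ≠ 0 → (A.coeff i).coeff α = 0 := by
  intro i α hα
  classical
  obtain ⟨q, hq⟩ : ∃ q : k[X], q = ∑ j ∈ A.support, Polynomial.monomial j ((A.coeff j).coeff α) :=
    ⟨_, rfl⟩
  have hroot : ∀ ν ∈ S, q.IsRoot ν := by
    intro ν hν
    have hu := hA ν hν
    rw [MvPolynomial.isUnit_iff_eq_C_of_isReduced] at hu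
    obtain ⟨c, -, hc⟩ := hu
    have h1 : (A.eval (MvPolynomial.C ν)).coeff α = 0 := by
      rw [hc, MvPolynomial.coeff_C, if_neg (Ne.symm hα)]
    rw [Polynomial.IsRoot.def, hq, Polynomial.eval_finsetSum]
    rw [Polynomial.eval_eq_sum, Polynomial.sum_def, MvPolynomial.coeff_sum] at h1
    rw [← h1]
    refine Finset.sum_congr rfl fun j _ => ?_
    rw [Polynomial.eval_monomial, ← MvPolynomial.C_pow, mul_comm (A.coeff j), MvPolynomial.coeff_C_mul, mul_comm]
  have hq0 : q = 0 := Polynomial.eq_zero_of_infinite_isRoot q (hS.mono hroot)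
  have hci : q.coeff i = (A.coeff i).coeff α := by
    rw [hq, Polynomial.finsetSum_coeff]
    simp only [Polynomial.coeff_monomial]
    rw [Finset.sum_ite_eq' A.support i]
    split_ifs with hmem
    · rfl
    · rw [Polynomial.mem_support_iff, not_not] at hmem
      rw [hmem]; simp
  rw [← hci, hq0, Polynomial.coeff_zero]

lemma unit_of_const (F : MvPolynomial (Fin r) k) (hF0 : MvPolynomial.constantCoeff F ≠ 0)
    (A B : (MvPolynomial (Fin r) k)[X]) (hAB : G F = A * B)
    (hc : ∀ i α, α ≠ 0 → (A.coeff i).coeff α = 0) : IsUnit A := by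
  obtain ⟨A₀, hA₀⟩ : ∃ A₀ : k[X], A₀ = A.map MvPolynomial.constantCoeff := ⟨_, rfl⟩
  have hA : A = A₀.map MvPolynomial.C := by
    ext i α
    rw [hA₀, Polynomial.coeff_map, Polynomial.coeff_map, MvPolynomial.coeff_C]
    split_ifs with h0
    · rw [← h0, MvPolynomial.constantCoeff_eq]
    · exact hc i α (Ne.symm h0)
  have h1 := congrArg (Polynomial.map MvPolynomial.constantCoeff) hAB
  rw [map_cc_G, Polynomial.map_mul, ← hA₀] at h1
  have hu : IsUnit (Polynomial.C (MvPolynomial.constantCoeff F) : k[X]) :=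
    Polynomial.isUnit_C.mpr (IsUnit.mk0 _ hF0)
  rw [h1] at hu
  have hu0 : IsUnit A₀ := isUnit_of_mul_isUnit_left hu
  rw [hA, ← Polynomial.coe_mapRingHom]
  exact hu0.map _

theorem irreducible_G [Infinite k] (F : MvPolynomial (Fin r) k) (hF : Irreducible F)
    (hF0 : MvPolynomial.constantCoeff F ≠ 0) : Irreducible (G F) := by
  have hirr : ∀ ν : k, ν ≠ 0 → Irreducible ((G F).eval (MvPolynomial.C ν)) := by
    intro ν hν
    rw [eval_G]; exact irreducible_scale ν hν F hF
  rw [irreducible_iff]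
  constructor
  · intro hu
    have h1 : IsUnit ((G F).eval (MvPolynomial.C 1)) := by
      rw [← Polynomial.coe_evalRingHom]; exact hu.map _
    exact (hirr 1 one_ne_zero).not_isUnit h1
  · intro A B hAB
    have h2 : ∀ ν : k, ν ≠ 0 → IsUnit (A.eval (MvPolynomial.C ν)) ∨ IsUnit (B.eval (MvPolynomial.C ν)) := by
      intro ν hν
      exact (hirr ν hν).isUnit_or_isUnit (by rw [hAB, Polynomial.eval_mul])
    have hinf : ({ν : k | ν ≠ 0 ∧ IsUnit (A.eval (MvPolynomial.C ν))} ∪
        {ν : k | ν ≠ 0 ∧ IsUnit (B.eval (MvPolynomial.C ν))}).Infinite := by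
      have h3 : ({0} : Set k)ᶜ ⊆ {ν : k | ν ≠ 0 ∧ IsUnit (A.eval (MvPolynomial.C ν))} ∪
          {ν : k | ν ≠ 0 ∧ IsUnit (B.eval (MvPolynomial.C ν))} := by
        intro ν hν
        have hν0 : ν ≠ 0 := hν
        rcases h2 ν hν0 with h | h
        · exact Or.inl ⟨hν0, h⟩
        · exact Or.inr ⟨hν0, h⟩
      exact (Set.finite_singleton (0 : k)).infinite_compl.mono h3
    rcases Set.infinite_union.mp hinf with hA | hB
    · left
      exact unit_of_const F hF0 A B hAB (coeff_const_of_infinite A _ hA (fun ν h => h.2))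
    · right
      exact unit_of_const F hF0 B A (by rw [hAB, mul_comm])
        (coeff_const_of_infinite B _ hB (fun ν h => h.2))

end Groth.Agent.Lib.Helper72.ScaleIrred
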