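import Mathlib
import Groth.Agent.Lib.Helper72.SchubertCell

set_option autoImplicit false
set_option linter.unusedSectionVars false
universe u

namespace Groth.Agent.Lib.Helper72.SchubertPluck

open Matrix Groth.Agent.Lib.Helper72.SchubertCell

variable {F : Type u} [Field F] {n : ℕ}
variable (V : ℕ → Submodule F (Fin n → F))
  (hV : ∀ (j : ℕ) (v : Fin n → F), v ∈ V j ↔ ∀ l : Fin n, j ≤ (l : ℕ) → v l = 0)

include hV

lemma V_mono {j j' : ℕ} (h : j ≤ j') : V j ≤ V j' := by
  intro v hv
  rw [hV] at hv ⊢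
  intro l hl
  exact hv l (by omega)

lemma V_zero : V 0 = ⊥ := by
  rw [eq_bot_iff]
  intro v hv
  rw [hV] at hv
  rw [Submodule.mem_bot]
  funext l
  exact hv l (Nat.zero_le _)

lemma V_n : V n = ⊤ := by
  rw [eq_top_iff]
  intro v _
  rw [hV]
  intro l hl
  exact absurd l.2 (by omega)

lemma finrank_succ_le (W : Submodule F (Fin n → F)) (j : ℕ) :
    Module.finrank F ↥(W ⊓ V (j + 1)) ≤ Module.finrank F ↥(W ⊓ V j) + 1 := by
  by_cases h : ∃ v0 ∈ W ⊓ V (j + 1), ∃ l : Fin n, (l : ℕ) = j ∧ v0 l ≠ 0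
  · obtain ⟨v0, hv0, l, hl, hne⟩ := h
    have hle : W ⊓ V (j + 1) ≤ (W ⊓ V j) ⊔ Submodule.span F {v0} := by
      intro v hv
      have h1 : v - (v l / v0 l) • v0 ∈ W ⊓ V j := by
        refine ⟨Submodule.sub_mem _ hv.1 (Submodule.smul_mem _ _ hv0.1), ?_⟩
        show _ ∈ V j
        rw [hV]
        intro l' hl'
        rw [Pi.sub_apply, Pi.smul_apply, smul_eq_mul]
        by_cases hll : l' = l
        · rw [hll]; field_simp; ring
        · have : j + 1 ≤ (l' : ℕ) := by
            have : (l' : ℕ) ≠ (l : ℕ) := fun h => hll (Fin.ext h)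
            omega
          rw [(hV _ _).mp hv.2 l' this, (hV _ _).mp hv0.2 l' this]; ring
      have : v = (v - (v l / v0 l) • v0) + (v l / v0 l) • v0 := by abel
      rw [this]
      exact Submodule.add_mem_sup h1 (Submodule.smul_mem _ _ (Submodule.mem_span_singleton_self _))
    calc Module.finrank F ↥(W ⊓ V (j + 1))
        ≤ Module.finrank F ↥((W ⊓ V j) ⊔ Submodule.span F {v0}) := Submodule.finrank_mono hle
      _ ≤ Module.finrank F ↥(W ⊓ V j) + Module.finrank F ↥(Submodule.span F {v0}) :=
          Submodule.finrank_add_le_finrank_add_finrank _ _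
      _ ≤ Module.finrank F ↥(W ⊓ V j) + 1 := by
          gcongr
          have := finrank_span_le_card (R := F) ({v0} : Set (Fin n → F))
          simpa using this
  · push Not at h
    have hle : W ⊓ V (j + 1) ≤ W ⊓ V j := by
      intro v hv
      refine ⟨hv.1, ?_⟩
      show _ ∈ V j
      rw [hV]
      intro l hl
      by_cases hlj : (l : ℕ) = j
      · exact h v hv l hlj
      · exact (hV _ _).mp hv.2 l (by omega)
    exact (Submodule.finrank_mono hle).trans (Nat.le_succ _)

/-- the jump sequence of a `d`-dimensional subspace -/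
lemma exists_pivots (W : Submodule F (Fin n → F)) (d : ℕ) (hW : Module.finrank F ↥W = d) :
    ∃ q : Fin d → ℕ, StrictMono q ∧ (∀ i, q i < n) ∧
      (∀ i : Fin d, (i : ℕ) + 1 ≤ Module.finrank F ↥(W ⊓ V (q i + 1))) ∧
      (∀ i : Fin d, Module.finrank F ↥(W ⊓ V (q i)) ≤ (i : ℕ)) := by
  classical
  have hex : ∀ i : Fin d, ∃ j, (i : ℕ) + 1 ≤ Module.finrank F ↥(W ⊓ V (j + 1)) ∧ j < n := by
    intro i
    have hn : 0 < n := by
      by_contra hn
      have hn0 : n = 0 := by omega
      subst hn0
      have : Module.finrank F ↥W = 0 := by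
        have h1 := Submodule.finrank_le W
        rw [Module.finrank_pi, Fintype.card_fin] at h1
        omega
      have := i.2
      omega
    refine ⟨n - 1, ?_, by omega⟩
    have : n - 1 + 1 = n := by omega
    rw [this, V_n V hV, inf_top_eq, hW]
    exact i.2
  let q : Fin d → ℕ := fun i => Nat.find (hex i)
  have hq1 : ∀ i : Fin d, (i : ℕ) + 1 ≤ Module.finrank F ↥(W ⊓ V (q i + 1)) :=
    fun i => (Nat.find_spec (hex i)).1
  have hqn : ∀ i, q i < n := fun i => (Nat.find_spec (hex i)).2
  have hq2 : ∀ i : Fin d, Module.finrank F ↥(W ⊓ V (q i)) ≤ (i : ℕ) := by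
    intro i
    rcases Nat.eq_zero_or_pos (q i) with h0 | hpos
    · rw [h0, V_zero V hV, inf_bot_eq, finrank_bot]; exact Nat.zero_le _
    · have hmin := Nat.find_min (hex i) (m := q i - 1) (by
        show q i - 1 < q i
        omega)
      have hqq : q i - 1 + 1 = q i := by omega
      rw [hqq] at hmin
      by_contra hcon
      apply hmin
      refine ⟨by omega, ?_⟩
      have := hqn i
      omega
  refine ⟨q, ?_, hqn, hq1, hq2⟩
  intro i i' hii
  have hle : q i ≤ q i' := by
    apply Nat.find_min'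
    refine ⟨?_, hqn i'⟩
    have := hq1 i'
    have : (i : ℕ) < (i' : ℕ) := hii
    omega
  rcases hle.lt_or_eq with h | h
  · exact h
  · exfalso
    have h1 := hq1 i'
    rw [← h] at h1
    have h2 := finrank_succ_le V hV W (q i)
    have h3 := hq2 i
    have : (i : ℕ) < (i' : ℕ) := hii
    omega

end Groth.Agent.Lib.Helper72.SchubertPluck
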