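/-
Helper72: lines through a singular point of a cubic surface (S16347), part A:
a Nullstellensatz consequence for irreducible polynomials.
-/
import Mathlib
import Groth.Agent.Lib.Helper72.CubicFormA
import Groth.Agent.Lib.Helper72.CubicPolarB

set_option autoImplicit false
set_option linter.unusedSectionVars false

open MvPolynomial Finset

namespace Groth.Agent.Lib.Helper72.SingLines

variable {K : Type*} [Field K] [IsAlgClosed K] {σ : Type*} [Finite σ]

/-- an irreducible polynomial cannot vanish on the whole zero set of a nonzero polynomial of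
smaller degree which has a zero. -/
theorem false_of_vanish {F g : MvPolynomial σ K} (hF : Irreducible F) (hg0 : g ≠ 0)
    (hdeg : g.totalDegree < F.totalDegree) {x₀ : σ → K} (hx₀ : eval x₀ g = 0)
    (h : ∀ x, eval x g = 0 → eval x F = 0) : False := by
  have hmem : F ∈ vanishingIdeal K (zeroLocus K (Ideal.span {g})) := by
    rw [mem_vanishingIdeal_iff]
    intro x hx
    rw [mem_zeroLocus_iff] at hx
    have := hx g (Ideal.subset_span rfl)
    rw [aeval_eq_eval] at this ⊢
    exact h x this
  rw [vanishingIdeal_zeroLocus_eq_radical] at hmem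
  obtain ⟨n, hn⟩ := hmem
  rw [Ideal.mem_span_singleton] at hn
  have hp : Prime F := hF.prime
  obtain ⟨i, _, hi⟩ := (dvd_prime_pow hp n).mp hn
  rcases Nat.eq_zero_or_pos i with rfl | hipos
  · rw [pow_zero, associated_one_iff_isUnit] at hi
    have hu := hi.map (eval x₀)
    rw [hx₀] at hu
    exact not_isUnit_zero hu
  · have hdvd : F ∣ g := (dvd_pow_self F hipos.ne').trans hi.symm.dvd
    have := totalDegree_le_of_dvd_of_isDomain hdvd hg0
    omega

end Groth.Agent.Lib.Helper72.SingLines
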