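/-
Helper72: lines through a singular point of a cubic surface (S16347), part B:
the polar quadric `q x = D f x a` of a singular point `a` and coordinate expansions.
-/
import Mathlib
import Groth.Agent.Lib.Helper72.SingLinesA
import Groth.Agent.Lib.Helper72.CubicFormC

set_option autoImplicit false
set_option linter.unusedSectionVars false

open MvPolynomial Finset

namespace Groth.Agent.Lib.Helper72.SingLines

open Groth.Agent.Lib.Helper72.CubicForm

variable {K : Type*} [Field K] [CharZero K] {σ : Type*} [Fintype σ] [DecidableEq σ]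

/-- `a` is a singular point of the cubic `f`. -/
structure IsSing (f : MvPolynomial σ K) (a : σ → K) : Prop where
  hom : f.IsHomogeneous 3
  val : eval a f = 0
  der : ∀ w, D f a w = 0

variable {f : MvPolynomial σ K} {a : σ → K}

lemma IsSing.T_a_a (h : IsSing f a) (w : σ → K) : T f a a w = 0 := by
  rw [T_e_e h.hom, h.der, mul_zero]

lemma IsSing.T_a_right (h : IsSing f a) (w : σ → K) : T f w a a = 0 := by
  rw [T_swap13, T_swap12, h.T_a_a]

lemma IsSing.T_a_mid (h : IsSing f a) (w : σ → K) : T f a w a = 0 := by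
  rw [T_swap23, h.T_a_a]

lemma IsSing.D_a_a (h : IsSing f a) : D f a a = 0 := h.der a

/-- the polar quadric is invariant under translation by `a`. -/
lemma IsSing.q_add (h : IsSing f a) (x : σ → K) (α : K) :
    D f (x + α • a) a = D f x a := by
  rw [D_add_left h.hom, D_smul_left h.hom, h.D_a_a, T_smul_mid, h.T_a_right]
  ring

lemma IsSing.f_add (h : IsSing f a) (x : σ → K) (α : K) :
    eval (x + α • a) f = eval x f + α * D f x a := by
  rw [expand_add h.hom, h.der, h.val]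
  ring

/-- a line through `a` lies on the surface iff its direction is a common zero of the polar
quadric and the cubic. -/
lemma IsSing.onLine_iff (h : IsSing f a) (w : σ → K) :
    OnLine f a w ↔ D f w a = 0 ∧ eval w f = 0 := by
  rw [CubicForm.onLine_iff h.hom]
  constructor
  · rintro ⟨_, _, h3, h4⟩
    exact ⟨h3, h4⟩
  · rintro ⟨h3, h4⟩
    exact ⟨h.val, h.der w, h3, h4⟩

lemma q_comb2 (hf : f.IsHomogeneous 3) (β γ : K) (w₁ w₂ : σ → K) :
    D f (β • w₁ + γ • w₂) a = β ^ 2 * D f w₁ a + γ ^ 2 * D f w₂ a + β * γ * T f w₁ w₂ a := by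
  rw [D_add_left hf, D_smul_left hf, D_smul_left hf, T_smul_left, T_smul_mid]
  ring

lemma f_comb2 (hf : f.IsHomogeneous 3) (β γ : K) (w₁ w₂ : σ → K) :
    eval (β • w₁ + γ • w₂) f = β ^ 3 * eval w₁ f + β ^ 2 * γ * D f w₁ w₂
      + β * γ ^ 2 * D f w₂ w₁ + γ ^ 3 * eval w₂ f := expand hf β γ w₁ w₂

lemma q_comb3 (hf : f.IsHomogeneous 3) (l s t : K) (w₁ w₂ w₃ : σ → K) :
    D f (l • w₁ + s • w₂ + t • w₃) a = l ^ 2 * D f w₁ a + s ^ 2 * D f w₂ a + t ^ 2 * D f w₃ a
      + l * s * T f w₁ w₂ a + l * t * T f w₁ w₃ a + s * t * T f w₂ w₃ a := by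
  rw [D_add_left hf, q_comb2 hf, D_smul_left hf, T_add_left, T_smul_left, T_smul_left,
    T_smul_mid, T_smul_mid]
  ring

lemma f_comb3 (hf : f.IsHomogeneous 3) (l s t : K) (w₁ w₂ w₃ : σ → K) :
    eval (l • w₁ + s • w₂ + t • w₃) f = l ^ 3 * eval w₁ f + s ^ 3 * eval w₂ f + t ^ 3 * eval w₃ f
      + l ^ 2 * (s * D f w₁ w₂ + t * D f w₁ w₃)
      + l * (s ^ 2 * D f w₂ w₁ + t ^ 2 * D f w₃ w₁ + s * t * T f w₁ w₂ w₃)
      + (s ^ 2 * t * D f w₂ w₃ + s * t ^ 2 * D f w₃ w₂) := by
  have h1 : l • w₁ + s • w₂ + t • w₃ = l • w₁ + (1 : K) • (s • w₂ + t • w₃) := by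
    rw [one_smul, add_assoc]
  rw [h1, expand hf, f_comb2 hf, D_add_right, D_smul_right, D_smul_right, D_add_left hf,
    D_smul_left hf, D_smul_left hf, T_smul_left, T_smul_mid, T_swap13 f w₂ w₃ w₁,
    T_swap23 f w₁ w₃ w₂]
  ring

end Groth.Agent.Lib.Helper72.SingLines
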