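/-
Helper72: lines through a singular point of a cubic surface (S16347), part C:
linear algebra in `K^4`.
-/
import Mathlib
import Groth.Agent.Lib.Helper72.CubicFormD

set_option autoImplicit false
set_option linter.unusedSectionVars false

open Finset

namespace Groth.Agent.Lib.Helper72.SingLines

open Groth.Agent.Lib.Helper72.CubicForm

variable {K : Type*} [Field K] [CharZero K]

abbrev V4 (K : Type*) := Fin 4 → K

lemma indep3 {V : Type*} [AddCommGroup V] [Module K V] {a w₁ w₂ : V} (ha : a ≠ 0)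
    (h1 : ∀ α : K, w₁ ≠ α • a) (h2 : ∀ α β : K, w₂ ≠ α • a + β • w₁) :
    LinearIndependent K ![a, w₁, w₂] := by
  rw [Fintype.linearIndependent_iff]
  intro g hg
  rw [Fin.sum_univ_three] at hg
  simp only [Matrix.cons_val_zero, Matrix.cons_val_one, Matrix.cons_val] at hg
  have g2 : g 2 = 0 := by
    by_contra hne
    apply h2 (-(g 2)⁻¹ * g 0) (-(g 2)⁻¹ * g 1)
    have : g 2 • w₂ = -(g 0 • a + g 1 • w₁) := eq_neg_of_add_eq_zero_right hg
    calc w₂ = (g 2)⁻¹ • (g 2 • w₂) := by rw [smul_smul, inv_mul_cancel₀ hne, one_smul]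
      _ = _ := by rw [this]; module
  rw [g2, zero_smul, add_zero] at hg
  have g1 : g 1 = 0 := by
    by_contra hne
    apply h1 (-(g 1)⁻¹ * g 0)
    have : g 1 • w₁ = -(g 0 • a) := eq_neg_of_add_eq_zero_right hg
    calc w₁ = (g 1)⁻¹ • (g 1 • w₁) := by rw [smul_smul, inv_mul_cancel₀ hne, one_smul]
      _ = _ := by rw [this]; module
  rw [g1, zero_smul, add_zero] at hg
  have g0 : g 0 = 0 := (smul_eq_zero.mp hg).resolve_right ha
  intro i
  fin_cases i
  · exact g0
  · exact g1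
  · exact g2

lemma indep4 {V : Type*} [AddCommGroup V] [Module K V] {a w₁ w₂ w₃ : V} (ha : a ≠ 0)
    (h1 : ∀ α : K, w₁ ≠ α • a) (h2 : ∀ α β : K, w₂ ≠ α • a + β • w₁)
    (h3 : ∀ α β γ : K, w₃ ≠ α • a + β • w₁ + γ • w₂) :
    LinearIndependent K ![a, w₁, w₂, w₃] := by
  rw [Fintype.linearIndependent_iff]
  intro g hg
  rw [Fin.sum_univ_four] at hg
  simp only [Matrix.cons_val_zero, Matrix.cons_val_one, Matrix.cons_val] at hg
  have g3 : g 3 = 0 := by
    by_contra hne
    apply h3 (-(g 3)⁻¹ * g 0) (-(g 3)⁻¹ * g 1) (-(g 3)⁻¹ * g 2)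
    have : g 3 • w₃ = -(g 0 • a + g 1 • w₁ + g 2 • w₂) := eq_neg_of_add_eq_zero_right hg
    calc w₃ = (g 3)⁻¹ • (g 3 • w₃) := by rw [smul_smul, inv_mul_cancel₀ hne, one_smul]
      _ = _ := by rw [this]; module
  rw [g3, zero_smul, add_zero] at hg
  have h := indep3 ha h1 h2
  rw [Fintype.linearIndependent_iff] at h
  have h' := h ![g 0, g 1, g 2] (by
    rw [Fin.sum_univ_three]
    simpa using hg)
  intro i
  fin_cases i
  · exact h' 0
  · exact h' 1
  · exact h' 2
  · exact g3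

/-- coordinates in a hyperplane. -/
lemma coords3 {φ : V4 K →ₗ[K] K} (hφ : φ ≠ 0) {a w₁ w₂ : V4 K}
    (hli : LinearIndependent K ![a, w₁, w₂]) (ha : φ a = 0) (h1 : φ w₁ = 0) (h2 : φ w₂ = 0)
    {x : V4 K} (hx : φ x = 0) : ∃ α β γ : K, x = α • a + β • w₁ + γ • w₂ := by
  have hv : ∃ v, φ v ≠ 0 := by
    by_contra hcon
    push Not at hcon
    exact hφ (LinearMap.ext hcon)
  have hk := finrank_ker_functional φ hv
  rw [Fintype.card_fin] at hk
  have hle : Submodule.span K (Set.range ![a, w₁, w₂]) ≤ LinearMap.ker φ := by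
    rw [Submodule.span_le]
    rintro _ ⟨i, rfl⟩
    fin_cases i
    · exact ha
    · exact h1
    · exact h2
  have hfr : Module.finrank K (Submodule.span K (Set.range ![a, w₁, w₂])) = 3 := by
    rw [finrank_span_eq_card hli, Fintype.card_fin]
  have hk3 := Nat.succ_injective hk
  have heq := Submodule.eq_of_le_of_finrank_eq hle (by rw [hfr]; exact hk3.symm)
  have hxm : x ∈ Submodule.span K (Set.range ![a, w₁, w₂]) := by
    rw [heq]
    exact hx
  rw [Submodule.mem_span_range_iff_exists_fun] at hxm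
  obtain ⟨c, hc⟩ := hxm
  rw [Fin.sum_univ_three] at hc
  exact ⟨c 0, c 1, c 2, by simpa using hc.symm⟩

/-- coordinates in `K^4`. -/
lemma coords4 {a w₁ w₂ w₃ : V4 K} (hli : LinearIndependent K ![a, w₁, w₂, w₃]) (x : V4 K) :
    ∃ α l s t : K, x = α • a + l • w₁ + s • w₂ + t • w₃ := by
  have htop : Submodule.span K (Set.range ![a, w₁, w₂, w₃]) = ⊤ := by
    apply hli.span_eq_top_of_card_eq_finrank'
    simp
  have hxm : x ∈ Submodule.span K (Set.range ![a, w₁, w₂, w₃]) := by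
    rw [htop]
    exact Submodule.mem_top
  rw [Submodule.mem_span_range_iff_exists_fun] at hxm
  obtain ⟨c, hc⟩ := hxm
  rw [Fin.sum_univ_four] at hc
  exact ⟨c 0, c 1, c 2, c 3, by simpa using hc.symm⟩

/-- any three vectors of `K^4` lie in a hyperplane. -/
lemma exists_functional (x y z : V4 K) :
    ∃ φ : V4 K →ₗ[K] K, φ ≠ 0 ∧ φ x = 0 ∧ φ y = 0 ∧ φ z = 0 := by
  have hlt : Submodule.span K (Set.range ![x, y, z]) < ⊤ := by
    rw [lt_top_iff_ne_top]
    intro htop
    have h1 := finrank_range_le_card (R := K) ![x, y, z]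
    have h2 : (Set.range ![x, y, z]).finrank K = 4 := by
      unfold Set.finrank
      rw [htop, finrank_top]
      simp
    rw [Fintype.card_fin] at h1
    omega
  obtain ⟨φ, hφ, hle⟩ := Submodule.exists_le_ker_of_lt_top _ hlt
  refine ⟨φ, hφ, ?_, ?_, ?_⟩
  · exact hle (Submodule.subset_span ⟨0, rfl⟩)
  · exact hle (Submodule.subset_span ⟨1, rfl⟩)
  · exact hle (Submodule.subset_span ⟨2, rfl⟩)

end Groth.Agent.Lib.Helper72.SingLines
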