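/-
Helper72: lines through a singular point of a cubic surface (S16347), part D:
lines in a common plane through the singular point.
-/
import Mathlib
import Groth.Agent.Lib.Helper72.SingLinesB
import Groth.Agent.Lib.Helper72.SingLinesC

set_option autoImplicit false
set_option linter.unusedSectionVars false

open MvPolynomial Finset

namespace Groth.Agent.Lib.Helper72.SingLines

open Groth.Agent.Lib.Helper72.CubicForm

variable {K : Type*} [Field K] [CharZero K] {f : MvPolynomial (Fin 4) K} {a : V4 K}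

/-- a family of directions of pairwise distinct lines through `a` on the cubic surface. -/
structure Lines (f : MvPolynomial (Fin 4) K) (a : V4 K) {ι : Type*} (w : ι → V4 K) : Prop where
  q0 : ∀ i, D f (w i) a = 0
  f0 : ∀ i, eval (w i) f = 0
  ne1 : ∀ i (α : K), w i ≠ α • a
  ne2 : ∀ i j, i ≠ j → ∀ α β : K, w i ≠ α • a + β • w j

lemma Lines.comp {ι κ : Type*} {w : ι → V4 K} (h : Lines f a w) (g : κ → ι)
    (hg : Function.Injective g) : Lines f a (w ∘ g) :=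
  ⟨fun _ => h.q0 _, fun _ => h.f0 _, fun _ => h.ne1 _,
    fun _ _ hij => h.ne2 _ _ (fun e => hij (hg e))⟩

lemma q_in_plane (hs : IsSing f a) {w₁ w₂ : V4 K} (h1 : D f w₁ a = 0) (h2 : D f w₂ a = 0)
    (α β γ : K) : D f (α • a + β • w₁ + γ • w₂) a = β * γ * T f w₁ w₂ a := by
  have e : α • a + β • w₁ + γ • w₂ = (β • w₁ + γ • w₂) + α • a := by abel
  rw [e, hs.q_add, q_comb2 hs.hom, h1, h2]
  ring

lemma f_in_plane (hs : IsSing f a) {w₁ w₂ : V4 K} (h1 : D f w₁ a = 0) (h2 : D f w₂ a = 0)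
    (f1 : eval w₁ f = 0) (f2 : eval w₂ f = 0) (α β γ : K) :
    eval (α • a + β • w₁ + γ • w₂) f = β ^ 2 * γ * D f w₁ w₂ + β * γ ^ 2 * D f w₂ w₁
      + α * (β * γ * T f w₁ w₂ a) := by
  have e : α • a + β • w₁ + γ • w₂ = (β • w₁ + γ • w₂) + α • a := by abel
  rw [e, hs.f_add, q_comb2 hs.hom, f_comb2 hs.hom, h1, h2, f1, f2]
  ring

lemma q_in_space (hs : IsSing f a) {w₁ w₂ w₃ : V4 K} (h1 : D f w₁ a = 0) (h2 : D f w₂ a = 0)
    (h3 : D f w₃ a = 0) (α l s t : K) :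
    D f (α • a + l • w₁ + s • w₂ + t • w₃) a
      = l * s * T f w₁ w₂ a + l * t * T f w₁ w₃ a + s * t * T f w₂ w₃ a := by
  have e : α • a + l • w₁ + s • w₂ + t • w₃ = (l • w₁ + s • w₂ + t • w₃) + α • a := by abel
  rw [e, hs.q_add, q_comb3 hs.hom, h1, h2, h3]
  ring

lemma f_in_space (hs : IsSing f a) {w₁ w₂ w₃ : V4 K} (h1 : D f w₁ a = 0) (h2 : D f w₂ a = 0)
    (h3 : D f w₃ a = 0) (f1 : eval w₁ f = 0) (f2 : eval w₂ f = 0) (f3 : eval w₃ f = 0)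
    (α l s t : K) :
    eval (α • a + l • w₁ + s • w₂ + t • w₃) f
      = l ^ 2 * (s * D f w₁ w₂ + t * D f w₁ w₃)
      + l * (s ^ 2 * D f w₂ w₁ + t ^ 2 * D f w₃ w₁ + s * t * T f w₁ w₂ w₃)
      + (s ^ 2 * t * D f w₂ w₃ + s * t ^ 2 * D f w₃ w₂)
      + α * (l * s * T f w₁ w₂ a + l * t * T f w₁ w₃ a + s * t * T f w₂ w₃ a) := by
  have e : α • a + l • w₁ + s • w₂ + t • w₃ = (l • w₁ + s • w₂ + t • w₃) + α • a := by abel
  rw [e, hs.f_add, q_comb3 hs.hom, f_comb3 hs.hom, h1, h2, h3, f1, f2, f3]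
  ring

/-- three lines in a plane through `a`: the polar pairing of two of them vanishes. -/
lemma b_eq_zero_of_three (hs : IsSing f a) (ha : a ≠ 0) {w : Fin 3 → V4 K} (hw : Lines f a w)
    {φ : V4 K →ₗ[K] K} (hφ : φ ≠ 0) (hφa : φ a = 0) (hφw : ∀ i, φ (w i) = 0) :
    T f (w 0) (w 1) a = 0 := by
  have hli : LinearIndependent K ![a, w 0, w 1] :=
    indep3 ha (hw.ne1 0) (fun α β => hw.ne2 1 0 (by decide) α β)
  obtain ⟨α, β, γ, e⟩ := coords3 hφ hli hφa (hφw 0) (hφw 1) (hφw 2)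
  have hβ : β ≠ 0 := by
    rintro rfl
    apply hw.ne2 2 1 (by decide) α γ
    rw [e]
    module
  have hγ : γ ≠ 0 := by
    rintro rfl
    apply hw.ne2 2 0 (by decide) α β
    rw [e]
    module
  have h := q_in_plane hs (hw.q0 0) (hw.q0 1) α β γ
  rw [← e, hw.q0 2] at h
  exact (mul_eq_zero.mp h.symm).resolve_left (mul_ne_zero hβ hγ)

/-- if the polar pairing of two lines vanishes, the polar quadric vanishes on their plane. -/
lemma q_plane (hs : IsSing f a) (ha : a ≠ 0) {w : Fin 2 → V4 K} (hw : Lines f a w)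
    (hb : T f (w 0) (w 1) a = 0)
    {φ : V4 K →ₗ[K] K} (hφ : φ ≠ 0) (hφa : φ a = 0) (hφw : ∀ i, φ (w i) = 0)
    {x : V4 K} (hx : φ x = 0) : D f x a = 0 := by
  have hli : LinearIndependent K ![a, w 0, w 1] :=
    indep3 ha (hw.ne1 0) (fun α β => hw.ne2 1 0 (by decide) α β)
  obtain ⟨α, β, γ, e⟩ := coords3 hφ hli hφa (hφw 0) (hφw 1) hx
  have h := q_in_plane hs (hw.q0 0) (hw.q0 1) α β γ
  rw [hb, mul_zero, ← e] at h
  exact h

/-- four lines in a plane through `a`: the cubic vanishes on the plane. -/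
theorem plane_vanish (hs : IsSing f a) (ha : a ≠ 0) {w : Fin 4 → V4 K} (hw : Lines f a w)
    {φ : V4 K →ₗ[K] K} (hφ : φ ≠ 0) (hφa : φ a = 0) (hφw : ∀ i, φ (w i) = 0)
    {x : V4 K} (hx : φ x = 0) : eval x f = 0 := by
  have hli : LinearIndependent K ![a, w 0, w 1] :=
    indep3 ha (hw.ne1 0) (fun α β => hw.ne2 1 0 (by decide) α β)
  have hb : T f (w 0) (w 1) a = 0 := by
    have h3 : Lines f a (w ∘ ![0, 1, 2]) := hw.comp _ (by decide)
    have h4 : ∀ i, φ ((w ∘ ![0, 1, 2]) i) = 0 := fun i => hφw _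
    have := b_eq_zero_of_three hs ha h3 hφ hφa h4
    simpa using this
  obtain ⟨α₂, β₂, γ₂, e₂⟩ := coords3 hφ hli hφa (hφw 0) (hφw 1) (hφw 2)
  obtain ⟨α₃, β₃, γ₃, e₃⟩ := coords3 hφ hli hφa (hφw 0) (hφw 1) (hφw 3)
  have hβ₂ : β₂ ≠ 0 := by
    rintro rfl
    apply hw.ne2 2 1 (by decide) α₂ γ₂
    rw [e₂]
    module
  have hγ₂ : γ₂ ≠ 0 := by
    rintro rfl
    apply hw.ne2 2 0 (by decide) α₂ β₂
    rw [e₂]
    module
  have hβ₃ : β₃ ≠ 0 := by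
    rintro rfl
    apply hw.ne2 3 1 (by decide) α₃ γ₃
    rw [e₃]
    module
  have hγ₃ : γ₃ ≠ 0 := by
    rintro rfl
    apply hw.ne2 3 0 (by decide) α₃ β₃
    rw [e₃]
    module
  have hdet : β₂ * γ₃ - β₃ * γ₂ ≠ 0 := by
    intro hd
    apply hw.ne2 3 2 (by decide) (β₂⁻¹ * (β₂ * α₃ - β₃ * α₂)) (β₂⁻¹ * β₃)
    have h1 : β₂ • w 3 = (β₂ * α₃ - β₃ * α₂) • a + β₃ • w 2 := by
      have key : β₂ • (α₃ • a + β₃ • w 0 + γ₃ • w 1) = (β₂ * α₃ - β₃ * α₂) • a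
          + β₃ • (α₂ • a + β₂ • w 0 + γ₂ • w 1) + (β₂ * γ₃ - β₃ * γ₂) • w 1 := by module
      rw [hd, zero_smul, add_zero, ← e₃, ← e₂] at key
      exact key
    calc w 3 = β₂⁻¹ • (β₂ • w 3) := by rw [smul_smul, inv_mul_cancel₀ hβ₂, one_smul]
      _ = _ := by rw [h1]; module
  have hf₂ := f_in_plane hs (hw.q0 0) (hw.q0 1) (hw.f0 0) (hw.f0 1) α₂ β₂ γ₂
  rw [← e₂, hw.f0 2, hb] at hf₂
  have hf₃ := f_in_plane hs (hw.q0 0) (hw.q0 1) (hw.f0 0) (hw.f0 1) α₃ β₃ γ₃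
  rw [← e₃, hw.f0 3, hb] at hf₃
  have k₂ : β₂ * D f (w 0) (w 1) + γ₂ * D f (w 1) (w 0) = 0 := by
    have : β₂ * γ₂ * (β₂ * D f (w 0) (w 1) + γ₂ * D f (w 1) (w 0)) = 0 := by
      linear_combination -hf₂
    exact (mul_eq_zero.mp this).resolve_left (mul_ne_zero hβ₂ hγ₂)
  have k₃ : β₃ * D f (w 0) (w 1) + γ₃ * D f (w 1) (w 0) = 0 := by
    have : β₃ * γ₃ * (β₃ * D f (w 0) (w 1) + γ₃ * D f (w 1) (w 0)) = 0 := by
      linear_combination -hf₃
    exact (mul_eq_zero.mp this).resolve_left (mul_ne_zero hβ₃ hγ₃)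
  have d01 : D f (w 0) (w 1) = 0 := by
    have : (β₂ * γ₃ - β₃ * γ₂) * D f (w 0) (w 1) = 0 := by linear_combination γ₃ * k₂ - γ₂ * k₃
    exact (mul_eq_zero.mp this).resolve_left hdet
  have d10 : D f (w 1) (w 0) = 0 := by
    have : (β₂ * γ₃ - β₃ * γ₂) * D f (w 1) (w 0) = 0 := by linear_combination β₂ * k₃ - β₃ * k₂
    exact (mul_eq_zero.mp this).resolve_left hdet
  obtain ⟨α, β, γ, e⟩ := coords3 hφ hli hφa (hφw 0) (hφw 1) hx
  rw [e, f_in_plane hs (hw.q0 0) (hw.q0 1) (hw.f0 0) (hw.f0 1), hb, d01, d10]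
  ring

end Groth.Agent.Lib.Helper72.SingLines
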