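/-
Helper72: lines through a singular point of a cubic surface (S16347), part E:
three coplanar lines are impossible among seven.
-/
import Mathlib
import Groth.Agent.Lib.Helper72.SingLinesD

set_option autoImplicit false
set_option linter.unusedSectionVars false

open MvPolynomial Finset

namespace Groth.Agent.Lib.Helper72.SingLines

open Groth.Agent.Lib.Helper72.CubicForm

variable {K : Type*} [Field K] [CharZero K] {f : MvPolynomial (Fin 4) K} {a : V4 K}

lemma inj2 {α : Type*} {i j : α} (hij : i ≠ j) : Function.Injective ![i, j] := by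
  intro x y h
  fin_cases x <;> fin_cases y <;> simp_all

lemma inj3 {α : Type*} {i j k : α} (hij : i ≠ j) (hik : i ≠ k) (hjk : j ≠ k) :
    Function.Injective ![i, j, k] := by
  intro x y h
  fin_cases x <;> fin_cases y <;> simp_all

lemma inj4 {α : Type*} {i j k l : α} (hij : i ≠ j) (hik : i ≠ k) (hjk : j ≠ k)
    (hil : i ≠ l) (hjl : j ≠ l) (hkl : k ≠ l) :
    Function.Injective ![i, j, k, l] := by
  intro x y h
  fin_cases x <;> fin_cases y <;> simp_all

/-- the polar quadric polynomial of the point `a`. -/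
noncomputable def polar (f : MvPolynomial (Fin 4) K) (a : V4 K) : MvPolynomial (Fin 4) K :=
  ∑ i, a i • pderiv i f

lemma eval_polar (x : V4 K) : eval x (polar f a) = D f x a := by
  unfold polar D
  rw [map_sum]
  refine Finset.sum_congr rfl fun i _ => ?_
  rw [smul_eval]

lemma polar_totalDegree (hf : f.IsHomogeneous 3) : (polar f a).totalDegree ≤ 2 := by
  have h : (polar f a).IsHomogeneous 2 := by
    unfold polar
    refine IsHomogeneous.sum _ _ _ fun i _ => ?_
    have h1 : (pderiv i f).IsHomogeneous (3 - 1) := hf.pderiv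
    exact (homogeneousSubmodule (Fin 4) K 2).smul_mem (a i) h1
  exact h.totalDegree_le

section irr

variable [IsAlgClosed K]

/-- an irreducible cubic does not vanish on a plane. -/
theorem false_of_plane (hirr : Irreducible f) (hf : f.IsHomogeneous 3) {φ : V4 K →ₗ[K] K}
    (hφ : φ ≠ 0) (h : ∀ x, φ x = 0 → eval x f = 0) : False := by
  have hv : ∃ v, φ v ≠ 0 := by
    by_contra hcon
    push Not at hcon
    exact hφ (LinearMap.ext hcon)
  obtain ⟨v, hv⟩ := hv
  have hg0 : linPoly φ ≠ 0 := by
    intro h0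
    apply hv
    rw [← eval_linPoly, h0, map_zero]
  have hdeg : (linPoly φ).totalDegree < f.totalDegree := by
    rw [hf.totalDegree hirr.ne_zero]
    have := (linPoly_isHomogeneous φ).totalDegree_le
    omega
  refine false_of_vanish hirr hg0 hdeg (x₀ := 0) ?_ ?_
  · rw [eval_linPoly, map_zero]
  · intro x hx
    rw [eval_linPoly] at hx
    exact h x hx

/-- an irreducible cubic does not vanish on the polar quadric of a singular point, unless that
quadric is zero. -/
theorem false_of_quadric (hirr : Irreducible f) (hs : IsSing f a) (hne : ∃ x, D f x a ≠ 0)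
    (h : ∀ x, D f x a = 0 → eval x f = 0) : False := by
  obtain ⟨v, hv⟩ := hne
  have hg0 : polar f a ≠ 0 := by
    intro h0
    apply hv
    rw [← eval_polar, h0, map_zero]
  have hdeg : (polar f a).totalDegree < f.totalDegree := by
    rw [hs.hom.totalDegree hirr.ne_zero]
    have := polar_totalDegree (a := a) hs.hom
    omega
  refine false_of_vanish hirr hg0 hdeg (x₀ := a) ?_ ?_
  · rw [eval_polar, hs.D_a_a]
  · intro x hx
    rw [eval_polar] at hx
    exact h x hx

end irr

/-- if the polar quadric vanishes on a plane through `a`, it is the product of the equation of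
the plane and another linear form vanishing at `a`. -/
theorem exists_factor (hs : IsSing f a) {φ : V4 K →ₗ[K] K} (hφ : φ ≠ 0) (hφa : φ a = 0)
    (hq : ∀ x, φ x = 0 → D f x a = 0) :
    ∃ ψ : V4 K →ₗ[K] K, ψ a = 0 ∧ ∀ x, D f x a = φ x * ψ x := by
  have hv : ∃ v, φ v ≠ 0 := by
    by_contra hcon
    push Not at hcon
    exact hφ (LinearMap.ext hcon)
  obtain ⟨v, hv⟩ := hv
  obtain ⟨e, he⟩ : ∃ e, e = (φ v)⁻¹ • v := ⟨_, rfl⟩
  have hφe : φ e = 1 := by
    rw [he, map_smul, smul_eq_mul, inv_mul_cancel₀ hv]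
  refine ⟨Tlin f e a - (D f e a) • φ, ?_, ?_⟩
  · rw [LinearMap.sub_apply, Tlin_apply, LinearMap.smul_apply, hs.T_a_right]
    rw [hφa]
    simp
  · intro x
    obtain ⟨x₀, hx₀⟩ : ∃ x₀, x₀ = x - φ x • e := ⟨_, rfl⟩
    have hφx₀ : φ x₀ = 0 := by
      rw [hx₀, map_sub, map_smul, hφe, smul_eq_mul, mul_one, sub_self]
    have hqx₀ := hq x₀ hφx₀
    have hx : x = (1 : K) • x₀ + φ x • e := by
      rw [hx₀]
      module
    have h1 := q_comb2 (a := a) hs.hom 1 (φ x) x₀ e
    rw [← hx, hqx₀] at h1
    have h2 : T f x₀ e a = T f e a x - φ x * (2 * D f e a) := by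
      rw [hx₀, T_sub_left, T_smul_left, T_e_e hs.hom, T_swap13 f x e a, T_swap12 f a e x]
    rw [h1, h2, LinearMap.sub_apply, Tlin_apply, LinearMap.smul_apply, smul_eq_mul]
    ring

/-- among seven lines through the singular point no three are coplanar. -/
theorem false_of_three_coplanar [IsAlgClosed K] (hirr : Irreducible f) (hs : IsSing f a)
    (ha : a ≠ 0) (hne : ∃ x, D f x a ≠ 0) {w : Fin 7 → V4 K} (hw : Lines f a w)
    {i j k : Fin 7} (hij : i ≠ j) (hik : i ≠ k) (hjk : j ≠ k)
    {φ : V4 K →ₗ[K] K} (hφ : φ ≠ 0) (hφa : φ a = 0)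
    (hi : φ (w i) = 0) (hj : φ (w j) = 0) (hk : φ (w k) = 0) : False := by
  have hb : T f (w i) (w j) a = 0 := by
    have h3 : Lines f a (w ∘ ![i, j, k]) := hw.comp _ (inj3 hij hik hjk)
    have h4 : ∀ m, φ ((w ∘ ![i, j, k]) m) = 0 := by
      intro m
      fin_cases m
      · exact hi
      · exact hj
      · exact hk
    have := b_eq_zero_of_three hs ha h3 hφ hφa h4
    simpa using this
  have hq : ∀ x, φ x = 0 → D f x a = 0 := by
    intro x hx
    have h2 : Lines f a (w ∘ ![i, j]) := hw.comp _ (inj2 hij)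
    have h4 : ∀ m, φ ((w ∘ ![i, j]) m) = 0 := by
      intro m
      fin_cases m
      · exact hi
      · exact hj
    exact q_plane hs ha h2 (by simpa using hb) hφ hφa h4 hx
  obtain ⟨ψ, hψa, hfac⟩ := exists_factor hs hφ hφa hq
  have hψ : ψ ≠ 0 := by
    rintro rfl
    obtain ⟨x, hx⟩ := hne
    apply hx
    rw [hfac]
    simp
  obtain ⟨S, hS⟩ : ∃ S : Finset (Fin 7), S = ((Finset.univ.erase i).erase j).erase k := ⟨_, rfl⟩
  have hcard : S.card = 4 := by
    rw [hS, Finset.card_erase_of_mem, Finset.card_erase_of_mem, Finset.card_erase_of_mem]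
    · simp
    · exact Finset.mem_univ _
    · simp [hij.symm]
    · simp [hik.symm, hjk.symm]
  have hmem : ∀ l, l ∈ S ↔ l ≠ k ∧ l ≠ j ∧ l ≠ i := by
    intro l
    rw [hS]
    simp
  by_cases h : ∃ l ∈ S, φ (w l) = 0
  · obtain ⟨l, hl, hφl⟩ := h
    obtain ⟨hlk, hlj, hli⟩ := (hmem l).mp hl
    have h4 : Lines f a (w ∘ ![i, j, k, l]) :=
      hw.comp _ (inj4 hij hik hjk (Ne.symm hli) (Ne.symm hlj) (Ne.symm hlk))
    have h5 : ∀ m, φ ((w ∘ ![i, j, k, l]) m) = 0 := by
      intro m
      fin_cases m
      · exact hi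
      · exact hj
      · exact hk
      · exact hφl
    exact false_of_plane hirr hs.hom hφ (fun x hx => plane_vanish hs ha h4 hφ hφa h5 hx)
  · push Not at h
    have hψS : ∀ l ∈ S, ψ (w l) = 0 := by
      intro l hl
      have := hfac (w l)
      rw [hw.q0 l] at this
      exact (mul_eq_zero.mp this.symm).resolve_left (h l hl)
    have hle : Fintype.card (Fin 4) ≤ Fintype.card ↥S := by
      rw [Fintype.card_coe, Fintype.card_fin, hcard]
    obtain ⟨g⟩ := Function.Embedding.nonempty_of_card_le hle
    have hginj : Function.Injective (fun m => (g m).1) := by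
      intro x y hxy
      exact g.injective (Subtype.ext hxy)
    have h4 : Lines f a (w ∘ fun m => (g m).1) := hw.comp _ hginj
    have h5 : ∀ m, ψ ((w ∘ fun m => (g m).1) m) = 0 := fun m => hψS _ (g m).2
    exact false_of_plane hirr hs.hom hψ (fun x hx => plane_vanish hs ha h4 hψ hψa h5 hx)

end Groth.Agent.Lib.Helper72.SingLines
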