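/-
Helper72: lines through a singular point of a cubic surface (S16347), part F:
the algebraic core (a conic and a cubic through seven points in general position).
-/
import Mathlib

set_option autoImplicit false
set_option linter.unusedSectionVars false

open Polynomial

namespace Groth.Agent.Lib.Helper72.SingLines

variable {K : Type*} [Field K]

/-- the residual binary cubic. -/
def R3 (b12 b13 b23 d12 d13 d21 d31 d23 d32 τ : K) (s t : K) : K :=
  b23 ^ 2 * s * t * (d12 * s + d13 * t)
    - b23 * (b12 * s + b13 * t) * (d21 * s ^ 2 + τ * s * t + d31 * t ^ 2)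
    + (b12 * s + b13 * t) ^ 2 * (d23 * s + d32 * t)

/-- the cubic form restricted to the coordinates `(l, s, t)`. -/
def Fc (d12 d13 d21 d31 d23 d32 τ : K) (l s t : K) : K :=
  l ^ 2 * (s * d12 + t * d13) + l * (s ^ 2 * d21 + t ^ 2 * d31 + s * t * τ)
    + (s ^ 2 * t * d23 + s * t ^ 2 * d32)

/-- the quadratic form restricted to the coordinates `(l, s, t)`. -/
def Qc (b12 b13 b23 : K) (l s t : K) : K :=
  l * s * b12 + l * t * b13 + s * t * b23

lemma key_identity (b12 b13 b23 d12 d13 d21 d31 d23 d32 τ : K) (l s t : K)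
    (h : Qc b12 b13 b23 l s t = 0) :
    (b12 * s + b13 * t) ^ 2 * Fc d12 d13 d21 d31 d23 d32 τ l s t
      = s * t * R3 b12 b13 b23 d12 d13 d21 d31 d23 d32 τ s t := by
  unfold Qc at h
  unfold Fc R3
  linear_combination ((s * d12 + t * d13) * (l * (b12 * s + b13 * t) - b23 * s * t)
    + (b12 * s + b13 * t) * (s ^ 2 * d21 + t ^ 2 * d31 + s * t * τ)) * h

/-- the dehomogenised residual cubic as a polynomial. -/
noncomputable def P3 (b12 b13 b23 d12 d13 d21 d31 d23 d32 τ : K) : K[X] :=
  C (b23 ^ 2) * X * (C d12 + C d13 * X)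
    - C b23 * (C b12 + C b13 * X) * (C d21 + C τ * X + C d31 * X ^ 2)
    + (C b12 + C b13 * X) ^ 2 * (C d23 + C d32 * X)

lemma eval_P3 (b12 b13 b23 d12 d13 d21 d31 d23 d32 τ μ : K) :
    (P3 b12 b13 b23 d12 d13 d21 d31 d23 d32 τ).eval μ
      = R3 b12 b13 b23 d12 d13 d21 d31 d23 d32 τ 1 μ := by
  unfold P3 R3
  simp only [eval_add, eval_sub, eval_mul, eval_pow, eval_C, eval_X]
  ring

lemma natDegree_P3 (b12 b13 b23 d12 d13 d21 d31 d23 d32 τ : K) :
    (P3 b12 b13 b23 d12 d13 d21 d31 d23 d32 τ).natDegree ≤ 3 := by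
  unfold P3
  compute_degree

lemma R3_homog (b12 b13 b23 d12 d13 d21 d31 d23 d32 τ : K) {s : K} (hs : s ≠ 0) (t : K) :
    R3 b12 b13 b23 d12 d13 d21 d31 d23 d32 τ s t
      = s ^ 3 * R3 b12 b13 b23 d12 d13 d21 d31 d23 d32 τ 1 (t / s) := by
  unfold R3
  field_simp

theorem core (b12 b13 b23 d12 d13 d21 d31 d23 d32 τ : K)
    (hb12 : b12 ≠ 0) (hb13 : b13 ≠ 0) (hb23 : b23 ≠ 0)
    (ls ss ts : Fin 4 → K) (hss : ∀ k, ss k ≠ 0) (hts : ∀ k, ts k ≠ 0)
    (hdist : ∀ k k', k ≠ k' → ss k * ts k' ≠ ss k' * ts k)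
    (hq : ∀ k, Qc b12 b13 b23 (ls k) (ss k) (ts k) = 0)
    (hf : ∀ k, Fc d12 d13 d21 d31 d23 d32 τ (ls k) (ss k) (ts k) = 0)
    (l s t : K) (h : Qc b12 b13 b23 l s t = 0) :
    Fc d12 d13 d21 d31 d23 d32 τ l s t = 0 := by
  have hroot : ∀ k, R3 b12 b13 b23 d12 d13 d21 d31 d23 d32 τ (ss k) (ts k) = 0 := by
    intro k
    have := key_identity b12 b13 b23 d12 d13 d21 d31 d23 d32 τ _ _ _ (hq k)
    rw [hf k, mul_zero] at this
    exact (mul_eq_zero.mp this.symm).resolve_left (mul_ne_zero (hss k) (hts k))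
  have hP : P3 b12 b13 b23 d12 d13 d21 d31 d23 d32 τ = 0 := by
    apply Polynomial.eq_zero_of_natDegree_lt_card_of_eval_eq_zero _
      (f := fun k : Fin 4 => ts k / ss k)
    · intro k k' hkk
      by_contra hne
      apply hdist k k' hne
      have h1 : ts k / ss k = ts k' / ss k' := hkk
      rw [div_eq_div_iff (hss k) (hss k')] at h1
      linear_combination -h1
    · intro k
      rw [eval_P3]
      have := R3_homog b12 b13 b23 d12 d13 d21 d31 d23 d32 τ (hss k) (ts k)
      rw [hroot k] at this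
      exact (mul_eq_zero.mp this.symm).resolve_left (pow_ne_zero _ (hss k))
    · have := natDegree_P3 b12 b13 b23 d12 d13 d21 d31 d23 d32 τ
      rw [Fintype.card_fin]
      omega
  have hR : ∀ s t : K, s ≠ 0 → R3 b12 b13 b23 d12 d13 d21 d31 d23 d32 τ s t = 0 := by
    intro s t hs
    rw [R3_homog _ _ _ _ _ _ _ _ _ _ hs, ← eval_P3, hP, eval_zero, mul_zero]
  have hkey := key_identity b12 b13 b23 d12 d13 d21 d31 d23 d32 τ l s t h
  by_cases hs : s = 0
  · subst hs
    unfold Qc at h
    have h1 : l * t = 0 := by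
      have : b13 * (l * t) = 0 := by linear_combination h
      exact (mul_eq_zero.mp this).resolve_left hb13
    unfold Fc
    linear_combination (l * d13 + t * d31) * h1
  · rw [hR s t hs, mul_zero] at hkey
    rcases mul_eq_zero.mp hkey with hM | hF
    · exfalso
      have hM' : b12 * s + b13 * t = 0 := by
        exact pow_eq_zero_iff (two_ne_zero) |>.mp hM
      unfold Qc at h
      have h2 : b23 * s * t = 0 := by linear_combination h - l * hM'
      have ht : t = 0 := by
        rcases mul_eq_zero.mp h2 with h3 | h3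
        · exact absurd h3 (mul_ne_zero hb23 hs)
        · exact h3
      rw [ht, mul_zero, add_zero] at hM'
      exact (mul_ne_zero hb12 hs) hM'
    · exact hF

end Groth.Agent.Lib.Helper72.SingLines
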