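/-
Helper72: lines through a singular point of a cubic surface (S16347), part G:
seven lines in general position are impossible; the main theorem.
-/
import Mathlib
import Groth.Agent.Lib.Helper72.SingLinesE
import Groth.Agent.Lib.Helper72.SingLinesF

set_option autoImplicit false
set_option linter.unusedSectionVars false

open MvPolynomial Finset

namespace Groth.Agent.Lib.Helper72.SingLines

open Groth.Agent.Lib.Helper72.CubicForm

variable {K : Type*} [Field K] [CharZero K] {f : MvPolynomial (Fin 4) K} {a : V4 K}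

lemma comb_of_prop {V : Type*} [AddCommGroup V] [Module K V] {a w0 w1 w2 A B : V}
    {αA lA sA tA αB lB sB tB : K}
    (eA : A = αA • a + lA • w0 + sA • w1 + tA • w2)
    (eB : B = αB • a + lB • w0 + sB • w1 + tB • w2) (htB : tB ≠ 0)
    (hd : sA * tB = sB * tA) :
    A = (αA - tB⁻¹ * tA * αB) • a + (lA - tB⁻¹ * tA * lB) • w0 + (tB⁻¹ * tA) • B := by
  have hsA : sA = tB⁻¹ * tA * sB := by
    field_simp
    linear_combination hd
  have htA : tA = tB⁻¹ * tA * tB := by
    field_simp
  calc A = αA • a + lA • w0 + sA • w1 + tA • w2 := eA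
    _ = αA • a + lA • w0 + (tB⁻¹ * tA * sB) • w1 + (tB⁻¹ * tA * tB) • w2 := by
      rw [← hsA, ← htA]
    _ = _ := by
      rw [eB]
      module

/-- seven lines through the singular point, no three of them coplanar, are impossible. -/
theorem false_of_general [IsAlgClosed K] (hirr : Irreducible f) (hs : IsSing f a)
    (ha : a ≠ 0) (hne : ∃ x, D f x a ≠ 0) {w : Fin 7 → V4 K} (hw : Lines f a w)
    (H : ∀ i j k, i ≠ j → i ≠ k → j ≠ k → ∀ φ : V4 K →ₗ[K] K, φ ≠ 0 → φ a = 0 →
      φ (w i) = 0 → φ (w j) = 0 → φ (w k) ≠ 0) : False := by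
  -- independence of triples
  have I3 : ∀ i j k, i ≠ j → i ≠ k → j ≠ k → ∀ α β γ : K,
      w k ≠ α • a + β • w i + γ • w j := by
    intro i j k hij hik hjk α β γ e
    obtain ⟨φ, hφ, h1, h2, h3⟩ := exists_functional a (w i) (w j)
    apply H i j k hij hik hjk φ hφ h1 h2 h3
    rw [e]
    simp [h1, h2, h3]
  -- the polar pairings are nonzero
  have bne : ∀ i j, i ≠ j → T f (w i) (w j) a ≠ 0 := by
    intro i j hij hb
    obtain ⟨φ, hφ, hφa, hi, hj⟩ := exists_functional a (w i) (w j)
    have hq : ∀ x, φ x = 0 → D f x a = 0 := by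
      intro x hx
      have h2 : Lines f a (w ∘ ![i, j]) := hw.comp _ (inj2 hij)
      have h4 : ∀ m, φ ((w ∘ ![i, j]) m) = 0 := by
        intro m
        fin_cases m
        · exact hi
        · exact hj
      exact q_plane hs ha h2 (by simpa using hb) hφ hφa h4 hx
    obtain ⟨ψ, hψa, hfac⟩ := exists_factor hs hφ hφa hq
    have hψ : ψ ≠ 0 := by
      rintro rfl
      obtain ⟨x, hx⟩ := hne
      apply hx
      rw [hfac]
      simp
    obtain ⟨S, hS⟩ : ∃ S : Finset (Fin 7), S = (Finset.univ.erase i).erase j := ⟨_, rfl⟩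
    have hcard : S.card = 5 := by
      rw [hS, Finset.card_erase_of_mem, Finset.card_erase_of_mem]
      · simp
      · exact Finset.mem_univ _
      · simp [hij.symm]
    have hmem : ∀ l, l ∈ S ↔ l ≠ j ∧ l ≠ i := by
      intro l
      rw [hS]
      simp
    have hψS : ∀ l ∈ S, ψ (w l) = 0 := by
      intro l hl
      obtain ⟨hlj, hli⟩ := (hmem l).mp hl
      have := hfac (w l)
      rw [hw.q0 l] at this
      exact (mul_eq_zero.mp this.symm).resolve_left
        (H i j l hij (Ne.symm hli) (Ne.symm hlj) φ hφ hφa hi hj)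
    obtain ⟨k₁, m₁, k₂, m₂, k₃, m₃, n12, n13, n23⟩ := Finset.two_lt_card.mp (by omega : 2 < S.card)
    exact H k₁ k₂ k₃ n12 n13 n23 ψ hψ hψa (hψS _ m₁) (hψS _ m₂) (hψS _ m₃)
  -- coordinates
  have hli4 : LinearIndependent K ![a, w 0, w 1, w 2] :=
    indep4 ha (hw.ne1 0) (fun α β => hw.ne2 1 0 (by decide) α β)
      (I3 0 1 2 (by decide) (by decide) (by decide))
  choose cα cl cs ct hc using coords4 hli4
  -- the four remaining lines
  obtain ⟨g, hg⟩ : ∃ g : Fin 4 → Fin 7, g = ![3, 4, 5, 6] := ⟨_, rfl⟩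
  have hg0 : ∀ m, g m ≠ 0 := by rw [hg]; decide
  have hg1 : ∀ m, g m ≠ 1 := by rw [hg]; decide
  have hg2 : ∀ m, g m ≠ 2 := by rw [hg]; decide
  have hginj : Function.Injective g := by rw [hg]; decide
  have hss : ∀ m, cs (w (g m)) ≠ 0 := by
    intro m h0
    apply I3 0 2 (g m) (by decide) (hg0 m).symm (hg2 m).symm (cα (w (g m))) (cl (w (g m)))
      (ct (w (g m)))
    conv_lhs => rw [hc (w (g m)), h0]
    module
  have hts : ∀ m, ct (w (g m)) ≠ 0 := by
    intro m h0
    apply I3 0 1 (g m) (by decide) (hg0 m).symm (hg1 m).symm (cα (w (g m))) (cl (w (g m)))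
      (cs (w (g m)))
    conv_lhs => rw [hc (w (g m)), h0]
    module
  have hdist : ∀ m m', m ≠ m' →
      cs (w (g m)) * ct (w (g m')) ≠ cs (w (g m')) * ct (w (g m)) := by
    intro m m' hmm hd
    have hgm : g m ≠ g m' := fun e => hmm (hginj e)
    -- w (g m) is a combination of a, w 0, w (g m')
    apply I3 0 (g m') (g m) (hg0 m').symm (hg0 m).symm hgm.symm
      (cα (w (g m)) - (ct (w (g m')))⁻¹ * ct (w (g m)) * cα (w (g m')))
      (cl (w (g m)) - (ct (w (g m')))⁻¹ * ct (w (g m)) * cl (w (g m')))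
      ((ct (w (g m')))⁻¹ * ct (w (g m)))
    exact comb_of_prop (hc (w (g m))) (hc (w (g m'))) (hts m') hd
  -- apply the core
  have hvan : ∀ x, D f x a = 0 → eval x f = 0 := by
    intro x hx
    have hqx := q_in_space hs (hw.q0 0) (hw.q0 1) (hw.q0 2) (cα x) (cl x) (cs x) (ct x)
    rw [← hc x, hx] at hqx
    have hfx := f_in_space hs (hw.q0 0) (hw.q0 1) (hw.q0 2) (hw.f0 0) (hw.f0 1) (hw.f0 2)
      (cα x) (cl x) (cs x) (ct x)
    rw [← hc x, ← hqx, mul_zero, add_zero] at hfx
    rw [hfx]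
    refine core (T f (w 0) (w 1) a) (T f (w 0) (w 2) a) (T f (w 1) (w 2) a)
      (D f (w 0) (w 1)) (D f (w 0) (w 2)) (D f (w 1) (w 0)) (D f (w 2) (w 0))
      (D f (w 1) (w 2)) (D f (w 2) (w 1)) (T f (w 0) (w 1) (w 2))
      (bne 0 1 (by decide)) (bne 0 2 (by decide)) (bne 1 2 (by decide))
      (fun m => cl (w (g m))) (fun m => cs (w (g m))) (fun m => ct (w (g m)))
      hss hts hdist ?_ ?_ (cl x) (cs x) (ct x) hqx.symm
    · intro m
      have h1 := q_in_space hs (hw.q0 0) (hw.q0 1) (hw.q0 2) (cα (w (g m))) (cl (w (g m)))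
        (cs (w (g m))) (ct (w (g m)))
      rw [← hc (w (g m)), hw.q0 (g m)] at h1
      exact h1.symm
    · intro m
      have h1 := q_in_space hs (hw.q0 0) (hw.q0 1) (hw.q0 2) (cα (w (g m))) (cl (w (g m)))
        (cs (w (g m))) (ct (w (g m)))
      rw [← hc (w (g m)), hw.q0 (g m)] at h1
      have h2 := f_in_space hs (hw.q0 0) (hw.q0 1) (hw.q0 2) (hw.f0 0) (hw.f0 1) (hw.f0 2)
        (cα (w (g m))) (cl (w (g m))) (cs (w (g m))) (ct (w (g m)))
      rw [← hc (w (g m)), ← h1, mul_zero, add_zero, hw.f0 (g m)] at h2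
      exact h2.symm
  exact false_of_quadric hirr hs hne hvan

/-- seven lines through a singular point are impossible. -/
theorem false_of_seven [IsAlgClosed K] (hirr : Irreducible f) (hs : IsSing f a)
    (ha : a ≠ 0) (hne : ∃ x, D f x a ≠ 0) {w : Fin 7 → V4 K} (hw : Lines f a w) : False := by
  by_cases hcop : ∃ i j k, i ≠ j ∧ i ≠ k ∧ j ≠ k ∧ ∃ φ : V4 K →ₗ[K] K, φ ≠ 0 ∧ φ a = 0 ∧
      φ (w i) = 0 ∧ φ (w j) = 0 ∧ φ (w k) = 0
  · obtain ⟨i, j, k, hij, hik, hjk, φ, hφ, hφa, hi, hj, hk⟩ := hcop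
    exact false_of_three_coplanar hirr hs ha hne hw hij hik hjk hφ hφa hi hj hk
  · push Not at hcop
    exact false_of_general hirr hs ha hne hw
      (fun i j k hij hik hjk φ hφ hφa hi hj => hcop i j k hij hik hjk φ hφ hφa hi hj)

/-- at most six lines of an irreducible cubic surface which is not a cone pass through a
singular point. -/
theorem lines_through_sing (K : Type*) [Field K] [IsAlgClosed K] [CharZero K]
    (F : MvPolynomial (Fin 4) K) (hF : F.IsHomogeneous 3) (hirr : Irreducible F)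
    (hcone : ¬ ∃ v : Fin 4 → K, v ≠ 0 ∧ ∑ i : Fin 4, v i • MvPolynomial.pderiv i F = 0)
    (a : Fin 4 → K) (ha : a ≠ 0) (hFa : MvPolynomial.eval a F = 0)
    (hsing : ∀ i : Fin 4, MvPolynomial.eval a (MvPolynomial.pderiv i F) = 0) :
    {U : Submodule K (Fin 4 → K) | a ∈ U ∧ Module.finrank K ↥U = 2 ∧
      ∀ u ∈ U, MvPolynomial.eval u F = 0}.encard ≤ 6 := by
  have hs : IsSing F a := by
    refine ⟨hF, hFa, fun w => ?_⟩
    unfold D
    simp [hsing]
  have hne : ∃ x, D F x a ≠ 0 := by
    by_contra hcon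
    push Not at hcon
    apply hcone
    refine ⟨a, ha, ?_⟩
    have : polar F a = 0 := by
      apply MvPolynomial.funext
      intro x
      rw [eval_polar, hcon, map_zero]
    exact this
  have claim : ∀ s : Finset (Submodule K (Fin 4 → K)),
      (∀ U ∈ s, a ∈ U ∧ Module.finrank K ↥U = 2 ∧ ∀ u ∈ U, eval u F = 0) → s.card ≤ 6 := by
    intro s hsU
    by_contra hcard
    push Not at hcard
    have hle : Fintype.card (Fin 7) ≤ Fintype.card ↥s := by
      rw [Fintype.card_coe, Fintype.card_fin]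
      omega
    obtain ⟨g⟩ := Function.Embedding.nonempty_of_card_le hle
    have hU : ∀ i, a ∈ (g i).1 ∧ Module.finrank K ↥(g i).1 = 2 ∧ ∀ u ∈ (g i).1, eval u F = 0 :=
      fun i => hsU _ (g i).2
    have hinj : Function.Injective (fun i => (g i).1) := by
      intro i j hij
      exact g.injective (Subtype.ext hij)
    choose u hu1 hu2 using fun i => exists_dir (g i).1 (hU i).2.1 ha (hU i).1
    have hon : ∀ i, OnLine F a (u i) := fun i =>
      onLine_of_span (fun w hw => (hU i).2.2 w (by rw [hu2 i]; exact hw))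
    have hnemem : ∀ i j, i ≠ j → u i ∉ Submodule.span K (Set.range ![a, u j]) := by
      intro i j hij hmem
      apply hij
      apply hinj
      have hle : (g i).1 ≤ (g j).1 := by
        rw [hu2 i, hu2 j, Submodule.span_le]
        rintro _ ⟨k, rfl⟩
        fin_cases k
        · exact Submodule.subset_span ⟨0, rfl⟩
        · exact hmem
      exact Submodule.eq_of_le_of_finrank_eq hle (by rw [(hU i).2.1, (hU j).2.1])
    have hw : Lines F a u := by
      refine ⟨fun i => ((hs.onLine_iff _).mp (hon i)).1, fun i => ((hs.onLine_iff _).mp (hon i)).2,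
        ?_, ?_⟩
      · intro i α e
        apply hu1 i
        rw [Submodule.mem_span_singleton]
        exact ⟨α, e.symm⟩
      · intro i j hij α β e
        apply hnemem i j hij
        rw [mem_span_pair_range]
        exact ⟨α, β, e.symm⟩
    exact false_of_seven hirr hs ha hne hw
  have hfin : {U : Submodule K (Fin 4 → K) | a ∈ U ∧ Module.finrank K ↥U = 2 ∧
      ∀ u ∈ U, eval u F = 0}.Finite := by
    by_contra hinf
    obtain ⟨s, hs1, hs2⟩ := Set.Infinite.exists_subset_card_eq hinf 7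
    have := claim s (fun U hU => hs1 hU)
    omega
  rw [hfin.encard_eq_coe_toFinset_card]
  have := claim hfin.toFinset (fun U hU => (Set.Finite.mem_toFinset hfin).mp hU)
  exact_mod_cast this

end Groth.Agent.Lib.Helper72.SingLines
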