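/-
Helper72: first order Taylor expansion of a multivariate polynomial along a line; gradients along
linear subspaces contained in a hypersurface.
-/
import Mathlib

set_option autoImplicit false
universe u

namespace Groth.Agent.Lib.Helper72.TaylorOne

open MvPolynomial in
/-- first order Taylor expansion of a polynomial along a line. -/
theorem taylor_one {k : Type*} [Field k] {σ : Type*} [Fintype σ] [DecidableEq σ]
    (f : MvPolynomial σ k) (u u' : σ → k) :
    ∃ r : Polynomial k, ∀ t : k, eval (u + t • u') f =
      eval u f + t * (∑ i, u' i * eval u (pderiv i f)) + t ^ 2 * r.eval t := by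
  induction f using MvPolynomial.induction_on with
  | C a =>
    refine ⟨0, fun t => ?_⟩
    simp
  | add p q hp hq =>
    obtain ⟨rp, hrp⟩ := hp
    obtain ⟨rq, hrq⟩ := hq
    refine ⟨rp + rq, fun t => ?_⟩
    simp only [map_add, Polynomial.eval_add]
    rw [hrp, hrq, Finset.sum_congr rfl (fun i _ => mul_add (u' i) _ _), Finset.sum_add_distrib]
    ring
  | mul_X p j hp =>
    obtain ⟨rp, hrp⟩ := hp
    refine ⟨Polynomial.C (u j) * rp + Polynomial.C ((∑ i, u' i * eval u (pderiv i p)) * u' j) +
      Polynomial.X * Polynomial.C (u' j) * rp, fun t => ?_⟩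
    have h1 : ∑ i, u' i * eval u (pderiv i (p * X j)) =
        (∑ i, u' i * eval u (pderiv i p)) * u j + eval u p * u' j := by
      have : ∀ i, u' i * eval u (pderiv i (p * X j)) =
          u' i * eval u (pderiv i p) * u j + if i = j then u' i * eval u p else 0 := by
        intro i
        rw [Derivation.leibniz, pderiv_X]
        simp only [smul_eq_mul, map_add, map_mul, eval_X]
        by_cases hij : i = j
        · subst hij
          simp
          ring
        · rw [Pi.single_apply, if_neg (Ne.symm hij), if_neg hij]
          simp
          ring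
      rw [Finset.sum_congr rfl (fun i _ => this i), Finset.sum_add_distrib, ← Finset.sum_mul,
        Finset.sum_ite_eq' Finset.univ j]
      simp
      ring
    simp only [map_mul, eval_X, Polynomial.eval_add, Polynomial.eval_mul, Polynomial.eval_C,
      Polynomial.eval_X, Pi.add_apply, Pi.smul_apply, smul_eq_mul]
    rw [hrp, h1]
    ring

open MvPolynomial in
/-- the gradient at a point of a linear subspace contained in the hypersurface is orthogonal to the
subspace. -/
theorem tangent_of_vanish {k : Type*} [Field k] [Infinite k] {σ : Type*} [Fintype σ] [DecidableEq σ]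
    (f : MvPolynomial σ k) (U : Submodule k (σ → k)) (hU : ∀ u ∈ U, eval u f = 0)
    {u u' : σ → k} (hu : u ∈ U) (hu' : u' ∈ U) : ∑ i, u' i * eval u (pderiv i f) = 0 := by
  obtain ⟨r, hr⟩ := taylor_one f u u'
  obtain ⟨B, hB⟩ : ∃ B, B = ∑ i, u' i * eval u (pderiv i f) := ⟨_, rfl⟩
  rw [← hB] at hr ⊢
  have hP : Polynomial.X * Polynomial.C B + Polynomial.X ^ 2 * r = 0 := by
    apply Polynomial.funext
    intro t
    have h1 := hr t
    rw [hU u hu, hU _ (U.add_mem hu (U.smul_mem t hu'))] at h1
    simp only [Polynomial.eval_add, Polynomial.eval_mul, Polynomial.eval_X, Polynomial.eval_C,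
      Polynomial.eval_pow, Polynomial.eval_zero]
    linear_combination -h1
  have := congrArg (fun P => Polynomial.coeff P 1) hP
  simp only [Polynomial.coeff_add, Polynomial.coeff_zero] at this
  rw [Polynomial.coeff_X_mul, Polynomial.coeff_C_zero, Polynomial.coeff_X_pow_mul', if_neg (by norm_num),
    add_zero] at this
  exact this

end Groth.Agent.Lib.Helper72.TaylorOne
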