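/-
Helper72: generic combinatorial lemmas for the VerlindeComb family.
* `fcb`: function form of Cauchy–Binet.
* `sum_eq_factorial_mul_sum_strictAnti`: symmetrisation over strictly decreasing tuples.
* `sum_strictAnti_mem_range`: pinning a value in the range of a tuple (shift argument).
-/
import Mathlib

set_option autoImplicit false

open Finset Matrix Equiv

namespace Groth.Agent.Lib.Helper72.Verlinde

section FCB

variable {R : Type*} [CommRing R] {r : ℕ} {X : Type*} [Fintype X]

/-- sum over pairs of permutations of a product of matrix entries is `r! * det`. -/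
theorem sum_perm_perm_prod (C : Matrix (Fin r) (Fin r) R) :
    ∑ σ : Perm (Fin r), ∑ τ : Perm (Fin r),
      ((Perm.sign σ : ℤ) : R) * ((Perm.sign τ : ℤ) : R) * ∏ j, C (σ j) (τ j) =
      (r.factorial : R) * C.det := by
  rw [Finset.sum_comm]
  have h : ∀ τ : Perm (Fin r), ∑ σ : Perm (Fin r),
      ((Perm.sign σ : ℤ) : R) * ((Perm.sign τ : ℤ) : R) * ∏ j, C (σ j) (τ j) = C.det := by
    intro τ
    rw [Matrix.det_apply']
    refine Fintype.sum_equiv (Equiv.mulRight τ⁻¹) _ _ (fun σ => ?_)
    have h1 : ∏ j, C (σ j) (τ j) = ∏ i, C ((σ * τ⁻¹) i) i := by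
      refine Fintype.prod_equiv τ _ _ (fun j => ?_)
      simp
    rw [h1]
    have h2 : ((Perm.sign σ : ℤ) : R) * ((Perm.sign τ : ℤ) : R) =
        ((Perm.sign (σ * τ⁻¹) : ℤ) : R) := by
      rw [Perm.sign_mul, Perm.sign_inv]
      push_cast
      rfl
    rw [h2]
    rfl
  rw [Finset.sum_congr rfl (fun τ _ => h τ)]
  simp [Fintype.card_perm]

/-- Function form of the Cauchy–Binet formula. -/
theorem fcb (P Q : Matrix (Fin r) X R) :
    ∑ v : Fin r → X, (P.submatrix id v).det * (Q.submatrix id v).det =
      (r.factorial : R) * (P * Qᵀ).det := by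
  rw [← sum_perm_perm_prod]
  have h : ∀ v : Fin r → X, (P.submatrix id v).det * (Q.submatrix id v).det =
      ∑ σ : Perm (Fin r), ∑ τ : Perm (Fin r),
        ((Perm.sign σ : ℤ) : R) * ((Perm.sign τ : ℤ) : R) * ∏ j, (P (σ j) (v j) * Q (τ j) (v j)) := by
    intro v
    rw [Matrix.det_apply', Matrix.det_apply', Finset.sum_mul_sum]
    refine Finset.sum_congr rfl (fun σ _ => Finset.sum_congr rfl (fun τ _ => ?_))
    rw [Finset.prod_mul_distrib]
    simp only [Matrix.submatrix_apply, id]
    ring
  rw [Finset.sum_congr rfl (fun v _ => h v), Finset.sum_comm]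
  refine Finset.sum_congr rfl (fun σ _ => ?_)
  rw [Finset.sum_comm]
  refine Finset.sum_congr rfl (fun τ _ => ?_)
  rw [← Finset.mul_sum]
  congr 1
  have : ∀ j, (P * Qᵀ) (σ j) (τ j) = ∑ x, P (σ j) x * Q (τ j) x := by
    intro j
    simp [Matrix.mul_apply]
  simp_rw [this]
  rw [Fintype.prod_sum]

end FCB

section Sym

variable {R : Type*} [CommRing R] {n m : ℕ}

lemma perm_eq_one_of_strictMono (τ : Perm (Fin n)) (h : StrictMono τ) : τ = 1 := by
  ext i
  have h1 : i ≤ τ i := h.le_apply
  have h2 : τ i ≤ i := h.apply_le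
  simp [le_antisymm h2 h1]

/-- Symmetrisation: a symmetric function on tuples vanishing on non-injective tuples sums to `n!`
times its sum over strictly decreasing tuples. -/
theorem sum_eq_factorial_mul_sum_strictAnti (G : (Fin n → Fin m) → R)
    (hsym : ∀ (σ : Perm (Fin n)) (v : Fin n → Fin m), G (v ∘ σ) = G v)
    (hinj : ∀ v : Fin n → Fin m, ¬ Function.Injective v → G v = 0) :
    ∑ v : Fin n → Fin m, G v =
      (n.factorial : R) * ∑ v ∈ (univ : Finset (Fin n → Fin m)).filter StrictAnti, G v := by
  classical
  set SA : Finset (Fin n → Fin m) := (univ : Finset (Fin n → Fin m)).filter StrictAnti with hSA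
  have h1 : (n.factorial : R) * ∑ v ∈ SA, G v =
      ∑ p ∈ (univ : Finset (Perm (Fin n))) ×ˢ SA, G (p.2 ∘ p.1) := by
    rw [Finset.sum_product]
    simp only [hsym]
    simp [Fintype.card_perm]
  rw [h1]
  have hinjOn : Set.InjOn (fun p : Perm (Fin n) × (Fin n → Fin m) => p.2 ∘ p.1)
      ((univ : Finset (Perm (Fin n))) ×ˢ SA : Finset _) := by
    rintro ⟨σ, w⟩ hp ⟨σ', w'⟩ hp' heq
    simp only [Finset.coe_product, Set.mem_prod, Finset.mem_coe, hSA, Finset.mem_filter,
      Finset.mem_univ, true_and] at hp hp'
    simp only at heq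
    have hw : w = w' ∘ (σ' * σ⁻¹) := by
      funext i
      have := congrFun heq (σ⁻¹ i)
      simpa using this
    have hτ : StrictMono (σ' * σ⁻¹ : Perm (Fin n)) := by
      intro i j hij
      have h1 : w j < w i := hp hij
      rw [hw] at h1
      exact (StrictAnti.lt_iff_gt (f := w') hp').mp h1
    have hτ1 := perm_eq_one_of_strictMono _ hτ
    have hσ : σ' = σ := by
      have := congrArg (· * σ) hτ1
      simpa using this
    subst hσ
    have : w = w' := by rw [hw]; simp
    rw [this]
  rw [← Finset.sum_image (f := G) hinjOn]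
  symm
  refine Finset.sum_subset (Finset.subset_univ _) (fun v _ hv => hinj v (fun hvi => hv ?_))
  -- surjectivity onto injective tuples
  rw [Finset.mem_image]
  have hmono : StrictMono (v ∘ Tuple.sort v) :=
    (Tuple.monotone_sort v).strictMono_of_injective (hvi.comp (Tuple.sort v).injective)
  set ρ : Perm (Fin n) := Tuple.sort v * (Fin.revPerm : Perm (Fin n)) with hρ
  refine ⟨(ρ⁻¹, v ∘ ρ), ?_, ?_⟩
  · simp only [Finset.mem_product, Finset.mem_univ, true_and, hSA, Finset.mem_filter]
    intro i j hij
    have : Fin.rev j < Fin.rev i := Fin.rev_lt_rev.mpr hij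
    have := hmono this
    simpa [hρ] using this
  · funext i
    simp

end Sym

section Shift

variable {K : Type*} [Field K] [CharZero K] {n N : ℕ} [NeZero N]

omit [CharZero K] [NeZero N] in
/-- symmetrisation with a pinned value in the range. -/
theorem sum_ite_mem_range_eq (G : (Fin n → Fin N) → K)
    (hsym : ∀ (σ : Perm (Fin n)) (v : Fin n → Fin N), G (v ∘ σ) = G v)
    (hinj : ∀ v : Fin n → Fin N, ¬ Function.Injective v → G v = 0) (c0 : Fin N) :
    ∑ v : Fin n → Fin N, (if c0 ∈ Set.range v then G v else 0) =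
      (n.factorial : K) * ∑ v ∈ (univ : Finset (Fin n → Fin N)).filter
        (fun v => StrictAnti v ∧ c0 ∈ Set.range v), G v := by
  classical
  set G' : (Fin n → Fin N) → K := fun v => if c0 ∈ Set.range v then G v else 0 with hG'
  have hsym' : ∀ (σ : Perm (Fin n)) (v : Fin n → Fin N), G' (v ∘ σ) = G' v := by
    intro σ v
    simp only [hG', hsym]
    have : Set.range (v ∘ σ) = Set.range v := by
      rw [Set.range_comp, σ.surjective.range_eq, Set.image_univ]
    simp only [this]
  have hinj' : ∀ v : Fin n → Fin N, ¬ Function.Injective v → G' v = 0 := by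
    intro v hv
    simp only [hG', hinj v hv, ite_self]
  have e1 := sum_eq_factorial_mul_sum_strictAnti G' hsym' hinj'
  have e3 : ∑ v ∈ (univ : Finset (Fin n → Fin N)).filter StrictAnti, G' v =
      ∑ v ∈ (univ : Finset (Fin n → Fin N)).filter
        (fun v => StrictAnti v ∧ c0 ∈ Set.range v), G v := by
    rw [Finset.sum_filter, Finset.sum_filter]
    refine Finset.sum_congr rfl (fun v _ => ?_)
    by_cases h1 : StrictAnti v <;> by_cases h2 : ∃ j, v j = c0 <;>
      simp [hG', h1, h2, Set.mem_range]
  rw [← e3, ← e1]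

/-- Pinning a value: for a symmetric, shift-invariant `G` vanishing on non-injective tuples,
the strictly decreasing tuples through a given value `c0` carry the fraction `n / N` of the total
sum. -/
theorem sum_strictAnti_mem_range (G : (Fin n → Fin N) → K)
    (hsym : ∀ (σ : Perm (Fin n)) (v : Fin n → Fin N), G (v ∘ σ) = G v)
    (hinj : ∀ v : Fin n → Fin N, ¬ Function.Injective v → G v = 0)
    (hshift : ∀ (c : Fin N) (v : Fin n → Fin N), G (fun j => v j + c) = G v) (c0 : Fin N) :
    (N : K) * ∑ v ∈ (univ : Finset (Fin n → Fin N)).filter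
        (fun v => StrictAnti v ∧ c0 ∈ Set.range v), G v =
      (n : K) * ∑ v ∈ (univ : Finset (Fin n → Fin N)).filter StrictAnti, G v := by
  classical
  -- the function G' = G · 1[c0 ∈ range]
  set G' : (Fin n → Fin N) → K := fun v => if c0 ∈ Set.range v then G v else 0 with hG'
  have hsym' : ∀ (σ : Perm (Fin n)) (v : Fin n → Fin N), G' (v ∘ σ) = G' v := by
    intro σ v
    simp only [hG', hsym]
    have : Set.range (v ∘ σ) = Set.range v := by
      rw [Set.range_comp, σ.surjective.range_eq, Set.image_univ]
    simp only [this]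
  have hinj' : ∀ v : Fin n → Fin N, ¬ Function.Injective v → G' v = 0 := by
    intro v hv
    simp only [hG', hinj v hv, ite_self]
  have e1 := sum_eq_factorial_mul_sum_strictAnti G' hsym' hinj'
  have e2 := sum_eq_factorial_mul_sum_strictAnti G hsym hinj
  have e3 : ∑ v ∈ (univ : Finset (Fin n → Fin N)).filter StrictAnti, G' v =
      ∑ v ∈ (univ : Finset (Fin n → Fin N)).filter
        (fun v => StrictAnti v ∧ c0 ∈ Set.range v), G v := by
    rw [Finset.sum_filter, Finset.sum_filter]
    refine Finset.sum_congr rfl (fun v _ => ?_)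
    by_cases h1 : StrictAnti v <;> by_cases h2 : ∃ j, v j = c0 <;>
      simp [hG', h1, h2, Set.mem_range]
  -- A j c := ∑ v, G v * 1[v j = c]
  have hA : ∀ (j : Fin n) (c : Fin N),
      ∑ v : Fin n → Fin N, (if v j = c then G v else 0) =
        ∑ v : Fin n → Fin N, (if v j = c0 then G v else 0) := by
    intro j c
    refine Fintype.sum_equiv (Equiv.addRight (fun _ => c0 - c)) _ _ (fun v => ?_)
    have h1 : (Equiv.addRight (fun _ : Fin n => c0 - c)) v = fun i => v i + (c0 - c) := by
      funext i
      simp
    rw [h1, hshift]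
    have h2 : (v j + (c0 - c) = c0) ↔ v j = c := by
      constructor
      · intro h
        have : v j = c0 - (c0 - c) := eq_sub_of_add_eq h
        simpa using this
      · intro h
        rw [h]
        abel
    simp only [h2]
  have hB : ∀ j : Fin n, (N : K) * ∑ v : Fin n → Fin N, (if v j = c0 then G v else 0) =
      ∑ v : Fin n → Fin N, G v := by
    intro j
    have : ∑ c : Fin N, ∑ v : Fin n → Fin N, (if v j = c then G v else 0) =
        ∑ v : Fin n → Fin N, G v := by
      rw [Finset.sum_comm]
      refine Finset.sum_congr rfl (fun v _ => ?_)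
      simp
    rw [← this, Finset.sum_congr rfl (fun c _ => hA j c)]
    simp
  have hC : ∑ v : Fin n → Fin N, G' v =
      ∑ j : Fin n, ∑ v : Fin n → Fin N, (if v j = c0 then G v else 0) := by
    rw [Finset.sum_comm]
    refine Finset.sum_congr rfl (fun v _ => ?_)
    by_cases hv : Function.Injective v
    · by_cases hc : c0 ∈ Set.range v
      · obtain ⟨j0, hj0⟩ := hc
        have : ∀ j : Fin n, (if v j = c0 then G v else 0) = if j = j0 then G v else 0 := by
          intro j
          have : v j = c0 ↔ j = j0 := by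
            rw [← hj0]
            exact hv.eq_iff
          simp only [this]
        simp only [this, hG', Set.mem_range, Finset.sum_ite_eq', Finset.mem_univ, if_true]
        rw [if_pos ⟨j0, hj0⟩]
      · have : ∀ j : Fin n, (if v j = c0 then G v else 0) = 0 := by
          intro j
          rw [if_neg]
          intro h
          exact hc ⟨j, h⟩
        simp only [this, hG', hc, if_false, Finset.sum_const_zero]
    · simp [hG', hinj v hv]
  have hD : (N : K) * ∑ v : Fin n → Fin N, G' v = (n : K) * ∑ v : Fin n → Fin N, G v := by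
    rw [hC, Finset.mul_sum, Finset.sum_congr rfl (fun j _ => hB j)]
    simp
  rw [e1, e2, e3] at hD
  have hf : (n.factorial : K) ≠ 0 := Nat.cast_ne_zero.mpr (Nat.factorial_ne_zero n)
  have : (n.factorial : K) * ((N : K) * ∑ v ∈ (univ : Finset (Fin n → Fin N)).filter
        (fun v => StrictAnti v ∧ c0 ∈ Set.range v), G v) =
      (n.factorial : K) * ((n : K) * ∑ v ∈ (univ : Finset (Fin n → Fin N)).filter StrictAnti, G v) := by
    linear_combination hD
  exact mul_left_cancel₀ hf this

end Shift

end Groth.Agent.Lib.Helper72.Verlinde
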