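/-
Helper72: alternants at roots of unity and their discrete orthogonality (VerlindeComb family).
-/
import Mathlib
import Groth.Agent.Lib.Helper72.VerlindeA

set_option autoImplicit false

open Finset Equiv

namespace Groth.Agent.Lib.Helper72.Verlinde

/-- the standard primitive `N`-th root of unity. -/
noncomputable def zeta (N : ℕ) : ℂ := Complex.exp (2 * Real.pi * Complex.I / N)

lemma zeta_prim {N : ℕ} (hN : N ≠ 0) : IsPrimitiveRoot (zeta N) N :=
  Complex.isPrimitiveRoot_exp N hN

lemma zeta_ne_zero (N : ℕ) : zeta N ≠ 0 := Complex.exp_ne_zero _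

lemma zeta_zpow_eq_one_iff {N : ℕ} (hN : N ≠ 0) (l : ℤ) : zeta N ^ l = 1 ↔ (N : ℤ) ∣ l :=
  (zeta_prim hN).zpow_eq_one_iff_dvd l

lemma zeta_zpow_eq_of_dvd {N : ℕ} (hN : N ≠ 0) {l l' : ℤ} (h : (N : ℤ) ∣ l - l') :
    zeta N ^ l = zeta N ^ l' := by
  have : zeta N ^ (l - l') = 1 := (zeta_zpow_eq_one_iff hN _).mpr h
  rw [zpow_sub₀ (zeta_ne_zero N)] at this
  field_simp [zpow_ne_zero _ (zeta_ne_zero N)] at this
  exact this

lemma conj_zeta (N : ℕ) : (starRingEnd ℂ) (zeta N) = (zeta N)⁻¹ := by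
  unfold zeta
  rw [← Complex.exp_conj, ← Complex.exp_neg]
  congr 1
  rw [map_div₀, map_mul, map_mul, Complex.conj_I, Complex.conj_ofReal, map_natCast, map_ofNat]
  ring

lemma conj_zeta_zpow (N : ℕ) (l : ℤ) : (starRingEnd ℂ) (zeta N ^ l) = zeta N ^ (-l) := by
  rw [map_zpow₀, conj_zeta, _root_.inv_zpow, zpow_neg]

lemma prod_zeta_zpow {ι : Type*} (N : ℕ) (s : Finset ι) (f : ι → ℤ) :
    ∏ i ∈ s, zeta N ^ f i = zeta N ^ ∑ i ∈ s, f i := by
  classical
  induction s using Finset.induction_on with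
  | empty => simp
  | insert a s ha ih =>
    rw [Finset.prod_insert ha, Finset.sum_insert ha, ih, zpow_add₀ (zeta_ne_zero N)]

/-- geometric sum of a power of zeta. -/
lemma sum_zeta_zpow {N : ℕ} (hN : N ≠ 0) (l : ℤ) :
    ∑ x : Fin N, zeta N ^ (l * ((x : ℕ) : ℤ)) = if (N : ℤ) ∣ l then (N : ℂ) else 0 := by
  have h0 : ∑ x : Fin N, zeta N ^ (l * ((x : ℕ) : ℤ)) = ∑ x ∈ Finset.range N, (zeta N ^ l) ^ x := by
    rw [Finset.sum_range]
    refine Finset.sum_congr rfl (fun x _ => ?_)
    rw [_root_.zpow_mul, zpow_natCast]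
  rw [h0]
  split_ifs with h
  · rw [(zeta_zpow_eq_one_iff hN l).mpr h]
    simp
  · have h1 : zeta N ^ l ≠ 1 := fun h' => h ((zeta_zpow_eq_one_iff hN l).mp h')
    have h2 : (zeta N ^ l) ^ N = 1 := by
      rw [← zpow_natCast, ← _root_.zpow_mul, mul_comm, _root_.zpow_mul, zpow_natCast,
        (zeta_prim hN).pow_eq_one, one_zpow]
    have h3 := geom_sum_mul (zeta N ^ l) N
    rw [h2, sub_self] at h3
    rcases mul_eq_zero.mp h3 with h4 | h4
    · exact h4
    · exact absurd (sub_eq_zero.mp h4) h1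

variable {r : ℕ}

/-- the alternant `det (ζ ^ (a i * v j))`. -/
noncomputable def altZ (N : ℕ) (a v : Fin r → ℤ) : ℂ :=
  (Matrix.of fun i j => zeta N ^ (a i * v j)).det

lemma altZ_transpose (N : ℕ) (a v : Fin r → ℤ) : altZ N a v = altZ N v a := by
  unfold altZ
  rw [← Matrix.det_transpose]
  congr 1
  ext i j
  simp [Matrix.transpose_apply, mul_comm]

lemma altZ_comp_perm_right (N : ℕ) (a v : Fin r → ℤ) (σ : Perm (Fin r)) :
    altZ N a (v ∘ σ) = ((Perm.sign σ : ℤ) : ℂ) * altZ N a v := by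
  unfold altZ
  rw [← Matrix.det_permute' σ]
  rfl

lemma altZ_add_const_right (N : ℕ) (a v : Fin r → ℤ) (c : ℤ) :
    altZ N a (fun j => v j + c) = zeta N ^ (c * ∑ i, a i) * altZ N a v := by
  unfold altZ
  have : (Matrix.of fun i j => zeta N ^ (a i * (v j + c))) =
      Matrix.of fun i j => (fun i => zeta N ^ (a i * c)) i * (Matrix.of fun i j => zeta N ^ (a i * v j)) i j := by
    ext i j
    simp only [Matrix.of_apply]
    rw [mul_add, zpow_add₀ (zeta_ne_zero N), mul_comm]
  rw [this, Matrix.det_mul_column]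
  congr 1
  rw [Finset.mul_sum, prod_zeta_zpow]
  congr 1
  refine Finset.sum_congr rfl (fun i _ => ?_)
  rw [mul_comm]

lemma altZ_congr_mod {N : ℕ} (hN : N ≠ 0) (a v v' : Fin r → ℤ) (h : ∀ j, (N : ℤ) ∣ v j - v' j) :
    altZ N a v = altZ N a v' := by
  unfold altZ
  congr 1
  ext i j
  simp only [Matrix.of_apply]
  apply zeta_zpow_eq_of_dvd hN
  rw [← mul_sub]
  exact Dvd.dvd.mul_left (h j) _

lemma conj_altZ (N : ℕ) (a v : Fin r → ℤ) :
    (starRingEnd ℂ) (altZ N a v) = altZ N (fun i => - a i) v := by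
  unfold altZ
  rw [RingHom.map_det]
  congr 1
  ext i j
  simp only [RingHom.mapMatrix_apply, Matrix.map_apply, Matrix.of_apply]
  rw [conj_zeta_zpow, neg_mul]

lemma altZ_eq_zero_of_not_inj {N : ℕ} (hN : N ≠ 0) (a v : Fin r → ℤ) {j j' : Fin r} (hne : j ≠ j')
    (h : (N : ℤ) ∣ v j - v j') : altZ N a v = 0 := by
  unfold altZ
  refine Matrix.det_zero_of_column_eq hne (fun i => ?_)
  simp only [Matrix.of_apply]
  apply zeta_zpow_eq_of_dvd hN
  rw [← mul_sub]
  exact Dvd.dvd.mul_left h _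

/-- integer lift of a `Fin N`-valued tuple. -/
def lift {N : ℕ} (v : Fin r → Fin N) : Fin r → ℤ := fun j => ((v j : ℕ) : ℤ)

/-- the `0/1` matching matrix of two exponent vectors mod `N`. -/
def matchM (N : ℕ) (a b : Fin r → ℤ) : Matrix (Fin r) (Fin r) ℂ :=
  Matrix.of fun i i' => if (N : ℤ) ∣ a i - b i' then 1 else 0

/-- full sum over all tuples. -/
theorem sum_all_altZ {N : ℕ} (hN : N ≠ 0) (a b : Fin r → ℤ) :
    ∑ v : Fin r → Fin N, altZ N a (lift v) * altZ N (fun i => - b i) (lift v) =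
      (r.factorial : ℂ) * ((N : ℂ) ^ r * (matchM N a b).det) := by
  have h := fcb (R := ℂ) (r := r) (X := Fin N)
    (Matrix.of fun i x => zeta N ^ (a i * ((x : ℕ) : ℤ)))
    (Matrix.of fun i x => zeta N ^ (- b i * ((x : ℕ) : ℤ)))
  have h1 : ∀ v : Fin r → Fin N,
      ((Matrix.of fun i (x : Fin N) => zeta N ^ (a i * ((x : ℕ) : ℤ))).submatrix id v).det *
      ((Matrix.of fun i (x : Fin N) => zeta N ^ (- b i * ((x : ℕ) : ℤ))).submatrix id v).det =
      altZ N a (lift v) * altZ N (fun i => - b i) (lift v) := by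
    intro v
    rfl
  rw [Finset.sum_congr rfl (fun v _ => h1 v)] at h
  rw [h]
  congr 1
  have h2 : (Matrix.of fun i (x : Fin N) => zeta N ^ (a i * ((x : ℕ) : ℤ))) *
      (Matrix.of fun i (x : Fin N) => zeta N ^ (- b i * ((x : ℕ) : ℤ))).transpose =
        (N : ℂ) • matchM N a b := by
    ext i i'
    simp only [Matrix.mul_apply, Matrix.transpose_apply, Matrix.of_apply, Matrix.smul_apply,
      matchM, smul_eq_mul]
    have : ∀ x : Fin N, zeta N ^ (a i * ((x : ℕ) : ℤ)) * zeta N ^ (- b i' * ((x : ℕ) : ℤ)) =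
        zeta N ^ ((a i - b i') * ((x : ℕ) : ℤ)) := by
      intro x
      rw [← zpow_add₀ (zeta_ne_zero N)]
      congr 1
      ring
    rw [Finset.sum_congr rfl (fun x _ => this x), sum_zeta_zpow hN]
    split_ifs <;> simp
  rw [h2, Matrix.det_smul]
  simp


/-- the product `altZ a ↑v * conj (altZ b ↑v)` as a function of a `Fin N`-valued tuple. -/
noncomputable def GG (N : ℕ) (a b : Fin r → ℤ) (v : Fin r → Fin N) : ℂ :=
  altZ N a (lift v) * altZ N (fun i => - b i) (lift v)

lemma sign_mul_sign (σ : Perm (Fin r)) : ((Perm.sign σ : ℤ) : ℂ) * ((Perm.sign σ : ℤ) : ℂ) = 1 := by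
  rcases Int.units_eq_one_or (Perm.sign σ) with h | h <;> simp [h]

lemma GG_sym (N : ℕ) (a b : Fin r → ℤ) (σ : Perm (Fin r)) (v : Fin r → Fin N) :
    GG N a b (v ∘ σ) = GG N a b v := by
  unfold GG
  have : lift (v ∘ σ) = lift v ∘ σ := rfl
  rw [this, altZ_comp_perm_right, altZ_comp_perm_right]
  have := sign_mul_sign σ
  linear_combination (altZ N a (lift v) * altZ N (fun i => -b i) (lift v)) * this

lemma GG_inj {N : ℕ} (hN : N ≠ 0) (a b : Fin r → ℤ) (v : Fin r → Fin N)
    (h : ¬ Function.Injective v) : GG N a b v = 0 := by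
  unfold GG
  simp only [Function.Injective, not_forall] at h
  obtain ⟨j, j', hjj, hne⟩ := h
  rw [altZ_eq_zero_of_not_inj hN a (lift v) hne (by simp [lift, hjj]), zero_mul]

lemma lift_add_dvd {N : ℕ} [NeZero N] (v : Fin r → Fin N) (c : Fin N) (j : Fin r) :
    (N : ℤ) ∣ lift (fun j => v j + c) j - (lift v j + ((c : ℕ) : ℤ)) := by
  simp only [lift, Fin.val_add]
  have : (((((v j : ℕ) + (c : ℕ)) % N : ℕ)) : ℤ) = (((v j : ℕ) : ℤ) + ((c : ℕ) : ℤ)) % (N : ℤ) := by
    push_cast
    rfl
  rw [this]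
  exact Int.ModEq.dvd (Int.mod_modEq _ _).symm

lemma GG_shift {N : ℕ} [NeZero N] (a b : Fin r → ℤ) (hab : (N : ℤ) ∣ ∑ i, a i - ∑ i, b i)
    (c : Fin N) (v : Fin r → Fin N) : GG N a b (fun j => v j + c) = GG N a b v := by
  have hN : N ≠ 0 := NeZero.ne N
  unfold GG
  rw [altZ_congr_mod hN a _ (fun j => lift v j + ((c : ℕ) : ℤ)) (lift_add_dvd v c),
    altZ_congr_mod hN (fun i => - b i) _ (fun j => lift v j + ((c : ℕ) : ℤ)) (lift_add_dvd v c),
    altZ_add_const_right, altZ_add_const_right]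
  have : zeta N ^ (((c : ℕ) : ℤ) * ∑ i, a i) * zeta N ^ (((c : ℕ) : ℤ) * ∑ i, - b i) = 1 := by
    rw [← zpow_add₀ (zeta_ne_zero N), zeta_zpow_eq_one_iff hN]
    rw [Finset.sum_neg_distrib, ← mul_add, ← sub_eq_add_neg]
    exact Dvd.dvd.mul_left hab _
  linear_combination (altZ N a (lift v) * altZ N (fun i => -b i) (lift v)) * this

/-- sum over strictly decreasing tuples. -/
theorem core_SA {N : ℕ} (hN : N ≠ 0) (a b : Fin r → ℤ) :
    ∑ v ∈ (univ : Finset (Fin r → Fin N)).filter StrictAnti, GG N a b v =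
      (N : ℂ) ^ r * (matchM N a b).det := by
  have h1 := sum_eq_factorial_mul_sum_strictAnti (R := ℂ) (GG N a b) (GG_sym N a b) (GG_inj hN a b)
  have h2 := sum_all_altZ hN a b
  have hf : (r.factorial : ℂ) ≠ 0 := Nat.cast_ne_zero.mpr (Nat.factorial_ne_zero r)
  have : (r.factorial : ℂ) * ∑ v ∈ (univ : Finset (Fin r → Fin N)).filter StrictAnti, GG N a b v =
      (r.factorial : ℂ) * ((N : ℂ) ^ r * (matchM N a b).det) := by
    rw [← h1, ← h2]
    rfl
  exact mul_left_cancel₀ hf this

/-- sum over strictly decreasing tuples through a given value. -/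
theorem core_pin {N : ℕ} [NeZero N] (a b : Fin r → ℤ) (hab : (N : ℤ) ∣ ∑ i, a i - ∑ i, b i)
    (c0 : Fin N) :
    (N : ℂ) * ∑ v ∈ (univ : Finset (Fin r → Fin N)).filter
        (fun v => StrictAnti v ∧ c0 ∈ Set.range v), GG N a b v =
      (r : ℂ) * ((N : ℂ) ^ r * (matchM N a b).det) := by
  have hN : N ≠ 0 := NeZero.ne N
  rw [sum_strictAnti_mem_range (K := ℂ) (GG N a b) (GG_sym N a b) (GG_inj hN a b)
    (GG_shift a b hab) c0, core_SA hN]

lemma matchM_self {N : ℕ} (v : Fin r → ℤ) (hv : ∀ i j, i ≠ j → ¬ (N : ℤ) ∣ v i - v j) :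
    matchM N v v = 1 := by
  ext i j
  simp only [matchM, Matrix.of_apply, Matrix.one_apply]
  by_cases h : i = j
  · subst h
    simp
  · simp [h, hv i j h]

/-- residue lemma: two distinct strictly decreasing vectors of spread `< N` with the same sum have a
singular matching matrix. -/
lemma matchM_det_eq_zero {N : ℕ} (a b : Fin r → ℤ) (ha : StrictAnti a) (hb : StrictAnti b)
    (hsa : ∀ i j, a i - a j < N) (hsb : ∀ i j, b i - b j < N)
    (hsum : ∑ i, a i = ∑ i, b i) (hne : a ≠ b) : (matchM N a b).det = 0 := by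
  classical
  by_contra hdet
  -- every row has a match
  have hrow : ∀ i, ∃ i', (N : ℤ) ∣ a i - b i' := by
    intro i
    by_contra hi
    push Not at hi
    apply hdet
    apply Matrix.det_eq_zero_of_row_eq_zero i
    intro j
    simp [matchM, hi j]
  choose π hπ using hrow
  have hinj : Function.Injective π := by
    intro i j hij
    have h1 : (N : ℤ) ∣ a i - a j := by
      have := dvd_sub (hπ i) (hπ j)
      rw [hij] at this
      simpa using this
    have h2 : a i - a j < N := hsa i j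
    have h3 : a j - a i < N := hsa j i
    have h4 : a i - a j = 0 := by
      apply Int.eq_zero_of_abs_lt_dvd h1
      rw [abs_lt]
      constructor <;> linarith
    exact ha.injective (by linarith)
  have hbij : Function.Bijective π := Finite.injective_iff_bijective.mp hinj
  -- quotients
  have hm : ∀ i, ∃ m : ℤ, a i - b (π i) = N * m := fun i => hπ i
  choose m hm using hm
  have hsum0 : ∑ i, m i = 0 := by
    have h1 : ∑ i, (a i - b (π i)) = 0 := by
      rw [Finset.sum_sub_distrib, hsum, sub_eq_zero]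
      exact (Fintype.sum_bijective π hbij _ _ (fun i => rfl)).symm
    simp_rw [hm] at h1
    rw [← Finset.mul_sum] at h1
    rcases mul_eq_zero.mp h1 with h | h
    · -- N = 0 impossible since spread < N
      exfalso
      rcases isEmpty_or_nonempty (Fin r) with he | ⟨⟨i⟩⟩
      · exact hne (funext fun i => (he.false i).elim)
      · have := hsa i i
        simp at this
        omega
    · exact h
  have hNpos : (0 : ℤ) < N := by
    rcases isEmpty_or_nonempty (Fin r) with he | ⟨⟨i⟩⟩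
    · exact absurd (funext fun i => (he.false i).elim) hne
    · have := hsa i i
      simpa using this
  have hdiff : ∀ i j, m i - m j < 2 := by
    intro i j
    have h1 := hsa i j
    have h2 := hsb (π j) (π i)
    have h3 : (N : ℤ) * (m i - m j) < N * 2 := by
      have : (N : ℤ) * (m i - m j) = (a i - a j) + (b (π j) - b (π i)) := by
        rw [mul_sub, ← hm i, ← hm j]; ring
      rw [this]; linarith
    exact lt_of_mul_lt_mul_left h3 hNpos.le
  have hm0 : ∀ i, m i = 0 := by
    intro i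
    by_contra hi
    rcases lt_or_gt_of_ne hi with h | h
    · -- m i < 0: all m j ≤ 0
      have hall : ∀ j, m j ≤ 0 := by
        intro j
        have := hdiff j i
        omega
      have : ∑ j, m j < 0 := by
        calc ∑ j, m j < ∑ j : Fin r, (0 : ℤ) :=
              Finset.sum_lt_sum (fun j _ => hall j) ⟨i, Finset.mem_univ _, h⟩
          _ = 0 := by simp
      omega
    · have hall : ∀ j, 0 ≤ m j := by
        intro j
        have := hdiff i j
        omega
      have : 0 < ∑ j, m j := by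
        calc (0 : ℤ) = ∑ j : Fin r, (0 : ℤ) := by simp
          _ < ∑ j, m j := Finset.sum_lt_sum (fun j _ => hall j) ⟨i, Finset.mem_univ _, h⟩
      omega
  have hab : ∀ i, a i = b (π i) := by
    intro i
    have := hm i
    rw [hm0 i] at this
    linarith
  have hπmono : StrictMono π := by
    intro i j hij
    have h1 : a j < a i := ha hij
    rw [hab i, hab j] at h1
    exact hb.lt_iff_gt.mp h1
  have hπid : ∀ i, π i = i := by
    intro i
    exact le_antisymm hπmono.apply_le hπmono.le_apply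
  apply hne
  funext i
  rw [hab i, hπid i]

end Groth.Agent.Lib.Helper72.Verlinde
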