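/-
Helper72: exact trigonometric quadrature at equally spaced nodes, used for the positivity of
Hermitian Toeplitz matrices with positive symbol (S19019).
-/
import Mathlib
import Groth.Agent.Lib.Helper72.VerlindeB

set_option autoImplicit false

open Finset

namespace Groth.Agent.Lib.Helper72.ToeplitzQuad

open Groth.Agent.Lib.Helper72.Verlinde (zeta sum_zeta_zpow zeta_ne_zero conj_zeta_zpow)

/-- the character `n ↦ exp (i n y_l)` at the node `y_l = θ + 2π l / N`. -/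
noncomputable def E (θ : ℝ) (N : ℕ) (n : ℤ) (l : ℕ) : ℂ :=
  Complex.exp (Complex.I * (n : ℂ) * (θ : ℂ)) * zeta N ^ (n * (l : ℤ))

/-- the nodes. -/
noncomputable def pt (N : ℕ) (θ : ℝ) (l : ℕ) : ℝ := θ + 2 * Real.pi * l / N

lemma exp_pt (N : ℕ) (θ : ℝ) (l : ℕ) (n : ℤ) :
    Complex.exp (Complex.I * (n : ℂ) * ((pt N θ l : ℝ) : ℂ)) = E θ N n l := by
  unfold E zeta pt
  rw [← Complex.exp_int_mul, ← Complex.exp_add]
  congr 1
  push_cast
  ring

lemma E_add (θ : ℝ) (N : ℕ) (a b : ℤ) (l : ℕ) : E θ N (a + b) l = E θ N a l * E θ N b l := by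
  unfold E
  rw [add_mul, zpow_add₀ (zeta_ne_zero N)]
  push_cast
  rw [mul_add, add_mul, Complex.exp_add]
  ring

lemma E_zero (θ : ℝ) (N : ℕ) (l : ℕ) : E θ N 0 l = 1 := by
  unfold E
  simp

lemma conj_E (θ : ℝ) (N : ℕ) (n : ℤ) (l : ℕ) :
    (starRingEnd ℂ) (E θ N n l) = E θ N (-n) l := by
  unfold E
  rw [map_mul, conj_zeta_zpow, ← Complex.exp_conj]
  congr 2
  · rw [map_mul, map_mul, Complex.conj_I, Complex.conj_ofReal]
    simp
  · ring

lemma sum_E (θ : ℝ) {N : ℕ} (hN : N ≠ 0) (n : ℤ) :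
    ∑ l : Fin N, E θ N n (l : ℕ) =
      if (N : ℤ) ∣ n then (N : ℂ) * Complex.exp (Complex.I * (n : ℂ) * (θ : ℂ)) else 0 := by
  unfold E
  rw [← Finset.mul_sum, sum_zeta_zpow hN n]
  split_ifs <;> ring

/-- exact quadrature: the average over `N ≥ 2m` nodes of `F_c · |P|²` is the Toeplitz form. -/
theorem quadrature (m N : ℕ) (hN : 2 * m ≤ N) (hN0 : N ≠ 0) (θ : ℝ) (c : ℤ → ℂ)
    (x : Fin m → ℂ) :
    ∑ l : Fin N, (∑ k ∈ Ioo (-(m : ℤ)) (m : ℤ), c k * E θ N k (l : ℕ)) *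
        ((∑ i : Fin m, (starRingEnd ℂ) (x i) * E θ N ((i : ℕ) : ℤ) (l : ℕ)) *
          (∑ j : Fin m, x j * E θ N (-((j : ℕ) : ℤ)) (l : ℕ))) =
      (N : ℂ) * ∑ i : Fin m, ∑ j : Fin m,
        (starRingEnd ℂ) (x i) * c (((j : ℕ) : ℤ) - ((i : ℕ) : ℤ)) * x j := by
  have h1 : ∀ l : Fin N, (∑ k ∈ Ioo (-(m : ℤ)) (m : ℤ), c k * E θ N k (l : ℕ)) *
        ((∑ i : Fin m, (starRingEnd ℂ) (x i) * E θ N ((i : ℕ) : ℤ) (l : ℕ)) *
          (∑ j : Fin m, x j * E θ N (-((j : ℕ) : ℤ)) (l : ℕ))) =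
      ∑ k ∈ Ioo (-(m : ℤ)) (m : ℤ), ∑ i : Fin m, ∑ j : Fin m,
        (c k * (starRingEnd ℂ) (x i) * x j) *
          E θ N (k + ((i : ℕ) : ℤ) + -((j : ℕ) : ℤ)) (l : ℕ) := by
    intro l
    rw [Finset.sum_mul_sum, Finset.sum_mul]
    refine Finset.sum_congr rfl (fun k _ => ?_)
    rw [Finset.mul_sum]
    refine Finset.sum_congr rfl (fun i _ => ?_)
    rw [Finset.mul_sum]
    refine Finset.sum_congr rfl (fun j _ => ?_)
    rw [E_add, E_add]
    ring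
  rw [Finset.sum_congr rfl (fun l _ => h1 l), Finset.sum_comm]
  have h2 : ∀ k ∈ Ioo (-(m : ℤ)) (m : ℤ), ∑ l : Fin N, ∑ i : Fin m, ∑ j : Fin m,
        (c k * (starRingEnd ℂ) (x i) * x j) *
          E θ N (k + ((i : ℕ) : ℤ) + -((j : ℕ) : ℤ)) (l : ℕ) =
      ∑ i : Fin m, ∑ j : Fin m,
        if k = ((j : ℕ) : ℤ) - ((i : ℕ) : ℤ) then
          (N : ℂ) * ((starRingEnd ℂ) (x i) * c k * x j) else 0 := by
    intro k hk
    rw [Finset.mem_Ioo] at hk
    rw [Finset.sum_comm]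
    refine Finset.sum_congr rfl (fun i _ => ?_)
    rw [Finset.sum_comm]
    refine Finset.sum_congr rfl (fun j _ => ?_)
    rw [← Finset.mul_sum, sum_E θ hN0]
    have hi := i.2
    have hj := j.2
    by_cases hkij : k = ((j : ℕ) : ℤ) - ((i : ℕ) : ℤ)
    · have h0 : k + ((i : ℕ) : ℤ) + -((j : ℕ) : ℤ) = 0 := by omega
      rw [if_pos hkij, h0, if_pos (dvd_zero _)]
      simp
      ring
    · rw [if_neg hkij, if_neg, mul_zero]
      intro hdvd
      apply hkij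
      have habs : |k + ((i : ℕ) : ℤ) + -((j : ℕ) : ℤ)| < (N : ℤ) := by
        rw [abs_lt]
        constructor <;> omega
      have := Int.eq_zero_of_abs_lt_dvd hdvd habs
      omega
  rw [Finset.sum_congr rfl h2, Finset.sum_comm, Finset.mul_sum]
  refine Finset.sum_congr rfl (fun i _ => ?_)
  rw [Finset.sum_comm, Finset.mul_sum]
  refine Finset.sum_congr rfl (fun j _ => ?_)
  rw [Finset.sum_ite_eq']
  rw [if_pos]
  rw [Finset.mem_Ioo]
  have hi := i.2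
  have hj := j.2
  constructor <;> omega

end Groth.Agent.Lib.Helper72.ToeplitzQuad
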