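import Mathlib
import Groth.Agent.Lib.Helper72.TraceFilt

set_option autoImplicit false
set_option linter.unusedSectionVars false
universe u v

namespace Groth.Agent.Lib.Helper72.TraceFilt

open Module Ideal

section Gen

lemma trace_eq_of_intertwine {K V V' : Type*} [CommRing K] [AddCommGroup V] [Module K V]
    [AddCommGroup V'] [Module K V'] (φ : V ≃ₗ[K] V') (f : V →ₗ[K] V) (g : V' →ₗ[K] V')
    (h : ∀ x, φ (f x) = g (φ x)) : LinearMap.trace K V f = LinearMap.trace K V' g := by
  have : g = φ.conj f := by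
    ext x
    rw [LinearEquiv.conj_apply_apply, h, LinearEquiv.apply_symm_apply]
  rw [this, LinearMap.trace_conj']

end Gen

section Ded

variable {B : Type*} [CommRing B] [IsDedekindDomain B]

/-- covering: no ideal strictly between `J * Q` and `J`. -/
lemma eq_or_eq_of_between {J Q I : Ideal B} (hJ : J ≠ ⊥) [hQ : Q.IsMaximal]
    (h1 : J * Q ≤ I) (h2 : I ≤ J) : I = J * Q ∨ I = J := by
  obtain ⟨I', rfl⟩ : J ∣ I := Ideal.dvd_iff_le.mpr h2
  have h3 : J * I' ∣ J * Q := Ideal.dvd_iff_le.mpr h1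
  have h4 : I' ∣ Q := (mul_dvd_mul_iff_left hJ).mp h3
  have h5 : Q ≤ I' := Ideal.dvd_iff_le.mp h4
  rcases eq_or_ne I' ⊤ with h | h
  · right; rw [h, Ideal.mul_top]
  · left; rw [hQ.eq_of_le h h5]

lemma sup_span_eq {J Q : Ideal B} (hJ : J ≠ ⊥) [hQ : Q.IsMaximal] {a : B} (haJ : a ∈ J)
    (ha : a ∉ J * Q) : Ideal.span {a} ⊔ J * Q = J := by
  have h1 : J * Q ≤ Ideal.span {a} ⊔ J * Q := le_sup_right
  have h2 : Ideal.span {a} ⊔ J * Q ≤ J :=
    sup_le ((Ideal.span_singleton_le_iff_mem _).mpr haJ) Ideal.mul_le_left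
  rcases eq_or_eq_of_between hJ h1 h2 with h | h
  · exfalso
    apply ha
    rw [← h]
    exact Ideal.mem_sup_left (Ideal.mem_span_singleton_self a)
  · exact h

lemma mem_of_mul_mem {J Q : Ideal B} [hQ : Q.IsMaximal] {a b : B} (haJ : a ∈ J)
    (ha : a ∉ J * Q) (hab : a * b ∈ J * Q) : b ∈ Q := by
  by_contra hb
  obtain ⟨d, q, hq, hdq⟩ := hQ.exists_inv hb
  apply ha
  have : a = a * q + d * (a * b) := by
    calc a = a * 1 := (mul_one a).symm
      _ = a * (d * b + q) := by rw [hdq]
      _ = _ := by ring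
  rw [this]
  apply Ideal.add_mem
  · exact Ideal.mul_mem_mul haJ hq
  · exact Ideal.mul_mem_left _ _ hab

end Ded


section Main

variable (A B : Type*) [CommRing A] [CommRing B]
    [IsDedekindDomain A] [IsDedekindDomain B] [Algebra A B] [Module.Finite A B]
    [Module.IsTorsionFree A B] (p : Ideal A) [p.IsMaximal] (y : B)

local notation "pB" => Ideal.map (algebraMap A B) p
local notation "k" => A ⧸ p
local notation "R" => B ⧸ Ideal.map (algebraMap A B) p
local notation "π" => Ideal.Quotient.mk (Ideal.map (algebraMap A B) p)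

/-- the `k`-subspace of `R` given by the image of the ideal `J` -/
def V (J : Ideal B) : Submodule k R := (J.map π).restrictScalars k

lemma mem_V {J : Ideal B} {x : R} : x ∈ V A B p J ↔ x ∈ J.map π := Iff.rfl

lemma mem_V_iff {J : Ideal B} (hJ : pB ≤ J) {b : B} : π b ∈ V A B p J ↔ b ∈ J := by
  rw [mem_V, Ideal.mem_quotient_iff_mem_sup, sup_eq_left.mpr hJ]

lemma exists_of_mem_V {J : Ideal B} {x : R} (hx : x ∈ V A B p J) : ∃ b ∈ J, π b = x :=
  (Ideal.mem_map_iff_of_surjective _ Ideal.Quotient.mk_surjective).mp hx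

lemma V_mono {J J' : Ideal B} (h : J ≤ J') : V A B p J ≤ V A B p J' :=
  fun _ hx => Ideal.map_mono h hx

/-- multiplication by `y` on `R` -/
def μ : R →ₗ[k] R := LinearMap.mulLeft k (π y)

lemma μ_apply (x : R) : μ A B p y x = π y * x := rfl

lemma stable (J : Ideal B) : V A B p J ≤ (V A B p J).comap (μ A B p y) :=
  fun _ hx => Ideal.mul_mem_left _ _ hx

/-- trace of multiplication by `y` on the image of `J` -/
noncomputable def τ (J : Ideal B) : k :=
  LinearMap.trace k (V A B p J) ((μ A B p y).restrict (stable A B p y J))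

/-- the quotient `R / Q̄` versus `B / Q` -/
lemma trace_quot_eq (Q : Ideal B) [Q.IsMaximal] [Q.LiesOver p] :
    LinearMap.trace k (R ⧸ V A B p Q)
        ((V A B p Q).mapQ (V A B p Q) (μ A B p y) (stable A B p y Q)) =
      Algebra.trace k (B ⧸ Q) (Ideal.Quotient.mk Q y) := by
  have hpQ : pB ≤ Q := Ideal.map_le_iff_le_comap.mpr (Ideal.LiesOver.over (p := p) (P := Q)).le
  let f : R →+* B ⧸ Q := Ideal.Quotient.factor hpQ
  have hf : ∀ b : B, f (π b) = Ideal.Quotient.mk Q b := fun b => rfl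
  have hcompat : ∀ c : k, f (algebraMap k R c) = algebraMap k (B ⧸ Q) c := by
    intro c
    obtain ⟨a, rfl⟩ := Ideal.Quotient.mk_surjective c
    rw [Ideal.Quotient.algebraMap_quotient_map_quotient, hf,
      Ideal.Quotient.algebraMap_mk_of_liesOver (p := p) (P := Q)]
  let fl : R →ₗ[k] B ⧸ Q :=
    { toFun := f
      map_add' := map_add f
      map_smul' := fun c x => by
        rw [RingHom.id_apply, Algebra.smul_def, map_mul, hcompat, ← Algebra.smul_def] }
  have hker : V A B p Q ≤ LinearMap.ker fl := by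
    intro x hx
    obtain ⟨b, hb, rfl⟩ := exists_of_mem_V A B p hx
    rw [LinearMap.mem_ker]
    show f (π b) = 0
    rw [hf]
    exact Ideal.Quotient.eq_zero_iff_mem.mpr hb
  let χ₀ := (V A B p Q).liftQ fl hker
  have hinj : Function.Injective χ₀ := by
    rw [← LinearMap.ker_eq_bot]
    apply Submodule.ker_liftQ_eq_bot
    intro x hx
    obtain ⟨b, rfl⟩ := Ideal.Quotient.mk_surjective x
    rw [LinearMap.mem_ker] at hx
    have : Ideal.Quotient.mk Q b = 0 := hx
    exact (mem_V_iff A B p hpQ).mpr (Ideal.Quotient.eq_zero_iff_mem.mp this)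
  have hsurj : Function.Surjective χ₀ := by
    intro z
    obtain ⟨b, rfl⟩ := Ideal.Quotient.mk_surjective z
    exact ⟨Submodule.Quotient.mk (π b), rfl⟩
  let χ := LinearEquiv.ofBijective χ₀ ⟨hinj, hsurj⟩
  rw [Algebra.trace_apply]
  apply trace_eq_of_intertwine χ
  intro x
  obtain ⟨r, rfl⟩ := Submodule.Quotient.mk_surjective _ x
  show χ₀ _ = _
  rw [Submodule.mapQ_apply]
  show f (π y * r) = Ideal.Quotient.mk Q y * f r
  rw [map_mul, hf]

lemma step (J Q : Ideal B) [Q.IsMaximal] [Q.LiesOver p] (hJQ : pB ≤ J * Q) (hJ : J ≠ ⊥) :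
    τ A B p y J = τ A B p y (J * Q) + Algebra.trace k (B ⧸ Q) (Ideal.Quotient.mk Q y) := by
  have hpJ : pB ≤ J := hJQ.trans Ideal.mul_le_left
  have hpQ : pB ≤ Q := hJQ.trans Ideal.mul_le_right
  have hlt : J * Q < J := by
    refine lt_of_le_of_ne Ideal.mul_le_left ?_
    intro h
    have h2 : J * Q = J * ⊤ := by rw [h, Ideal.mul_top]
    have hQ := mul_left_cancel₀ hJ h2
    exact (Ideal.IsMaximal.ne_top inferInstance) hQ
  obtain ⟨a, haJ, ha⟩ := SetLike.exists_of_lt hlt
  let e : V A B p J →ₗ[k] V A B p J := (μ A B p y).restrict (stable A B p y J)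
  let W : Submodule k (V A B p J) := (V A B p (J * Q)).comap (V A B p J).subtype
  have hW : W ≤ W.comap e := by
    intro x hx
    exact stable A B p y (J * Q) hx
  have i1 : Module.Free k W := by
    let _i := Ideal.Quotient.field p
    exact Module.Free.of_divisionRing k W
  have i2 : Module.Free k (V A B p J ⧸ W) := by
    let _i := Ideal.Quotient.field p
    exact Module.Free.of_divisionRing k (V A B p J ⧸ W)
  have h0 := trace_eq_trace_add_trace W e hW
  unfold τ
  refine h0.trans ?_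
  congr 1
  · -- (a)
    let ι : W ≃ₗ[k] V A B p (J * Q) :=
      Submodule.comapSubtypeEquivOfLe (V_mono A B p (Ideal.mul_le_left : J * Q ≤ J))
    refine trace_eq_of_intertwine (K := k) (V := ↥W) (V' := ↥(V A B p (J * Q))) ι _ _ ?_
    intro x
    rfl
  · rw [← trace_quot_eq A B p y Q]
    symm
    -- (b)
    have hmem : ∀ r : R, (LinearMap.mulLeft k (π a)) r ∈ V A B p J := fun r =>
      Ideal.mul_mem_right _ _ (Ideal.mem_map_of_mem π haJ)
    let ψ : R →ₗ[k] (V A B p J ⧸ W) :=
      W.mkQ ∘ₗ (LinearMap.codRestrict (V A B p J) (LinearMap.mulLeft k (π a)) hmem)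
    have hψ : ∀ r : R, ψ r = W.mkQ ⟨π a * r, hmem r⟩ := fun r => rfl
    have hker : V A B p Q ≤ LinearMap.ker ψ := by
      intro x hx
      obtain ⟨b, hb, rfl⟩ := exists_of_mem_V A B p hx
      rw [LinearMap.mem_ker, hψ, Submodule.mkQ_apply, Submodule.Quotient.mk_eq_zero]
      show π a * π b ∈ V A B p (J * Q)
      rw [← map_mul]
      exact (mem_V_iff A B p hJQ).mpr (Ideal.mul_mem_mul haJ hb)
    let φ₀ := (V A B p Q).liftQ ψ hker
    have hinj : Function.Injective φ₀ := by
      rw [← LinearMap.ker_eq_bot]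
      apply Submodule.ker_liftQ_eq_bot
      intro x hx
      obtain ⟨b, rfl⟩ := Ideal.Quotient.mk_surjective x
      rw [LinearMap.mem_ker, hψ, Submodule.mkQ_apply, Submodule.Quotient.mk_eq_zero] at hx
      have h1 : π a * π b ∈ V A B p (J * Q) := hx
      rw [← map_mul, mem_V_iff A B p hJQ] at h1
      exact (mem_V_iff A B p hpQ).mpr (mem_of_mul_mem haJ ha h1)
    have hsurj : Function.Surjective φ₀ := by
      intro z
      obtain ⟨⟨x, hx⟩, rfl⟩ := Submodule.Quotient.mk_surjective _ z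
      obtain ⟨c, hc, rfl⟩ := exists_of_mem_V A B p hx
      have hc' : c ∈ Ideal.span {a} ⊔ J * Q := by rw [sup_span_eq hJ haJ ha]; exact hc
      obtain ⟨u, hu, d, hd, rfl⟩ := Submodule.mem_sup.mp hc'
      obtain ⟨b, rfl⟩ := Ideal.mem_span_singleton'.mp hu
      refine ⟨Submodule.Quotient.mk (π b), ?_⟩
      show ψ (π b) = _
      rw [hψ, Submodule.mkQ_apply, Submodule.Quotient.eq]
      show (π a * π b - π (b * a + d) : R) ∈ V A B p (J * Q)
      have : (π a * π b - π (b * a + d) : R) = π (-d) := by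
        rw [map_add, map_mul, map_neg]; ring
      rw [this]
      exact (mem_V_iff A B p hJQ).mpr (neg_mem hd)
    let φ := LinearEquiv.ofBijective φ₀ ⟨hinj, hsurj⟩
    refine trace_eq_of_intertwine (K := k) (V := R ⧸ V A B p Q) (V' := V A B p J ⧸ W) φ _ _ ?_
    intro x
    obtain ⟨r, rfl⟩ := Submodule.Quotient.mk_surjective _ x
    show φ₀ _ = _
    rw [Submodule.mapQ_apply]
    show ψ (π y * r) = W.mapQ W e hW (ψ r)
    rw [hψ, hψ, Submodule.mkQ_apply, Submodule.mkQ_apply, Submodule.mapQ_apply]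
    congr 1
    apply Subtype.ext
    show π a * (π y * r) = π y * (π a * r)
    ring

end Main

end Groth.Agent.Lib.Helper72.TraceFilt
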