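import Mathlib
import Groth.Agent.Lib.Helper72.TraceFiltB

set_option autoImplicit false
set_option linter.unusedSectionVars false
universe u v

namespace Groth.Agent.Lib.Helper72.TraceFilt

open Module Ideal

section Main2

variable (A B : Type*) [CommRing A] [CommRing B]
    [IsDedekindDomain A] [IsDedekindDomain B] [Algebra A B] [Module.Finite A B]
    [Module.IsTorsionFree A B] (p : Ideal A) [p.IsMaximal] (y : B)

local notation "pB" => Ideal.map (algebraMap A B) p
local notation "k" => A ⧸ p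
local notation "R" => B ⧸ Ideal.map (algebraMap A B) p
local notation "π" => Ideal.Quotient.mk (Ideal.map (algebraMap A B) p)

open Classical in
/-- residue trace at `Q`, junk value `0` when `Q` does not lie over `p` -/
noncomputable def tr (Q : Ideal B) : k :=
  if h : Q.LiesOver p then
    (haveI := h; Algebra.trace k (B ⧸ Q) (Ideal.Quotient.mk Q y)) else 0

lemma tr_eq (Q : Ideal B) [h : Q.LiesOver p] :
    tr A B p y Q = Algebra.trace k (B ⧸ Q) (Ideal.Quotient.mk Q y) := by
  unfold tr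
  rw [dif_pos h]

lemma chain (hpB : pB ≠ ⊥) (s : Multiset (Ideal B))
    (hs : ∀ Q ∈ s, Q.IsMaximal ∧ Q.LiesOver p) (hle : pB ≤ s.prod) :
    τ A B p y ⊤ = τ A B p y s.prod + (s.map (tr A B p y)).sum := by
  induction s using Multiset.induction_on with
  | empty => simp [Ideal.one_eq_top]
  | cons Q s ih =>
    rw [Multiset.prod_cons] at hle ⊢
    have hQ := hs Q (Multiset.mem_cons_self Q s)
    have i1 := hQ.1
    have i2 := hQ.2
    have hle' : pB ≤ s.prod := hle.trans Ideal.mul_le_right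
    rw [ih (fun Q' h => hs Q' (Multiset.mem_cons_of_mem h)) hle', Multiset.map_cons,
      Multiset.sum_cons]
    rw [mul_comm Q s.prod] at hle ⊢
    rw [step A B p y s.prod Q hle (ne_bot_of_le_ne_bot hpB hle'), tr_eq]
    ring

lemma τ_map_self : τ A B p y pB = 0 := by
  have hbot : V A B p pB = ⊥ := by
    unfold V
    rw [Ideal.map_quotient_self]
    rfl
  unfold τ
  have : Subsingleton (V A B p pB) := by rw [hbot]; infer_instance
  rw [Subsingleton.elim ((μ A B p y).restrict (stable A B p y pB)) 0, map_zero]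

lemma τ_top : τ A B p y ⊤ = Algebra.trace k R (π y) := by
  have htop : V A B p ⊤ = ⊤ := by
    unfold V
    rw [Ideal.map_top]
    rfl
  rw [Algebra.trace_apply]
  unfold τ
  let φ : V A B p ⊤ ≃ₗ[k] R := LinearEquiv.ofTop _ htop
  refine trace_eq_of_intertwine (K := k) (V := ↥(V A B p ⊤)) (V' := R) φ _ _ ?_
  intro x
  rfl

theorem main (hp : p ≠ ⊥) :
    Ideal.Quotient.mk p (Algebra.intTrace A B y) =
      ∑ᶠ Q : p.primesOver B,
        Q.1.ramificationIdx A •
          Algebra.trace (A ⧸ p) (B ⧸ Q.1) (Ideal.Quotient.mk Q.1 y) := by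
  classical
  have hpB : pB ≠ ⊥ := by
    rw [Ne, Ideal.map_eq_bot_iff_of_injective (FaithfulSMul.algebraMap_injective A B)]
    exact hp
  rw [← Algebra.trace_quotient_eq_of_isDedekindDomain, ← τ_top]
  obtain ⟨s, hs⟩ : ∃ s, s = UniqueFactorizationMonoid.normalizedFactors pB := ⟨_, rfl⟩
  have hsprod : s.prod = pB := by rw [hs]; exact Ideal.prod_normalizedFactors_eq_self hpB
  have hmem_iff : ∀ Q : Ideal B, Q ∈ s ↔ Q.IsPrime ∧ Q.LiesOver p := by
    intro Q
    rw [hs, Ideal.mem_normalizedFactors_iff hpB]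
    constructor
    · rintro ⟨hQp, hQle⟩
      refine ⟨hQp, ⟨?_⟩⟩
      have h1 : p ≤ Q.under A := Ideal.map_le_iff_le_comap.mp hQle
      exact IsMaximal.eq_of_le inferInstance (Ideal.comap_ne_top _ hQp.ne_top) h1
    · rintro ⟨hQp, hQo⟩
      exact ⟨hQp, Ideal.map_le_iff_le_comap.mpr hQo.over.le⟩
  have hmem : ∀ Q ∈ s, Q.IsMaximal ∧ Q.LiesOver p := by
    intro Q hQ
    have h2 := (hmem_iff Q).mp hQ
    have h3 : pB ≤ Q := Ideal.map_le_iff_le_comap.mpr h2.2.over.le
    exact ⟨h2.1.isMaximal (ne_bot_of_le_ne_bot hpB h3), h2.2⟩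
  rw [chain A B p y hpB s hmem (hsprod.symm ▸ le_rfl), hsprod, τ_map_self, zero_add,
    Finset.sum_multiset_map_count]
  have hF : ∀ Q : p.primesOver B,
      Q.1.ramificationIdx A • Algebra.trace (A ⧸ p) (B ⧸ Q.1) (Ideal.Quotient.mk Q.1 y) =
        (fun Q : Ideal B => Q.ramificationIdx A • tr A B p y Q) Q.1 := by
    intro Q
    have i : Q.1.LiesOver p := Q.2.2
    show _ = Q.1.ramificationIdx A • tr A B p y Q.1
    rw [tr_eq]
  rw [finsum_congr hF, finsum_set_coe_eq_finsum_mem (p.primesOver B)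
    (f := fun Q : Ideal B => Q.ramificationIdx A • tr A B p y Q)]
  have hset : p.primesOver B = ↑s.toFinset := by
    ext Q
    rw [Finset.mem_coe, Multiset.mem_toFinset, hmem_iff]
    rfl
  rw [hset, finsum_mem_coe_finset]
  refine Finset.sum_congr rfl ?_
  intro Q hQ
  rw [Multiset.mem_toFinset] at hQ
  have i := ((hmem_iff Q).mp hQ).2
  rw [hs, ← Ideal.IsDedekindDomain.ramificationIdx_eq_normalizedFactors_count p Q hpB]

end Main2

end Groth.Agent.Lib.Helper72.TraceFilt
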