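import Mathlib

/-!
Subalgebras of a ring `R = k[u]`, `u` nilpotent, stable under `σ : u ↦ u / (1 + u)` (char 0).
-/

namespace Groth.Agent.Lib.Helper72.TruncSub
open Polynomial

variable {k R : Type*} [Field k] [CharZero k] [CommRing R] [Algebra k R]

/-- `y` has order exactly `i` in `u`. -/
def P (k : Type*) {R : Type*} [Field k] [CommRing R] [Algebra k R] (u : R) (i : ℕ) (y : R) : Prop :=
  ∃ (c : k) (w : R), c ≠ 0 ∧ y = algebraMap k R c * u ^ i + u ^ (i + 1) * w

variable (u v : R) (σ : R →ₐ[k] R)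

lemma sigma_sub (hv : v * (1 + u) = 1) (hσ : σ u = u * v)
    (hgen : ∀ w : R, ∃ p : k[X], w = aeval u p) (w : R) : ∃ z : R, σ w - w = u * z := by
  obtain ⟨p, rfl⟩ := hgen w
  rw [← aeval_algHom_apply, hσ]
  have h1 := sub_dvd_eval_sub (u * v) u (p.map (algebraMap k R))
  rw [eval_map_algebraMap, eval_map_algebraMap] at h1
  obtain ⟨t, ht⟩ := h1
  refine ⟨-(u * v) * t, ?_⟩
  rw [ht]
  have hv1 : v - 1 = - (u * v) := by linear_combination hv
  linear_combination (u * t) * hv1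

lemma v_pow (hv : v * (1 + u) = 1) (i : ℕ) :
    ∃ t : R, v ^ i = 1 - (i : R) * u + u ^ 2 * t := by
  have hv2 : v = 1 - u + u ^ 2 * v := by linear_combination (1 - u) * hv
  induction i with
  | zero => exact ⟨0, by simp⟩
  | succ i ih =>
    obtain ⟨t, ht⟩ := ih
    refine ⟨v + i - i * u * v + t * (1 - u + u ^ 2 * v), ?_⟩
    push_cast
    linear_combination v * ht + (1 - (i : R) * u + u ^ 2 * t) * hv2

lemma P_step (hv : v * (1 + u) = 1) (hσ : σ u = u * v)
    (hgen : ∀ w : R, ∃ p : k[X], w = aeval u p) (i : ℕ) (hi : 1 ≤ i) (y : R) (hy : P k u i y) :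
    P k u (i + 1) (σ y - y) := by
  obtain ⟨c, w, hc, rfl⟩ := hy
  obtain ⟨z, hz⟩ := sigma_sub u v σ hv hσ hgen w
  obtain ⟨t, ht⟩ := v_pow u v hv i
  obtain ⟨t', ht'⟩ := v_pow u v hv (i + 1)
  have hσw : σ w = w + u * z := by linear_combination hz
  refine ⟨-(i : k) * c, algebraMap k R c * t + z + (-((i : R) + 1) + u * t') * (w + u * z), ?_, ?_⟩
  · have : (i : k) ≠ 0 := by
      have : i ≠ 0 := by omega
      exact_mod_cast this
    exact mul_ne_zero (neg_ne_zero.mpr this) hc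
  · simp only [map_add, map_mul, map_pow, AlgHom.commutes, hσ, hσw, mul_pow, map_neg, map_natCast]
    push_cast at ht'
    linear_combination (algebraMap k R c * u ^ i) * ht + (u ^ (i + 1) * (w + u * z)) * ht'

lemma P_iterate (hv : v * (1 + u) = 1) (hσ : σ u = u * v)
    (hgen : ∀ w : R, ∃ p : k[X], w = aeval u p) (A : Subalgebra k R)
    (hA : ∀ y ∈ A, σ y ∈ A) (n : ℕ) (hn : 1 ≤ n) (x : R) (hxA : x ∈ A) (hx : P k u n x) (j : ℕ) :
    ∃ y ∈ A, P k u (n + j) y := by
  induction j with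
  | zero => exact ⟨x, hxA, hx⟩
  | succ j ih =>
    obtain ⟨y, hyA, hy⟩ := ih
    exact ⟨σ y - y, A.sub_mem (hA y hyA) hyA, P_step u v σ hv hσ hgen (n + j) (by omega) y hy⟩

lemma mul_mem_of_pow_mem (hgen : ∀ w : R, ∃ p : k[X], w = aeval u p) (A : Subalgebra k R)
    (m : ℕ) (h : ∀ m', m < m' → u ^ m' ∈ A) (w : R) : u ^ (m + 1) * w ∈ A := by
  obtain ⟨p, rfl⟩ := hgen w
  rw [aeval_eq_sum_range, Finset.mul_sum]
  apply A.sum_mem
  intro i _
  rw [mul_smul_comm, ← pow_add]
  exact A.smul_mem (h _ (by omega)) _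

lemma pow_mem (hv : v * (1 + u) = 1) (hσ : σ u = u * v)
    (hgen : ∀ w : R, ∃ p : k[X], w = aeval u p) (A : Subalgebra k R)
    (hA : ∀ y ∈ A, σ y ∈ A) (N : ℕ) (hN : u ^ (N + 1) = 0)
    (n : ℕ) (hn : 1 ≤ n) (x : R) (hxA : x ∈ A) (hx : P k u n x) :
    ∀ m, n ≤ m → u ^ m ∈ A := by
  have key : ∀ j m, n ≤ m → N + 1 ≤ m + j → u ^ m ∈ A := by
    intro j
    induction j with
    | zero =>
      intro m _ hm
      have : u ^ m = u ^ (N + 1) * u ^ (m - (N + 1)) := by rw [← pow_add]; congr 1; omega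
      rw [this, hN, zero_mul]; exact A.zero_mem
    | succ j ih =>
      intro m hnm hm
      rcases Nat.lt_or_ge (m + j) (N + 1) with hlt | hge
      · have hall : ∀ m', m < m' → u ^ m' ∈ A := fun m' hm' => ih m' (by omega) (by omega)
        obtain ⟨y, hyA, c, w, hc, hy⟩ := P_iterate u v σ hv hσ hgen A hA n hn x hxA hx (m - n)
        have hnm' : n + (m - n) = m := by omega
        rw [hnm'] at hy
        have h1 : u ^ (m + 1) * w ∈ A := mul_mem_of_pow_mem u hgen A m hall w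
        have h2 : algebraMap k R c * u ^ m ∈ A := by
          have : algebraMap k R c * u ^ m = y - u ^ (m + 1) * w := by rw [hy]; ring
          rw [this]; exact A.sub_mem hyA h1
        have h3 : u ^ m = c⁻¹ • (algebraMap k R c * u ^ m) := by
          rw [Algebra.smul_def, ← mul_assoc, ← map_mul, inv_mul_cancel₀ hc, map_one, one_mul]
        rw [h3]; exact A.smul_mem h2 _
      · exact ih m hnm hge
  intro m hm
  exact key (N + 1) m hm (by omega)

end Groth.Agent.Lib.Helper72.TruncSub
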