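import Mathlib
import Groth.Agent.Lib.Helper72.HomGenC

/-! The ideal `P · Q` of two transverse coordinate linear spaces: graded pieces of degree `0`. -/

set_option autoImplicit false
set_option linter.unusedSectionVars false
universe u

namespace Groth.Agent.Lib.Helper72.TwoPlane

open W4c1hilbpn MvPolynomial Groth.Agent.Lib.Helper28.HilbT Groth.Agent.Lib.Helper72.HilbDual
open Groth.Agent.Lib.Helper72.HomGen

variable {σ : Type*} [Fintype σ] [DecidableEq σ] {k : Type u} [Field k]
variable (P Q : σ → Prop) [DecidablePred P] [DecidablePred Q]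
variable (I : Ideal (MvPolynomial σ k))

/-- Generators `x_i x_j` with `i ∈ P`, `j ∈ Q`. -/
abbrev Gam : Type _ := {p : σ × σ // P p.1 ∧ Q p.2}

noncomputable def gen (p : Gam P Q) : σ →₀ ℕ := gen2 p.1.1 p.1.2

variable {P Q}

variable (hdisj : ∀ x, P x → Q x → False)
include hdisj

lemma gen_fst (p : Gam P Q) : gen P Q p p.1.1 = 1 := by
  unfold gen
  rw [gen2_apply, if_pos rfl, if_neg]
  intro h
  exact hdisj p.1.1 p.2.1 (h ▸ p.2.2)

lemma gen_snd (p : Gam P Q) : gen P Q p p.1.2 = 1 := by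
  unfold gen
  rw [gen2_apply, if_pos rfl, if_neg]
  intro h
  exact hdisj p.1.1 p.2.1 (h ▸ p.2.2)

omit hdisj in
lemma gen_other (p : Gam P Q) (x : σ) (h1 : p.1.1 ≠ x) (h2 : p.1.2 ≠ x) : gen P Q p x = 0 := by
  unfold gen
  rw [gen2_apply, if_neg h1, if_neg h2]

omit hdisj in
lemma gen_le_one (p : Gam P Q) (x : σ) : gen P Q p x ≤ 2 := by
  unfold gen
  rw [gen2_apply]
  split_ifs <;> omega

lemma gen_P (p : Gam P Q) (x : σ) (hx : P x) (h1 : p.1.1 ≠ x) : gen P Q p x = 0 :=
  gen_other p x h1 (fun h => hdisj x hx (h ▸ p.2.2))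

lemma gen_Q (p : Gam P Q) (x : σ) (hx : Q x) (h2 : p.1.2 ≠ x) : gen P Q p x = 0 :=
  gen_other p x (fun h => hdisj x (h ▸ p.2.1) hx) h2

variable (hE : ∀ β : σ →₀ ℕ, β ∈ exps I ↔ ∃ i j, P i ∧ Q j ∧ 1 ≤ β i ∧ 1 ≤ β j)
include hE

lemma hG (β : σ →₀ ℕ) : β ∈ exps I ↔ ∃ γ : Gam P Q, gen P Q γ ≤ β := by
  rw [hE]
  constructor
  · rintro ⟨i, j, hi, hj, h1, h2⟩
    refine ⟨⟨(i, j), hi, hj⟩, ?_⟩
    unfold gen
    rw [gen2_le_iff]
    refine ⟨fun _ => ⟨h1, h2⟩, fun h => ?_⟩
    have h' : i = j := h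
    subst h'
    exact (hdisj i hi hj).elim
  · rintro ⟨γ, hγ⟩
    refine ⟨γ.1.1, γ.1.2, γ.2.1, γ.2.2, ?_, ?_⟩
    · have := hγ γ.1.1
      rw [gen_fst hdisj] at this
      exact this
    · have := hγ γ.1.2
      rw [gen_snd hdisj] at this
      exact this

omit hdisj in
lemma active_iff (α : σ → ℤ) (β : σ →₀ ℕ) :
    Active I α β ↔ (∀ x, 0 ≤ (β x : ℤ) + α x) ∧
      ∀ i j, P i → Q j → ¬ (1 ≤ (β i : ℤ) + α i ∧ 1 ≤ (β j : ℤ) + α j) := by
  unfold Active
  rw [hE]
  simp only [up_apply, toN_apply]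
  constructor
  · rintro ⟨h1, h2⟩
    refine ⟨h1, fun i j hi hj h => h2 ⟨i, j, hi, hj, ?_, ?_⟩⟩
    · omega
    · omega
  · rintro ⟨h1, h2⟩
    refine ⟨h1, ?_⟩
    rintro ⟨i, j, hi, hj, h3, h4⟩
    exact h2 i j hi hj ⟨by omega, by omega⟩

/-- The degree `e_l - e_i`. -/
def deg (i l : σ) : σ → ℤ := Pi.single l 1 - Pi.single i 1

omit hdisj hE in
lemma deg_self (i l : σ) (h : l ≠ i) : deg i l i = -1 := by
  unfold deg
  rw [Pi.sub_apply, Pi.single_apply, Pi.single_apply, if_neg (Ne.symm h), if_pos rfl]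
  norm_num

omit hdisj hE in
lemma deg_nonneg (i l x : σ) (h : x ≠ i) : 0 ≤ deg i l x := by
  unfold deg
  rw [Pi.sub_apply, Pi.single_apply, Pi.single_apply, if_neg h]
  split_ifs <;> norm_num

omit hdisj hE in
lemma deg_zero (i l x : σ) (h : x ≠ i) (h' : x ≠ l) : deg i l x = 0 := by
  unfold deg
  rw [Pi.sub_apply, Pi.single_apply, Pi.single_apply, if_neg h, if_neg h']
  norm_num

omit hdisj hE in
lemma sum_deg (i l : σ) : ∑ x, deg i l x = 0 := by
  unfold deg
  simp only [Pi.sub_apply]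
  rw [Finset.sum_sub_distrib, Finset.sum_pi_single', Finset.sum_pi_single']
  simp

/-- The piece of degree `e_l - e_i` with `i ∈ P`, `l ∉ P` is a line. -/
theorem finrank_genData_deg (hQne : ∃ j, Q j) (i l : σ) (hi : P i) (hl : ¬ P l) :
    Module.finrank k (GenData I (gen P Q) (deg i l)) = 1 := by
  classical
  obtain ⟨j0, hj0⟩ := hQne
  have hli : l ≠ i := fun h => hl (h ▸ hi)
  have key := finrank_genData' I (gen P Q) (deg i l) (J := Unit)
    (fun p => if p.1.1 = i then some () else none) (fun _ => ⟨(i, j0), hi, hj0⟩)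
    (fun _ => if_pos rfl) ?_ ?_ ?_ ?_
  · rw [key]
    rfl
  · -- unclassified generators are inactive
    intro p hp
    left
    have hpi : p.1.1 ≠ i := by
      intro h
      rw [if_pos h] at hp
      exact absurd hp (by simp)
    rw [active_iff I hE]
    rintro ⟨h1, -⟩
    have := h1 i
    rw [gen_P hdisj p i hi hpi, deg_self i l hli] at this
    omega
  · -- classified generators are linked to the representative
    intro p _ hp
    have hpi : p.1.1 = i := by
      by_contra h
      rw [if_neg h] at hp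
      exact absurd hp (by simp)
    unfold Linked
    rw [active_iff I hE]
    have hval : ∀ x, P x → ((gen P Q p ⊔ gen P Q ⟨(i, j0), hi, hj0⟩) x : ℤ) + deg i l x = 0 := by
      intro x hx
      rw [Finsupp.sup_apply]
      by_cases hxi : x = i
      · subst hxi
        have h1 : gen P Q p x = 1 := by rw [← hpi]; exact gen_fst hdisj p
        have h2 : gen P Q ⟨(x, j0), hi, hj0⟩ x = 1 := gen_fst hdisj ⟨(x, j0), hi, hj0⟩
        rw [h1, h2, deg_self x l hli]
        norm_num
      · have h1 : gen P Q p x = 0 := gen_P hdisj p x hx (by rw [hpi]; exact Ne.symm hxi)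
        have h2 : gen P Q ⟨(i, j0), hi, hj0⟩ x = 0 :=
          gen_P hdisj ⟨(i, j0), hi, hj0⟩ x hx (Ne.symm hxi)
        rw [h1, h2, deg_zero i l x hxi (fun h => hl (h ▸ hx))]
        norm_num
    refine ⟨fun x => ?_, fun i' j' hi' _ h => ?_⟩
    · by_cases hx : x = i
      · rw [hx, hval i hi]
      · have := deg_nonneg i l x hx
        have h0 : (0 : ℤ) ≤ ((gen P Q p ⊔ gen P Q ⟨(i, j0), hi, hj0⟩) x : ℕ) := Int.natCast_nonneg _
        omega
    · rw [hval i' hi'] at h
      omega
  · -- classified generators are active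
    intro p _ hp
    have hpi : p.1.1 = i := by
      by_contra h
      rw [if_neg h] at hp
      exact absurd hp (by simp)
    rw [active_iff I hE]
    have hval : ∀ x, P x → ((gen P Q p x : ℕ) : ℤ) + deg i l x = 0 := by
      intro x hx
      by_cases hxi : x = i
      · subst hxi
        have h1 : gen P Q p x = 1 := by rw [← hpi]; exact gen_fst hdisj p
        rw [h1, deg_self x l hli]
        norm_num
      · have h1 : gen P Q p x = 0 := gen_P hdisj p x hx (by rw [hpi]; exact Ne.symm hxi)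
        rw [h1, deg_zero i l x hxi (fun h => hl (h ▸ hx))]
        norm_num
    refine ⟨fun x => ?_, fun i' j' hi' _ h => ?_⟩
    · by_cases hx : x = i
      · rw [hx, hval i hi]
      · have := deg_nonneg i l x hx
        have h0 : (0 : ℤ) ≤ ((gen P Q p x : ℕ) : ℤ) := Int.natCast_nonneg _
        omega
    · rw [hval i' hi'] at h
      omega
  · -- linked generators have the same class
    intro p p' hlink
    unfold Linked at hlink
    rw [active_iff I hE] at hlink
    obtain ⟨h1, h2⟩ := hlink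
    by_cases hp : p.1.1 = i
    · by_cases hp' : p'.1.1 = i
      · rw [if_pos hp, if_pos hp']
      · exfalso
        apply h2 p'.1.1 p'.1.2 p'.2.1 p'.2.2
        have e1 : gen P Q p' p'.1.1 = 1 := gen_fst hdisj p'
        have e2 : gen P Q p' p'.1.2 = 1 := gen_snd hdisj p'
        have n1 := deg_nonneg i l p'.1.1 hp'
        have n2 := deg_nonneg i l p'.1.2 (fun h => hdisj i hi (h ▸ p'.2.2))
        rw [Finsupp.sup_apply, Finsupp.sup_apply, e1, e2]
        have m1 : (1 : ℤ) ≤ ((max (gen P Q p p'.1.1) 1 : ℕ) : ℤ) := by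
          exact_mod_cast le_max_right _ _
        have m2 : (1 : ℤ) ≤ ((max (gen P Q p p'.1.2) 1 : ℕ) : ℤ) := by
          exact_mod_cast le_max_right _ _
        constructor <;> omega
    · by_cases hp' : p'.1.1 = i
      · exfalso
        apply h2 p.1.1 p.1.2 p.2.1 p.2.2
        have e1 : gen P Q p p.1.1 = 1 := gen_fst hdisj p
        have e2 : gen P Q p p.1.2 = 1 := gen_snd hdisj p
        have n1 := deg_nonneg i l p.1.1 hp
        have n2 := deg_nonneg i l p.1.2 (fun h => hdisj i hi (h ▸ p.2.2))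
        rw [Finsupp.sup_apply, Finsupp.sup_apply, e1, e2]
        have m1 : (1 : ℤ) ≤ ((max 1 (gen P Q p' p.1.1) : ℕ) : ℤ) := by
          exact_mod_cast le_max_left _ _
        have m2 : (1 : ℤ) ≤ ((max 1 (gen P Q p' p.1.2) : ℕ) : ℤ) := by
          exact_mod_cast le_max_left _ _
        constructor <;> omega
      · rw [if_neg hp, if_neg hp']

end Groth.Agent.Lib.Helper72.TwoPlane
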