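import Mathlib
import Groth.Agent.Lib.Helper72.TwoPlaneA

/-! The ideal `P · Q`: vanishing of the other pieces and the dimension of `Hom(I, S/I)_0`. -/

set_option autoImplicit false
set_option linter.unusedSectionVars false
universe u

namespace Groth.Agent.Lib.Helper72.TwoPlane

open W4c1hilbpn MvPolynomial Groth.Agent.Lib.Helper28.HilbT Groth.Agent.Lib.Helper72.HilbDual
open Groth.Agent.Lib.Helper72.HomGen

variable {σ : Type*} [Fintype σ] [DecidableEq σ] {k : Type u} [Field k]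
variable {P Q : σ → Prop} [DecidablePred P] [DecidablePred Q]
variable (I : Ideal (MvPolynomial σ k))

lemma exists_gen_le_iff (hdisj : ∀ x, P x → Q x → False) (β : σ →₀ ℕ) :
    (∃ γ : Gam P Q, gen P Q γ ≤ β) ↔ ∃ i j, P i ∧ Q j ∧ 1 ≤ β i ∧ 1 ≤ β j := by
  constructor
  · rintro ⟨γ, hγ⟩
    refine ⟨γ.1.1, γ.1.2, γ.2.1, γ.2.2, ?_, ?_⟩
    · have := hγ γ.1.1
      rw [gen_fst hdisj] at this
      exact this
    · have := hγ γ.1.2
      rw [gen_snd hdisj] at this
      exact this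
  · rintro ⟨i, j, hi, hj, h1, h2⟩
    refine ⟨⟨(i, j), hi, hj⟩, ?_⟩
    unfold gen
    rw [gen2_le_iff]
    refine ⟨fun _ => ⟨h1, h2⟩, fun h => ?_⟩
    have h' : i = j := h
    subst h'
    exact (hdisj i hi hj).elim

variable (hdisj : ∀ x, P x → Q x → False)
variable (hE : ∀ β : σ →₀ ℕ, β ∈ exps I ↔ ∃ i j, P i ∧ Q j ∧ 1 ≤ β i ∧ 1 ≤ β j)
include hdisj hE

/-- Only the degrees `e_l - e_i` (`i ∈ P`, `l ∉ P`) and `e_l - e_j` (`j ∈ Q`, `l ∉ Q`) carry
non-zero generator data. -/
theorem deg_of_genData_ne_bot (hP2 : ∀ i, P i → ∃ i', P i' ∧ i' ≠ i)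
    (hQ2 : ∀ j, Q j → ∃ j', Q j' ∧ j' ≠ j) (α : σ → ℤ) (hsum : ∑ x, α x = 0)
    (hne : GenData I (gen P Q) α ≠ ⊥) :
    (∃ i l, P i ∧ ¬ P l ∧ α = deg i l) ∨ (∃ j l, Q j ∧ ¬ Q l ∧ α = deg j l) := by
  classical
  rw [Ne, Submodule.eq_bot_iff] at hne
  push Not at hne
  obtain ⟨c, hc, hc0⟩ := hne
  have hex : ∃ γ, c γ ≠ 0 := by
    by_contra hcon
    push Not at hcon
    exact hc0 (funext hcon)
  obtain ⟨γ, hγ⟩ := hex
  have hact : Active I α (gen P Q γ) := by
    by_contra h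
    exact hγ (hc.1 γ h)
  rw [active_iff I hE] at hact
  obtain ⟨hnn, hnot⟩ := hact
  have gi : gen P Q γ γ.1.1 = 1 := gen_fst hdisj γ
  have gj : gen P Q γ γ.1.2 = 1 := gen_snd hdisj γ
  have hij : γ.1.1 ≠ γ.1.2 := fun h => hdisj γ.1.1 γ.2.1 (h ▸ γ.2.2)
  by_cases hA : ∀ i', P i' → ((gen P Q γ i' : ℕ) : ℤ) + α i' ≤ 0
  · -- all `P`-coordinates vanish
    have hαi : α γ.1.1 = -1 := by
      have h1 := hA γ.1.1 γ.2.1
      have h2 := hnn γ.1.1
      rw [gi] at h1 h2
      omega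
    have hαP : ∀ x, P x → x ≠ γ.1.1 → α x = 0 := by
      intro x hx hxi
      have h1 := hA x hx
      have h2 := hnn x
      rw [gen_P hdisj γ x hx (Ne.symm hxi)] at h1 h2
      omega
    by_cases hαj : 0 ≤ α γ.1.2
    · left
      have hnn' : ∀ x, x ≠ γ.1.1 → 0 ≤ α x := by
        intro x hx
        by_cases hxj : x = γ.1.2
        · rw [hxj]; exact hαj
        · have := hnn x
          rw [gen_other γ x (Ne.symm hx) (Ne.symm hxj)] at this
          omega
      obtain ⟨l, hl, hα⟩ := eq_single_sub_single hsum hαi hnn'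
      refine ⟨γ.1.1, l, γ.2.1, ?_, hα⟩
      intro hPl
      have h1 := hαP l hPl hl
      rw [hα, Pi.sub_apply, Pi.single_apply, Pi.single_apply, if_pos rfl, if_neg hl] at h1
      omega
    · exfalso
      have hαj' : α γ.1.2 = -1 := by
        have := hnn γ.1.2
        rw [gj] at this
        omega
      obtain ⟨j', hj', hjj⟩ := hQ2 γ.1.2 γ.2.2
      apply hγ
      have hinact : ¬ Active I α (gen P Q ⟨(γ.1.1, j'), γ.2.1, hj'⟩) := by
        rw [active_iff I hE]
        rintro ⟨h1, -⟩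
        have := h1 γ.1.2
        rw [gen_Q hdisj ⟨(γ.1.1, j'), γ.2.1, hj'⟩ γ.1.2 γ.2.2 hjj, hαj'] at this
        omega
      have hlink : Linked I α (gen P Q γ) (gen P Q ⟨(γ.1.1, j'), γ.2.1, hj'⟩) := by
        unfold Linked
        rw [active_iff I hE]
        refine ⟨fun x => ?_, fun i'' j'' hi'' _ h => ?_⟩
        · have h1 := hnn x
          rw [Finsupp.sup_apply]
          have : ((gen P Q γ x : ℕ) : ℤ) ≤
              ((max (gen P Q γ x) (gen P Q ⟨(γ.1.1, j'), γ.2.1, hj'⟩ x) : ℕ) : ℤ) := by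
            exact_mod_cast le_max_left _ _
          omega
        · have h1 := hA i'' hi''
          have heq : gen P Q ⟨(γ.1.1, j'), γ.2.1, hj'⟩ i'' = gen P Q γ i'' := by
            by_cases hx : γ.1.1 = i''
            · rw [← hx, gi]
              exact gen_fst hdisj ⟨(γ.1.1, j'), γ.2.1, hj'⟩
            · rw [gen_P hdisj γ i'' hi'' hx]
              exact gen_P hdisj ⟨(γ.1.1, j'), γ.2.1, hj'⟩ i'' hi'' hx
          rw [Finsupp.sup_apply, heq, max_self] at h
          omega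
      rw [hc.2 _ _ hlink, hc.1 _ hinact]
  · -- all `Q`-coordinates vanish
    push Not at hA
    obtain ⟨i0, hi0, hi0pos⟩ := hA
    have hB : ∀ j', Q j' → ((gen P Q γ j' : ℕ) : ℤ) + α j' ≤ 0 := by
      intro j' hj'
      by_contra hcon
      exact hnot i0 j' hi0 hj' ⟨by omega, by omega⟩
    have hαj : α γ.1.2 = -1 := by
      have h1 := hB γ.1.2 γ.2.2
      have h2 := hnn γ.1.2
      rw [gj] at h1 h2
      omega
    have hαQ : ∀ x, Q x → x ≠ γ.1.2 → α x = 0 := by
      intro x hx hxj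
      have h1 := hB x hx
      have h2 := hnn x
      rw [gen_Q hdisj γ x hx (Ne.symm hxj)] at h1 h2
      omega
    by_cases hαi : 0 ≤ α γ.1.1
    · right
      have hnn' : ∀ x, x ≠ γ.1.2 → 0 ≤ α x := by
        intro x hx
        by_cases hxi : x = γ.1.1
        · rw [hxi]; exact hαi
        · have := hnn x
          rw [gen_other γ x (Ne.symm hxi) (Ne.symm hx)] at this
          omega
      obtain ⟨l, hl, hα⟩ := eq_single_sub_single hsum hαj hnn'
      refine ⟨γ.1.2, l, γ.2.2, ?_, hα⟩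
      intro hQl
      have h1 := hαQ l hQl hl
      rw [hα, Pi.sub_apply, Pi.single_apply, Pi.single_apply, if_pos rfl, if_neg hl] at h1
      omega
    · exfalso
      have hαi' : α γ.1.1 = -1 := by
        have := hnn γ.1.1
        rw [gi] at this
        omega
      obtain ⟨i', hi', hii⟩ := hP2 γ.1.1 γ.2.1
      apply hγ
      have hinact : ¬ Active I α (gen P Q ⟨(i', γ.1.2), hi', γ.2.2⟩) := by
        rw [active_iff I hE]
        rintro ⟨h1, -⟩
        have := h1 γ.1.1
        rw [gen_P hdisj ⟨(i', γ.1.2), hi', γ.2.2⟩ γ.1.1 γ.2.1 hii, hαi'] at this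
        omega
      have hlink : Linked I α (gen P Q γ) (gen P Q ⟨(i', γ.1.2), hi', γ.2.2⟩) := by
        unfold Linked
        rw [active_iff I hE]
        refine ⟨fun x => ?_, fun i'' j'' _ hj'' h => ?_⟩
        · have h1 := hnn x
          rw [Finsupp.sup_apply]
          have : ((gen P Q γ x : ℕ) : ℤ) ≤
              ((max (gen P Q γ x) (gen P Q ⟨(i', γ.1.2), hi', γ.2.2⟩ x) : ℕ) : ℤ) := by
            exact_mod_cast le_max_left _ _
          omega
        · have h1 := hB j'' hj''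
          have heq : gen P Q ⟨(i', γ.1.2), hi', γ.2.2⟩ j'' = gen P Q γ j'' := by
            by_cases hx : γ.1.2 = j''
            · rw [← hx, gj]
              exact gen_snd hdisj ⟨(i', γ.1.2), hi', γ.2.2⟩
            · rw [gen_Q hdisj γ j'' hj'' hx]
              exact gen_Q hdisj ⟨(i', γ.1.2), hi', γ.2.2⟩ j'' hj'' hx
          rw [Finsupp.sup_apply, Finsupp.sup_apply, heq, max_self] at h
          omega
      rw [hc.2 _ _ hlink, hc.1 _ hinact]

end Groth.Agent.Lib.Helper72.TwoPlane
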