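import Mathlib
import Groth.Agent.Lib.Helper72.TwoPlaneB

/-! The ideal `P · Q`: the dimension of `Hom(I, S/I)_0`. -/

set_option autoImplicit false
set_option linter.unusedSectionVars false
universe u

namespace Groth.Agent.Lib.Helper72.TwoPlane

open W4c1hilbpn MvPolynomial Groth.Agent.Lib.Helper28.HilbT Groth.Agent.Lib.Helper72.HilbDual
open Groth.Agent.Lib.Helper72.HomGen

variable {σ : Type*} [Fintype σ] [DecidableEq σ] {k : Type u} [Field k]
variable {P Q : σ → Prop} [DecidablePred P] [DecidablePred Q]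
variable (I : Ideal (MvPolynomial σ k))
variable (hdisj : ∀ x, P x → Q x → False)
variable (hE : ∀ β : σ →₀ ℕ, β ∈ exps I ↔ ∃ i j, P i ∧ Q j ∧ 1 ≤ β i ∧ 1 ≤ β j)
include hdisj hE

theorem finrank_tPiece_deg_P (hI : IsMonomial I) (hQne : ∃ j, Q j) (i l : σ) (hi : P i)
    (hl : ¬ P l) : Module.finrank k (tPiece I (deg i l)) = 1 := by
  rw [finrank_tPiece_eq (gen P Q) (deg i l) hI (hG I hdisj hE)]
  exact finrank_genData_deg I hdisj hE hQne i l hi hl

theorem finrank_tPiece_deg_Q (hI : IsMonomial I) (hPne : ∃ i, P i) (j l : σ) (hj : Q j)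
    (hl : ¬ Q l) : Module.finrank k (tPiece I (deg j l)) = 1 := by
  have hdisj' : ∀ x, Q x → P x → False := fun x hq hp => hdisj x hp hq
  have hE' : ∀ β : σ →₀ ℕ, β ∈ exps I ↔ ∃ i j, Q i ∧ P j ∧ 1 ≤ β i ∧ 1 ≤ β j := by
    intro β
    rw [hE]
    constructor
    · rintro ⟨i, j, hi, hj, h1, h2⟩
      exact ⟨j, i, hj, hi, h2, h1⟩
    · rintro ⟨i, j, hi, hj, h1, h2⟩
      exact ⟨j, i, hj, hi, h2, h1⟩
  exact finrank_tPiece_deg_P I hdisj' hE' hI hPne j l hj hl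

theorem finrank_hom0 (hI : IsMonomial I) (hP2 : ∀ i, P i → ∃ i', P i' ∧ i' ≠ i)
    (hQ2 : ∀ j, Q j → ∃ j', Q j' ∧ j' ≠ j) (hPne : ∃ i, P i) (hQne : ∃ j, Q j) :
    Module.finrank k ↥(⨆ α : {α : σ → ℤ // ∑ x, α x = 0}, tPiece I α.1) =
      Fintype.card {i // P i} * Fintype.card {l // ¬ P l} +
        Fintype.card {j // Q j} * Fintype.card {l // ¬ Q l} := by
  classical
  have hGG := hG I hdisj hE
  have hfd : ∀ α, FiniteDimensional k (tPiece I α) := fun α =>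
    finiteDimensional_tPiece_of_finite I (gen P Q) α hI hGG
  let a : ({p : σ × σ // P p.1 ∧ ¬ P p.2} ⊕ {p : σ × σ // Q p.1 ∧ ¬ Q p.2}) → σ → ℤ :=
    Sum.elim (fun p => deg p.1.1 p.1.2) (fun p => deg p.1.1 p.1.2)
  have ha : Function.Injective a := by
    rintro (p | p) (p' | p') h
    · have hne : p.1.2 ≠ p.1.1 := fun h => p.2.2 (h ▸ p.2.1)
      have hne' : p'.1.2 ≠ p'.1.1 := fun h => p'.2.2 (h ▸ p'.2.1)
      obtain ⟨h1, h2⟩ := single_sub_single_inj hne hne' h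
      congr 1
      exact Subtype.ext (Prod.ext h1 h2)
    · exfalso
      have hne : p.1.2 ≠ p.1.1 := fun h => p.2.2 (h ▸ p.2.1)
      have hne' : p'.1.2 ≠ p'.1.1 := fun h => p'.2.2 (h ▸ p'.2.1)
      obtain ⟨h1, -⟩ := single_sub_single_inj hne hne' h
      exact hdisj p.1.1 p.2.1 (h1 ▸ p'.2.1)
    · exfalso
      have hne : p.1.2 ≠ p.1.1 := fun h => p.2.2 (h ▸ p.2.1)
      have hne' : p'.1.2 ≠ p'.1.1 := fun h => p'.2.2 (h ▸ p'.2.1)
      obtain ⟨h1, -⟩ := single_sub_single_inj hne hne' h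
      exact hdisj p'.1.1 p'.2.1 (h1 ▸ p.2.1)
    · have hne : p.1.2 ≠ p.1.1 := fun h => p.2.2 (h ▸ p.2.1)
      have hne' : p'.1.2 ≠ p'.1.1 := fun h => p'.2.2 (h ▸ p'.2.1)
      obtain ⟨h1, h2⟩ := single_sub_single_inj hne hne' h
      congr 1
      exact Subtype.ext (Prod.ext h1 h2)
  rw [finrank_iSup_indexed hI hfd (fun α => ∑ x, α x = 0) a ha]
  · rw [Fintype.sum_sum_type]
    have h1 : ∀ p : {p : σ × σ // P p.1 ∧ ¬ P p.2},
        Module.finrank k (tPiece I (a (Sum.inl p))) = 1 := fun p =>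
      finrank_tPiece_deg_P I hdisj hE hI hQne p.1.1 p.1.2 p.2.1 p.2.2
    have h2 : ∀ p : {p : σ × σ // Q p.1 ∧ ¬ Q p.2},
        Module.finrank k (tPiece I (a (Sum.inr p))) = 1 := fun p =>
      finrank_tPiece_deg_Q I hdisj hE hI hPne p.1.1 p.1.2 p.2.1 p.2.2
    simp only [h1, h2, Finset.sum_const, Finset.card_univ, smul_eq_mul, mul_one]
    rw [Fintype.card_congr (Equiv.subtypeProdEquivProd (p := P) (q := fun l => ¬ P l)),
      Fintype.card_congr (Equiv.subtypeProdEquivProd (p := Q) (q := fun l => ¬ Q l)),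
      Fintype.card_prod, Fintype.card_prod]
  · rintro (p | p)
    · exact sum_deg _ _
    · exact sum_deg _ _
  · intro α hα hnot
    apply tPiece_eq_bot_of_genData (gen P Q) α hI hGG
    by_contra hne
    rcases deg_of_genData_ne_bot I hdisj hE hP2 hQ2 α hα hne with ⟨i, l, hi, hl, rfl⟩ | ⟨j, l, hj, hl, rfl⟩
    · exact hnot (Sum.inl ⟨(i, l), hi, hl⟩) rfl
    · exact hnot (Sum.inr ⟨(j, l), hj, hl⟩) rfl

end Groth.Agent.Lib.Helper72.TwoPlane
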