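import Mathlib

/-!
Commutative algebras over a field with exactly two subalgebras.
-/

namespace Groth.Agent.Lib.Helper72.TwoSub
open Polynomial

section general
variable {κ A : Type*} [Field κ] [CommRing A] [Algebra κ A]

/-- The subalgebra `κ + I`. -/
def idealSub (I : Ideal A) : Subalgebra κ A where
  carrier := {a | ∃ c : κ, a - algebraMap κ A c ∈ I}
  mul_mem' := by
    rintro a b ⟨c, hc⟩ ⟨d, hd⟩
    refine ⟨c * d, ?_⟩
    have : a * b - algebraMap κ A (c * d) =
        (a - algebraMap κ A c) * b + algebraMap κ A c * (b - algebraMap κ A d) := by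
      rw [map_mul]; ring
    rw [this]; exact I.add_mem (I.mul_mem_right _ hc) (I.mul_mem_left _ hd)
  add_mem' := by
    rintro a b ⟨c, hc⟩ ⟨d, hd⟩
    refine ⟨c + d, ?_⟩
    have : a + b - algebraMap κ A (c + d) = (a - algebraMap κ A c) + (b - algebraMap κ A d) := by
      rw [map_add]; ring
    rw [this]; exact I.add_mem hc hd
  algebraMap_mem' := fun r => ⟨r, by simp⟩

lemma scalar_mem_ideal (I : Ideal A) (hI : I ≠ ⊤) (c : κ) (hc : algebraMap κ A c ∈ I) : c = 0 := by
  by_contra hc0
  apply hI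
  rw [Ideal.eq_top_iff_one]
  have : (1 : A) = algebraMap κ A c⁻¹ * algebraMap κ A c := by
    rw [← map_mul, inv_mul_cancel₀ hc0, map_one]
  rw [this]; exact I.mul_mem_left _ hc

lemma ideal_split (h : ∀ B : Subalgebra κ A, B = ⊥ ∨ B = ⊤) (I : Ideal A) (hI : I ≠ ⊤)
    (y : A) (hy : y ∈ I) (hy0 : y ≠ 0) (a : A) : ∃ c : κ, a - algebraMap κ A c ∈ I := by
  rcases h (idealSub I) with hb | ht
  · exfalso
    have hyS : y ∈ idealSub (κ := κ) I := ⟨0, by simpa using hy⟩
    rw [hb, Algebra.mem_bot] at hyS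
    obtain ⟨c, rfl⟩ := hyS
    have := scalar_mem_ideal I hI c hy
    rw [this, map_zero] at hy0
    exact hy0 rfl
  · have : a ∈ idealSub (κ := κ) I := by rw [ht]; exact Algebra.mem_top
    exact this

lemma span_singleton_ne_top_of_le (I : Ideal A) (hI : I ≠ ⊤) (y : A) (hy : y ∈ I) :
    Ideal.span {y} ≠ ⊤ := by
  intro htop
  apply hI
  rw [eq_top_iff, ← htop, Ideal.span_le]
  intro z hz
  rw [Set.mem_singleton_iff] at hz
  rw [hz]; exact hy

lemma exists_special [Nontrivial A] (h : ∀ B : Subalgebra κ A, B = ⊥ ∨ B = ⊤) (hF : ¬ IsField A) :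
    ∃ t : A, t ≠ 0 ∧ (t * t = 0 ∨ (t * t = t ∧ t ≠ 1)) ∧
      ∀ a : A, ∃ c d : κ, a = algebraMap κ A c + d • t := by
  obtain ⟨I, hI0, hI1⟩ := Ring.not_isField_iff_exists_ideal_bot_lt_and_lt_top.mp hF
  have hItop : I ≠ ⊤ := hI1.ne
  obtain ⟨y, hyI, hy0'⟩ := SetLike.exists_of_lt hI0
  have hy0 : y ≠ 0 := fun h0 => hy0' (by rw [h0]; exact Ideal.zero_mem _)
  by_cases hsq : y * y = 0
  · refine ⟨y, hy0, Or.inl hsq, ?_⟩
    intro a
    have hJ := span_singleton_ne_top_of_le I hItop y hyI
    have hyJ : y ∈ Ideal.span {y} := Ideal.subset_span rfl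
    obtain ⟨c, hc⟩ := ideal_split h _ hJ y hyJ hy0 a
    rw [Ideal.mem_span_singleton'] at hc
    obtain ⟨b, hb⟩ := hc
    obtain ⟨c', hc'⟩ := ideal_split h _ hJ y hyJ hy0 b
    rw [Ideal.mem_span_singleton'] at hc'
    obtain ⟨b', hb'⟩ := hc'
    refine ⟨c, c', ?_⟩
    rw [Algebra.smul_def]
    have h1 : b = algebraMap κ A c' + b' * y := by rw [hb']; ring
    have h2 : a = algebraMap κ A c + b * y := by rw [hb]; ring
    rw [h2, h1]
    linear_combination b' * hsq
  · -- idempotent case
    have hy2I : y * y ∈ I := I.mul_mem_left _ hyI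
    have hJ := span_singleton_ne_top_of_le I hItop (y * y) hy2I
    have hyJ : y * y ∈ Ideal.span {y * y} := Ideal.subset_span rfl
    obtain ⟨c, hc⟩ := ideal_split h _ hJ (y * y) hyJ hsq y
    rw [Ideal.mem_span_singleton'] at hc
    obtain ⟨z, hz⟩ := hc
    have hc0 : c = 0 := by
      apply scalar_mem_ideal I hItop c
      have : algebraMap κ A c = y - z * (y * y) := by rw [hz]; ring
      rw [this]; exact I.sub_mem hyI (I.mul_mem_left _ hy2I)
    rw [hc0, map_zero, sub_zero] at hz
    -- hz : z * (y * y) = y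
    have heI : z * y ∈ I := I.mul_mem_left _ hyI
    have hee : (z * y) * (z * y) = z * y := by
      calc (z * y) * (z * y) = z * (z * (y * y)) := by ring
        _ = z * y := by rw [hz]
    have he0 : z * y ≠ 0 := by
      intro h0
      apply hy0
      calc y = z * (y * y) := hz.symm
        _ = (z * y) * y := by ring
        _ = 0 := by rw [h0, zero_mul]
    have he1 : z * y ≠ 1 := by
      intro h1
      apply hItop
      rw [Ideal.eq_top_iff_one, ← h1]; exact heI
    refine ⟨z * y, he0, Or.inr ⟨hee, he1⟩, ?_⟩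
    intro a
    obtain ⟨e, hedef⟩ : ∃ e, e = z * y := ⟨_, rfl⟩
    rw [← hedef] at hee he0 he1 heI ⊢
    have hJe := span_singleton_ne_top_of_le I hItop e heI
    have heJ : e ∈ Ideal.span {e} := Ideal.subset_span rfl
    have hJ1 : Ideal.span {1 - e} ≠ ⊤ := by
      intro htop
      have : (1 : A) ∈ Ideal.span {1 - e} := by rw [htop]; exact Submodule.mem_top
      rw [Ideal.mem_span_singleton'] at this
      obtain ⟨s, hs⟩ := this
      apply he0
      calc e = e * 1 := by ring
        _ = e * (s * (1 - e)) := by rw [hs]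
        _ = s * (e - e * e) := by ring
        _ = 0 := by rw [hee, sub_self, mul_zero]
    have h1e0 : 1 - e ≠ 0 := fun h0 => he1 (by linear_combination -h0)
    have h1eJ : 1 - e ∈ Ideal.span {1 - e} := Ideal.subset_span rfl
    obtain ⟨c1, hc1⟩ := ideal_split h _ hJe e heJ he0 a
    rw [Ideal.mem_span_singleton'] at hc1
    obtain ⟨b, hb⟩ := hc1
    obtain ⟨c2, hc2⟩ := ideal_split h _ hJ1 (1 - e) h1eJ h1e0 b
    rw [Ideal.mem_span_singleton'] at hc2
    obtain ⟨s, hs⟩ := hc2
    refine ⟨c1, c2, ?_⟩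
    rw [Algebra.smul_def]
    have h1 : b = algebraMap κ A c2 + s * (1 - e) := by rw [hs]; ring
    have h2 : a = algebraMap κ A c1 + b * e := by rw [hb]; ring
    rw [h2, h1]
    linear_combination (-s) * hee

lemma prod_equiv (t : A) (ht0 : t ≠ 0) (ht1 : t ≠ 1) (hid : t * t = t)
    (hspan : ∀ a : A, ∃ c d : κ, a = algebraMap κ A c + d • t) :
    Nonempty (A ≃ₐ[κ] (κ × κ)) := by
  let L : κ × κ →ₗ[κ] A :=
    (LinearMap.fst κ κ κ).smulRight t + (LinearMap.snd κ κ κ).smulRight (1 - t)
  have hL : ∀ p : κ × κ, L p = p.1 • t + p.2 • (1 - t) := fun p => rfl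
  have h0 : t * (1 - t) = 0 := by linear_combination -hid
  have h1 : (1 - t) * (1 - t) = 1 - t := by linear_combination hid
  let φ : κ × κ →ₐ[κ] A := AlgHom.ofLinearMap L
    (by rw [hL]; simp)
    (by
      intro p q
      rw [hL, hL, hL]
      simp only [Prod.fst_mul, Prod.snd_mul, Algebra.smul_def, map_mul]
      linear_combination (algebraMap κ A p.1 * algebraMap κ A q.1) * (-hid)
        + (algebraMap κ A p.2 * algebraMap κ A q.2) * (-h1)
        + (-(algebraMap κ A p.1 * algebraMap κ A q.2) - algebraMap κ A p.2 * algebraMap κ A q.1) * h0)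
  have hφ : ∀ p : κ × κ, φ p = p.1 • t + p.2 • (1 - t) := fun p => rfl
  have h1t : 1 - t ≠ 0 := fun h => ht1 (by linear_combination -h)
  have hinj : Function.Injective φ := by
    rw [injective_iff_map_eq_zero]
    intro p hp
    rw [hφ] at hp
    have e1 : p.1 • t = 0 := by
      have := congrArg (fun w => w * t) hp
      simp only [add_mul, smul_mul_assoc, zero_mul] at this
      rw [hid, mul_comm (1 - t) t, h0, smul_zero, add_zero] at this
      exact this
    have e2 : p.2 • (1 - t) = 0 := by rw [e1, zero_add] at hp; exact hp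
    have e1' := (smul_eq_zero.mp e1).resolve_right ht0
    have e2' := (smul_eq_zero.mp e2).resolve_right h1t
    exact Prod.ext e1' e2'
  have hsurj : Function.Surjective φ := by
    intro a
    obtain ⟨c, d, rfl⟩ := hspan a
    refine ⟨(c + d, c), ?_⟩
    rw [hφ]
    simp only [Algebra.smul_def, map_add]
    ring
  exact ⟨(AlgEquiv.ofBijective φ ⟨hinj, hsurj⟩).symm⟩

lemma dual_equiv (t : A) (ht0 : t ≠ 0) (hsq : t * t = 0)
    (hspan : ∀ a : A, ∃ c d : κ, a = algebraMap κ A c + d • t) :
    Nonempty (A ≃ₐ[κ] DualNumber κ) := by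
  have hnt : Nontrivial A := ⟨⟨t, 0, ht0⟩⟩
  let φ : DualNumber κ →ₐ[κ] A :=
    DualNumber.lift ⟨(Algebra.ofId κ A, t), hsq, fun a => Commute.all _ _⟩
  have hφ : ∀ p : DualNumber κ, φ p = algebraMap κ A p.fst + algebraMap κ A p.snd * t :=
    fun p => DualNumber.lift_apply_apply _ p
  have ht1 : ∀ c : κ, algebraMap κ A c ≠ t ∨ c = 0 := by
    intro c
    by_cases hc : c = 0
    · exact Or.inr hc
    · left
      intro hct
      apply hc
      have : algebraMap κ A (c * c) = 0 := by rw [map_mul, hct, hsq]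
      have h2 : c * c = 0 := (map_eq_zero (algebraMap κ A)).mp this
      exact mul_self_eq_zero.mp h2
  have hinj : Function.Injective φ := by
    rw [injective_iff_map_eq_zero]
    intro p hp
    rw [hφ] at hp
    have e2 : p.snd = 0 := by
      by_contra hne
      have h1 : t = algebraMap κ A (-(p.snd)⁻¹ * p.fst) := by
        have hi : algebraMap κ A (p.snd)⁻¹ * algebraMap κ A p.snd = 1 := by
          rw [← map_mul, inv_mul_cancel₀ hne, map_one]
        rw [map_mul, map_neg]
        linear_combination (algebraMap κ A (p.snd)⁻¹) * hp - t * hi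
      rcases ht1 (-(p.snd)⁻¹ * p.fst) with h | h
      · exact h h1.symm
      · rw [h, map_zero] at h1; exact ht0 h1
    rw [e2, map_zero, zero_mul, add_zero] at hp
    have e1 : p.fst = 0 := (map_eq_zero (algebraMap κ A)).mp hp
    exact TrivSqZeroExt.ext e1 e2
  have hsurj : Function.Surjective φ := by
    intro a
    obtain ⟨c, d, rfl⟩ := hspan a
    refine ⟨TrivSqZeroExt.inl c + TrivSqZeroExt.inr d, ?_⟩
    rw [hφ]
    simp only [TrivSqZeroExt.fst_add, TrivSqZeroExt.snd_add, TrivSqZeroExt.fst_inl,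
      TrivSqZeroExt.fst_inr, TrivSqZeroExt.snd_inl, TrivSqZeroExt.snd_inr, add_zero, zero_add,
      Algebra.smul_def]
  exact ⟨(AlgEquiv.ofBijective φ ⟨hinj, hsurj⟩).symm⟩

lemma isIntegral_of_twoSub (h : ∀ B : Subalgebra κ A, B = ⊥ ∨ B = ⊤) (x : A) :
    IsIntegral κ x := by
  rcases h (Algebra.adjoin κ {x ^ 2}) with hb | ht
  · have : x ^ 2 ∈ Algebra.adjoin κ {x ^ 2} := Algebra.self_mem_adjoin_singleton κ _
    rw [hb, Algebra.mem_bot] at this
    obtain ⟨c, hc⟩ := this
    refine ⟨X ^ 2 - C c, monic_X_pow_sub_C c (by norm_num), ?_⟩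
    rw [← aeval_def]
    simp [hc]
  · have : x ∈ Algebra.adjoin κ {x ^ 2} := by rw [ht]; exact Algebra.mem_top
    rw [Algebra.adjoin_singleton_eq_range_aeval] at this
    obtain ⟨q, hq⟩ := this
    apply IsAlgebraic.isIntegral
    refine ⟨X - expand κ 2 q, ?_, ?_⟩
    · intro h0
      have := congrArg (fun g => g.coeff 1) h0
      simp [coeff_expand] at this
    · rw [map_sub, aeval_X, expand_aeval]
      have hq' : (aeval (x ^ 2)) q = x := hq
      rw [hq', sub_self]

end general

section field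
variable {κ A : Type*} [Field κ] [Field A] [Algebra κ A] [Algebra.IsAlgebraic κ A]

lemma field_case (h : ∀ B : Subalgebra κ A, B = ⊥ ∨ B = ⊤) (x : A)
    (hx : x ∉ (⊥ : Subalgebra κ A)) :
    Algebra.IsSeparable κ A ∨
      ∃ (p : ℕ) (a : κ), p.Prime ∧ CharP κ p ∧ (∀ b : κ, b ^ p ≠ a) ∧
        Nonempty (A ≃ₐ[κ] AdjoinRoot (X ^ p - C a)) := by
  classical
  obtain ⟨p, hp⟩ := CharP.exists κ
  rcases CharP.char_is_prime_or_zero κ p with hpp | hp0
  swap
  · subst hp0
    have : CharZero κ := CharP.charP_to_charZero κ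
    left
    infer_instance
  have : Fact p.Prime := ⟨hpp⟩
  have : ExpChar κ p := ExpChar.prime hpp
  have : CharP A p := charP_of_injective_algebraMap (algebraMap κ A).injective p
  rcases h (separableClosure κ A).toSubalgebra with hb | ht
  · right
    have hsc : separableClosure κ A = ⊥ :=
      IntermediateField.toSubalgebra_injective (hb.trans (IntermediateField.bot_toSubalgebra).symm)
    have : IsPurelyInseparable κ A := separableClosure.eq_bot_iff.mp hsc
    have hex := IsPurelyInseparable.pow_mem κ p x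
    obtain ⟨n, hndef⟩ : ∃ n, n = Nat.find hex := ⟨_, rfl⟩
    have hn := Nat.find_spec hex
    rw [← hndef] at hn
    have hxr : x ∉ (algebraMap κ A).range := by
      intro hr
      apply hx
      rw [Algebra.mem_bot]
      exact hr
    have hn0 : n ≠ 0 := by
      rintro rfl
      rw [pow_zero, pow_one] at hn
      exact hxr hn
    obtain ⟨m, rfl⟩ : ∃ m, n = m + 1 := ⟨n - 1, by omega⟩
    have hm : x ^ p ^ m ∉ (algebraMap κ A).range := by
      intro hr
      have := Nat.find_min' hex hr
      omega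
    obtain ⟨y, hy⟩ : ∃ y, y = x ^ p ^ m := ⟨_, rfl⟩
    rw [← hy] at hm
    have hyp : y ^ p ∈ (algebraMap κ A).range := by
      rw [hy, ← pow_mul, ← pow_succ]; exact hn
    obtain ⟨a, ha⟩ := hyp
    have hnp : ∀ b : κ, b ^ p ≠ a := by
      intro b hb
      apply hm
      refine ⟨b, ?_⟩
      have h1 : (y - algebraMap κ A b) ^ p = 0 := by
        rw [sub_pow_char, ← map_pow, hb, ha, sub_self]
      have h2 := pow_eq_zero_iff (hpp.ne_zero) |>.mp h1
      exact (sub_eq_zero.mp h2).symm
    refine ⟨p, a, hpp, hp, hnp, ?_⟩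
    have hirr : Irreducible (X ^ p - C a : κ[X]) := X_pow_sub_C_irreducible_of_prime hpp hnp
    have hroot : aeval y (X ^ p - C a : κ[X]) = 0 := by
      simp [ha]
    have hmin : (X ^ p - C a : κ[X]) = minpoly κ y :=
      minpoly.eq_of_irreducible_of_monic hirr hroot (monic_X_pow_sub_C a hpp.ne_zero)
    have hadj : Algebra.adjoin κ {y} = ⊤ := by
      refine (h _).resolve_left ?_
      intro hbot
      apply hm
      have : y ∈ Algebra.adjoin κ {y} := Algebra.self_mem_adjoin_singleton κ y
      rw [hbot, Algebra.mem_bot] at this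
      exact this
    have e1 := AlgEquiv.adjoinSingletonEquivAdjoinRootMinpoly κ y
    rw [← hmin] at e1
    exact ⟨((Subalgebra.equivOfEq _ _ hadj).trans Subalgebra.topEquiv).symm.trans e1⟩
  · left
    have hsc : separableClosure κ A = ⊤ :=
      IntermediateField.toSubalgebra_injective (ht.trans (IntermediateField.top_toSubalgebra).symm)
    exact (separableClosure.eq_top_iff κ A).mp hsc

end field

end Groth.Agent.Lib.Helper72.TwoSub
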