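/-
Helper72: twisted (SU(r)-normalised) orthogonality of alternants on the alcove set `Dset`.
-/
import Mathlib
import Groth.Agent.Lib.Helper72.VerlindeB

set_option autoImplicit false

open Finset Equiv

namespace Groth.Agent.Lib.Helper72.Verlinde

variable {r : ℕ}

/-- the index set of the statements: strictly decreasing tuples in `[0, N)` with last entry `0`. -/
def Dset (r N : ℕ) : Finset (Fin r → Fin N) :=
  (univ : Finset (Fin r → Fin N)).filter
    (fun v => StrictAnti v ∧ ∀ i : Fin r, (i : ℕ) = r - 1 → (v i : ℕ) = 0)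

lemma Dset_eq {N : ℕ} [NeZero N] (hr : 1 ≤ r) :
    Dset r N = (univ : Finset (Fin r → Fin N)).filter
      (fun v => StrictAnti v ∧ (0 : Fin N) ∈ Set.range v) := by
  ext v
  simp only [Dset, Finset.mem_filter, Finset.mem_univ, true_and]
  constructor
  · rintro ⟨hsa, h0⟩
    refine ⟨hsa, ⟨⟨r - 1, by omega⟩, ?_⟩⟩
    apply Fin.ext
    rw [h0 _ rfl]
    rfl
  · rintro ⟨hsa, j, hj⟩
    refine ⟨hsa, fun i hi => ?_⟩
    have hji : j ≤ i := by
      rw [Fin.le_def, hi]
      have := j.2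
      omega
    have h1 : v i ≤ v j := hsa.antitone hji
    rw [hj, Fin.le_def] at h1
    simpa using h1

lemma zeta_mul_zpow {N : ℕ} (hr : r ≠ 0) (l : ℤ) :
    zeta (r * N) ^ ((r : ℤ) * l) = zeta N ^ l := by
  unfold zeta
  rw [← Complex.exp_int_mul, ← Complex.exp_int_mul]
  congr 1
  have : (r : ℂ) ≠ 0 := Nat.cast_ne_zero.mpr hr
  push_cast
  by_cases hN : (N : ℂ) = 0
  · simp [hN]
  · field_simp

/-- the twisted product. -/
noncomputable def FF (r N : ℕ) (a b : Fin r → ℤ) (w : Fin r → ℤ) : ℂ :=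
  zeta (r * N) ^ (-((∑ i, a i - ∑ i, b i) * ∑ j, w j)) *
    (altZ N a w * altZ N (fun i => - b i) w)

lemma FF_perm (N : ℕ) (a b w : Fin r → ℤ) (σ : Perm (Fin r)) :
    FF r N a b (w ∘ σ) = FF r N a b w := by
  unfold FF
  rw [altZ_comp_perm_right, altZ_comp_perm_right]
  have h1 : ∑ j, (w ∘ σ) j = ∑ j, w j := Equiv.sum_comp σ w
  rw [h1]
  have := sign_mul_sign σ
  linear_combination (zeta (r * N) ^ (-((∑ i, a i - ∑ i, b i) * ∑ j, w j)) *
    altZ N a w * altZ N (fun i => -b i) w) * this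

lemma FF_congr_mod {N : ℕ} (hN : N ≠ 0) (a b w w' : Fin r → ℤ)
    (h : ∀ j, (N : ℤ) ∣ w' j - w j) :
    FF r N a b w' =
      zeta (r * N) ^ (-((∑ i, a i - ∑ i, b i) * (∑ j, w' j - ∑ j, w j))) * FF r N a b w := by
  unfold FF
  rw [altZ_congr_mod hN a w' w h, altZ_congr_mod hN _ w' w h]
  have : zeta (r * N) ^ (-((∑ i, a i - ∑ i, b i) * ∑ j, w' j)) =
      zeta (r * N) ^ (-((∑ i, a i - ∑ i, b i) * (∑ j, w' j - ∑ j, w j))) *
        zeta (r * N) ^ (-((∑ i, a i - ∑ i, b i) * ∑ j, w j)) := by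
    rw [← zpow_add₀ (zeta_ne_zero _)]
    congr 1
    ring
  rw [this]
  ring

lemma FF_shift {N : ℕ} (hr : r ≠ 0) (a b w : Fin r → ℤ) (c : ℤ) :
    FF r N a b (fun j => w j + c) = FF r N a b w := by
  unfold FF
  rw [altZ_add_const_right, altZ_add_const_right]
  have h1 : ∑ j : Fin r, (w j + c) = ∑ j, w j + (r : ℤ) * c := by
    rw [Finset.sum_add_distrib]
    simp
  rw [h1]
  have h2 : zeta (r * N) ^ (-((∑ i, a i - ∑ i, b i) * (∑ j, w j + (r : ℤ) * c))) =
      zeta (r * N) ^ (-((∑ i, a i - ∑ i, b i) * ∑ j, w j)) *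
        zeta N ^ (-((∑ i, a i - ∑ i, b i) * c)) := by
    rw [← zeta_mul_zpow (N := N) hr, ← zpow_add₀ (zeta_ne_zero _)]
    congr 1
    ring
  rw [h2]
  have h3 : zeta N ^ (-((∑ i, a i - ∑ i, b i) * c)) * (zeta N ^ (c * ∑ i, a i) *
      zeta N ^ (c * ∑ i, - b i)) = 1 := by
    rw [← zpow_add₀ (zeta_ne_zero _), ← zpow_add₀ (zeta_ne_zero _), Finset.sum_neg_distrib]
    have : -((∑ i, a i - ∑ i, b i) * c) + (c * ∑ i, a i + c * -∑ i, b i) = 0 := by ring
    rw [this, zpow_zero]
  linear_combination (zeta (r * N) ^ (-((∑ i, a i - ∑ i, b i) * ∑ j, w j)) *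
    altZ N a w * altZ N (fun i => -b i) w) * h3

/-- number of entries of `u` below `c`. -/
def cnt {N : ℕ} (u : Fin r → Fin N) (c : Fin N) : ℕ := (univ.filter (fun j => u j < c)).card

lemma lift_sub {N : ℕ} [NeZero N] (u : Fin r → Fin N) (c : Fin N) (j : Fin r) :
    lift (fun j => u j - c) j =
      (lift u j + (-((c : ℕ) : ℤ))) + (if u j < c then (N : ℤ) else 0) := by
  simp only [lift]
  split_ifs with h
  · have := (Fin.coe_sub_iff_lt (a := u j) (b := c)).mpr h
    rw [this]
    have h1 : (c : ℕ) ≤ N + (u j : ℕ) := by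
      have := c.2
      omega
    push_cast [Nat.cast_sub h1]
    ring
  · have h' : c ≤ u j := not_lt.mp h
    have := (Fin.coe_sub_iff_le (a := u j) (b := c)).mpr h'
    rw [this]
    have h1 : (c : ℕ) ≤ (u j : ℕ) := h'
    push_cast [Nat.cast_sub h1]
    ring

lemma FF_lift_sub {N : ℕ} [NeZero N] (hr : r ≠ 0) (a b : Fin r → ℤ) (u : Fin r → Fin N) (c : Fin N) :
    FF r N a b (lift (fun j => u j - c)) =
      (zeta (r * N) ^ (-((∑ i, a i - ∑ i, b i) * (N : ℤ)))) ^ (cnt u c) * FF r N a b (lift u) := by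
  have hN : N ≠ 0 := NeZero.ne N
  have h1 : ∀ j, (N : ℤ) ∣ lift (fun j => u j - c) j - (fun j => lift u j + (-((c : ℕ) : ℤ))) j := by
    intro j
    rw [lift_sub]
    split_ifs <;> simp
  rw [FF_congr_mod hN a b _ _ h1, FF_shift hr]
  congr 1
  rw [← zpow_natCast, ← zpow_mul]
  congr 1
  have h2 : ∑ j, lift (fun j => u j - c) j - ∑ j : Fin r, (lift u j + (-((c : ℕ) : ℤ))) =
      (N : ℤ) * (cnt u c : ℤ) := by
    rw [← Finset.sum_sub_distrib]
    have : ∀ j : Fin r, lift (fun j => u j - c) j - (lift u j + (-((c : ℕ) : ℤ))) =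
        if u j < c then (N : ℤ) else 0 := by
      intro j
      rw [lift_sub]
      ring
    rw [Finset.sum_congr rfl (fun j _ => this j), ← Finset.sum_filter, Finset.sum_const, cnt]
    simp [mul_comm]
  rw [h2]
  ring

lemma cnt_lt {N : ℕ} (u : Fin r → Fin N) (j : Fin r) : cnt u (u j) < r := by
  unfold cnt
  have h1 : (univ.filter (fun j' => u j' < u j)) ⊆ (univ : Finset (Fin r)).erase j := by
    intro x hx
    simp only [Finset.mem_filter, Finset.mem_univ, true_and] at hx
    simp only [Finset.mem_erase, Finset.mem_univ, and_true]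
    rintro rfl
    exact lt_irrefl _ hx
  have h2 := Finset.card_le_card h1
  rw [Finset.card_erase_of_mem (Finset.mem_univ j), Finset.card_univ, Fintype.card_fin] at h2
  have := j.2
  omega

lemma cnt_strictMono {N : ℕ} (u : Fin r → Fin N) {j j' : Fin r} (h : u j < u j') :
    cnt u (u j) < cnt u (u j') := by
  unfold cnt
  apply Finset.card_lt_card
  rw [Finset.ssubset_iff_of_subset]
  · refine ⟨j, ?_, ?_⟩
    · simp [h]
    · simp
  · intro x hx
    simp only [Finset.mem_filter, Finset.mem_univ, true_and] at hx ⊢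
    exact lt_trans hx h

/-- the rank sum: over an injective tuple, the ranks of its entries are `0, …, r-1`. -/
lemma sum_pow_cnt {N : ℕ} (u : Fin r → Fin N) (hu : Function.Injective u) (ε : ℂ) :
    ∑ j : Fin r, ε ^ cnt u (u j) = ∑ i ∈ Finset.range r, ε ^ i := by
  classical
  have hinj : Function.Injective (fun j : Fin r => cnt u (u j)) := by
    intro j j' h
    by_contra hne
    have hne' : u j ≠ u j' := fun h' => hne (hu h')
    rcases lt_or_gt_of_ne hne' with h1 | h1
    · exact absurd h (ne_of_lt (cnt_strictMono u h1))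
    · exact absurd h.symm (ne_of_lt (cnt_strictMono u h1))
  have himg : (univ : Finset (Fin r)).image (fun j : Fin r => cnt u (u j)) = Finset.range r := by
    apply Finset.eq_of_subset_of_card_le
    · intro x hx
      simp only [Finset.mem_image, Finset.mem_univ, true_and] at hx
      obtain ⟨j, rfl⟩ := hx
      exact Finset.mem_range.mpr (cnt_lt u j)
    · rw [Finset.card_image_of_injective _ hinj]
      simp
  rw [← himg, Finset.sum_image (fun x _ y _ h => hinj h)]

/-- twisted orthogonality, case `r ∤ t`: the sum over strictly decreasing tuples through `0`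
vanishes. -/
theorem twisted_sum_eq_zero {N : ℕ} [NeZero N] (hr : r ≠ 0) (a b : Fin r → ℤ)
    (ht : ¬ (r : ℤ) ∣ ∑ i, a i - ∑ i, b i) :
    ∑ v ∈ Dset r N, FF r N a b (lift v) = 0 := by
  classical
  have hN : N ≠ 0 := NeZero.ne N
  have hr1 : 1 ≤ r := Nat.one_le_iff_ne_zero.mpr hr
  set t : ℤ := ∑ i, a i - ∑ i, b i with ht_def
  set ε : ℂ := zeta (r * N) ^ (-(t * (N : ℤ))) with hε
  set G0 : (Fin r → Fin N) → ℂ := fun v => FF r N a b (lift v) with hG0
  have hsym : ∀ (σ : Perm (Fin r)) (v : Fin r → Fin N), G0 (v ∘ σ) = G0 v := by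
    intro σ v
    exact FF_perm N a b (lift v) σ
  have hinj : ∀ v : Fin r → Fin N, ¬ Function.Injective v → G0 v = 0 := by
    intro v hv
    simp only [hG0, FF]
    have := GG_inj hN a b v hv
    unfold GG at this
    rw [this, mul_zero]
  -- T = ∑ 1[0 ∈ range] G0
  have hT := sum_ite_mem_range_eq (K := ℂ) G0 hsym hinj (0 : Fin N)
  rw [← Dset_eq hr1] at hT
  -- shift by c
  have hTc : ∀ c : Fin N, ∑ v : Fin r → Fin N, (if (0 : Fin N) ∈ Set.range v then G0 v else 0) =
      ∑ u : Fin r → Fin N, (if c ∈ Set.range u then ε ^ cnt u c * G0 u else 0) := by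
    intro c
    symm
    refine Fintype.sum_equiv (Equiv.subRight (fun _ : Fin r => c)) _ _ (fun u => ?_)
    have h1 : (Equiv.subRight (fun _ : Fin r => c)) u = fun j => u j - c := by
      funext j
      simp
    rw [h1]
    have h2 : ((0 : Fin N) ∈ Set.range (fun j => u j - c)) ↔ c ∈ Set.range u := by
      simp only [Set.mem_range]
      constructor
      · rintro ⟨j, hj⟩
        exact ⟨j, sub_eq_zero.mp hj⟩
      · rintro ⟨j, hj⟩
        exact ⟨j, sub_eq_zero.mpr hj⟩
    simp only [h2]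
    split_ifs
    · simp only [hG0]
      rw [FF_lift_sub hr]
    · rfl
  -- geometric sum vanishes
  have hεr : ε ^ r = 1 := by
    rw [hε, ← zpow_natCast, ← zpow_mul]
    have : -(t * (N : ℤ)) * (r : ℤ) = ((r * N : ℕ) : ℤ) * (-t) := by push_cast; ring
    rw [this, zpow_mul, zpow_natCast, (zeta_prim (Nat.mul_ne_zero hr hN)).pow_eq_one, one_zpow]
  have hε1 : ε ≠ 1 := by
    rw [hε]
    intro h
    rw [zeta_zpow_eq_one_iff (Nat.mul_ne_zero hr hN)] at h
    apply ht
    have h' : ((r : ℤ) * (N : ℤ)) ∣ t * (N : ℤ) := by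
      have : ((r * N : ℕ) : ℤ) = (r : ℤ) * (N : ℤ) := by push_cast; ring
      rw [this] at h
      exact (dvd_neg.mp h)
    exact Int.dvd_of_mul_dvd_mul_right (Nat.cast_ne_zero.mpr hN) h'
  have hgeom : ∑ i ∈ Finset.range r, ε ^ i = 0 := by
    have h3 := geom_sum_mul ε r
    rw [hεr, sub_self] at h3
    rcases mul_eq_zero.mp h3 with h4 | h4
    · exact h4
    · exact absurd (sub_eq_zero.mp h4) hε1
  -- sum over c
  have hsum : (N : ℂ) * ∑ v : Fin r → Fin N, (if (0 : Fin N) ∈ Set.range v then G0 v else 0) = 0 := by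
    have : (N : ℂ) * ∑ v : Fin r → Fin N, (if (0 : Fin N) ∈ Set.range v then G0 v else 0) =
        ∑ c : Fin N, ∑ u : Fin r → Fin N, (if c ∈ Set.range u then ε ^ cnt u c * G0 u else 0) := by
      rw [← Finset.sum_congr rfl (fun c _ => hTc c)]
      simp
    rw [this, Finset.sum_comm]
    refine Finset.sum_eq_zero (fun u _ => ?_)
    by_cases hu : Function.Injective u
    · have h5 : ∑ c : Fin N, (if c ∈ Set.range u then ε ^ cnt u c * G0 u else 0) =
          (∑ j : Fin r, ε ^ cnt u (u j)) * G0 u := by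
        rw [Finset.sum_mul, ← Finset.sum_filter]
        have h6 : (univ : Finset (Fin N)).filter (fun c => c ∈ Set.range u) =
            (univ : Finset (Fin r)).image u := by
          ext c
          simp [Set.mem_range]
        rw [h6, Finset.sum_image (fun x _ y _ h => hu h)]
      rw [h5, sum_pow_cnt u hu, hgeom, zero_mul]
    · simp [hinj u hu]
  rw [hT] at hsum
  have hNC : (N : ℂ) ≠ 0 := Nat.cast_ne_zero.mpr hN
  have hf : (r.factorial : ℂ) ≠ 0 := Nat.cast_ne_zero.mpr (Nat.factorial_ne_zero r)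
  rcases mul_eq_zero.mp hsum with h | h
  · exact absurd h hNC
  · rcases mul_eq_zero.mp h with h | h
    · exact absurd h hf
    · exact h

end Groth.Agent.Lib.Helper72.Verlinde
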