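/-
Helper72: final forms of the orthogonality relations for the VerlindeComb family.
-/
import Mathlib
import Groth.Agent.Lib.Helper72.VerlindeC

set_option autoImplicit false

open Finset Equiv

namespace Groth.Agent.Lib.Helper72.Verlinde

variable {r : ℕ}

lemma altZ_add_const_left (N : ℕ) (a v : Fin r → ℤ) (c : ℤ) :
    altZ N (fun i => a i + c) v = zeta N ^ (c * ∑ j, v j) * altZ N a v := by
  rw [altZ_transpose, altZ_add_const_right, altZ_transpose]

lemma altZ_comp_perm_left (N : ℕ) (a v : Fin r → ℤ) (σ : Perm (Fin r)) :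
    altZ N (a ∘ σ) v = ((Perm.sign σ : ℤ) : ℂ) * altZ N a v := by
  rw [altZ_transpose, altZ_comp_perm_right, altZ_transpose]

lemma altZ_neg_left_eq_neg_right (N : ℕ) (a v : Fin r → ℤ) :
    altZ N (fun i => - a i) v = altZ N a (fun j => - v j) := by
  unfold altZ
  congr 1
  ext i j
  simp only [Matrix.of_apply]
  congr 1
  ring

/-- twisted orthogonality on `Dset`. -/
theorem twisted_orth {N : ℕ} [NeZero N] (hr : r ≠ 0) (a b : Fin r → ℤ)
    (ha : StrictAnti a) (hb : StrictAnti b)
    (hsa : ∀ i j, a i - a j < N) (hsb : ∀ i j, b i - b j < N)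
    (hne : ¬ ∃ c : ℤ, ∀ i, a i - b i = c) :
    ∑ v ∈ Dset r N, FF r N a b (lift v) = 0 := by
  have hN : N ≠ 0 := NeZero.ne N
  have hr1 : 1 ≤ r := Nat.one_le_iff_ne_zero.mpr hr
  by_cases ht : (r : ℤ) ∣ ∑ i, a i - ∑ i, b i
  · obtain ⟨s, hs⟩ := ht
    set b' : Fin r → ℤ := fun i => b i + s with hb'
    have hFF : ∀ w : Fin r → ℤ, FF r N a b w = altZ N a w * altZ N (fun i => - b' i) w := by
      intro w
      unfold FF
      have h1 : (fun i => - b' i) = fun i => (- b i) + (-s) := by
        funext i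
        simp [hb']
        ring
      rw [h1, altZ_add_const_left, hs, mul_assoc, ← zeta_mul_zpow (N := N) hr (-s * ∑ j, w j)]
      have : -((r : ℤ) * (s * ∑ j, w j)) = (r : ℤ) * (-s * ∑ j, w j) := by ring
      rw [this]
      ring
    have hsum' : ∑ i, a i = ∑ i, b' i := by
      simp only [hb', Finset.sum_add_distrib, Finset.sum_const, Finset.card_univ, Fintype.card_fin,
        nsmul_eq_mul]
      linarith
    have hne' : a ≠ b' := by
      intro h
      apply hne
      refine ⟨s, fun i => ?_⟩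
      have := congrFun h i
      simp only [hb'] at this
      linarith
    have hb's : StrictAnti b' := fun i j hij => by
      simp only [hb']
      have := hb hij
      linarith
    have hsb' : ∀ i j, b' i - b' j < N := fun i j => by
      simp only [hb']
      have := hsb i j
      linarith
    have hdet := matchM_det_eq_zero a b' ha hb's hsa hsb' hsum' hne'
    have hpin := core_pin (N := N) a b' (by rw [hsum', sub_self]; exact dvd_zero _) (0 : Fin N)
    rw [hdet, mul_zero, mul_zero, ← Dset_eq hr1] at hpin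
    have hNC : (N : ℂ) ≠ 0 := Nat.cast_ne_zero.mpr hN
    rcases mul_eq_zero.mp hpin with h | h
    · exact absurd h hNC
    · rw [← h]
      refine Finset.sum_congr rfl (fun v _ => ?_)
      rw [hFF]
      rfl
  · exact twisted_sum_eq_zero hr a b ht

/-- sum of squares over strictly decreasing exponent tuples avoiding one value. -/
theorem sum_not_mem_range {N : ℕ} [NeZero N] (hr : r ≠ 0) (v : Fin r → ℤ)
    (hv : ∀ i j, i ≠ j → ¬ (N : ℤ) ∣ v i - v j) (c0 : Fin N) :
    ∑ a ∈ (univ : Finset (Fin r → Fin N)).filter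
        (fun a => StrictAnti a ∧ c0 ∉ Set.range a), GG N v v a =
      ((N : ℂ) - r) * (N : ℂ) ^ (r - 1) := by
  classical
  have hN : N ≠ 0 := NeZero.ne N
  have hNC : (N : ℂ) ≠ 0 := Nat.cast_ne_zero.mpr hN
  have h1 := core_SA hN v v
  have h2 := core_pin (N := N) v v (by rw [sub_self]; exact dvd_zero _) c0
  rw [matchM_self v hv, Matrix.det_one, mul_one] at h1 h2
  have h3 : ∑ a ∈ (univ : Finset (Fin r → Fin N)).filter StrictAnti, GG N v v a =
      ∑ a ∈ (univ : Finset (Fin r → Fin N)).filter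
        (fun a => StrictAnti a ∧ c0 ∈ Set.range a), GG N v v a +
      ∑ a ∈ (univ : Finset (Fin r → Fin N)).filter
        (fun a => StrictAnti a ∧ c0 ∉ Set.range a), GG N v v a := by
    rw [← Finset.sum_filter_add_sum_filter_not ((univ : Finset (Fin r → Fin N)).filter StrictAnti)
      (fun a => c0 ∈ Set.range a), Finset.filter_filter, Finset.filter_filter]
  rw [h1] at h3
  have h4 : (N : ℂ) ^ r = (N : ℂ) * (N : ℂ) ^ (r - 1) := by
    rw [← pow_succ']
    congr 1
    omega
  have h5 : ∑ a ∈ (univ : Finset (Fin r → Fin N)).filter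
        (fun a => StrictAnti a ∧ c0 ∈ Set.range a), GG N v v a = (r : ℂ) * (N : ℂ) ^ (r - 1) := by
    have : (N : ℂ) * ∑ a ∈ (univ : Finset (Fin r → Fin N)).filter
        (fun a => StrictAnti a ∧ c0 ∈ Set.range a), GG N v v a =
        (N : ℂ) * ((r : ℂ) * (N : ℂ) ^ (r - 1)) := by
      rw [h2, h4]
      ring
    exact mul_left_cancel₀ hNC this
  rw [h5, h4] at h3
  linear_combination -h3

/-- sum over `Dset` in the untwisted case `a = b`. -/
theorem sum_Dset_self {N : ℕ} [NeZero N] (hr : r ≠ 0) (a : Fin r → ℤ)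
    (ha : ∀ i j, i ≠ j → ¬ (N : ℤ) ∣ a i - a j) :
    ∑ v ∈ Dset r N, GG N a a v = (r : ℂ) * (N : ℂ) ^ (r - 1) := by
  have hN : N ≠ 0 := NeZero.ne N
  have hNC : (N : ℂ) ≠ 0 := Nat.cast_ne_zero.mpr hN
  have hr1 : 1 ≤ r := Nat.one_le_iff_ne_zero.mpr hr
  have h2 := core_pin (N := N) a a (by rw [sub_self]; exact dvd_zero _) (0 : Fin N)
  rw [matchM_self a ha, Matrix.det_one, mul_one, ← Dset_eq hr1] at h2
  have h4 : (N : ℂ) ^ r = (N : ℂ) * (N : ℂ) ^ (r - 1) := by
    rw [← pow_succ']
    congr 1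
    omega
  have : (N : ℂ) * ∑ v ∈ Dset r N, GG N a a v = (N : ℂ) * ((r : ℂ) * (N : ℂ) ^ (r - 1)) := by
    rw [h2, h4]
    ring
  exact mul_left_cancel₀ hNC this

end Groth.Agent.Lib.Helper72.Verlinde
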