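/-
Helper72: glue between the statements' expressions and the alternants `altZ` (VerlindeComb family).
-/
import Mathlib
import Groth.Agent.Lib.Helper72.VerlindeD

set_option autoImplicit false

open Finset Equiv

namespace Groth.Agent.Lib.Helper72.Verlinde

variable {r : ℕ}

lemma exp_eq_zeta_pow (N : ℕ) (x : ℕ) :
    Complex.exp (2 * Real.pi * Complex.I * (x : ℂ) / (N : ℂ)) = zeta N ^ x := by
  unfold zeta
  rw [← Complex.exp_nat_mul]
  congr 1
  ring

lemma exp_eq_zeta_zpow (N : ℕ) (x : ℤ) :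
    Complex.exp (2 * Real.pi * Complex.I * (x : ℂ) / (N : ℂ)) = zeta N ^ x := by
  unfold zeta
  rw [← Complex.exp_int_mul]
  congr 1
  ring

/-- the matrices of the statements are alternants. -/
lemma det_pow_eq_altZ (N : ℕ) (z : Fin r → ℂ) (v e : Fin r → ℕ) (hz : ∀ j, z j = zeta N ^ v j) :
    (Matrix.of fun i j : Fin r => z j ^ e i).det =
      altZ N (fun i => (e i : ℤ)) (fun j => (v j : ℤ)) := by
  unfold altZ
  congr 1
  ext i j
  simp only [Matrix.of_apply]
  rw [hz, ← pow_mul, ← zpow_natCast]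
  congr 1
  push_cast
  ring

/-- reflection: `altZ (C - e ∘ rev) w = sign(rev) ζ^{C Σ w} conj (altZ e w)`. -/
lemma altZ_reflect (N : ℕ) (e w : Fin r → ℤ) (C : ℤ) :
    altZ N (fun i => C - e (Fin.rev i)) w =
      ((Perm.sign (Fin.revPerm : Perm (Fin r)) : ℤ) : ℂ) * zeta N ^ (C * ∑ j, w j) *
        (starRingEnd ℂ) (altZ N e w) := by
  have h1 : (fun i => C - e (Fin.rev i)) = fun i => ((fun i => - e i) ∘ (Fin.revPerm : Perm (Fin r))) i + C := by
    funext i
    simp [Fin.revPerm_apply]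
    ring
  rw [h1, altZ_add_const_left, altZ_comp_perm_left, conj_altZ]
  ring


lemma normSq_zeta_sub (N : ℕ) (x y : ℤ) :
    Complex.normSq (zeta N ^ x - zeta N ^ y) =
      ((2 : ℝ) * Real.sin (Real.pi * ((x : ℝ) - (y : ℝ)) / (N : ℝ))) ^ 2 := by
  have hx : ∀ x : ℤ, zeta N ^ x = Complex.exp (((2 * Real.pi * (x : ℝ) / (N : ℝ) : ℝ) : ℂ) * Complex.I) := by
    intro x
    rw [← exp_eq_zeta_zpow]
    congr 1
    push_cast
    ring
  rw [hx x, hx y, Complex.normSq_apply]
  simp only [Complex.sub_re, Complex.sub_im, Complex.exp_ofReal_mul_I_re, Complex.exp_ofReal_mul_I_im]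
  set α : ℝ := 2 * Real.pi * (x : ℝ) / (N : ℝ) with hα
  set β : ℝ := 2 * Real.pi * (y : ℝ) / (N : ℝ) with hβ
  have hθ : Real.pi * ((x : ℝ) - (y : ℝ)) / (N : ℝ) = (α - β) / 2 := by
    rw [hα, hβ]; ring
  rw [hθ]
  have h1 : Real.cos (α - β) = 1 - 2 * Real.sin ((α - β) / 2) ^ 2 := by
    have : α - β = 2 * ((α - β) / 2) := by ring
    rw [this, Real.cos_two_mul, Real.sin_sq]
    ring_nf
  have h2 := Real.cos_sub α β
  have h3 := Real.sin_sq_add_cos_sq α
  have h4 := Real.sin_sq_add_cos_sq β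
  nlinarith [h1, h2, h3, h4]


lemma prod_prod_Ioi_eq {M : Type*} [CommMonoid M] (g : Fin r → Fin r → M) :
    ∏ i : Fin r, ∏ j ∈ Finset.Ioi i, g i j =
      ∏ p ∈ (Finset.univ : Finset (Fin r × Fin r)).filter (fun p => p.1 < p.2), g p.1 p.2 := by
  rw [Finset.prod_filter, ← Finset.univ_product_univ, Finset.prod_product]
  refine Finset.prod_congr rfl (fun i _ => ?_)
  rw [← Finset.prod_filter]
  congr 1
  ext j
  simp

/-- the Weyl denominator: `|altZ ρ v|² = ∏_{i<j} (2 sin (π (v i - v j)/N))²`. -/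
lemma normSq_altZ_rho (N : ℕ) (v : Fin r → ℤ) :
    Complex.normSq (altZ N (fun i : Fin r => ((r - 1 - (i : ℕ) : ℕ) : ℤ)) v) =
      ∏ p ∈ (Finset.univ : Finset (Fin r × Fin r)).filter (fun p => p.1 < p.2),
        ((2 : ℝ) * Real.sin (Real.pi * ((v p.1 : ℝ) - (v p.2 : ℝ)) / (N : ℝ))) ^ 2 := by
  set z : Fin r → ℂ := fun j => zeta N ^ v j with hz
  have hM : (Matrix.of fun i j : Fin r => zeta N ^ ((((r - 1 - (i : ℕ) : ℕ) : ℤ)) * v j)) =
      ((Matrix.vandermonde z).transpose).submatrix (Fin.revPerm : Perm (Fin r)) id := by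
    ext i j
    simp only [Matrix.of_apply, Matrix.submatrix_apply, Matrix.transpose_apply,
      Matrix.vandermonde_apply, id, Fin.revPerm_apply, Fin.val_rev, hz]
    rw [← zpow_natCast, ← zpow_mul]
    congr 1
    have : r - 1 - (i : ℕ) = r - ((i : ℕ) + 1) := by omega
    rw [this, mul_comm]
  unfold altZ
  rw [hM, Matrix.det_permute, Matrix.det_transpose, Matrix.det_vandermonde, map_mul, map_prod]
  have hs : Complex.normSq (((Perm.sign (Fin.revPerm : Perm (Fin r)) : ℤ) : ℂ)) = 1 := by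
    rcases Int.units_eq_one_or (Perm.sign (Fin.revPerm : Perm (Fin r))) with h | h <;> simp [h]
  rw [hs, one_mul]
  simp_rw [map_prod]
  rw [prod_prod_Ioi_eq (fun i j => Complex.normSq (z j - z i))]
  refine Finset.prod_congr rfl (fun p _ => ?_)
  simp only [hz]
  rw [normSq_zeta_sub]
  have : Real.pi * ((v p.2 : ℝ) - (v p.1 : ℝ)) / (N : ℝ) = -(Real.pi * ((v p.1 : ℝ) - (v p.2 : ℝ)) / (N : ℝ)) := by
    ring
  rw [this, Real.sin_neg]
  ring


lemma strictAnti_add_le {N : ℕ} (a : Fin r → Fin N) (ha : StrictAnti a) :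
    ∀ (d : ℕ) (i j : Fin r), (j : ℕ) = (i : ℕ) + d → (a j : ℕ) + d ≤ (a i : ℕ) := by
  intro d
  induction d with
  | zero =>
    intro i j h
    have : j = i := Fin.ext (by simpa using h)
    rw [this]
    simp
  | succ d ih =>
    intro i j h
    have hj' : (i : ℕ) + d < r := by
      have := j.2
      omega
    have h1 := ih i ⟨(i : ℕ) + d, hj'⟩ rfl
    have h2 : (⟨(i : ℕ) + d, hj'⟩ : Fin r) < j := by
      rw [Fin.lt_def]
      simp only
      omega
    have h3 : a j < a ⟨(i : ℕ) + d, hj'⟩ := ha h2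
    rw [Fin.lt_def] at h3
    omega

/-- partitions `μ` (weakly decreasing, entries `< K`) correspond to strictly decreasing exponent
vectors `a = μ + ρ`. -/
theorem sum_antitone_eq_sum_strictAnti (K N : ℕ) (hKN : K + r ≤ N + 1) (f : (Fin r → ℕ) → ℂ) :
    ∑ μ ∈ (univ : Finset (Fin r → Fin K)).filter Antitone,
        f (fun i => (μ i : ℕ) + (r - 1 - (i : ℕ))) =
      ∑ a ∈ (univ : Finset (Fin r → Fin N)).filter
        (fun a : Fin r → Fin N => StrictAnti a ∧ ∀ i, (a i : ℕ) + 1 < K + r),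
        f (fun i => (a i : ℕ)) := by
  refine Finset.sum_bij
    (fun μ _ => fun x => (⟨(μ x : ℕ) + (r - 1 - (x : ℕ)), by
      have h1 := (μ x).2
      have h2 := x.2
      omega⟩ : Fin N)) ?_ ?_ ?_ ?_
  · intro μ hμ
    simp only [Finset.mem_filter, Finset.mem_univ, true_and] at hμ ⊢
    refine ⟨?_, ?_⟩
    · intro x y hxy
      rw [Fin.lt_def] at hxy ⊢
      simp only
      have h1 : μ y ≤ μ x := hμ hxy.le
      rw [Fin.le_def] at h1
      have h2 := y.2
      omega
    · intro x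
      have h1 := (μ x).2
      have h2 := x.2
      show (μ x : ℕ) + (r - 1 - (x : ℕ)) + 1 < K + r
      omega
  · intro μ _ μ' _ h
    funext x
    have := congrFun h x
    simp only [Fin.mk.injEq] at this
    apply Fin.ext
    omega
  · intro a ha
    simp only [Finset.mem_filter, Finset.mem_univ, true_and] at ha
    obtain ⟨hsa, hbd⟩ := ha
    have hlow : ∀ x : Fin r, r - 1 - (x : ℕ) ≤ (a x : ℕ) := by
      intro x
      have hx := x.2
      have := strictAnti_add_le a hsa (r - 1 - (x : ℕ)) x ⟨r - 1, by omega⟩ (by simp only; omega)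
      omega
    have hup : ∀ x : Fin r, (a x : ℕ) - (r - 1 - (x : ℕ)) < K := by
      intro x
      have hx := x.2
      have h1 := strictAnti_add_le a hsa (x : ℕ) ⟨0, by omega⟩ x (by simp)
      have h2 := hbd ⟨0, by omega⟩
      have h3 := hlow x
      omega
    refine ⟨fun x => ⟨(a x : ℕ) - (r - 1 - (x : ℕ)), hup x⟩, ?_, ?_⟩
    · simp only [Finset.mem_filter, Finset.mem_univ, true_and]
      intro x y hxy
      rw [Fin.le_def] at hxy ⊢
      simp only
      have h1 := strictAnti_add_le a hsa ((y : ℕ) - (x : ℕ)) x y (by omega)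
      have h2 := hlow x
      have h3 := hlow y
      have h4 := y.2
      omega
    · funext x
      apply Fin.ext
      simp only
      have := hlow x
      omega
  · intro μ _
    rfl


/-- the exponent vector `ρ = (r-1, …, 0)`. -/
def rho (r : ℕ) : Fin r → ℤ := fun i => ((r - 1 - (i : ℕ) : ℕ) : ℤ)

lemma rho_inj_mod {N : ℕ} (hN : r ≤ N) (i j : Fin r) (hij : i ≠ j) :
    ¬ (N : ℤ) ∣ rho r i - rho r j := by
  intro h
  have hi := i.2
  have hj := j.2
  have h1 : rho r i - rho r j = (j : ℤ) - (i : ℤ) := by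
    simp only [rho]
    have e1 : r - 1 - (i : ℕ) + (i : ℕ) = r - 1 := by omega
    have e2 : r - 1 - (j : ℕ) + (j : ℕ) = r - 1 := by omega
    have e1' : ((r - 1 - (i : ℕ) : ℕ) : ℤ) + (i : ℤ) = ((r - 1 : ℕ) : ℤ) := by exact_mod_cast e1
    have e2' : ((r - 1 - (j : ℕ) : ℕ) : ℤ) + (j : ℤ) = ((r - 1 : ℕ) : ℤ) := by exact_mod_cast e2
    linarith
  rw [h1] at h
  have h2 : (j : ℤ) - (i : ℤ) = 0 := by
    apply Int.eq_zero_of_abs_lt_dvd h
    rw [abs_lt]
    constructor <;> omega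
  apply hij
  apply Fin.ext
  omega

/-- `GG a a` is a squared norm. -/
lemma GG_self_eq_normSq (N : ℕ) (a : Fin r → ℤ) (v : Fin r → Fin N) :
    GG N a a v = ((Complex.normSq (altZ N a (lift v)) : ℝ) : ℂ) := by
  unfold GG
  rw [← conj_altZ, Complex.mul_conj]

end Groth.Agent.Lib.Helper72.Verlinde
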