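/-
Helper72: further glue for the VerlindeComb family: nonvanishing of the Weyl denominator,
conjugate of the Weyl denominator, dual partitions, Schur values as alternant quotients.
-/
import Mathlib
import Groth.Agent.Lib.Helper72.VerlindeE

set_option autoImplicit false

open Finset Equiv

namespace Groth.Agent.Lib.Helper72.Verlinde

variable {r : ℕ}

/-- the sign of the reversal permutation, as a complex number. -/
noncomputable def sgnRev (r : ℕ) : ℂ := ((Perm.sign (Fin.revPerm : Perm (Fin r)) : ℤ) : ℂ)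

lemma sgnRev_mul_self (r : ℕ) : sgnRev r * sgnRev r = 1 := sign_mul_sign _

lemma sgnRev_ne_zero (r : ℕ) : sgnRev r ≠ 0 := by
  intro h
  have := sgnRev_mul_self r
  rw [h] at this
  simp at this

lemma zeta_zpow_ne_of_not_dvd {N : ℕ} (hN : N ≠ 0) {l l' : ℤ} (h : ¬ (N : ℤ) ∣ l - l') :
    zeta N ^ l ≠ zeta N ^ l' := by
  intro heq
  apply h
  rw [← zeta_zpow_eq_one_iff hN, zpow_sub₀ (zeta_ne_zero N), heq]
  exact div_self (zpow_ne_zero _ (zeta_ne_zero N))

/-- the Weyl denominator does not vanish at tuples injective mod `N`. -/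
lemma altZ_rho_ne_zero {N : ℕ} (hN : N ≠ 0) (w : Fin r → ℤ)
    (hw : ∀ i j, i ≠ j → ¬ (N : ℤ) ∣ w i - w j) : altZ N (rho r) w ≠ 0 := by
  intro h0
  have h1 := normSq_altZ_rho N w
  rw [show (fun i : Fin r => ((r - 1 - (i : ℕ) : ℕ) : ℤ)) = rho r from rfl, h0, map_zero] at h1
  have h2 := h1.symm
  rw [Finset.prod_eq_zero_iff] at h2
  obtain ⟨p, hp, hp0⟩ := h2
  simp only [Finset.mem_filter, Finset.mem_univ, true_and] at hp
  rw [← normSq_zeta_sub, Complex.normSq_eq_zero, sub_eq_zero] at hp0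
  exact zeta_zpow_ne_of_not_dvd hN (hw p.1 p.2 hp.ne) hp0

/-- the Weyl denominator is, up to sign and a phase, its own conjugate. -/
lemma altZ_rho_reflect (N : ℕ) (w : Fin r → ℤ) :
    altZ N (rho r) w = sgnRev r * zeta N ^ (((r : ℤ) - 1) * ∑ j, w j) *
      (starRingEnd ℂ) (altZ N (rho r) w) := by
  have h := altZ_reflect N (rho r) w ((r : ℤ) - 1)
  have h1 : (fun i : Fin r => ((r : ℤ) - 1) - rho r (Fin.rev i)) = rho r := by
    funext i
    simp only [rho, Fin.val_rev]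
    have := i.2
    omega
  rw [h1] at h
  exact h

lemma conj_altZ_rho (N : ℕ) (w : Fin r → ℤ) :
    (starRingEnd ℂ) (altZ N (rho r) w) =
      sgnRev r * zeta N ^ (-(((r : ℤ) - 1) * ∑ j, w j)) * altZ N (rho r) w := by
  have h := altZ_rho_reflect N w
  set A := altZ N (rho r) w
  set Z := zeta N ^ (((r : ℤ) - 1) * ∑ j, w j) with hZ
  have hZne : Z ≠ 0 := zpow_ne_zero _ (zeta_ne_zero N)
  rw [zpow_neg, ← hZ]
  calc (starRingEnd ℂ) A = (sgnRev r * sgnRev r) * (Z⁻¹ * Z) * (starRingEnd ℂ) A := by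
        rw [sgnRev_mul_self, inv_mul_cancel₀ hZne]; ring
    _ = sgnRev r * Z⁻¹ * (sgnRev r * Z * (starRingEnd ℂ) A) := by ring
    _ = sgnRev r * Z⁻¹ * A := by rw [← h]

/-- the alternant of the dual partition `μ* = (k - μ_r, …, k - μ_1)`. -/
lemma altZ_dual (k : ℕ) (μ : Fin r → ℕ) (hμ : ∀ i, μ i ≤ k) (w : Fin r → ℤ) :
    altZ (r + k) (fun i => ((k - μ (Fin.rev i) + (r - 1 - (i : ℕ)) : ℕ) : ℤ)) w =
      sgnRev r * zeta (r + k) ^ ((((r + k : ℕ) : ℤ) - 1) * ∑ j, w j) *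
        (starRingEnd ℂ) (altZ (r + k) (fun i => ((μ i + (r - 1 - (i : ℕ)) : ℕ) : ℤ)) w) := by
  set e : Fin r → ℤ := fun i => ((μ i + (r - 1 - (i : ℕ)) : ℕ) : ℤ) with he
  have h2 : (fun i : Fin r => ((k - μ (Fin.rev i) + (r - 1 - (i : ℕ)) : ℕ) : ℤ)) =
      fun i => (((r + k : ℕ) : ℤ) - 1) - e (Fin.rev i) := by
    funext i
    simp only [he, Fin.val_rev]
    have := i.2
    have := hμ (Fin.rev i)
    omega
  rw [h2, altZ_reflect]
  rfl

/-- Schur values at roots of unity are alternant quotients. -/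
lemma schur_eq (N : ℕ) (z : Fin r → ℂ) (v : Fin r → ℕ)
    (hz : ∀ j, z j = Complex.exp (2 * Real.pi * Complex.I * (v j : ℂ) / (N : ℂ)))
    (μ : Fin r → ℕ) :
    (Matrix.of fun i j : Fin r => z j ^ (μ i + (r - 1 - (i : ℕ)))).det /
        (Matrix.of fun i j : Fin r => z j ^ (r - 1 - (i : ℕ))).det =
      altZ N (fun i => ((μ i + (r - 1 - (i : ℕ)) : ℕ) : ℤ)) (fun j => (v j : ℤ)) /
        altZ N (rho r) (fun j => (v j : ℤ)) := by
  have hz' : ∀ j, z j = zeta N ^ v j := fun j => by rw [hz, exp_eq_zeta_pow]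
  rw [det_pow_eq_altZ N z v _ hz', det_pow_eq_altZ N z v _ hz']
  rfl

lemma sum_rho_rev (f : Fin r → ℤ) : ∑ i, f (Fin.rev i) = ∑ i, f i :=
  Equiv.sum_comp Fin.revPerm f

/-- strictly decreasing natural tuples below `N` are injective mod `N`. -/
lemma not_dvd_of_strictAnti {N : ℕ} (v : Fin r → ℕ) (hv : StrictAnti v) (hvlt : ∀ i, v i < N) :
    ∀ i j, i ≠ j → ¬ (N : ℤ) ∣ (v i : ℤ) - (v j : ℤ) := by
  intro i j hij hdvd
  have hi := hvlt i
  have hj := hvlt j
  have hne : v i ≠ v j := fun h => hij (hv.injective h)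
  have h0 : (v i : ℤ) - (v j : ℤ) = 0 := by
    apply Int.eq_zero_of_abs_lt_dvd hdvd
    rw [abs_lt]
    constructor <;> omega
  omega

/-- `μ + ρ` is strictly decreasing for antitone `μ`. -/
lemma strictAnti_add_rho (μ : Fin r → ℕ) (hμ : Antitone μ) :
    StrictAnti (fun i : Fin r => ((μ i + (r - 1 - (i : ℕ)) : ℕ) : ℤ)) := by
  intro i j hij
  have h1 := hμ hij.le
  have h2 : (i : ℕ) < (j : ℕ) := hij
  have h3 := j.2
  show ((μ j + (r - 1 - (j : ℕ)) : ℕ) : ℤ) < ((μ i + (r - 1 - (i : ℕ)) : ℕ) : ℤ)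
  omega

end Groth.Agent.Lib.Helper72.Verlinde
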