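/-
Helper72: the Weyl group of a finite crystallographic reduced root pairing is a Coxeter group
on the simple reflections (S2956), via the exchange condition and Matsumoto's theorem.
-/
import Mathlib
import Groth.Agent.Lib.Helper27.WeylBase
import Groth.Agent.Lib.Helper72.MatsumotoB

set_option autoImplicit false
set_option linter.unusedSectionVars false

open RootPairing

namespace Groth.Agent.Lib.Helper72.WeylCoxeter

open Groth.Agent.Lib.Helper27.Weyl Groth.Agent.Lib.Helper72.Matsumoto

variable {ι R M N : Type*} [CommRing R] [AddCommGroup M] [Module R M]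
    [AddCommGroup N] [Module R N] {P : RootPairing ι R M N}

variable [CharZero R] [IsDomain R] [Finite ι] [P.IsCrystallographic] [P.IsReduced]

/-- the left exchange condition, in strong form. -/
lemma left_exchange (b : P.Base) (K : List ι) (hK : ∀ x ∈ K, x ∈ b.support) (t : ι)
    (ht : t ∈ b.support) (hneg : ¬ b.IsPos ((wprod P K)⁻¹ • t)) :
    ∃ j, j < K.length ∧ wprod P (K.eraseIdx j) = Equiv.reflection P t * wprod P K := by
  induction K using List.reverseRecOn with
  | nil =>
    exfalso
    apply hneg
    simpa using RootPairing.Base.isPos_of_mem_support ht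
  | append_singleton K₀ a ih =>
    have ha : a ∈ b.support := hK a (by simp)
    have hK₀ : ∀ x ∈ K₀, x ∈ b.support := fun x hx => hK x (by simp [hx])
    have hinv : (wprod P (K₀ ++ [a]))⁻¹ • t
        = P.reflectionPerm a ((wprod P K₀)⁻¹ • t) := by
      rw [wprod_append, mul_inv_rev, mul_smul, wprod_cons, wprod_nil, mul_one,
        Equiv.reflection_inv, reflection_smul_idx]
    rw [hinv] at hneg
    by_cases hpos : b.IsPos ((wprod P K₀)⁻¹ • t)
    · have hβ : (wprod P K₀)⁻¹ • t = a := by
        by_contra hne
        exact hneg (hpos.reflectionPerm ha hne)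
      refine ⟨K₀.length, by simp, ?_⟩
      rw [List.eraseIdx_append_of_length_le (le_refl _)]
      simp only [Nat.sub_self, List.eraseIdx_cons_zero, List.append_nil]
      have hc := conj_reflection P (wprod P K₀)⁻¹ t
      rw [hβ, inv_inv] at hc
      rw [wprod_append, wprod_cons, wprod_nil, mul_one, ← hc]
      have h1 := reflection_mul_self P t
      calc wprod P K₀ = (Equiv.reflection P t * Equiv.reflection P t) * wprod P K₀ := by
            rw [h1, one_mul]
        _ = _ := by group
    · obtain ⟨j, hj, he⟩ := ih hK₀ hpos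
      refine ⟨j, by rw [List.length_append]; omega, ?_⟩
      rw [List.eraseIdx_append_of_lt_length hj, wprod_append, he, wprod_append, mul_assoc]

/-- the simple reflections as elements of the Weyl group. -/
noncomputable def sref (b : P.Base) (j : ↥b.support) : ↥P.weylGroup :=
  ⟨Equiv.reflection P (j : ι), P.reflection_mem_weylGroup j⟩

omit [CharZero R] [IsDomain R] [Finite ι] [P.IsCrystallographic] [P.IsReduced] in
lemma coe_wp (b : P.Base) (L : List ↥b.support) :
    ((wp (sref b) L : ↥P.weylGroup) : P.Aut) = wprod P (L.map Subtype.val) := by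
  induction L with
  | nil => rfl
  | cons i L ih =>
    rw [wp_cons, Subgroup.coe_mul, ih, List.map_cons, wprod_cons]
    rfl

/-- the left descent predicate. -/
def DLw (b : P.Base) (w : ↥P.weylGroup) (i : ↥b.support) : Prop :=
  ¬ b.IsPos ((w : P.Aut)⁻¹ • (i : ι))

theorem exch_weyl (b : P.Base) : Exch (sref b) (DLw b) where
  sq i := by
    apply Subtype.ext
    rw [Subgroup.coe_mul]
    exact reflection_mul_self P i
  surj w := by
    obtain ⟨w, hw⟩ := w
    have hw' : w ∈ simpleSubgroup b := by rw [simpleSubgroup_eq b]; exact hw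
    obtain ⟨L, hL, hLw⟩ := exists_list_of_mem_simpleSubgroup b hw'
    refine ⟨L.pmap (fun x hx => ⟨x, hx⟩) hL, ?_⟩
    apply Subtype.ext
    rw [coe_wp, List.map_pmap]
    simpa using hLw
  exch L i hd := by
    have hK : ∀ x ∈ L.map Subtype.val, x ∈ b.support := by
      intro x hx
      obtain ⟨y, _, rfl⟩ := List.mem_map.mp hx
      exact y.2
    have hneg : ¬ b.IsPos ((wprod P (L.map Subtype.val))⁻¹ • (i : ι)) := by
      rw [← coe_wp]
      exact hd
    obtain ⟨j, hj, he⟩ := left_exchange b _ hK i i.2 hneg
    rw [List.length_map] at hj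
    refine ⟨j, hj, ?_⟩
    apply Subtype.ext
    rw [coe_wp, Subgroup.coe_mul, coe_wp, ← List.eraseIdx_map]
    exact he
  dl_mul w i := by
    unfold DLw
    have h1 : ((sref b i * w : ↥P.weylGroup) : P.Aut)⁻¹ • (i : ι)
        = P.reflectionPerm ((w : P.Aut)⁻¹ • (i : ι)) ((w : P.Aut)⁻¹ • (i : ι)) := by
      rw [Subgroup.coe_mul, mul_inv_rev, mul_smul]
      show (w : P.Aut)⁻¹ • ((Equiv.reflection P (i : ι))⁻¹ • (i : ι)) = _
      rw [Equiv.reflection_inv, reflection_smul_idx, smul_neg_idx]
    rw [h1]
    constructor
    · intro h2 h3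
      exact h3 (by
        by_contra h4
        exact h2 (isPos_neg_of_not b h4))
    · intro h2 h3
      rw [not_not] at h2
      exact not_isPos_neg b h2 h3

/-- the Coxeter matrix of orders of products of simple reflections. -/
noncomputable def coxMat (b : P.Base) : CoxeterMatrix ↥b.support where
  M := Matrix.of fun j k => orderOf (Equiv.reflection P (j : ι) * Equiv.reflection P (k : ι))
  isSymm := by
    ext j k
    simp only [Matrix.transpose_apply, Matrix.of_apply]
    rw [← orderOf_inv, mul_inv_rev, Equiv.reflection_inv, Equiv.reflection_inv]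
  diagonal j := by
    simp only [Matrix.of_apply]
    rw [reflection_mul_self, orderOf_one]
  off_diagonal j k hjk := by
    simp only [Matrix.of_apply]
    intro h1
    rw [orderOf_eq_one_iff] at h1
    have h2 : Equiv.reflection P (j : ι) = Equiv.reflection P (k : ι) := by
      rw [mul_eq_one_iff_eq_inv, Equiv.reflection_inv] at h1
      exact h1
    have hk : b.IsPos (k : ι) := RootPairing.Base.isPos_of_mem_support k.2
    have h3 : b.IsPos (P.reflectionPerm (j : ι) (k : ι)) :=
      hk.reflectionPerm j.2 (fun e => hjk (Subtype.ext e.symm))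
    have h4 : P.reflectionPerm (j : ι) (k : ι) = P.reflectionPerm (k : ι) (k : ι) := by
      rw [← reflection_smul_idx, ← reflection_smul_idx, h2]
    rw [h4] at h3
    exact not_isPos_neg b hk h3

theorem weyl_coxeter (b : P.Base) :
    ∃ (C : CoxeterMatrix ↥b.support) (cs : CoxeterSystem C P.weylGroup),
      (∀ j : ↥b.support, ((cs.simple j : P.weylGroup) : P.Aut) = Equiv.reflection P (j : ι)) ∧
      ∀ j k : ↥b.support, C.M j k =
        orderOf (Equiv.reflection P (j : ι) * Equiv.reflection P (k : ι)) := by
  obtain ⟨cs, hcs⟩ := exists_coxeterSystem (exch_weyl b) (coxMat b) (by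
    intro i j
    show orderOf (Equiv.reflection P (i : ι) * Equiv.reflection P (j : ι)) = _
    rw [← Subgroup.orderOf_coe, Subgroup.coe_mul]
    rfl)
  refine ⟨coxMat b, cs, ?_, fun j k => rfl⟩
  intro j
  rw [hcs]
  rfl

end Groth.Agent.Lib.Helper72.WeylCoxeter
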